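import Mathlib
import Cfsg.Agent.GH.Defs
set_option linter.all false

/-!
# GH-COV: the facts about `L = PSp₄(q)`, `PSL₄(q)` (`q ≡ 3 mod 4`), `PSU₄(q)` (`q ≡ 1 mod 4`)

`Data L` collects everything that the group theoretic part of GH-COV (Part I of `blueprints/GH-COV.md`) uses
about the simple group `L`.  No double cover of `L` is mentioned.

* `t` is an involution, `⟨i₁, j₁, d₁⟩` and `⟨i₂, j₂, d₂⟩` are commuting copies of `SL₂(3)` with common centre `⟨t⟩`,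
  contained in commuting subgroups `A₁`, `A₂` (copies of `SL₂(q)`).
-/

set_option autoImplicit false

open Subgroup

namespace Cfsg.Agent.GH.Cov.LieData

variable {L : Type*} [Group L]

/-- Generators of an `SL₂(3)` with centre `⟨t⟩`: `Q₈ = ⟨i, j⟩`, `d` permutes `i → j → ij → i`. -/
structure Trip (t i j d : L) : Prop where
  ii : i * i = t
  jj : j * j = t
  ji : j * i = t * (i * j)
  d3 : d * d * d = 1
  di : d * i * d⁻¹ = j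
  dj : d * j * d⁻¹ = i * j

/-- Generators of an `A₄`: `a, b` commuting involutions, `d` permutes `a → b → ab → a`. -/
structure AFour (a b d : L) : Prop where
  aa : a * a = 1
  ne : a ≠ 1
  bb : b * b = 1
  ab : a * b = b * a
  d3 : d * d * d = 1
  da : d * a * d⁻¹ = b
  db : d * b * d⁻¹ = a * b

/-- The pair of commuting `SL₂(q)`'s in `L` (facts (F1)-(F4)). -/
structure Core (L : Type*) [Group L] where
  (t i₁ j₁ d₁ i₂ j₂ d₂ : L)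
  (A₁ A₂ : Subgroup L)
  tt : t * t = 1
  t_ne : t ≠ 1
  trip₁ : Trip t i₁ j₁ d₁
  trip₂ : Trip t i₂ j₂ d₂
  i₁_mem : i₁ ∈ A₁
  j₁_mem : j₁ ∈ A₁
  d₁_mem : d₁ ∈ A₁
  i₂_mem : i₂ ∈ A₂
  j₂_mem : j₂ ∈ A₂
  d₂_mem : d₂ ∈ A₂
  /-- `A₁` and `A₂` commute elementwise -/
  comm : ∀ a ∈ A₁, ∀ b ∈ A₂, a * b = b * a
  /-- `t` is the only involution of `A₁` -/
  inv₁ : ∀ a ∈ A₁, a * a = 1 → a = 1 ∨ a = t
  inv₂ : ∀ a ∈ A₂, a * a = 1 → a = 1 ∨ a = t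
  /-- `A₁` is generated by elements of odd order (transvections) -/
  gen₁ : A₁ ≤ closure {a : L | a ∈ A₁ ∧ Odd (orderOf a)}
  gen₂ : A₂ ≤ closure {a : L | a ∈ A₂ ∧ Odd (orderOf a)}
  /-- centralizers of noncentral elements of `A₂` are commutative (2x2 matrices) -/
  cent₂ : ∀ u ∈ A₂, u * u ≠ 1 → ∀ a ∈ A₂, ∀ b ∈ A₂, a * u = u * a → b * u = u * b → a * b = b * a
  /-- (F2): two types of involutions -/
  invol : ∀ u : L, u * u = 1 → u ≠ 1 → IsConj t u ∨ IsConj (i₁ * i₂) u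
  /-- (F3): some element of `L` maps `i₁` to `i₂` -/
  swap : ∃ w : L, w * i₁ * w⁻¹ = i₂
  /-- (F4) -/
  norm : ∀ g : L, g * t = t * g → ∀ a ∈ A₁ ⊔ A₂, g * a * g⁻¹ ∈ A₁ ⊔ A₂
  index : ¬ 8 ∣ (A₁ ⊔ A₂).relIndex (centralizer {t})

/-- `φ` is an outer automorphism with `φ² = 1` which centralizes the two `SL₂(3)`'s of some pair
(field involution for `PSp₄(q)`, the graph involution with centralizer `PSp₄(q)` for `PSL₄(q)`, `PSU₄(q)`). -/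
def Bad (D : Core L) (φ : MulAut L) : Prop :=
  φ * φ = 1 ∧ φ ∉ (MulAut.conj : L →* MulAut L).range ∧
    ∃ χ : MulAut L, φ (χ D.i₁) = χ D.i₁ ∧ φ (χ D.j₁) = χ D.j₁ ∧ φ (χ D.d₁) = χ D.d₁ ∧
      φ (χ D.i₂) = χ D.i₂ ∧ φ (χ D.j₂) = χ D.j₂ ∧ φ (χ D.d₂) = χ D.d₂

/-- Type I: `φ` centralizes an `A₄` whose involutions are of type `i₁ i₂`. -/
def TypeI (D : Core L) (φ : MulAut L) : Prop :=
  ∃ a b d : L, AFour a b d ∧ φ a = a ∧ φ b = b ∧ φ d = d ∧ ∃ χ : MulAut L, IsConj (χ (D.i₁ * D.i₂)) a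

/-- Type II (`o⁻`): up to conjugation in `Aut L`, `φ` normalizes `A₁` and `A₂`, inverts an element of order 4 in
each of them, and centralizes an `A₄` containing `t`. -/
def TypeII (D : Core L) (φ : MulAut L) : Prop :=
  ∃ χ ψ : MulAut L, ψ = χ * φ * χ⁻¹ ∧
    (∀ a ∈ D.A₁, ψ a ∈ D.A₁) ∧ (∀ a ∈ D.A₂, ψ a ∈ D.A₂) ∧
    (∃ k ∈ D.A₁, k * k = D.t ∧ ψ k = k⁻¹) ∧ (∃ k ∈ D.A₂, k * k = D.t ∧ ψ k = k⁻¹) ∧
    ∃ b d : L, AFour D.t b d ∧ ψ D.t = D.t ∧ ψ b = b ∧ ψ d = d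

/-- Type III (`diag(-1,1,1,1)`): the Sylow 2-subgroup of the double cover of `L⟨φ⟩` is `SD ≀ 2`. `⟨r, s⟩` is a Sylow
2-subgroup of `A₁` (generalized quaternion of order `2 ^ (n + 2)`), `⟨r, s, ψ⟩` is semidihedral. -/
def TypeIII (D : Core L) (φ : MulAut L) : Prop :=
  ∃ χ ψ : MulAut L, ψ = χ * φ * χ⁻¹ ∧
    (∀ a ∈ D.A₁, ψ a ∈ D.A₁) ∧ (∀ a ∈ D.A₂, ψ a = a) ∧
    ∃ (n : ℕ) (r s w c : L), 1 ≤ n ∧ r ∈ D.A₁ ∧ s ∈ D.A₁ ∧ r ^ 2 ^ n = D.t ∧ s * s = D.t ∧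
      s * r * s⁻¹ = r⁻¹ ∧ ψ r = r⁻¹ ∧ ψ s = D.t * r⁻¹ * s ∧
      w * w = 1 ∧ IsConj D.t w ∧ (∀ a ∈ D.A₁, w * a * w⁻¹ ∈ D.A₂) ∧ (∀ a ∈ D.A₂, w * a * w⁻¹ ∈ D.A₁) ∧
      c * c = 1 ∧ IsConj D.t c ∧ ψ * (MulAut.conj w * ψ * (MulAut.conj w)⁻¹) = MulAut.conj c ∧
      ¬ 2 ^ (2 * n + 6) ∣ Nat.card L

/-- All facts about `L`: (F1)-(F5). -/
structure Data (L : Type*) [Group L] extends Core L where
  /-- (F5a) -/
  out : ∀ H : Subgroup (MulAut L), (MulAut.conj : L →* MulAut L).range ≤ H →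
    (∀ φ ∈ H, ¬ Bad toCore φ) → ¬ 4 ∣ (MulAut.conj : L →* MulAut L).range.relIndex H
  /-- (F5b) -/
  outer : ∀ φ : MulAut L, φ * φ = 1 → φ ∉ (MulAut.conj : L →* MulAut L).range →
    (∀ u : L, ¬ Bad toCore (φ * MulAut.conj u)) → TypeI toCore φ ∨ TypeII toCore φ ∨ TypeIII toCore φ

end Cfsg.Agent.GH.Cov.LieData
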