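import Mathlib
import Cfsg.Agent.GH.Cov.LieData
set_option linter.all false

/-!
# Odd order lifts through a central extension by a 2-group

`CExt π`: `π : X →* L` is onto with central kernel consisting of 2-elements.  Elements of odd order of `L` have
unique lifts of odd order; `Lft π B` is the subgroup of `X` generated by the elements of odd order lying over `B`.
-/

set_option autoImplicit false

open Subgroup

namespace Cfsg.Agent.GH.Cov.Lft

variable {X L : Type*} [Group X] [Group L]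

/-- `π` is onto, its kernel is central and consists of 2-elements. -/
structure CExt (π : X →* L) : Prop where
  surj : Function.Surjective π
  cen : ∀ c, π c = 1 → ∀ x, c * x = x * c
  two : ∀ c, π c = 1 → ∃ n : ℕ, c ^ 2 ^ n = 1

variable {π : X →* L}

theorem eq_one_of_odd_two {G : Type*} [Group G] {c : G} {m n : ℕ} (hm : Odd m) (h1 : c ^ m = 1)
    (h2 : c ^ 2 ^ n = 1) : c = 1 := by
  have h3 : Nat.Coprime m (2 ^ n) := (Nat.coprime_two_right.mpr hm).pow_right n
  have h4 : orderOf c ∣ Nat.gcd m (2 ^ n) :=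
    Nat.dvd_gcd (orderOf_dvd_of_pow_eq_one h1) (orderOf_dvd_of_pow_eq_one h2)
  rw [h3.gcd_eq_one] at h4
  exact orderOf_eq_one_iff.mp (Nat.dvd_one.mp h4)

/-- Odd order lifts exist. -/
theorem CExt.exists_lift (h : CExt π) {a : L} (ha : Odd (orderOf a)) :
    ∃ x, π x = a ∧ orderOf x = orderOf a := by
  obtain ⟨x₀, hx₀⟩ := h.surj a
  set n := orderOf a with hn
  have h1 : π (x₀ ^ n) = 1 := by rw [map_pow, hx₀, hn, pow_orderOf_eq_one]
  obtain ⟨m, hm⟩ := h.two _ h1
  have hcop : Nat.Coprime n (2 ^ m) := (Nat.coprime_two_right.mpr ha).pow_right m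
  obtain ⟨k, hk1, hk2⟩ := Nat.chineseRemainder hcop 1 0
  refine ⟨x₀ ^ k, ?_, ?_⟩
  · rw [map_pow, hx₀]
    have : a ^ k = a ^ 1 := pow_eq_pow_iff_modEq.mpr (by rw [← hn]; exact hk1)
    rw [this, pow_one]
  · apply Nat.dvd_antisymm
    · apply orderOf_dvd_of_pow_eq_one
      obtain ⟨j, hj⟩ := (Nat.modEq_zero_iff_dvd.mp hk2)
      rw [← pow_mul, mul_comm k n, pow_mul, hj, pow_mul, hm, one_pow]
    · have h3 : orderOf (π (x₀ ^ k)) ∣ orderOf (x₀ ^ k) := orderOf_map_dvd π _
      have h4 : π (x₀ ^ k) = a := by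
        rw [map_pow, hx₀]
        have : a ^ k = a ^ 1 := pow_eq_pow_iff_modEq.mpr (by rw [← hn]; exact hk1)
        rw [this, pow_one]
      rw [h4] at h3
      exact h3

/-- Odd order lifts are unique. -/
theorem CExt.unique (h : CExt π) {x y : X} (hx : Odd (orderOf x)) (hy : Odd (orderOf y))
    (hxy : π x = π y) : x = y := by
  have hc : π (x⁻¹ * y) = 1 := by rw [map_mul, map_inv, hxy, inv_mul_cancel]
  have hcc := h.cen _ hc
  obtain ⟨m, hm⟩ := h.two _ hc
  have h1 : (x⁻¹ * y) ^ (orderOf x * orderOf y) = 1 := by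
    have hcomm : Commute x⁻¹ y := by
      have h2 : Commute (x⁻¹ * y) x := hcc x
      have h3 : x⁻¹ * (x⁻¹ * y) = (x⁻¹ * y) * x⁻¹ := (h2.inv_right).symm
      have h4 : x⁻¹ * y = y * x⁻¹ := by
        have := congrArg (fun g => x * g) h3
        simpa [mul_assoc] using this
      exact h4
    rw [hcomm.mul_pow, inv_pow, pow_mul, pow_orderOf_eq_one, one_pow, inv_one, one_mul,
      mul_comm, pow_mul, pow_orderOf_eq_one, one_pow]
  have h2 := eq_one_of_odd_two (hx.mul hy) h1 hm
  exact (inv_mul_eq_one.mp h2)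

/-- The subgroup of `X` generated by the odd order elements over `B`. -/
def Lft (π : X →* L) (B : Subgroup L) : Subgroup X := closure {x : X | π x ∈ B ∧ Odd (orderOf x)}

theorem subset_Lft {B : Subgroup L} {x : X} (h1 : π x ∈ B) (h2 : Odd (orderOf x)) : x ∈ Lft π B :=
  subset_closure ⟨h1, h2⟩

theorem map_mem {B : Subgroup L} {x : X} (hx : x ∈ Lft π B) : π x ∈ B := by
  have : Lft π B ≤ B.comap π := by
    rw [Lft, closure_le]
    intro x hx
    exact hx.1
  exact this hx

/-- `π` maps `Lft π B` onto `B` if `B` is generated by elements of odd order. -/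
theorem CExt.exists_mem (h : CExt π) {B : Subgroup L} (hB : B ≤ closure {a : L | a ∈ B ∧ Odd (orderOf a)})
    {b : L} (hb : b ∈ B) : ∃ x ∈ Lft π B, π x = b := by
  have h1 : closure {a : L | a ∈ B ∧ Odd (orderOf a)} ≤ (Lft π B).map π := by
    rw [closure_le]
    rintro a ⟨ha1, ha2⟩
    obtain ⟨x, hx1, hx2⟩ := h.exists_lift ha2
    exact ⟨x, subset_Lft (by rw [hx1]; exact ha1) (by rw [hx2]; exact ha2), hx1⟩
  obtain ⟨x, hx, hxb⟩ := h1 (hB hb)
  exact ⟨x, hx, hxb⟩

/-- The full preimage of `B` is `Lft π B` times the kernel. -/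
theorem CExt.exists_mul (h : CExt π) {B : Subgroup L} (hB : B ≤ closure {a : L | a ∈ B ∧ Odd (orderOf a)})
    {x : X} (hx : π x ∈ B) : ∃ y ∈ Lft π B, ∃ c, π c = 1 ∧ x = y * c := by
  obtain ⟨y, hy, hyx⟩ := h.exists_mem hB hx
  exact ⟨y, hy, y⁻¹ * x, by rw [map_mul, map_inv, hyx, inv_mul_cancel], by group⟩

/-- Automorphisms transport `Lft`. -/
theorem map_Lft {X' L' : Type*} [Group X'] [Group L'] {π' : X' →* L'} (α : X ≃* X') (φ : L → L')
    (hα : ∀ x, π' (α x) = φ (π x)) {B : Subgroup L} {B' : Subgroup L'} (hB : ∀ b ∈ B, φ b ∈ B') :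
    ∀ x ∈ Lft π B, α x ∈ Lft π' B' := by
  have : Lft π B ≤ (Lft π' B').comap α.toMonoidHom := by
    rw [Lft, closure_le]
    rintro x ⟨hx1, hx2⟩
    refine subset_Lft (x := α x) (by rw [hα]; exact hB _ hx1) ?_
    rw [show orderOf (α x) = orderOf x from orderOf_injective α.toMonoidHom α.injective x]
    exact hx2
  exact fun x hx => this hx

/-- An automorphism of `X` which induces the identity on `B` is the identity on `Lft π B`. -/
theorem CExt.fix (h : CExt π) (α : X ≃* X) {B : Subgroup L} (hα : ∀ x, π x ∈ B → π (α x) = π x) :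
    ∀ x ∈ Lft π B, α x = x := by
  intro x hx
  refine closure_induction (p := fun x _ => α x = x) ?_ (map_one α) ?_ ?_ hx
  · rintro x ⟨hx1, hx2⟩
    refine h.unique ?_ hx2 (hα x hx1)
    rw [show orderOf (α x) = orderOf x from orderOf_injective α.toMonoidHom α.injective x]
    exact hx2
  · intro x y _ _ h1 h2
    rw [map_mul, h1, h2]
  · intro x _ h1
    rw [map_inv, h1]

/-- Conjugation by `g` normalizes `Lft π B` if `π g` normalizes `B`. -/
theorem conj_mem {B B' : Subgroup L} {g : X} (hB : ∀ b ∈ B, π g * b * (π g)⁻¹ ∈ B') :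
    ∀ x ∈ Lft π B, g * x * g⁻¹ ∈ Lft π B' := by
  intro x hx
  have := map_Lft (π := π) (π' := π) (MulAut.conj g) (fun b => π g * b * (π g)⁻¹)
    (fun x => by simp [MulAut.conj_apply]) hB x hx
  simpa [MulAut.conj_apply] using this

/-- `g` centralizes `Lft π B` if `π g` centralizes `B`. -/
theorem CExt.commute (h : CExt π) {B : Subgroup L} {g : X} (hB : ∀ b ∈ B, π g * b = b * π g) :
    ∀ x ∈ Lft π B, g * x = x * g := by
  intro x hx
  have := h.fix (MulAut.conj g) (B := B) (fun x hx => by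
    rw [MulAut.conj_apply, map_mul, map_mul, map_inv, hB _ hx, mul_inv_cancel_right]) x hx
  rw [MulAut.conj_apply] at this
  exact mul_inv_eq_iff_eq_mul.mp this

/-- Commuting subgroups have commuting lifts. -/
theorem CExt.comm (h : CExt π) {A B : Subgroup L} (hAB : ∀ a ∈ A, ∀ b ∈ B, a * b = b * a) :
    ∀ x ∈ Lft π A, ∀ y ∈ Lft π B, x * y = y * x := fun _ hx =>
  h.commute (fun b hb => hAB _ (map_mem hx) b hb)

theorem Lft_mono {A B : Subgroup L} (h : A ≤ B) : Lft π A ≤ Lft π B :=
  closure_mono fun _ hx => ⟨h hx.1, hx.2⟩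

/-- `Lft π B` is generated by its elements of odd order. -/
theorem Lft_gen (B : Subgroup L) : Lft π B ≤ closure {x : X | x ∈ Lft π B ∧ Odd (orderOf x)} := by
  conv_lhs => rw [Lft]
  refine closure_mono ?_
  rintro x ⟨h1, h2⟩
  exact ⟨subset_Lft h1 h2, h2⟩

theorem Lft_gen' (B : Subgroup L) : closure {y : Lft π B | Odd (orderOf y)} = ⊤ := by
  rw [eq_top_iff]
  intro y _
  have h1 : (closure {y : Lft π B | Odd (orderOf y)}).map (Lft π B).subtype = Lft π B := by
    apply le_antisymm
    · exact map_subtype_le _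
    · conv_lhs => rw [Lft]
      rw [closure_le]
      rintro x ⟨h1, h2⟩
      refine ⟨⟨x, subset_Lft h1 h2⟩, subset_closure ?_, rfl⟩
      show Odd (orderOf (⟨x, subset_Lft h1 h2⟩ : Lft π B))
      rw [← orderOf_injective (Lft π B).subtype (Lft π B).subtype_injective]
      exact h2
  have h2 : (y : X) ∈ (closure {y : Lft π B | Odd (orderOf y)}).map (Lft π B).subtype := by
    rw [h1]; exact y.2
  obtain ⟨y', hy', hyy⟩ := h2
  have : y' = y := Subtype.ext hyy
  rw [← this]
  exact hy'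

end Cfsg.Agent.GH.Cov.Lft
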