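import Mathlib
import Cfsg.Agent.SylowL5.OddLift
set_option linter.all false

/-!
# GH-COV: lifting through a kernel of odd order

`π : Γ →* X` with kernel of odd order, `H ≤ Γ`.

* `exists_lift`: a 2-subgroup of `π(H)` is the image of a 2-subgroup of `H` (containing a given one);
* `exists_normalizing`: Frattini argument;
* `exists_pow_odd`: lifts of odd order;
* `conj_of_mul_mem`: involutions in one coset of an odd normal subgroup are conjugate.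
-/

set_option autoImplicit false

open Subgroup

namespace Cfsg.Agent.GH.Cov.Lift

open Cfsg.Agent.SylowL5.OddLift (injOn)

section abs

variable {Γ X : Type*} [Group Γ] [Group X] {π : Γ →* X}

theorem exists_lift [Finite Γ] {H : Subgroup Γ} {P : Subgroup X} (hP : IsPGroup 2 P) (hPH : P ≤ H.map π)
    {R : Subgroup Γ} (hR : IsPGroup 2 R) (hRH : R ≤ H) (hRP : ∀ r ∈ R, π r ∈ P) :
    ∃ Q : Subgroup Γ, R ≤ Q ∧ Q ≤ H ∧ IsPGroup 2 Q ∧ Q.map π = P := by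
  have : Fact (Nat.Prime 2) := ⟨Nat.prime_two⟩
  set W : Subgroup Γ := H ⊓ P.comap π with hW
  have hRW : R ≤ W := fun r hr => ⟨hRH hr, hRP r hr⟩
  obtain ⟨S, hS⟩ := (hR.comap_of_injective W.subtype W.subtype_injective).exists_le_sylow
  let f : W →* P :=
    { toFun := fun k => ⟨π k, k.2.2⟩
      map_one' := Subtype.ext (map_one π)
      map_mul' := fun a b => Subtype.ext (map_mul π (a : Γ) (b : Γ)) }
  have hf : Function.Surjective f := by
    rintro ⟨t, ht⟩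
    obtain ⟨m, hm, hmt⟩ := hPH ht
    have hm' : π m ∈ P := by rw [hmt]; exact ht
    exact ⟨⟨m, hm, hm'⟩, Subtype.ext hmt⟩
  have : Finite P := Finite.of_surjective f hf
  let S' : Sylow 2 P := S.mapSurjective hf
  have htop : (S' : Subgroup P) = ⊤ := (S'.3 (hP.to_subgroup ⊤) le_top).symm
  refine ⟨(S : Subgroup W).map W.subtype, ?_, ?_, S.2.map _, ?_⟩
  · intro r hr
    exact ⟨⟨r, hRW hr⟩, hS hr, rfl⟩
  · rintro _ ⟨s, -, rfl⟩
    exact s.2.1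
  · ext k
    constructor
    · rintro ⟨_, ⟨s, -, rfl⟩, rfl⟩
      exact s.2.2
    · intro hk
      have h1 : (⟨k, hk⟩ : P) ∈ (S' : Subgroup P) := by rw [htop]; trivial
      obtain ⟨s, hs, hsk⟩ := h1
      exact ⟨s.1, ⟨s, hs, rfl⟩, congrArg Subtype.val hsk⟩

theorem exists_normalizing [Finite Γ] (hodd : Odd (Nat.card π.ker)) {H : Subgroup Γ} {Q : Subgroup Γ}
    (hQ : IsPGroup 2 Q) (hQH : Q ≤ H) {x : X} (hxH : x ∈ H.map π)
    (hx : ∀ q ∈ Q, x * π q * x⁻¹ ∈ Q.map π) :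
    ∃ g ∈ H, π g = x ∧ ∀ q ∈ Q, g * q * g⁻¹ ∈ Q := by
  classical
  have : Fact (Nat.Prime 2) := ⟨Nat.prime_two⟩
  obtain ⟨g₀, hg₀, rfl⟩ := hxH
  set W : Subgroup Γ := H ⊓ (Q.map π).comap π with hW
  have hQW : Q ≤ W := fun q hq => ⟨hQH hq, ⟨q, hq, rfl⟩⟩
  -- the conjugate of `Q`
  set Q' : Subgroup Γ := Q.map (MulAut.conj g₀).toMonoidHom with hQ'
  have hQ'W : Q' ≤ W := by
    rintro _ ⟨q, hq, rfl⟩
    refine ⟨H.mul_mem (H.mul_mem hg₀ (hQH hq)) (H.inv_mem hg₀), ?_⟩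
    show π (g₀ * q * g₀⁻¹) ∈ Q.map π
    rw [map_mul, map_mul, map_inv]
    exact hx q hq
  have hfin : Finite (Q.map π) := Finite.of_surjective
    (fun q : Q => (⟨π q, ⟨q, q.2, rfl⟩⟩ : Q.map π)) (by
      rintro ⟨_, q, hq, rfl⟩
      exact ⟨⟨q, hq⟩, rfl⟩)
  have hmapQ' : Q'.map π = Q.map π := by
    apply eq_of_le_of_card_ge
    · rintro _ ⟨q', hq', rfl⟩
      exact (hQ'W hq').2
    · apply le_of_eq
      have i1 : Nat.card (Q.map π) = Nat.card Q :=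
        Nat.card_congr (Equiv.ofBijective (fun q : Q => (⟨π q, ⟨q, q.2, rfl⟩⟩ : Q.map π)) ⟨by
          intro a b hab
          exact Subtype.ext (injOn hodd hQ a.2 b.2 (congrArg Subtype.val hab)), by
          rintro ⟨_, q, hq, rfl⟩
          exact ⟨⟨q, hq⟩, rfl⟩⟩).symm
      have hQ'p : IsPGroup 2 Q' := hQ.map _
      have i2 : Nat.card (Q'.map π) = Nat.card Q' :=
        Nat.card_congr (Equiv.ofBijective (fun q : Q' => (⟨π q, ⟨q, q.2, rfl⟩⟩ : Q'.map π)) ⟨by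
          intro a b hab
          exact Subtype.ext (injOn hodd hQ'p a.2 b.2 (congrArg Subtype.val hab)), by
          rintro ⟨_, q, hq, rfl⟩
          exact ⟨⟨q, hq⟩, rfl⟩⟩).symm
      rw [i1, i2]
      exact (Nat.card_congr (Q.equivMapOfInjective _ (MulAut.conj g₀).injective).toEquiv)
  have hmax : ∀ (R : Subgroup Γ), IsPGroup 2 R → R ≤ W → R.map π = Q.map π →
      ∀ (S : Subgroup W), IsPGroup 2 S → R.subgroupOf W ≤ S → S = R.subgroupOf W := by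
    intro R hR hRW hRm S hS hle
    apply le_antisymm _ hle
    intro s hs
    obtain ⟨r, hr, hrs⟩ : π s ∈ R.map π := by rw [hRm]; exact s.2.2
    have h1 : IsPGroup 2 (S.map W.subtype) := hS.map _
    have h2 : (s : Γ) = r := injOn hodd h1 ⟨s, hs, rfl⟩ ⟨⟨r, hRW hr⟩, hle hr, rfl⟩ hrs.symm
    rw [mem_subgroupOf, h2]
    exact hr
  let S₁ : Sylow 2 W := ⟨Q.subgroupOf W, hQ.comap_of_injective W.subtype W.subtype_injective,
    fun hS hle => hmax Q hQ hQW rfl _ hS hle⟩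
  let S₂ : Sylow 2 W := ⟨Q'.subgroupOf W, (hQ.map _).comap_of_injective W.subtype W.subtype_injective,
    fun hS hle => hmax Q' (hQ.map _) hQ'W hmapQ' _ hS hle⟩
  obtain ⟨w, hw⟩ := MulAction.exists_smul_eq W S₂ S₁
  -- `w Q' w⁻¹ = Q`
  have hwQ : ∀ q ∈ Q, (w : Γ) * (g₀ * q * g₀⁻¹) * (w : Γ)⁻¹ ∈ Q := by
    intro q hq
    have h1 : (⟨g₀ * q * g₀⁻¹, hQ'W ⟨q, hq, rfl⟩⟩ : W) ∈ (S₂ : Subgroup W) := ⟨q, hq, rfl⟩
    have h2 : w * ⟨g₀ * q * g₀⁻¹, hQ'W ⟨q, hq, rfl⟩⟩ * w⁻¹ ∈ ((w • S₂ : Sylow 2 W) : Subgroup W) := by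
      rw [Sylow.coe_subgroup_smul]
      exact ⟨_, h1, rfl⟩
    rw [hw] at h2
    exact h2
  obtain ⟨q₁, hq₁, hq₁w⟩ := w.2.2
  refine ⟨q₁⁻¹ * w * g₀, H.mul_mem (H.mul_mem (H.inv_mem (hQH hq₁)) w.2.1) hg₀, ?_, ?_⟩
  · rw [map_mul, map_mul, map_inv, hq₁w, inv_mul_cancel, one_mul]
  · intro q hq
    have := Q.mul_mem (Q.mul_mem (Q.inv_mem hq₁) (hwQ q hq)) hq₁
    have e : q₁⁻¹ * ↑w * g₀ * q * (q₁⁻¹ * ↑w * g₀)⁻¹ = q₁⁻¹ * (↑w * (g₀ * q * g₀⁻¹) * (↑w)⁻¹) * q₁ := by group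
    rwa [e]

/-- Lifts of odd order. -/
theorem exists_pow_odd [Finite Γ] {g : Γ} {x : X} (hx : Odd (orderOf x)) (hg : π g = x) :
    ∃ m : ℕ, π (g ^ m) = x ∧ Odd (orderOf (g ^ m)) := by
  have hn : orderOf g ≠ 0 := (orderOf_pos g).ne'
  obtain ⟨k, r, hr, hkr⟩ := Nat.exists_eq_two_pow_mul_odd hn
  have hcop : Nat.Coprime (2 ^ k) r := Nat.Coprime.pow_left k (Nat.coprime_two_left.2 hr)
  obtain ⟨c, hc1, hc2⟩ := Nat.chineseRemainder hcop 0 1
  have hxr : orderOf x ∣ r := by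
    have h1 : orderOf x ∣ orderOf g := by rw [← hg]; exact orderOf_map_dvd π g
    rw [hkr] at h1
    exact Nat.Coprime.dvd_of_dvd_mul_left ((Nat.Coprime.pow_right k (Nat.coprime_two_right.2 hx))) h1
  refine ⟨c, ?_, ?_⟩
  · rw [map_pow, hg]
    have h1 : c ≡ 1 [MOD orderOf x] := hc2.of_dvd hxr
    calc x ^ c = x ^ 1 := pow_eq_pow_iff_modEq.2 h1
      _ = x := pow_one x
  · have h1 : (g ^ c) ^ r = 1 := by
      rw [← pow_mul]
      apply orderOf_dvd_iff_pow_eq_one.1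
      rw [hkr]
      exact Nat.mul_dvd_mul (Nat.modEq_zero_iff_dvd.1 hc1) dvd_rfl
    exact hr.of_dvd_nat (orderOf_dvd_of_pow_eq_one h1)

end abs

section conj

variable {G : Type*} [Group G]

theorem conj_of_mul_mem [Finite G] {N : Subgroup G} (hodd : Odd (Nat.card N)) {a b : G} (ha : a * a = 1)
    (hb : b * b = 1) (hab : b * a ∈ N) : ∃ k ∈ N, k * a * k⁻¹ = b := by
  set u : G := b * a with hu
  have hinv : a * u * a⁻¹ = u⁻¹ := by
    have ha' : a⁻¹ = a := inv_eq_of_mul_eq_one_left ha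
    have hb' : b⁻¹ = b := inv_eq_of_mul_eq_one_left hb
    rw [hu, mul_inv_rev, ha', hb']
    calc a * (b * a) * a = a * b * (a * a) := by group
      _ = a * b := by rw [ha, mul_one]
  have hord : Odd (orderOf u) := by
    have h1 : orderOf (⟨u, hab⟩ : N) ∣ Nat.card N := orderOf_dvd_natCard _
    rw [Subgroup.orderOf_mk] at h1
    exact Odd.of_dvd_nat hodd h1
  obtain ⟨m, hm⟩ := hord
  have hk : ∀ n : ℕ, u ^ n * a * (u ^ n)⁻¹ = u ^ (2 * n) * a := by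
    intro n
    have h1 : a * (u ^ n)⁻¹ * a⁻¹ = u ^ n := by
      have h2 : a * u ^ n * a⁻¹ = (u ^ n)⁻¹ := by
        rw [← conj_pow, hinv, inv_pow]
      have h3 : a * (u ^ n)⁻¹ * a⁻¹ = (a * u ^ n * a⁻¹)⁻¹ := by group
      rw [h3, h2, inv_inv]
    calc u ^ n * a * (u ^ n)⁻¹ = u ^ n * (a * (u ^ n)⁻¹ * a⁻¹) * a := by group
      _ = u ^ n * u ^ n * a := by rw [h1]
      _ = u ^ (2 * n) * a := by rw [← pow_add, two_mul]
  refine ⟨u ^ (m + 1), N.pow_mem hab _, ?_⟩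
  rw [hk, show 2 * (m + 1) = (2 * m + 1) + 1 by ring, pow_succ, ← hm, pow_orderOf_eq_one, one_mul,
    hu, mul_assoc, ha, mul_one]

end conj

end Cfsg.Agent.GH.Cov.Lift
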