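import Mathlib
import Cfsg.Agent.GH.TOne.LemPDih_m3
import Cfsg.Agent.GH.Rank
import Cfsg.Agent.GH.Cov.Lft
import Cfsg.Agent.GH.L2One.Inst_m3
import Cfsg.Agent.GH.Cov.Lift
import Cfsg.Agent.GH.L3S.ModelL33
import Cfsg.Agent.GH.Cov.F5L4Good_mg_m3
import Cfsg.Agent.GH.Cov.Transfer
import Cfsg.Agent.GH.Cov.QuatLift
import Cfsg.Agent.GH.L2AutSyl_m3
import Cfsg.Agent.GH.QB.ModelG2_m3
import Cfsg.Agent.GH.TOne.TwoCfg_m3
import Cfsg.Agent.GH.MTwCenter
import Cfsg.Agent.Schreier.MTwelve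
import Cfsg.Agent.S0215
import Cfsg.Agent.GH.Comp
import Cfsg.Agent.Intrinsic.Cen
import Cfsg.Agent.SignalizersComponents.QsBasic
import Cfsg.Agent.S0014
import Cfsg.Agent.GH.L3S.Models
import Cfsg.Agent.TwoFusion.QDBasic
import Cfsg.Prelude.Def_CaseTheorems
import Cfsg.Agent.TwoFusion.SectionalRank
import Cfsg.Agent.Transfer.ThompsonTransfer
import Cfsg.Agent.GH.ELevelOne
import Cfsg.Agent.GH.Defs
import Cfsg.Agent.Intrinsic.OddQuot
import Cfsg.Agent.Classification.RTwo.UThreeThree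
import Cfsg.Agent.S0278
import Cfsg.Agent.SmallSimple.S1000.PSLFacts
import Cfsg.Agent.HNType.Simple
import Cfsg.Agent.GH.C2Syl
import Cfsg.Agent.GH.C2SylPerm
import Cfsg.Agent.GH.C2GrowL3Base
import Cfsg.Agent.GH.Q2.MainTg_m3
import Cfsg.Agent.GH.Cov.SylowThree_m3
import Cfsg.Agent.Lib.Refl
import Cfsg.Agent.Cit.Quat
import Cfsg.Agent.Lib.NormalAbelian
import Cfsg.Agent.FastGrp
import Cfsg.Agent.Prune
set_option linter.all false

section
prune_inst 0x7fbcfcfbaff8addfffff7e7ffebddffc19d4dfffffdffb4bffe9ebff8fdf032f3be5fb8f1de058fdcef6e09430b87853fd7ece7feb6bdc7ffffd5ff45ffbee1fb7efbd8c51d6b8341ffc6ffffbf07fce7f3ffffffffffffffffffffffffffffffffdffffffff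

-- part: GH/Cov/XAll
section
prune_inst 0x400200000012200000000001400003e4292000000000b00014140070206840c4100020e20f82022001122a8240038000811000049001000000000020041180481002222809048a00000000000b803180c00000000000000000000000000000000200000000
set_option linter.all false
open scoped Cfsg.Agent.FastGrp

-- part: GH/Cov/XOfCore
section
/-!
# GH-COV: from the simple group `L` to the central extension `X` (step (I.1) of `blueprints/GH-COV.md`)

`D : Core L`, `π : X →* L` a central extension by a nontrivial 2-group, `X` of sectional 2-rank at most 4.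
`XCore D π`: the lifts of the two `SL₂(3)`'s.  `ker_iff`: the kernel is `{1, z₁ z₂}`.
-/

set_option autoImplicit false

open Subgroup Cfsg

namespace Cfsg.Agent.GH.Cov.XOfCore

open Cfsg.Agent.GH.Cov.LieData Cfsg.Agent.GH.Cov.Lft Cfsg.Agent.GH.Cov.I5

variable {X L : Type*} [Group X] [Group L]

/-- `π` is injective on the odd lifts of `A₁` and `A₂` (output of `QuatLift`). -/
structure Inj (D : Core L) (π : X →* L) : Prop where
  one : ∀ x ∈ Lft π D.A₁, π x = 1 → x = 1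
  two : ∀ x ∈ Lft π D.A₂, π x = 1 → x = 1

section eq

variable {D : Core L} {π : X →* L}

theorem Inj.eq₁ (h : Inj D π) {x y : X} (hx : x ∈ Lft π D.A₁) (hy : y ∈ Lft π D.A₁) (e : π x = π y) :
    x = y := by
  have := h.one (x * y⁻¹) (mul_mem hx (inv_mem hy)) (by rw [map_mul, map_inv, e, mul_inv_cancel])
  exact mul_inv_eq_one.mp this

theorem Inj.eq₂ (h : Inj D π) {x y : X} (hx : x ∈ Lft π D.A₂) (hy : y ∈ Lft π D.A₂) (e : π x = π y) :
    x = y := by
  have := h.two (x * y⁻¹) (mul_mem hx (inv_mem hy)) (by rw [map_mul, map_inv, e, mul_inv_cancel])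
  exact mul_inv_eq_one.mp this

end eq

theorem Trip.comm_i {t i j d : L} (h : Trip t i j d) : i * t = t * i := by
  rw [← h.ii, mul_assoc]

theorem Trip.comm_j {t i j d : L} (h : Trip t i j d) : j * t = t * j := by
  rw [← h.jj, mul_assoc]

/-- The lifts to `X` of the two `SL₂(3)`'s. -/
structure XCore (D : Core L) (π : X →* L) where
  (z₁ z₂ I₁ J₁ E₁ I₂ J₂ E₂ : X)
  trip₁ : Trip z₁ I₁ J₁ E₁
  trip₂ : Trip z₂ I₂ J₂ E₂
  π_z₁ : π z₁ = D.t
  π_z₂ : π z₂ = D.t
  π_I₁ : π I₁ = D.i₁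
  π_J₁ : π J₁ = D.j₁
  π_E₁ : π E₁ = D.d₁
  π_I₂ : π I₂ = D.i₂
  π_J₂ : π J₂ = D.j₂
  π_E₂ : π E₂ = D.d₂
  z₁_mem : z₁ ∈ Lft π D.A₁
  I₁_mem : I₁ ∈ Lft π D.A₁
  J₁_mem : J₁ ∈ Lft π D.A₁
  E₁_mem : E₁ ∈ Lft π D.A₁
  z₂_mem : z₂ ∈ Lft π D.A₂
  I₂_mem : I₂ ∈ Lft π D.A₂
  J₂_mem : J₂ ∈ Lft π D.A₂
  E₂_mem : E₂ ∈ Lft π D.A₂
  sq₁ : z₁ * z₁ = 1
  sq₂ : z₂ * z₂ = 1
  odd₁ : Odd (orderOf E₁)
  odd₂ : Odd (orderOf E₂)

variable {D : Core L} {π : X →* L}

theorem odd_of_cube {G : Type*} [Group G] {d : G} (h : d * d * d = 1) : Odd (orderOf d) := by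
  have h1 : orderOf d ∣ 3 := orderOf_dvd_of_pow_eq_one (by rw [pow_succ, pow_two]; exact h)
  rcases (Nat.dvd_prime Nat.prime_three).mp h1 with h2 | h2 <;> rw [h2] <;> decide

theorem exists_trip {B : Subgroup L} (h : CExt π) (hB : B ≤ _root_.Subgroup.closure {a : L | a ∈ B ∧ Odd (orderOf a)})
    (hi : ∀ x ∈ Lft π B, ∀ y ∈ Lft π B, π x = π y → x = y) {t i j d : L} (ht : Trip t i j d)
    (htt : t * t = 1) (hi' : i ∈ B) (hj : j ∈ B) (hd : d ∈ B) :
    ∃ z I J E : X, Trip z I J E ∧ π z = t ∧ π I = i ∧ π J = j ∧ π E = d ∧ z ∈ Lft π B ∧ I ∈ Lft π B ∧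
      J ∈ Lft π B ∧ E ∈ Lft π B ∧ z * z = 1 ∧ Odd (orderOf E) := by
  obtain ⟨I, hI, hIi⟩ := h.exists_mem hB hi'
  obtain ⟨J, hJ, hJj⟩ := h.exists_mem hB hj
  obtain ⟨E, hE, hEd⟩ := h.exists_mem hB hd
  have hII := mul_mem hI hI
  have hz : π (I * I) = t := by rw [map_mul, hIi, ht.ii]
  have ht3 : Trip (I * I) I J E := by
    refine ⟨rfl, ?_, ?_, ?_, ?_, ?_⟩
    · exact hi _ (mul_mem hJ hJ) _ hII (by rw [map_mul, hJj, ht.jj, hz])
    · exact hi _ (mul_mem hJ hI) _ (mul_mem hII (mul_mem hI hJ)) (by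
        rw [map_mul, map_mul, hz, map_mul, hJj, hIi, ht.ji])
    · exact hi _ (mul_mem (mul_mem hE hE) hE) _ (one_mem _) (by
        rw [map_mul, map_mul, hEd, ht.d3, map_one])
    · exact hi _ (mul_mem (mul_mem hE hI) (inv_mem hE)) _ hJ (by
        rw [map_mul, map_mul, map_inv, hEd, hIi, hJj, ht.di])
    · exact hi _ (mul_mem (mul_mem hE hJ) (inv_mem hE)) _ (mul_mem hI hJ) (by
        rw [map_mul, map_mul, map_inv, hEd, hJj, map_mul, hIi, hJj, ht.dj])
  refine ⟨I * I, I, J, E, ht3, hz, hIi, hJj, hEd, hII, hI, hJ, hE, ?_, odd_of_cube ht3.d3⟩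
  exact hi _ (mul_mem hII hII) _ (one_mem _) (by rw [map_mul, hz, htt, map_one])

theorem exists_xcore (h : CExt π) (hi : Inj D π) : Nonempty (XCore D π) := by
  obtain ⟨z₁, I₁, J₁, E₁, a1, a2, a3, a4, a5, a6, a7, a8, a9, a10, a11⟩ :=
    exists_trip h D.gen₁ (fun x hx y hy e => hi.eq₁ hx hy e) D.trip₁ D.tt D.i₁_mem D.j₁_mem D.d₁_mem
  obtain ⟨z₂, I₂, J₂, E₂, b1, b2, b3, b4, b5, b6, b7, b8, b9, b10, b11⟩ :=
    exists_trip h D.gen₂ (fun x hx y hy e => hi.eq₂ hx hy e) D.trip₂ D.tt D.i₂_mem D.j₂_mem D.d₂_mem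
  exact ⟨⟨z₁, z₂, I₁, J₁, E₁, I₂, J₂, E₂, a1, b1, a2, b2, a3, a4, a5, b3, b4, b5, a6, a7, a8, a9, b6, b7,
    b8, b9, a10, b10, a11, b11⟩⟩

namespace XCore

variable (c : XCore D π)

theorem comm (h : CExt π) {x y : X} (hx : x ∈ Lft π D.A₁) (hy : y ∈ Lft π D.A₂) : x * y = y * x :=
  h.comm D.comm x hx y hy

theorem z₁_ne : c.z₁ ≠ 1 := fun e => D.t_ne (by rw [← c.π_z₁, e, map_one])

theorem z₂_ne : c.z₂ ≠ 1 := fun e => D.t_ne (by rw [← c.π_z₂, e, map_one])

theorem π_w : π (c.z₁ * c.z₂) = 1 := by rw [map_mul, c.π_z₁, c.π_z₂, D.tt]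

theorem w_sq (h : CExt π) : (c.z₁ * c.z₂) * (c.z₁ * c.z₂) = 1 := by
  have h1 := comm h c.z₁_mem c.z₂_mem
  calc (c.z₁ * c.z₂) * (c.z₁ * c.z₂) = c.z₁ * (c.z₂ * c.z₁) * c.z₂ := by group
    _ = c.z₁ * (c.z₁ * c.z₂) * c.z₂ := by rw [h1]
    _ = (c.z₁ * c.z₁) * (c.z₂ * c.z₂) := by group
    _ = 1 := by rw [c.sq₁, c.sq₂, one_mul]

/-- The kernel is contained in `{1, z₁ z₂}`. -/
theorem ker_sub [Finite X] (h : CExt π) (hr : SectionalPRankLE 2 4 X) {x : X} (hx : π x = 1) :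
    x = 1 ∨ x = c.z₁ * c.z₂ := by
  by_contra hcon
  push Not at hcon
  set w := c.z₁ * c.z₂ with hw
  have hww : w * w = 1 := c.w_sq h
  have hwc : ∀ g, w * g = g * w := h.cen _ c.π_w
  -- an element `k` of the kernel outside `{1, w}` with `k² ∈ {1, w}`
  obtain ⟨k, hk1, hk2, hk3, hk4⟩ : ∃ k, π k = 1 ∧ k ≠ 1 ∧ k ≠ w ∧ (k * k = 1 ∨ k * k = w) := by
    obtain ⟨n, hn⟩ := h.two x hx
    classical
    have hex : ∃ n : ℕ, x ^ 2 ^ n = 1 ∨ x ^ 2 ^ n = w := ⟨n, Or.inl hn⟩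
    have h0 : Nat.find hex ≠ 0 := by
      intro e
      have := Nat.find_spec hex
      rw [e, pow_zero, pow_one] at this
      rcases this with h1 | h1
      · exact hcon.1 h1
      · exact hcon.2 h1
    obtain ⟨m, hm⟩ := Nat.exists_eq_succ_of_ne_zero h0
    have h2 := Nat.find_spec hex
    have h3 := Nat.find_min hex (m := m) (by omega)
    push Not at h3
    rw [hm, Nat.succ_eq_add_one, pow_succ, pow_mul, pow_two] at h2
    exact ⟨x ^ 2 ^ m, by rw [map_pow, hx, one_pow], h3.1, h3.2, h2⟩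
  -- the quotient by `⟨w⟩`
  have hnorm : (zpowers w).Normal := ⟨fun n hn g => by
    rw [mem_zpowers_iff] at hn ⊢
    obtain ⟨m, rfl⟩ := hn
    refine ⟨m, ?_⟩
    have : Commute w g := hwc g
    rw [← (this.zpow_left m).eq, mul_inv_cancel_right]⟩
  have hmem : ∀ g, g ∈ zpowers w → g = 1 ∨ g = w := by
    intro g hg
    rw [mem_zpowers_iff] at hg
    obtain ⟨m, rfl⟩ := hg
    rcases Int.even_or_odd m with ⟨l, hl⟩ | ⟨l, hl⟩
    · left
      rw [hl, zpow_add, ← zpow_add, ← two_mul, zpow_mul, zpow_two, hww, one_zpow]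
    · right
      rw [hl, zpow_add, zpow_one, show w ^ (2 * l) = 1 by
        rw [zpow_mul, zpow_two, hww, one_zpow], one_mul]
  let q : X →* X ⧸ zpowers w := QuotientGroup.mk' (zpowers w)
  have hq : ∀ g, q g = 1 → g = 1 ∨ g = w := fun g hg => hmem g ((QuotientGroup.eq_one_iff g).mp hg)
  have hqw : q w = 1 := (QuotientGroup.eq_one_iff w).mpr (mem_zpowers w)
  have hqz : q c.z₂ = q c.z₁ := by
    have h1 : q c.z₁ * q c.z₂ = 1 := by rw [← map_mul]; exact hqw
    have h2 : q c.z₁ * q c.z₁ = 1 := by rw [← map_mul, c.sq₁, map_one]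
    exact mul_left_cancel (h1.trans h2.symm)
  have hc1 : ∀ {a b : X}, a ∈ Lft π D.A₁ → b ∈ Lft π D.A₂ → q a * q b = q b * q a := by
    intro a b ha hb
    rw [← map_mul, comm h ha hb, map_mul]
  have hkc : ∀ g, q g * q k = q k * q g := by
    intro g
    rw [← map_mul, ← h.cen k hk1 g, map_mul]
  refine Extra.five (Rank.of_quotient hr (zpowers w)) (x := q c.I₁) (y := q c.J₁) (u := q c.I₂)
    (v := q c.J₂) (z := q k) (t := q c.z₁) ?_ ?_ ?_ ?_ ?_ ?_ ?_ ?_ ?_ ?_ ?_ ?_ ?_ ?_ ?_ ?_ ?_ ?_ ?_ ?_ ?_ ?_ ?_ ?_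
  · rw [← map_mul, c.sq₁, map_one]
  · intro e
    rcases hq _ e with h1 | h1
    · exact c.z₁_ne h1
    · apply c.z₂_ne
      have : c.z₁ * 1 = c.z₁ * c.z₂ := by rw [mul_one]; exact h1
      exact (mul_left_cancel this).symm
  · rw [← map_mul, Trip.comm_i c.trip₁, map_mul]
  · rw [← map_mul, Trip.comm_j c.trip₁, map_mul]
  · rw [← hqz, ← map_mul, Trip.comm_i c.trip₂, map_mul]
  · rw [← hqz, ← map_mul, Trip.comm_j c.trip₂, map_mul]
  · exact (hkc _).symm
  · right; rw [← map_mul, c.trip₁.ii]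
  · right; rw [← map_mul, c.trip₁.jj]
  · right; rw [← hqz, ← map_mul, c.trip₂.ii]
  · right; rw [← hqz, ← map_mul, c.trip₂.jj]
  · left
    rw [← map_mul]
    rcases hk4 with h1 | h1
    · rw [h1, map_one]
    · rw [h1, hqw]
  · rw [← map_mul, ← map_mul, ← map_mul, c.trip₁.ji]
    congr 1
    calc c.I₁ * c.J₁ = (c.z₁ * c.z₁) * (c.I₁ * c.J₁) := by rw [c.sq₁, one_mul]
      _ = c.z₁ * (c.z₁ * c.I₁ * c.J₁) := by group
      _ = c.z₁ * (c.I₁ * (c.z₁ * c.J₁)) := by rw [← Trip.comm_i c.trip₁]; group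
      _ = c.z₁ * (c.I₁ * c.J₁) * c.z₁ := by rw [← Trip.comm_j c.trip₁]; group
  · rw [← hqz, ← map_mul, ← map_mul, ← map_mul, c.trip₂.ji]
    congr 1
    calc c.I₂ * c.J₂ = (c.z₂ * c.z₂) * (c.I₂ * c.J₂) := by rw [c.sq₂, one_mul]
      _ = c.z₂ * (c.z₂ * c.I₂ * c.J₂) := by group
      _ = c.z₂ * (c.I₂ * (c.z₂ * c.J₂)) := by rw [← Trip.comm_i c.trip₂]; group
      _ = c.z₂ * (c.I₂ * c.J₂) * c.z₂ := by rw [← Trip.comm_j c.trip₂]; group
  · exact hc1 c.I₁_mem c.I₂_mem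
  · exact hc1 c.I₁_mem c.J₂_mem
  · exact hc1 c.J₁_mem c.I₂_mem
  · exact hc1 c.J₁_mem c.J₂_mem
  · exact hkc _
  · exact hkc _
  · exact hkc _
  · exact hkc _
  · intro e
    rcases hq _ e with h1 | h1
    · exact hk2 h1
    · exact hk3 h1
  · intro e
    have h1 : q (k * c.z₁⁻¹) = 1 := by rw [map_mul, map_inv, e, mul_inv_cancel]
    have h2 : π (k * c.z₁⁻¹) = 1 := by
      rcases hq _ h1 with h2 | h2
      · rw [h2, map_one]
      · rw [h2, c.π_w]
    rw [map_mul, hk1, one_mul, map_inv, inv_eq_one, c.π_z₁] at h2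
    exact D.t_ne h2

end XCore

end Cfsg.Agent.GH.Cov.XOfCore
end

-- part: GH/Cov/XTypes
section
/-!
# GH-COV: components of `C_X(z₁)` and the types of automorphisms, from `L` to `X`

`Ctx D π`: `X` finite of sectional 2-rank at most 4, `π : X →* L` central extension by a nontrivial 2-group,
`Inj` for all twists of `π` by automorphisms of `L`.
-/

set_option autoImplicit false

open Subgroup Cfsg

namespace Cfsg.Agent.GH.Cov.XTypes

open Cfsg.Agent.GH.Cov.LieData Cfsg.Agent.GH.Cov.Lft Cfsg.Agent.GH.Cov.I5 Cfsg.Agent.GH.Cov.XOfCore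

variable {X L : Type*} [Group X] [Group L] {D : Core L} {π : X →* L}

/-- Everything that is known about the central extension. -/
structure Ctx (D : Core L) (π : X →* L) (z : X) : Prop where
  cext : CExt π
  rank : SectionalPRankLE 2 4 X
  z_ne : z ≠ 1
  π_z : π z = 1
  inj : ∀ χ : MulAut L, Inj D (χ.toMonoidHom.comp π)

/-- twist of `π` by an automorphism of `L` -/
abbrev tw (χ : MulAut L) (π : X →* L) : X →* L := χ.toMonoidHom.comp π

theorem CExt.tw (h : CExt π) (χ : MulAut L) : CExt (tw χ π) where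
  surj := χ.surjective.comp h.surj
  cen := fun c hc => h.cen c ((map_eq_one_iff χ χ.injective).mp hc)
  two := fun c hc => h.two c ((map_eq_one_iff χ χ.injective).mp hc)

variable {z : X}

theorem Ctx.tw (h : Ctx D π z) (χ : MulAut L) : Ctx D (tw χ π) z where
  cext := CExt.tw h.cext χ
  rank := h.rank
  z_ne := h.z_ne
  π_z := by
    show χ (π z) = 1
    rw [h.π_z, map_one]
  inj := fun χ' => by
    have := h.inj (χ' * χ)
    exact this

theorem Ctx.inj' (h : Ctx D π z) : Inj D π := by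
  have := h.inj 1
  exact this

theorem Ctx.exists_xcore (h : Ctx D π z) : Nonempty (XCore D π) := XOfCore.exists_xcore h.cext h.inj'

theorem Ctx.z_eq [Finite X] (h : Ctx D π z) (c : XCore D π) : c.z₁ * c.z₂ = z := by
  rcases c.ker_sub h.cext h.rank h.π_z with h1 | h1
  · exact absurd h1 h.z_ne
  · exact h1.symm

theorem Ctx.ker [Finite X] (h : Ctx D π z) {x : X} (hx : π x = 1) : x = 1 ∨ x = z := by
  obtain ⟨c⟩ := h.exists_xcore
  rw [← h.z_eq c]
  exact c.ker_sub h.cext h.rank hx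

theorem Ctx.zz [Finite X] (h : Ctx D π z) : z * z = 1 := by
  obtain ⟨c⟩ := h.exists_xcore
  rw [← h.z_eq c]
  exact c.w_sq h.cext

theorem Ctx.central (h : Ctx D π z) (x : X) : x * z = z * x := (h.cext.cen z h.π_z x).symm

/-- two elements with the same image differ by `1` or `z` -/
theorem Ctx.eq_or [Finite X] (h : Ctx D π z) {x y : X} (hxy : π x = π y) : x = y ∨ x = y * z := by
  rcases h.ker (x := y⁻¹ * x) (by rw [map_mul, map_inv, hxy, inv_mul_cancel]) with h1 | h1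
  · left; exact (inv_mul_eq_one.mp h1).symm
  · right; rw [← h1]; group

/-- elements with the same image have the same square -/
theorem Ctx.sq_eq [Finite X] (h : Ctx D π z) {x y : X} (hxy : π x = π y) : x * x = y * y := by
  rcases h.eq_or hxy with h1 | h1
  · rw [h1]
  · rw [h1]
    calc y * z * (y * z) = y * (z * y) * z := by group
      _ = y * (y * z) * z := by rw [h.central y]
      _ = y * y * (z * z) := by group
      _ = y * y := by rw [h.zz, mul_one]

theorem Ctx.sq_conj [Finite X] (h : Ctx D π z) {x y g : X} (hxy : π x = π g * π y * (π g)⁻¹) :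
    x * x = g * (y * y) * g⁻¹ := by
  have := h.sq_eq (x := x) (y := g * y * g⁻¹) (by rw [hxy, map_mul, map_mul, map_inv])
  rw [this]; group

theorem Ctx.z₁_ne_z₂ [Finite X] (h : Ctx D π z) (c : XCore D π) : c.z₁ ≠ c.z₂ := by
  intro e
  apply h.z_ne
  rw [← h.z_eq c, ← e, c.sq₁]

theorem Ctx.disj [Finite X] (h : Ctx D π z) : Lft π D.A₁ ⊓ Lft π D.A₂ = ⊥ := by
  obtain ⟨c⟩ := h.exists_xcore
  rw [eq_bot_iff]
  rintro x ⟨hx1, hx2⟩
  rw [mem_bot]
  have a1 := map_mem hx1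
  have a2 := map_mem hx2
  by_cases ha : π x * π x = 1
  · rcases D.inv₁ _ a1 ha with h1 | h1
    · exact h.inj'.one x hx1 h1
    · exfalso
      apply h.z₁_ne_z₂ c
      rw [← h.inj'.eq₁ hx1 c.z₁_mem (by rw [h1, c.π_z₁]), ← h.inj'.eq₂ hx2 c.z₂_mem (by rw [h1, c.π_z₂])]
  · exfalso
    have h1 := D.cent₂ _ a2 ha _ D.i₂_mem _ D.j₂_mem (D.comm _ a1 _ D.i₂_mem).symm
      (D.comm _ a1 _ D.j₂_mem).symm
    have h2 := D.trip₂.ji
    rw [← h1] at h2
    exact D.t_ne (mul_eq_right.mp h2.symm)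

theorem comm_z₁ (h : Ctx D π z) (c : XCore D π) {x : X} (hx : x ∈ Lft π D.A₁) : x * c.z₁ = c.z₁ * x := by
  have h1 : x * c.z₁ * x⁻¹ ∈ Lft π D.A₁ := mul_mem (mul_mem hx c.z₁_mem) (inv_mem hx)
  have ha := map_mem hx
  have h2 : π (x * c.z₁ * x⁻¹) = D.t := by
    have h3 : π (x * c.z₁ * x⁻¹) ∈ D.A₁ := map_mem h1
    have h4 : π (x * c.z₁ * x⁻¹) * π (x * c.z₁ * x⁻¹) = 1 := by
      rw [← map_mul]
      have : x * c.z₁ * x⁻¹ * (x * c.z₁ * x⁻¹) = x * (c.z₁ * c.z₁) * x⁻¹ := by group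
      rw [this, c.sq₁, mul_one, mul_inv_cancel, map_one]
    rcases D.inv₁ _ h3 h4 with h5 | h5
    · exfalso
      rw [map_mul, map_mul, map_inv, c.π_z₁, mul_inv_eq_one] at h5
      exact D.t_ne (mul_eq_left.mp h5)
    · exact h5
  have := h.inj'.eq₁ h1 c.z₁_mem (by rw [h2, c.π_z₁])
  exact mul_inv_eq_iff_eq_mul.mp this

/-- The preimage of `A₁A₂` is the product of the lifts. -/
theorem comap_sup [Finite X] (h : Ctx D π z) : (D.A₁ ⊔ D.A₂).comap π = Lft π D.A₁ ⊔ Lft π D.A₂ := by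
  obtain ⟨c⟩ := h.exists_xcore
  have hm1 : (Lft π D.A₁).map π = D.A₁ := by
    apply le_antisymm
    · rintro _ ⟨x, hx, rfl⟩; exact map_mem hx
    · intro b hb
      obtain ⟨x, hx, hxb⟩ := h.cext.exists_mem D.gen₁ hb
      exact ⟨x, hx, hxb⟩
  have hm2 : (Lft π D.A₂).map π = D.A₂ := by
    apply le_antisymm
    · rintro _ ⟨x, hx, rfl⟩; exact map_mem hx
    · intro b hb
      obtain ⟨x, hx, hxb⟩ := h.cext.exists_mem D.gen₂ hb
      exact ⟨x, hx, hxb⟩
  apply le_antisymm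
  · intro x hx
    have hx' : π x ∈ (Lft π D.A₁ ⊔ Lft π D.A₂).map π := by
      rw [Subgroup.map_sup, hm1, hm2]; exact hx
    obtain ⟨y, hy, hyx⟩ := hx'
    have hz : z ∈ Lft π D.A₁ ⊔ Lft π D.A₂ := by
      rw [← h.z_eq c]
      exact mul_mem (mem_sup_left c.z₁_mem) (mem_sup_right c.z₂_mem)
    rcases h.eq_or (x := x) (y := y) hyx.symm with h1 | h1
    · rw [h1]; exact hy
    · rw [h1]; exact mul_mem hy hz
  · rw [sup_le_iff]
    exact ⟨fun x hx => mem_sup_left (map_mem hx), fun x hx => mem_sup_right (map_mem hx)⟩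

theorem swap [Finite X] (h : Ctx D π z) (c : XCore D π) : ∃ w : X, w * c.z₁ * w⁻¹ = c.z₂ ∧
    w * c.z₂ * w⁻¹ = c.z₁ := by
  obtain ⟨w₀, hw₀⟩ := D.swap
  obtain ⟨w, rfl⟩ := h.cext.surj w₀
  have h1 : c.I₂ * c.I₂ = w * (c.I₁ * c.I₁) * w⁻¹ :=
    h.sq_conj (by rw [c.π_I₂, c.π_I₁, hw₀])
  rw [c.trip₁.ii, c.trip₂.ii] at h1
  refine ⟨w, h1.symm, ?_⟩
  have hz := h.z_eq c
  have h2 : c.z₂ = c.z₁ * z := by rw [← hz, ← mul_assoc, c.sq₁, one_mul]
  rw [h2]
  calc w * (c.z₁ * z) * w⁻¹ = w * c.z₁ * (z * w⁻¹) := by group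
    _ = w * c.z₁ * (w⁻¹ * z) := by rw [← h.central w⁻¹]
    _ = (w * c.z₁ * w⁻¹) * z := by group
    _ = c.z₁ * z * z := by rw [← h1, h2]
    _ = c.z₁ := by rw [mul_assoc, h.zz, mul_one]

theorem norm_sup [Finite X] (h : Ctx D π z) (c : XCore D π) {g : X} (hg : g * c.z₁ = c.z₁ * g) :
    ∀ x ∈ Lft π D.A₁ ⊔ Lft π D.A₂, g * x * g⁻¹ ∈ Lft π D.A₁ ⊔ Lft π D.A₂ := by
  intro x hx
  rw [← comap_sup h] at hx ⊢
  rw [mem_comap] at hx ⊢
  rw [map_mul, map_mul, map_inv]
  apply D.norm _ _ _ hx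
  rw [← c.π_z₁, ← map_mul, hg, map_mul]

theorem index_sup [Finite X] (h : Ctx D π z) (c : XCore D π) :
    ¬ 4 ∣ (Lft π D.A₁ ⊔ Lft π D.A₂).relIndex (centralizer {c.z₁}) := by
  intro h4
  apply D.index
  set N := (centralizer {D.t}).comap π with hN
  have hC : ∀ g, g ∈ centralizer {c.z₁} ↔ g * c.z₁ * g⁻¹ = c.z₁ := by
    intro g
    rw [mem_centralizer_singleton_iff, mul_inv_eq_iff_eq_mul]
  have hNm : ∀ g, g ∈ N ↔ (g * c.z₁ * g⁻¹ = c.z₁ ∨ g * c.z₁ * g⁻¹ = c.z₂) := by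
    intro g
    rw [hN, mem_comap, mem_centralizer_singleton_iff]
    constructor
    · intro hg
      have h1 : π (g * c.z₁ * g⁻¹) = π c.z₁ := by
        rw [map_mul, map_mul, map_inv, c.π_z₁, hg, mul_inv_cancel_right]
      rcases h.eq_or h1 with h2 | h2
      · exact Or.inl h2
      · right
        rw [h2, ← h.z_eq c, ← mul_assoc, c.sq₁, one_mul]
    · intro hg
      have h1 : π (g * c.z₁ * g⁻¹) = D.t := by
        rcases hg with h2 | h2
        · rw [h2, c.π_z₁]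
        · rw [h2, c.π_z₂]
      rw [map_mul, map_mul, map_inv, c.π_z₁, mul_inv_eq_iff_eq_mul] at h1
      exact h1
  have hCN : centralizer {c.z₁} ≤ N := fun g hg => (hNm g).mpr (Or.inl ((hC g).mp hg))
  have hSC : Lft π D.A₁ ⊔ Lft π D.A₂ ≤ centralizer {c.z₁} := by
    rw [sup_le_iff]
    refine ⟨fun x hx => ?_, fun x hx => ?_⟩
    · rw [mem_centralizer_singleton_iff]; exact comm_z₁ h c hx
    · rw [mem_centralizer_singleton_iff]; exact (XCore.comm h.cext c.z₁_mem hx).symm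
  obtain ⟨w, hw1, hw2⟩ := swap h c
  have h2 : (centralizer {c.z₁}).relIndex N = 2 := by
    rw [relIndex, index_eq_two_iff]
    refine ⟨⟨w, (hNm w).mpr (Or.inr hw1)⟩, ?_⟩
    rintro ⟨b, hb⟩
    rw [mem_subgroupOf, mem_subgroupOf, hC, hC]
    show Xor' (b * w * c.z₁ * (b * w)⁻¹ = c.z₁) (b * c.z₁ * b⁻¹ = c.z₁)
    have e : b * w * c.z₁ * (b * w)⁻¹ = b * c.z₂ * b⁻¹ := by rw [← hw1]; group
    rw [e]
    have hb' : b * c.z₂ * b⁻¹ = (b * c.z₁ * b⁻¹) * z := by
      rw [show c.z₂ = c.z₁ * z by rw [← h.z_eq c, ← mul_assoc, c.sq₁, one_mul]]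
      calc b * (c.z₁ * z) * b⁻¹ = b * c.z₁ * (z * b⁻¹) := by group
        _ = b * c.z₁ * (b⁻¹ * z) := by rw [← h.central b⁻¹]
        _ = b * c.z₁ * b⁻¹ * z := by group
    have hz2 : c.z₂ * z = c.z₁ := by
      rw [← h.z_eq c, XCore.comm h.cext c.z₁_mem c.z₂_mem, ← mul_assoc, c.sq₂, one_mul]
    rcases (hNm b).mp hb with h3 | h3
    · right
      refine ⟨h3, ?_⟩
      rw [hb', h3]
      intro h5
      exact h.z_ne (mul_eq_left.mp h5)
    · left
      rw [hb', h3, hz2]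
      exact ⟨rfl, (h.z₁_ne_z₂ c).symm⟩
  have h3 : (Lft π D.A₁ ⊔ Lft π D.A₂).relIndex N = (D.A₁ ⊔ D.A₂).relIndex (centralizer {D.t}) := by
    rw [← comap_sup h, relIndex_comap, hN, map_comap_eq_self_of_surjective h.cext.surj]
  rw [← h3, ← relIndex_mul_relIndex _ _ _ hSC hCN, h2]
  obtain ⟨k, hk⟩ := h4
  exact ⟨k, by rw [hk]; ring⟩

/-- Lifts of elements conjugate to `i₁ i₂` have square `z`. -/
theorem sq_type [Finite X] (h : Ctx D π z) {x : X} (hx : IsConj (D.i₁ * D.i₂) (π x)) : x * x = z := by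
  obtain ⟨c⟩ := h.exists_xcore
  obtain ⟨g₀, hg₀⟩ := isConj_iff.mp hx
  obtain ⟨g, rfl⟩ := h.cext.surj g₀
  have h1 : x * x = g * ((c.I₁ * c.I₂) * (c.I₁ * c.I₂)) * g⁻¹ :=
    h.sq_conj (by rw [map_mul, c.π_I₁, c.π_I₂, hg₀])
  have h2 : (c.I₁ * c.I₂) * (c.I₁ * c.I₂) = z := by
    calc (c.I₁ * c.I₂) * (c.I₁ * c.I₂) = c.I₁ * (c.I₂ * c.I₁) * c.I₂ := by group
      _ = c.I₁ * (c.I₁ * c.I₂) * c.I₂ := by rw [← XCore.comm h.cext c.I₁_mem c.I₂_mem]
      _ = (c.I₁ * c.I₁) * (c.I₂ * c.I₂) := by group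
      _ = z := by rw [c.trip₁.ii, c.trip₂.ii, h.z_eq c]
  rw [h1, h2, h.central g, mul_inv_cancel_right]

/-- Lifts of elements conjugate to `t` are involutions. -/
theorem sq_type' [Finite X] (h : Ctx D π z) {x : X} (hx : IsConj D.t (π x)) : x * x = 1 := by
  obtain ⟨c⟩ := h.exists_xcore
  obtain ⟨g₀, hg₀⟩ := isConj_iff.mp hx
  obtain ⟨g, rfl⟩ := h.cext.surj g₀
  have h1 : x * x = g * (c.z₁ * c.z₁) * g⁻¹ := h.sq_conj (by rw [c.π_z₁, hg₀])
  rw [h1, c.sq₁, mul_one, mul_inv_cancel]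

theorem sq_twist [Finite X] (h : Ctx D π z) {χ : MulAut L} {x : X} (hx : IsConj (χ (D.i₁ * D.i₂)) (π x)) :
    x * x = z := by
  refine sq_type (h.tw χ⁻¹) (x := x) ?_
  obtain ⟨g, hg⟩ := isConj_iff.mp hx
  refine isConj_iff.mpr ⟨χ⁻¹ g, ?_⟩
  show _ = χ⁻¹ (π x)
  rw [← hg, map_mul, map_mul, map_inv, MulAut.inv_apply_self]

/-- An automorphism `α` of `X` over an automorphism of `L` fixes `z`. -/
theorem map_z [Finite X] (h : Ctx D π z) {α : MulAut X} {φ : MulAut L} (hα : ∀ x, π (α x) = φ (π x)) :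
    α z = z := by
  rcases h.ker (x := α z) (by rw [hα, h.π_z, map_one]) with h1 | h1
  · exact absurd ((map_eq_one_iff α α.injective).mp h1) h.z_ne
  · exact h1

theorem fix_odd (h : Ctx D π z) {α : MulAut X} {φ : MulAut L} (hα : ∀ x, π (α x) = φ (π x))
    {x : X} (hx : Odd (orderOf x)) (hf : φ (π x) = π x) : α x = x := by
  refine h.cext.unique ?_ hx (by rw [hα, hf])
  rw [show orderOf (α x) = orderOf x from orderOf_injective α.toMonoidHom α.injective x]
  exact hx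

/-- Type I on `L` gives type I on `X`: `z` is the square of a fixed element. -/
theorem xTypeI [Finite X] (h : Ctx D π z) {α : MulAut X} {φ : MulAut L} (hα : ∀ x, π (α x) = φ (π x))
    (hT : TypeI D φ) : ∃ w, α w = w ∧ w * w = z := by
  obtain ⟨a₀, b₀, d₀, hA, ha, hb, hd, χ, hχ⟩ := hT
  obtain ⟨d, hd1, hd2⟩ := h.cext.exists_lift (odd_of_cube hA.d3)
  obtain ⟨a, ha1⟩ := h.cext.surj a₀
  have hdo : Odd (orderOf d) := by rw [hd2]; exact odd_of_cube hA.d3
  have hαd : α d = d := fix_odd h hα hdo (by rw [hd1, hd])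
  have haz : a * a = z := sq_twist h (χ := χ) (by rw [ha1]; exact hχ)
  have hαz := map_z h hα
  set b := d * a * d⁻¹ with hbdef
  have hb1 : π b = b₀ := by rw [hbdef, map_mul, map_mul, map_inv, hd1, ha1, hA.da]
  have hbz : b * b = z := by
    rw [hbdef]
    calc d * a * d⁻¹ * (d * a * d⁻¹) = d * (a * a) * d⁻¹ := by group
      _ = z := by rw [haz, h.central d, mul_inv_cancel_right]
  have habz : (a * b) * (a * b) = z := by
    have h1 : π (a * b) = π d * π b * (π d)⁻¹ := by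
      rw [map_mul, ha1, hb1, hd1, hA.db]
    rw [h.sq_conj h1, hbz, h.central d, mul_inv_cancel_right]
  rcases h.eq_or (x := α a) (y := a) (by rw [hα, ha1, ha]) with h1 | h1
  · exact ⟨a, h1, haz⟩
  · have h2 : α b = b * z := by
      rw [hbdef, map_mul, map_mul, map_inv, hαd, h1]
      calc d * (a * z) * d⁻¹ = d * a * (z * d⁻¹) := by group
        _ = d * a * (d⁻¹ * z) := by rw [← h.central d⁻¹]
        _ = d * a * d⁻¹ * z := by group
    refine ⟨a * b, ?_, habz⟩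
    rw [map_mul, h1, h2]
    calc a * z * (b * z) = a * (z * b) * z := by group
      _ = a * (b * z) * z := by rw [← h.central b]
      _ = a * b * (z * z) := by group
      _ = a * b := by rw [h.zz, mul_one]

/-- The four-group part of type II. -/
theorem four_fixed [Finite X] (h : Ctx D π z) {α : MulAut X} {φ : MulAut L}
    (hα : ∀ x, π (α x) = φ (π x)) {b₀ d₀ : L} (hA : AFour D.t b₀ d₀) (ht : φ D.t = D.t) (hd : φ d₀ = d₀) :
    ∃ v d : X, π v = D.t ∧ π d = d₀ ∧ v * v = 1 ∧ v ≠ 1 ∧ α v = v ∧ α d = d ∧ Odd (orderOf d) ∧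
      v * (d * v * d⁻¹) * (d * (d * v * d⁻¹) * d⁻¹) = 1 ∧ v * (d * v * d⁻¹) = (d * v * d⁻¹) * v := by
  obtain ⟨d, hd1, hd2⟩ := h.cext.exists_lift (odd_of_cube hA.d3)
  obtain ⟨c⟩ := h.exists_xcore
  have hdo : Odd (orderOf d) := by rw [hd2]; exact odd_of_cube hA.d3
  have hαd : α d = d := fix_odd h hα hdo (by rw [hd1, hd])
  have hαz := map_z h hα
  have hzz := h.zz
  have hcz := h.central
  -- for each lift `u` of `t`, the product over the `d`-orbit is in the kernel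
  have key : ∀ u : X, π u = D.t → u * u = 1 ∧ u * (d * u * d⁻¹) = (d * u * d⁻¹) * u ∧
      π (u * (d * u * d⁻¹) * (d * (d * u * d⁻¹) * d⁻¹)) = 1 := by
    intro u hu
    have hb : π (d * u * d⁻¹) = b₀ := by rw [map_mul, map_mul, map_inv, hd1, hu, hA.da]
    have h1 : u * u = 1 := sq_type' h (by rw [hu])
    have h2 : (d * u * d⁻¹) * (d * u * d⁻¹) = 1 := by
      calc (d * u * d⁻¹) * (d * u * d⁻¹) = d * (u * u) * d⁻¹ := by group
        _ = 1 := by rw [h1, mul_one, mul_inv_cancel]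
    have h3 : (u * (d * u * d⁻¹)) * (u * (d * u * d⁻¹)) = 1 := by
      have h4 : π (u * (d * u * d⁻¹)) = π d * π (d * u * d⁻¹) * (π d)⁻¹ := by
        rw [map_mul, hb, hu, hd1, hA.db]
      rw [h.sq_conj h4, h2, mul_one, mul_inv_cancel]
    refine ⟨h1, ?_, ?_⟩
    · have h4 : (u * (d * u * d⁻¹))⁻¹ = u * (d * u * d⁻¹) := inv_eq_of_mul_eq_one_right h3
      rw [mul_inv_rev, inv_eq_of_mul_eq_one_right h1, inv_eq_of_mul_eq_one_right h2] at h4
      exact h4.symm
    · have e1 : π (d * (d * u * d⁻¹) * d⁻¹) = D.t * b₀ := by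
        rw [map_mul, map_mul, map_inv, hb, hd1, hA.db]
      rw [map_mul, map_mul, e1, hb, hu]
      calc D.t * b₀ * (D.t * b₀) = D.t * (b₀ * D.t) * b₀ := by group
        _ = D.t * (D.t * b₀) * b₀ := by rw [hA.ab]
        _ = (D.t * D.t) * (b₀ * b₀) := by group
        _ = 1 := by rw [D.tt, hA.bb, mul_one]
  have hconjz : ∀ u : X, d * (u * z) * d⁻¹ = d * u * d⁻¹ * z := by
    intro u
    calc d * (u * z) * d⁻¹ = d * u * (z * d⁻¹) := by group
      _ = d * u * (d⁻¹ * z) := by rw [← hcz d⁻¹]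
      _ = d * u * d⁻¹ * z := by group
  have hprod : ∀ u : X, (u * z) * (d * (u * z) * d⁻¹) * (d * (d * (u * z) * d⁻¹) * d⁻¹) =
      u * (d * u * d⁻¹) * (d * (d * u * d⁻¹) * d⁻¹) * z := by
    intro u
    rw [hconjz u, hconjz (d * u * d⁻¹)]
    generalize d * u * d⁻¹ = u'
    generalize d * u' * d⁻¹ = u''
    calc u * z * (u' * z) * (u'' * z) = u * (z * u') * (z * u'') * z := by group
      _ = u * (u' * z) * (u'' * z) * z := by rw [← hcz u', ← hcz u'']
      _ = u * u' * (z * u'') * (z * z) := by group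
      _ = u * u' * (u'' * z) * (z * z) := by rw [← hcz u'']
      _ = u * u' * u'' * z := by rw [hzz]; group
  -- the lift with product one
  obtain ⟨v, hv, hv1⟩ : ∃ v : X, π v = D.t ∧
      v * (d * v * d⁻¹) * (d * (d * v * d⁻¹) * d⁻¹) = 1 := by
    rcases h.ker (key c.z₁ c.π_z₁).2.2 with h1 | h1
    · exact ⟨c.z₁, c.π_z₁, h1⟩
    · refine ⟨c.z₁ * z, by rw [map_mul, h.π_z, mul_one, c.π_z₁], ?_⟩
      rw [hprod, h1, hzz]
  obtain ⟨k1, k2, _⟩ := key v hv
  have hvne : v ≠ 1 := fun e => D.t_ne (by rw [← hv, e, map_one])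
  refine ⟨v, d, hv, hd1, k1, hvne, ?_, hαd, hdo, hv1, k2⟩
  rcases h.eq_or (x := α v) (y := v) (by rw [hα, hv, ht]) with h1 | h1
  · exact h1
  · exfalso
    have h2 : α (v * (d * v * d⁻¹) * (d * (d * v * d⁻¹) * d⁻¹)) = 1 := by rw [hv1, map_one]
    rw [map_mul, map_mul, map_mul, map_mul, map_inv, map_mul, map_mul, map_mul, map_mul, map_inv,
      hαd, h1, hprod, hv1, one_mul] at h2
    exact h.z_ne h2

/-- Type II on `L` gives type II on `X`. -/
theorem xTypeII [Finite X] (h : Ctx D π z) {α : MulAut X} {φ : MulAut L} (hα : ∀ x, π (α x) = φ (π x))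
    (hT : TypeII D φ) : ∃ (j v d : X) (V : Subgroup X), α j = j⁻¹ ∧ j * j = v ∧ v ≠ 1 ∧ v * v = 1 ∧ v ∈ V ∧
      IsPGroup 2 V ∧ (∀ a ∈ V, α a = a) ∧ α d = d ∧ Odd (orderOf d) ∧ (∀ a ∈ V, d * a * d⁻¹ ∈ V) ∧
      (∀ B : Subgroup X, (∀ a ∈ V, a * (d * a * d⁻¹)⁻¹ ∈ B) → V ≤ B) := by
  obtain ⟨χ, ψ, hψ, hA₁, hA₂, ⟨k₁, hk₁, hk₁t, hk₁i⟩, ⟨k₂, hk₂, hk₂t, hk₂i⟩, b₀, d₀, hA, ht, hb, hd⟩ := hT
  -- twist by `χ`
  have h' : Ctx D (tw χ π) z := h.tw χ
  have hα' : ∀ x, tw χ π (α x) = ψ (tw χ π x) := by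
    intro x
    show χ (π (α x)) = ψ (χ (π x))
    rw [hα, hψ]
    simp only [MulAut.mul_apply, _root_.MulAut.inv_apply, _root_.MulEquiv.symm_apply_apply]
  clear hα
  generalize tw χ π = π' at h' hα'
  clear h
  obtain ⟨v, d, hv, hd1, hvv, hvne, hαv, hαd, hdo, hprod, hcomm⟩ := four_fixed h' hα' hA ht hd
  obtain ⟨c⟩ := h'.exists_xcore
  -- the element `j`
  obtain ⟨j, hj1, hj2⟩ : ∃ j, α j = j⁻¹ ∧ j * j = v := by
    rcases h'.eq_or (x := v) (y := c.z₁) (by rw [hv, c.π_z₁]) with h1 | h1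
    · obtain ⟨j, hj, hjk⟩ := h'.cext.exists_mem D.gen₁ hk₁
      refine ⟨j, ?_, ?_⟩
      · have h2 : α j ∈ Lft π' D.A₁ := map_Lft (π := π') (π' := π') α (fun a => ψ a) hα' hA₁ j hj
        exact h'.inj'.eq₁ h2 (inv_mem hj) (by rw [hα', map_inv, hjk, hk₁i])
      · rw [h1]
        exact h'.inj'.eq₁ (mul_mem hj hj) c.z₁_mem (by rw [map_mul, hjk, hk₁t, c.π_z₁])
    · have h1' : v = c.z₂ := by
        rw [h1, ← h'.z_eq c, ← mul_assoc, c.sq₁, one_mul]
      obtain ⟨j, hj, hjk⟩ := h'.cext.exists_mem D.gen₂ hk₂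
      refine ⟨j, ?_, ?_⟩
      · have h2 : α j ∈ Lft π' D.A₂ := map_Lft (π := π') (π' := π') α (fun a => ψ a) hα' hA₂ j hj
        exact h'.inj'.eq₂ h2 (inv_mem hj) (by rw [hα', map_inv, hjk, hk₂i])
      · rw [h1']
        exact h'.inj'.eq₂ (mul_mem hj hj) c.z₂_mem (by rw [map_mul, hjk, hk₂t, c.π_z₂])
  -- the four-group
  set u := d * v * d⁻¹ with hu
  have huu : u * u = 1 := by
    rw [hu]
    calc d * v * d⁻¹ * (d * v * d⁻¹) = d * (v * v) * d⁻¹ := by group
      _ = 1 := by rw [hvv, mul_one, mul_inv_cancel]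
  have hdu : d * u * d⁻¹ = v * u := by
    have h1 : v * u * (d * u * d⁻¹) = 1 := hprod
    have h2 : (v * u) * (v * u) = 1 := by
      calc v * u * (v * u) = v * (u * v) * u := by group
        _ = v * (v * u) * u := by rw [← hcomm]
        _ = (v * v) * (u * u) := by group
        _ = 1 := by rw [hvv, huu, one_mul]
    exact mul_left_cancel (h1.trans h2.symm)
  have hvinv : v⁻¹ = v := inv_eq_of_mul_eq_one_right hvv
  have huinv : u⁻¹ = u := inv_eq_of_mul_eq_one_right huu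
  let V : Subgroup X :=
    { carrier := {x | x = 1 ∨ x = v ∨ x = u ∨ x = v * u}
      one_mem' := Or.inl rfl
      mul_mem' := by
        rintro a b (rfl | rfl | rfl | rfl) (rfl | rfl | rfl | rfl)
        · left; exact one_mul 1
        · right; left; exact one_mul _
        · right; right; left; exact one_mul _
        · right; right; right; exact one_mul _
        · right; left; exact mul_one _
        · left; exact hvv
        · right; right; right; rfl
        · right; right; left; rw [← mul_assoc, hvv, one_mul]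
        · right; right; left; exact mul_one _
        · right; right; right; exact hcomm.symm
        · left; exact huu
        · right; left; rw [hcomm, ← mul_assoc, huu, one_mul]
        · right; right; right; exact mul_one _
        · right; right; left; rw [hcomm, mul_assoc, hvv, mul_one]
        · right; left; rw [mul_assoc, huu, mul_one]
        · left
          calc v * u * (v * u) = v * (u * v) * u := by group
            _ = v * (v * u) * u := by rw [← hcomm]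
            _ = (v * v) * (u * u) := by group
            _ = 1 := by rw [hvv, huu, one_mul]
      inv_mem' := by
        rintro a (rfl | rfl | rfl | rfl)
        · left; exact inv_one
        · right; left; exact hvinv
        · right; right; left; exact huinv
        · right; right; right; rw [mul_inv_rev, hvinv, huinv, hcomm] }
  have hVm : ∀ x, x ∈ V ↔ (x = 1 ∨ x = v ∨ x = u ∨ x = v * u) := fun x => Iff.rfl
  have hαu : α u = u := by rw [hu, map_mul, map_mul, map_inv, hαd, hαv]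
  refine ⟨j, v, d, V, hj1, hj2, hvne, hvv, Or.inr (Or.inl rfl), ?_, ?_, hαd, hdo, ?_, ?_⟩
  · intro x
    refine ⟨1, ?_⟩
    apply Subtype.ext
    rw [pow_one, pow_two]
    rcases x with ⟨x, rfl | rfl | rfl | rfl⟩
    · exact one_mul 1
    · exact hvv
    · exact huu
    · show v * u * (v * u) = 1
      calc v * u * (v * u) = v * (u * v) * u := by group
        _ = v * (v * u) * u := by rw [← hcomm]
        _ = (v * v) * (u * u) := by group
        _ = 1 := by rw [hvv, huu, one_mul]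
  · rintro a (rfl | rfl | rfl | rfl)
    · exact map_one α
    · exact hαv
    · exact hαu
    · rw [map_mul, hαv, hαu]
  · rintro a (rfl | rfl | rfl | rfl)
    · left; rw [mul_one, mul_inv_cancel]
    · right; right; left; rfl
    · right; right; right; exact hdu
    · right; left
      calc d * (v * u) * d⁻¹ = (d * v * d⁻¹) * (d * u * d⁻¹) := by group
        _ = u * (v * u) := by rw [hdu, hu]
        _ = v := by rw [hcomm, ← mul_assoc, huu, one_mul]
  · intro B hB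
    have h1 : v * u⁻¹ ∈ B := hB v (Or.inr (Or.inl rfl))
    have h2 : u * (d * u * d⁻¹)⁻¹ ∈ B := hB u (Or.inr (Or.inr (Or.inl rfl)))
    rw [huinv] at h1
    have h3 : v ∈ B := by
      have : u * (d * u * d⁻¹)⁻¹ = v := by
        rw [hdu, mul_inv_rev, huinv, hvinv, ← mul_assoc, huu, one_mul]
      rw [this] at h2
      exact h2
    have h4 : u ∈ B := by
      have := mul_mem (inv_mem h3) h1
      rwa [inv_mul_cancel_left] at this
    rintro a (rfl | rfl | rfl | rfl)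
    · exact one_mem _
    · exact h3
    · exact h4
    · exact mul_mem h3 h4

end Cfsg.Agent.GH.Cov.XTypes
end

-- part: GH/Cov/XLevel
section
/-!
# GH-COV: the elementary facts on `X = K / O(K)`, a double cover of `L` (helper752)

`π : X →* L` onto with kernel `{1, z}`, `D : Core L`, and in `X` two commuting `SL₂(3)`'s `⟨I₁, J₁, E₁⟩`, `⟨I₂, J₂, E₂⟩`
with centres `⟨z₁⟩`, `⟨z₂⟩`, `z = z₁ z₂ ≠ 1`.
-/

set_option autoImplicit false

open Subgroup

namespace Cfsg.Agent.GH.Cov.XLevel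

open Cfsg.Agent.GH.Cov.LieData Cfsg.Agent.GH.Cov.I5

section Oct

variable {X : Type*} [Group X] {w I J E : X}

/-- the list of the elements of `⟨I, J⟩` -/
def Q8 (w I J : X) (x : X) : Prop :=
  x = 1 ∨ x = w ∨ x = I ∨ x = w * I ∨ x = J ∨ x = w * J ∨ x = I * J ∨ x = w * (I * J)

theorem wI (h : Trip w I J E) : I * w = w * I := by rw [← h.ii]; group

theorem wJ (h : Trip w I J E) : J * w = w * J := by rw [← h.jj]; group

theorem Q8.mul_I (h : Trip w I J E) (hw : w * w = 1) {x : X} (hx : Q8 w I J x) : Q8 w I J (x * I) := by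
  have hI := wI h
  have hJ := wJ h
  have hJI : J * I = w * (I * J) := h.ji
  rcases hx with rfl | rfl | rfl | rfl | rfl | rfl | rfl | rfl
  · exact Or.inr (Or.inr (Or.inl (one_mul _)))
  · exact Or.inr (Or.inr (Or.inr (Or.inl rfl)))
  · exact Or.inr (Or.inl h.ii)
  · left
    rw [mul_assoc, h.ii, hw]
  · exact Or.inr (Or.inr (Or.inr (Or.inr (Or.inr (Or.inr (Or.inr hJI))))))
  · refine Or.inr (Or.inr (Or.inr (Or.inr (Or.inr (Or.inr (Or.inl ?_))))))
    rw [mul_assoc, hJI, ← mul_assoc, hw, one_mul]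
  · -- I * J * I = I * (w * (I * J)) = w * w * J = J
    refine Or.inr (Or.inr (Or.inr (Or.inr (Or.inl ?_))))
    calc I * J * I = I * (J * I) := mul_assoc _ _ _
      _ = (I * w) * I * J := by rw [hJI]; group
      _ = w * (I * I) * J := by rw [hI]; group
      _ = J := by rw [h.ii, hw, one_mul]
  · refine Or.inr (Or.inr (Or.inr (Or.inr (Or.inr (Or.inl ?_)))))
    calc w * (I * J) * I = w * (I * (J * I)) := by group
      _ = w * ((I * w) * I * J) := by rw [hJI]; group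
      _ = w * (w * (I * I) * J) := by rw [hI]; group
      _ = w * J := by rw [h.ii, hw, one_mul]

theorem Q8.mul_J (h : Trip w I J E) (hw : w * w = 1) {x : X} (hx : Q8 w I J x) : Q8 w I J (x * J) := by
  have hI := wI h
  have hJ := wJ h
  rcases hx with rfl | rfl | rfl | rfl | rfl | rfl | rfl | rfl
  · exact Or.inr (Or.inr (Or.inr (Or.inr (Or.inl (one_mul _)))))
  · exact Or.inr (Or.inr (Or.inr (Or.inr (Or.inr (Or.inl rfl)))))
  · exact Or.inr (Or.inr (Or.inr (Or.inr (Or.inr (Or.inr (Or.inl rfl))))))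
  · exact Or.inr (Or.inr (Or.inr (Or.inr (Or.inr (Or.inr (Or.inr (mul_assoc _ _ _)))))))
  · exact Or.inr (Or.inl h.jj)
  · left
    rw [mul_assoc, h.jj, hw]
  · refine Or.inr (Or.inr (Or.inr (Or.inl ?_)))
    rw [mul_assoc, h.jj, hI]
  · refine Or.inr (Or.inr (Or.inl ?_))
    rw [mul_assoc, mul_assoc, h.jj, hI, ← mul_assoc, hw, one_mul]

theorem Q8.mul_w (h : Trip w I J E) (hw : w * w = 1) {x : X} (hx : Q8 w I J x) : Q8 w I J (x * w) := by
  have := (hx.mul_I h hw).mul_I h hw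
  rwa [mul_assoc, h.ii] at this

/-- `⟨I, J⟩` consists of the eight listed elements. -/
theorem Q8.of_mem (h : Trip w I J E) (hw : w * w = 1) {x : X} (hx : x ∈ _root_.Subgroup.closure ({I, J} : Set X)) : Q8 w I J x := by
  have hI3 : I⁻¹ = w * I := by
    rw [inv_eq_iff_mul_eq_one, ← mul_assoc, wI h, mul_assoc, h.ii, hw]
  have hJ3 : J⁻¹ = w * J := by
    rw [inv_eq_iff_mul_eq_one, ← mul_assoc, wJ h, mul_assoc, h.jj, hw]
  induction hx using closure_induction_right with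
  | one => exact Or.inl rfl
  | mul_right x _ y hy hx =>
    rcases hy with rfl | hy
    · exact hx.mul_I h hw
    · rw [Set.mem_singleton_iff] at hy
      rw [hy]
      exact hx.mul_J h hw
  | mul_inv_cancel x _ y hy hx =>
    rcases hy with rfl | hy
    · rw [hI3, ← mul_assoc]
      exact (hx.mul_w h hw).mul_I h hw
    · rw [Set.mem_singleton_iff] at hy
      rw [hy, hJ3, ← mul_assoc]
      exact (hx.mul_w h hw).mul_J h hw

/-- every element of `⟨I, J⟩` other than `1` is `w` or has square `w` -/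
theorem sq_of_mem (h : Trip w I J E) (hw : w * w = 1) {x : X} (hx : x ∈ _root_.Subgroup.closure ({I, J} : Set X)) :
    x = 1 ∨ x = w ∨ x * x = w := by
  have hI := wI h
  have hJ := wJ h
  have hIJ : (I * J) * (I * J) = w := by
    calc (I * J) * (I * J) = I * (J * I) * J := by group
      _ = (I * w) * I * (J * J) := by rw [h.ji]; group
      _ = w * (I * I) * (J * J) := by rw [hI]; group
      _ = w := by rw [h.ii, h.jj, hw, one_mul]
  have hc : ∀ a : X, a * w = w * a → (w * a) * (w * a) = a * a := by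
    intro a ha
    calc (w * a) * (w * a) = w * (a * w) * a := by group
      _ = (w * w) * a * a := by rw [ha]; group
      _ = a * a := by rw [hw, one_mul]
  rcases Q8.of_mem h hw hx with rfl | rfl | rfl | rfl | rfl | rfl | rfl | rfl
  · exact Or.inl rfl
  · exact Or.inr (Or.inl rfl)
  · exact Or.inr (Or.inr h.ii)
  · exact Or.inr (Or.inr ((hc _ hI).trans h.ii))
  · exact Or.inr (Or.inr h.jj)
  · exact Or.inr (Or.inr ((hc _ hJ).trans h.jj))
  · exact Or.inr (Or.inr hIJ)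
  · refine Or.inr (Or.inr ((hc _ ?_).trans hIJ))
    rw [mul_assoc, hJ, ← mul_assoc, hI, mul_assoc]

theorem norm_mem (h : Trip w I J E) {x : X} (hx : x ∈ _root_.Subgroup.closure ({I, J} : Set X)) :
    E * x * E⁻¹ ∈ closure ({I, J} : Set X) := by
  have hI : I ∈ _root_.Subgroup.closure ({I, J} : Set X) := _root_.Subgroup.subset_closure (by simp)
  have hJ : J ∈ _root_.Subgroup.closure ({I, J} : Set X) := _root_.Subgroup.subset_closure (by simp)
  have h1 : closure ({I, J} : Set X) ≤ (closure ({I, J} : Set X)).comap (MulAut.conj E).toMonoidHom := by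
    rw [closure_le]
    intro y hy
    have hy' : E * y * E⁻¹ ∈ closure ({I, J} : Set X) := by
      rcases hy with hy | hy
      · rw [hy, h.di]; exact hJ
      · rw [Set.mem_singleton_iff] at hy
        rw [hy, h.dj]; exact mul_mem hI hJ
    exact hy'
  exact h1 hx

/-- the quaternion group with its 3-element is an `Oct` -/
theorem oct (h : Trip w I J E) (hw : w * w = 1) : Oct (_root_.Subgroup.closure ({I, J} : Set X)) E w where
  pgrp := by
    intro x
    refine ⟨2, Subtype.ext ?_⟩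
    show (x : X) ^ 2 ^ 2 = 1
    have h4 : (x : X) ^ 2 ^ 2 = ((x : X) * x) * ((x : X) * x) := by
      rw [pow_succ 2 1, pow_one, pow_mul, pow_two, pow_two]
    rw [h4]
    rcases sq_of_mem h hw x.2 with h1 | h1 | h1
    · rw [h1]; simp
    · rw [h1, hw, one_mul]
    · rw [h1, hw]
  odd := by
    have h3 : E ^ 3 = 1 := by rw [pow_succ, pow_two]; exact h.d3
    exact Odd.of_dvd_nat (by decide : Odd 3) (orderOf_dvd_of_pow_eq_one h3)
  norm := fun a ha => norm_mem h ha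
  gen := by
    intro B hB
    have hI : I ∈ _root_.Subgroup.closure ({I, J} : Set X) := _root_.Subgroup.subset_closure (by simp)
    have hJ : J ∈ _root_.Subgroup.closure ({I, J} : Set X) := _root_.Subgroup.subset_closure (by simp)
    have h1 := hB I hI
    have h2 := hB J hJ
    rw [h.di] at h1
    rw [h.dj] at h2
    have h3 : I ∈ B := by
      have := inv_mem h2
      have e : (J * (I * J)⁻¹)⁻¹ = I := by group
      rwa [e] at this
    have h4 : J ∈ B := by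
      have := mul_mem (inv_mem h1) h3
      have e : (I * J⁻¹)⁻¹ * I = J := by group
      rwa [e] at this
    rw [closure_le]
    rintro y (rfl | hy)
    · exact h3
    · rw [Set.mem_singleton_iff] at hy
      rw [hy]; exact h4
  mem := by
    rw [← h.ii]
    exact mul_mem (_root_.Subgroup.subset_closure (by simp)) (_root_.Subgroup.subset_closure (by simp))
  min := by
    intro N hN _ hne
    obtain ⟨n, hn1'⟩ := (Subgroup.ne_bot_iff_exists_ne_one).1 hne
    have hn : (n : X) ∈ N := n.2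
    have hn1 : (n : X) ≠ 1 := fun h0 => hn1' (Subtype.ext h0)
    rcases sq_of_mem h hw (hN hn) with h1 | h1 | h1
    · exact absurd h1 hn1
    · exact h1 ▸ hn
    · exact h1 ▸ mul_mem hn hn

theorem closure_comm {a b c d : X} (h1 : a * c = c * a) (h2 : a * d = d * a) (h3 : b * c = c * b)
    (h4 : b * d = d * b) : ∀ x ∈ _root_.Subgroup.closure ({a, b} : Set X), ∀ y ∈ closure ({c, d} : Set X), x * y = y * x := by
  intro x hx y hy
  have h5 : _root_.Subgroup.closure ({c, d} : Set X) ≤ centralizer {a} := by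
    rw [closure_le]
    rintro z (rfl | hz)
    · show z ∈ centralizer {a}
      rw [mem_centralizer_singleton_iff]
      exact h1.symm
    · rw [Set.mem_singleton_iff] at hz
      subst hz
      show z ∈ centralizer {a}
      rw [mem_centralizer_singleton_iff]
      exact h2.symm
  have h6 : closure ({c, d} : Set X) ≤ centralizer {b} := by
    rw [closure_le]
    rintro z (rfl | hz)
    · show z ∈ centralizer {b}
      rw [mem_centralizer_singleton_iff]
      exact h3.symm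
    · rw [Set.mem_singleton_iff] at hz
      subst hz
      show z ∈ centralizer {b}
      rw [mem_centralizer_singleton_iff]
      exact h4.symm
  have h7 : closure ({a, b} : Set X) ≤ centralizer {y} := by
    rw [closure_le]
    rintro z (rfl | hz)
    · show z ∈ centralizer {y}
      rw [mem_centralizer_singleton_iff]
      exact (mem_centralizer_singleton_iff.1 (h5 hy)).symm
    · rw [Set.mem_singleton_iff] at hz
      subst hz
      show z ∈ centralizer {y}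
      rw [mem_centralizer_singleton_iff]
      exact (mem_centralizer_singleton_iff.1 (h6 hy)).symm
  exact mem_centralizer_singleton_iff.1 (h7 hx)

end Oct

section Cover

variable {X L : Type*} [Group X] [Group L]

/-- The two commuting `SL₂(3)`'s of `X` over those of `L`, and the centre of `X`. -/
structure Lifts (π : X →* L) (D : Core L) (z z₁ z₂ I₁ J₁ E₁ I₂ J₂ E₂ : X) : Prop where
  surj : Function.Surjective π
  ker : ∀ x, π x = 1 ↔ x = 1 ∨ x = z
  central : ∀ x, x * z = z * x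
  zz : z = z₁ * z₂
  z_ne : z ≠ 1
  sq₁ : z₁ * z₁ = 1
  sq₂ : z₂ * z₂ = 1
  trip₁ : Trip z₁ I₁ J₁ E₁
  trip₂ : Trip z₂ I₂ J₂ E₂
  pi_I₁ : π I₁ = D.i₁
  pi_J₁ : π J₁ = D.j₁
  pi_E₁ : π E₁ = D.d₁
  pi_I₂ : π I₂ = D.i₂
  pi_J₂ : π J₂ = D.j₂
  pi_E₂ : π E₂ = D.d₂
  comm : ∀ a ∈ ({I₁, J₁, E₁} : Set X), ∀ b ∈ ({I₂, J₂, E₂} : Set X), a * b = b * a

variable {π : X →* L} {D : Core L} {z z₁ z₂ I₁ J₁ E₁ I₂ J₂ E₂ : X}

namespace Lifts

theorem pi_z₁ (h : Lifts π D z z₁ z₂ I₁ J₁ E₁ I₂ J₂ E₂) : π z₁ = D.t := by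
  rw [← h.trip₁.ii, map_mul, h.pi_I₁, D.trip₁.ii]

theorem pi_z₂ (h : Lifts π D z z₁ z₂ I₁ J₁ E₁ I₂ J₂ E₂) : π z₂ = D.t := by
  rw [← h.trip₂.ii, map_mul, h.pi_I₂, D.trip₂.ii]

theorem pi_z (h : Lifts π D z z₁ z₂ I₁ J₁ E₁ I₂ J₂ E₂) : π z = 1 := (h.ker z).2 (Or.inr rfl)

theorem cII (h : Lifts π D z z₁ z₂ I₁ J₁ E₁ I₂ J₂ E₂) : I₁ * I₂ = I₂ * I₁ := h.comm _ (by simp) _ (by simp)

theorem z₁_ne (h : Lifts π D z z₁ z₂ I₁ J₁ E₁ I₂ J₂ E₂) : z₁ ≠ 1 := by
  intro h1
  apply D.t_ne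
  rw [← h.pi_z₁, h1, map_one]

theorem z₂_ne (h : Lifts π D z z₁ z₂ I₁ J₁ E₁ I₂ J₂ E₂) : z₂ ≠ 1 := by
  intro h1
  apply D.t_ne
  rw [← h.pi_z₂, h1, map_one]

theorem comm₁₂ (h : Lifts π D z z₁ z₂ I₁ J₁ E₁ I₂ J₂ E₂) : z₁ * z₂ = z₂ * z₁ := by
  rw [← h.trip₁.ii, ← h.trip₂.ii]
  have hc : Commute I₁ I₂ := h.cII
  exact ((hc.mul_left hc).mul_right (hc.mul_left hc)).eq

theorem z_sq (h : Lifts π D z z₁ z₂ I₁ J₁ E₁ I₂ J₂ E₂) : z * z = 1 := by
  rw [h.zz]
  calc z₁ * z₂ * (z₁ * z₂) = z₁ * (z₂ * z₁) * z₂ := by group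
    _ = (z₁ * z₁) * (z₂ * z₂) := by rw [← h.comm₁₂]; group
    _ = 1 := by rw [h.sq₁, h.sq₂, one_mul]

theorem z₁_ne_z (h : Lifts π D z z₁ z₂ I₁ J₁ E₁ I₂ J₂ E₂) : z₁ ≠ z := by
  intro h1
  apply D.t_ne
  rw [← h.pi_z₁, h1, h.pi_z]

theorem z₁_mul_z (h : Lifts π D z z₁ z₂ I₁ J₁ E₁ I₂ J₂ E₂) : z₁ * z = z₂ := by
  rw [h.zz, ← mul_assoc, h.sq₁, one_mul]

/-- two elements with the same image differ by `z` -/
theorem eq_or (h : Lifts π D z z₁ z₂ I₁ J₁ E₁ I₂ J₂ E₂) {a b : X} (hab : π a = π b) : a = b ∨ a = b * z := by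
  have h1 : π (b⁻¹ * a) = 1 := by rw [map_mul, map_inv, hab, inv_mul_cancel]
  rcases (h.ker _).1 h1 with h2 | h2
  · left
    rw [inv_mul_eq_one] at h2
    exact h2.symm
  · right
    rw [← h2]; group

/-- `z₁` and `z₂` are conjugate in `X` -/
theorem conj₁₂ (h : Lifts π D z z₁ z₂ I₁ J₁ E₁ I₂ J₂ E₂) : IsConj z₁ z₂ := by
  obtain ⟨w, hw⟩ := D.swap
  obtain ⟨W, rfl⟩ := h.surj w
  rw [isConj_iff]
  refine ⟨W, ?_⟩
  have h1 : π (W * I₁ * W⁻¹) = π I₂ := by rw [map_mul, map_mul, map_inv, h.pi_I₁, h.pi_I₂, hw]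
  have h2 : W * z₁ * W⁻¹ = (W * I₁ * W⁻¹) * (W * I₁ * W⁻¹) := by
    rw [← h.trip₁.ii]; group
  rw [h2]
  rcases h.eq_or h1 with h3 | h3
  · rw [h3, h.trip₂.ii]
  · rw [h3]
    calc I₂ * z * (I₂ * z) = I₂ * (z * I₂) * z := by group
      _ = I₂ * I₂ * (z * z) := by rw [← h.central]; group
      _ = z₂ := by rw [h.z_sq, mul_one, h.trip₂.ii]

theorem sq_II (h : Lifts π D z z₁ z₂ I₁ J₁ E₁ I₂ J₂ E₂) : (I₁ * I₂) * (I₁ * I₂) = z := by
  rw [h.zz, ← h.trip₁.ii, ← h.trip₂.ii]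
  calc I₁ * I₂ * (I₁ * I₂) = I₁ * (I₂ * I₁) * I₂ := by group
    _ = I₁ * I₁ * (I₂ * I₂) := by rw [← h.cII]; group

/-- `inv`: every involution of `X` other than `z` is conjugate to `z₁` -/
theorem inv (h : Lifts π D z z₁ z₂ I₁ J₁ E₁ I₂ J₂ E₂) (x : X) (hx : x * x = 1) (hx1 : x ≠ 1) (hxz : x ≠ z) :
    IsConj x z₁ := by
  have h1 : π x * π x = 1 := by rw [← map_mul, hx, map_one]
  have h2 : π x ≠ 1 := by
    intro h2
    rcases (h.ker x).1 h2 with h3 | h3
    · exact hx1 h3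
    · exact hxz h3
  rcases D.invol (π x) h1 h2 with h3 | h3
  · obtain ⟨g, hg⟩ := isConj_iff.1 h3
    obtain ⟨g, rfl⟩ := h.surj g
    have h4 : π x = π (g * z₁ * g⁻¹) := by rw [map_mul, map_mul, map_inv, h.pi_z₁, hg]
    rcases h.eq_or h4 with h5 | h5
    · exact (isConj_iff.2 ⟨g, h5.symm⟩ : IsConj z₁ x).symm
    · have h6 : x = g * z₂ * g⁻¹ := by
        rw [h5, ← h.z₁_mul_z]
        calc g * z₁ * g⁻¹ * z = g * z₁ * (g⁻¹ * z) := by group
          _ = g * (z₁ * z) * g⁻¹ := by rw [h.central g⁻¹]; group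
      have h7 : IsConj z₂ x := isConj_iff.2 ⟨g, h6.symm⟩
      exact h7.symm.trans h.conj₁₂.symm
  · exfalso
    obtain ⟨g, hg⟩ := isConj_iff.1 h3
    obtain ⟨g, rfl⟩ := h.surj g
    have h4 : π x = π (g * (I₁ * I₂) * g⁻¹) := by
      rw [map_mul, map_mul, map_mul, map_inv, h.pi_I₁, h.pi_I₂, hg]
    have h5 : (g * (I₁ * I₂) * g⁻¹) * (g * (I₁ * I₂) * g⁻¹) = z := by
      calc (g * (I₁ * I₂) * g⁻¹) * (g * (I₁ * I₂) * g⁻¹) = g * ((I₁ * I₂) * (I₁ * I₂)) * g⁻¹ := by group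
        _ = z := by rw [h.sq_II, h.central g]; group
    rcases h.eq_or h4 with h6 | h6
    · apply h.z_ne
      rw [← h5, ← h6, hx]
    · apply h.z_ne
      rw [← hx, h6]
      calc z = (g * (I₁ * I₂) * g⁻¹) * (g * (I₁ * I₂) * g⁻¹) := h5.symm
        _ = (g * (I₁ * I₂) * g⁻¹) * (g * (I₁ * I₂) * g⁻¹) * (z * z) := by rw [h.z_sq, mul_one]
        _ = (g * (I₁ * I₂) * g⁻¹) * ((g * (I₁ * I₂) * g⁻¹) * z) * z := by group
        _ = (g * (I₁ * I₂) * g⁻¹) * (z * (g * (I₁ * I₂) * g⁻¹)) * z := by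
          rw [h.central (g * (I₁ * I₂) * g⁻¹)]
        _ = (g * (I₁ * I₂) * g⁻¹ * z) * (g * (I₁ * I₂) * g⁻¹ * z) := by group

theorem z₁_comm_I₁ (h : Lifts π D z z₁ z₂ I₁ J₁ E₁ I₂ J₂ E₂) : I₁ * z₁ = z₁ * I₁ := wI h.trip₁

theorem z₁_comm_I₂ (h : Lifts π D z z₁ z₂ I₁ J₁ E₁ I₂ J₂ E₂) : I₂ * z₁ = z₁ * I₂ := by
  rw [← h.trip₁.ii, ← mul_assoc, ← h.cII, mul_assoc, ← h.cII, mul_assoc]

/-- `sqz` -/
theorem sqz (h : Lifts π D z z₁ z₂ I₁ J₁ E₁ I₂ J₂ E₂) : ∃ c, c * z₁ = z₁ * c ∧ c * c = z := by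
  refine ⟨I₁ * I₂, ?_, h.sq_II⟩
  rw [mul_assoc, h.z₁_comm_I₂, ← mul_assoc, h.z₁_comm_I₁, mul_assoc]

/-- `quat` -/
theorem quat (h : Lifts π D z z₁ z₂ I₁ J₁ E₁ I₂ J₂ E₂) :
    Oct (_root_.Subgroup.closure ({I₁, J₁} : Set X)) E₁ z₁ ∧ Oct (closure ({I₂, J₂} : Set X)) E₂ (z₁ * z) ∧
      ∀ a ∈ closure ({I₁, J₁} : Set X), ∀ b ∈ closure ({I₂, J₂} : Set X), a * b = b * a := by
  refine ⟨oct h.trip₁ h.sq₁, ?_, ?_⟩
  · rw [h.z₁_mul_z]
    exact oct h.trip₂ h.sq₂
  · exact closure_comm (h.comm _ (by simp) _ (by simp)) (h.comm _ (by simp) _ (by simp))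
      (h.comm _ (by simp) _ (by simp)) (h.comm _ (by simp) _ (by simp))

end Lifts

open Cfsg.Agent.GH.Cov.Lft Cfsg.Agent.GH.Cov.XOfCore in
/-- The lifts given by `XCore`. -/
theorem lifts_of_xcore (c : XCore D π) (h : CExt π) (hk : ∃ x, π x = 1 ∧ x ≠ 1)
    (hker : ∀ x, π x = 1 → x = 1 ∨ x = c.z₁ * c.z₂) :
    Lifts π D (c.z₁ * c.z₂) c.z₁ c.z₂ c.I₁ c.J₁ c.E₁ c.I₂ c.J₂ c.E₂ where
  surj := h.surj
  ker := by
    intro x
    refine ⟨hker x, ?_⟩
    rintro (rfl | rfl)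
    · exact map_one _
    · exact c.π_w
  central := fun x => (h.cen _ c.π_w x).symm
  zz := rfl
  z_ne := by
    intro h1
    obtain ⟨x, hx, hx1⟩ := hk
    rcases hker x hx with h2 | h2
    · exact hx1 h2
    · exact hx1 (h2.trans h1)
  sq₁ := c.sq₁
  sq₂ := c.sq₂
  trip₁ := c.trip₁
  trip₂ := c.trip₂
  pi_I₁ := c.π_I₁
  pi_J₁ := c.π_J₁
  pi_E₁ := c.π_E₁
  pi_I₂ := c.π_I₂
  pi_J₂ := c.π_J₂
  pi_E₂ := c.π_E₂
  comm := by
    rintro a ha b hb
    refine XCore.comm (D := D) h ?_ ?_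
    · rcases ha with rfl | rfl | ha
      · exact c.I₁_mem
      · exact c.J₁_mem
      · rw [Set.mem_singleton_iff] at ha
        rw [ha]; exact c.E₁_mem
    · rcases hb with rfl | rfl | hb
      · exact c.I₂_mem
      · exact c.J₂_mem
      · rw [Set.mem_singleton_iff] at hb
        rw [hb]; exact c.E₂_mem

end Cover

end Cfsg.Agent.GH.Cov.XLevel
end

-- part: GH/Cov/FrontX
section
/-!
# GH-COV: the front of (I.5), level `X = K / O(K)`

* `OctA`: the automorphism version of `I5.Oct`;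
* `Comps.noquat`: no two commuting `OctA` for `z` and `y z` in `C_X(y)`.
-/

set_option autoImplicit false

open Subgroup

namespace Cfsg.Agent.GH.Cov.FrontX

open Cfsg.Agent.GH.Cov.I5 (Oct)

section oct

variable {X : Type*} [Group X]

/-- `A` is a 2-group, `A = [A, α]`, every nontrivial normal subgroup of `A` contains `w`. -/
structure OctA (A : Subgroup X) (α : MulAut X) (w : X) : Prop where
  pgrp : IsPGroup 2 A
  norm : ∀ a ∈ A, α a ∈ A
  gen : ∀ B : Subgroup X, (∀ a ∈ A, a * (α a)⁻¹ ∈ B) → A ≤ B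
  mem : w ∈ A
  min : ∀ N : Subgroup X, N ≤ A → (∀ a ∈ A, ∀ n ∈ N, a * n * a⁻¹ ∈ N) → N ≠ ⊥ → w ∈ N

theorem OctA.of_oct {A : Subgroup X} {d w : X} (h : Oct A d w) : OctA A (MulAut.conj d) w where
  pgrp := h.pgrp
  norm := h.norm
  gen := h.gen
  mem := h.mem
  min := h.min

namespace OctA

variable {A : Subgroup X} {α : MulAut X} {w : X}

/-- A nontrivial subgroup of `A` centralised by `A` contains `w`. -/
theorem mem_of_central (h : OctA A α w) {N : Subgroup X} (hN : N ≤ A)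
    (hc : ∀ n ∈ N, ∀ a ∈ A, a * n = n * a) (hne : N ≠ ⊥) : w ∈ N := by
  apply h.min N hN _ hne
  intro a ha n hn
  rw [hc n hn a ha, mul_inv_cancel_right]
  exact hn

theorem central [Finite X] (h : OctA A α w) (hw : w ≠ 1) : ∀ a ∈ A, a * w = w * a := by
  have : Fact (Nat.Prime 2) := ⟨Nat.prime_two⟩
  have : Nontrivial A := ⟨⟨w, h.mem⟩, 1, fun e => hw (congrArg Subtype.val e)⟩
  have hc := h.pgrp.center_nontrivial
  have h1 : w ∈ (center A).map A.subtype := by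
    apply h.mem_of_central
    · rintro _ ⟨x, -, rfl⟩; exact x.2
    · rintro _ ⟨x, hx, rfl⟩ a ha
      have := mem_center_iff.1 hx ⟨a, ha⟩
      exact congrArg Subtype.val this
    · intro h0
      obtain ⟨x, hx⟩ := exists_ne (1 : center A)
      apply hx
      have : (x : A).1 ∈ (center A).map A.subtype := ⟨x, x.2, rfl⟩
      rw [h0, mem_bot] at this
      exact Subtype.ext (Subtype.ext this)
  obtain ⟨x, hx, hxw⟩ := h1
  intro a ha
  have := mem_center_iff.1 hx ⟨a, ha⟩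
  rw [← hxw]
  exact congrArg Subtype.val this

theorem eq_of_central [Finite X] (h : OctA A α w) (hw : w ≠ 1) {u : X} (hu : u ∈ A)
    (hc : ∀ a ∈ A, a * u = u * a) (hu2 : u * u = 1) (hu1 : u ≠ 1) : w = u := by
  have h1 : w ∈ zpowers u := by
    apply h.mem_of_central
    · rw [zpowers_le]; exact hu
    · rintro _ ⟨i, rfl⟩ a ha
      exact ((show Commute a u from hc a ha).zpow_right i).eq
    · intro h0
      exact hu1 (by have := mem_zpowers u; rw [h0, mem_bot] at this; exact this)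
  obtain ⟨i, hi⟩ := h1
  have hi : u ^ i = w := hi
  rcases Int.even_or_odd i with ⟨k, hk⟩ | ⟨k, hk⟩
  · exfalso
    apply hw
    rw [← hi, hk, ← two_mul, zpow_mul, zpow_two, hu2, one_zpow]
  · rw [← hi, hk, zpow_add, zpow_mul, zpow_two, hu2, one_zpow, one_mul, zpow_one]

theorem sq [Finite X] (h : OctA A α w) (hw : w ≠ 1) : w * w = 1 := by
  obtain ⟨n, hn⟩ := h.pgrp ⟨w, h.mem⟩
  have hn : w ^ 2 ^ n = 1 := congrArg Subtype.val hn
  obtain ⟨k, hk⟩ := (Nat.dvd_prime_pow Nat.prime_two).1 (orderOf_dvd_of_pow_eq_one hn)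
  obtain ⟨hk1, hk⟩ := hk
  have hk0 : k ≠ 0 := by
    rintro rfl
    exact hw (orderOf_eq_one_iff.1 hk)
  obtain ⟨m, rfl⟩ := Nat.exists_eq_succ_of_ne_zero hk0
  set u := w ^ 2 ^ m with hu
  have hu2 : u * u = 1 := by
    rw [hu, ← pow_add, ← two_mul, ← pow_succ']
    exact orderOf_dvd_iff_pow_eq_one.1 (by rw [hk])
  have hu1 : u ≠ 1 := by
    intro h0
    have := orderOf_dvd_iff_pow_eq_one.2 (show w ^ 2 ^ m = 1 from h0)
    rw [hk] at this
    have h3 := Nat.le_of_dvd (by positivity) this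
    rw [pow_succ] at h3
    have : 0 < 2 ^ m := by positivity
    omega
  have := h.eq_of_central hw (A.pow_mem h.mem _)
    (fun a ha => ((show Commute a w from h.central hw a ha).pow_right _).eq) hu2 hu1
  rw [this]
  exact hu2

theorem inv_norm [Finite X] (h : OctA A α w) : ∀ a ∈ A, α⁻¹ a ∈ A := by
  intro a ha
  have h1 : A.map (α : X ≃* X).toMonoidHom = A := by
    apply eq_of_le_of_card_ge
    · rintro _ ⟨b, hb, rfl⟩
      exact h.norm b hb
    · rw [card_map_of_injective (α : X ≃* X).injective]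
  rw [← h1] at ha
  obtain ⟨b, hb, rfl⟩ := ha
  have : α⁻¹ ((α : X ≃* X).toMonoidHom b) = b := MulAut.inv_apply_self X α b
  rw [this]
  exact hb

theorem fixed [Finite X] (h : OctA A α w) (hw : w ≠ 1) : α w = w := by
  symm
  apply h.eq_of_central hw (h.norm w h.mem)
  · intro a ha
    have h1 := h.central hw _ (h.inv_norm a ha)
    have h2 := congrArg α h1
    rw [map_mul, map_mul, MulAut.apply_inv_self] at h2
    exact h2
  · rw [← map_mul, h.sq hw, map_one]
  · intro h0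
    exact hw (by rw [← map_one α] at h0; exact α.injective h0)

/-- `A` is not commutative. -/
theorem not_comm [Finite X] (h : OctA A α w) (hw : w ≠ 1) : ¬ ∀ u ∈ A, ∀ v ∈ A, u * v = v * u := by
  intro hc
  let f : A →* A :=
    { toFun := fun a => ⟨a * (α a)⁻¹, A.mul_mem a.2 (A.inv_mem (h.norm a a.2))⟩
      map_one' := by
        apply Subtype.ext
        show (1 : X) * (α (1 : X))⁻¹ = 1
        rw [map_one, inv_one, mul_one]
      map_mul' := by
        intro a b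
        apply Subtype.ext
        show (a : X) * b * (α (a * b : X))⁻¹ = a * (α (a : X))⁻¹ * (b * (α (b : X))⁻¹)
        rw [map_mul, mul_inv_rev]
        have h1 := hc _ b.2 _ (A.inv_mem (h.norm a a.2))
        have h2 := hc _ (A.inv_mem (h.norm a a.2)) _ (A.inv_mem (h.norm b b.2))
        calc (a : X) * b * ((α (b : X))⁻¹ * (α (a : X))⁻¹)
            = a * (b * ((α (b : X))⁻¹ * (α (a : X))⁻¹)) := by group
          _ = a * (b * ((α (a : X))⁻¹ * (α (b : X))⁻¹)) := by rw [h2]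
          _ = a * ((b * (α (a : X))⁻¹) * (α (b : X))⁻¹) := by group
          _ = a * (((α (a : X))⁻¹ * b) * (α (b : X))⁻¹) := by rw [h1]
          _ = a * (α (a : X))⁻¹ * (b * (α (b : X))⁻¹) := by group }
  have hsurj : Function.Surjective f := by
    have h1 : A ≤ f.range.map A.subtype := by
      apply h.gen
      intro a ha
      exact ⟨f ⟨a, ha⟩, ⟨⟨a, ha⟩, rfl⟩, rfl⟩
    rintro ⟨a, ha⟩
    obtain ⟨b, ⟨c, hc⟩, hb⟩ := h1 ha
    exact ⟨c, Subtype.ext (by rw [hc]; exact hb)⟩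
  have hinj : Function.Injective f := Finite.injective_iff_surjective.2 hsurj
  have h2 : f ⟨w, h.mem⟩ = f 1 := by
    rw [map_one]
    apply Subtype.ext
    show w * (α w)⁻¹ = 1
    rw [h.fixed hw, mul_inv_cancel]
  exact hw (congrArg Subtype.val (hinj h2))

end OctA

end oct

section comps

theorem eq_of_card_le_two {W : Type*} [Group W] [Finite W] {B : Subgroup W} (h5 : Nat.card B ≤ 2) :
    ∀ u ∈ B, ∀ v ∈ B, u ≠ 1 → v ≠ 1 → u = v := by
  intro u hu v hv hu1 hv1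
  by_contra hne
  have : Finite B := inferInstance
  have h7 : Nat.card (Fin 3) ≤ Nat.card B := by
    apply Nat.card_le_card_of_injective (fun i : Fin 3 => (![⟨1, B.one_mem⟩, ⟨u, hu⟩, ⟨v, hv⟩] i : B))
    intro i j hij
    fin_cases i <;> fin_cases j <;> simp_all only [_root_.ne_eq, _root_.Nat.succ_eq_add_one, _root_.Nat.reduceAdd, _root_.Fin.zero_eta, _root_.Fin.isValue, _root_.Matrix.cons_val_zero, _root_.Fin.mk_one, _root_.Matrix.cons_val_one, _root_.Subtype.mk.injEq, _root_.zero_ne_one, _root_.not_true_eq_false, _root_.Fin.reduceFinMk, _root_.Matrix.cons_val, _root_.Fin.reduceEq, _root_.not_false_eq_true]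
  rw [Nat.card_eq_fintype_card, Fintype.card_fin] at h7
  omega

/-- A group of order not divisible by 4: the subgroup generated by the elements of odd order has odd order. -/
theorem eq_one_of_mem_closure {W : Type*} [Group W] [Finite W] (h4 : ¬ 4 ∣ Nat.card W) {x : W}
    (hx : x ∈ _root_.Subgroup.closure {g : W | Odd (orderOf g)}) {n : ℕ} (hn : x ^ 2 ^ n = 1) : x = 1 := by
  classical
  have : Fact (Nat.Prime 2) := ⟨Nat.prime_two⟩
  obtain ⟨P⟩ : Nonempty (Sylow 2 W) := inferInstance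
  obtain ⟨k, hk⟩ := IsPGroup.iff_card.1 P.2
  have hk1 : k ≤ 1 := by
    by_contra hcon
    apply h4
    refine dvd_trans ?_ (P : Subgroup W).card_subgroup_dvd_card
    rw [hk]
    exact pow_dvd_pow 2 (by omega : 2 ≤ k)
  have hP : (normalizer ((P : Subgroup W) : Set W)) ≤ centralizer ((P : Subgroup W) : Set W) := by
    intro g hg p hp
    have hcard : Nat.card (P : Subgroup W) ≤ 2 := by
      rw [hk]
      calc 2 ^ k ≤ 2 ^ 1 := Nat.pow_le_pow_right (by norm_num) hk1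
        _ = 2 := by norm_num
    have h1 := (mem_normalizer_iff.1 hg p).1 hp
    by_cases hp1 : p = 1
    · rw [hp1]; group
    · have h2 : g * p * g⁻¹ = p := by
        by_contra hne
        have h7 : Nat.card (Fin 3) ≤ Nat.card (P : Subgroup W) := by
          have hgp : g * p * g⁻¹ ≠ 1 := fun h0 => hp1 (by
            calc p = g⁻¹ * (g * p * g⁻¹) * g := by group
              _ = 1 := by rw [h0]; group)
          apply Nat.card_le_card_of_injective
            (fun i : Fin 3 => (![1, ⟨p, hp⟩, ⟨g * p * g⁻¹, h1⟩] i : (P : Subgroup W)))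
          intro i j hij
          have hne' : ¬ p = g * p * g⁻¹ := fun e => hne e.symm
          have hp1' : ¬ 1 = p := fun e => hp1 e.symm
          have hgp' : ¬ 1 = g * p * g⁻¹ := fun e => hgp e.symm
          fin_cases i <;> fin_cases j <;> simp_all only [Subtype.ext_iff, _root_.Sylow.coe_coe, _root_.ne_eq, _root_.conj_eq_one_iff, _root_.not_false_eq_true, _root_.Nat.succ_eq_add_one, _root_.Nat.reduceAdd, _root_.Fin.zero_eta, _root_.Fin.isValue, _root_.Matrix.cons_val_zero, _root_.Fin.mk_one, _root_.Matrix.cons_val_one, _root_.OneMemClass.coe_one, _root_.Fin.reduceFinMk, _root_.Matrix.cons_val]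
        rw [Nat.card_eq_fintype_card, Fintype.card_fin] at h7
        omega
      calc p * g = (g * p * g⁻¹) * g := by rw [h2]
        _ = g * p := by group
  let T : W →* (P : Subgroup W) := MonoidHom.transferSylow P hP
  have hT : ¬ 2 ∣ Nat.card T.ker := MonoidHom.not_dvd_card_ker_transferSylow P hP
  have h1 : _root_.Subgroup.closure {g : W | Odd (orderOf g)} ≤ T.ker := by
    rw [closure_le]
    intro g hg
    rw [SetLike.mem_coe, MonoidHom.mem_ker]
    have e1 : orderOf (T g) ∣ orderOf g := orderOf_map_dvd T g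
    have e2 : orderOf (T g) ∣ 2 ^ k := by
      rw [← hk]; exact _root_.orderOf_dvd_natCard _
    have e3 : Nat.Coprime (2 ^ k) (orderOf g) := Nat.Coprime.pow_left k (Nat.coprime_two_left.2 hg)
    exact orderOf_eq_one_iff.1 (Nat.eq_one_of_dvd_coprimes e3 e2 e1)
  have h2 := h1 hx
  have e1 : orderOf x ∣ Nat.card T.ker := by
    have := _root_.orderOf_dvd_natCard (⟨x, h2⟩ : T.ker)
    rwa [Subgroup.orderOf_mk] at this
  have e2 : orderOf x ∣ 2 ^ n := orderOf_dvd_of_pow_eq_one hn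
  have e3 : Nat.Coprime (2 ^ n) (Nat.card T.ker) := by
    apply Nat.Coprime.pow_left
    rwa [Nat.Prime.coprime_iff_not_dvd Nat.prime_two]
  exact orderOf_eq_one_iff.1 (Nat.eq_one_of_dvd_coprimes e3 e2 e1)

variable {X : Type*} [Group X]

/-- The facts about `A₁`, `A₂` (two commuting `SL₂(q)` in `C_X(y)`). -/
structure Comps (z y : X) (A₁ A₂ : Subgroup X) : Prop where
  comm : ∀ a ∈ A₁, ∀ b ∈ A₂, a * b = b * a
  disj : A₁ ⊓ A₂ = ⊥
  z_notin : z ∉ A₁
  yz_notin : y * z ∉ A₁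
  le₁ : ∀ a ∈ A₁, a * y = y * a
  le₂ : ∀ a ∈ A₂, a * y = y * a
  norm : ∀ c, c * y = y * c → ∀ a ∈ A₁ ⊔ A₂, c * a * c⁻¹ ∈ A₁ ⊔ A₂
  idx : ¬ 4 ∣ (A₁ ⊔ A₂).relIndex (centralizer ({y} : Set X))
  gen₁ : A₁ ≤ _root_.Subgroup.closure {x | x ∈ A₁ ∧ Odd (orderOf x)}
  gen₂ : A₂ ≤ closure {x | x ∈ A₂ ∧ Odd (orderOf x)}
  cent : ∀ u ∈ A₂, u * u ≠ 1 → ∀ a ∈ A₂, ∀ b ∈ A₂, a * u = u * a → b * u = u * b → a * b = b * a

namespace Comps

variable {z y : X} {A₁ A₂ : Subgroup X}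

theorem decomp (h : Comps z y A₁ A₂) {x : X} (hx : x ∈ A₁ ⊔ A₂) : ∃ a ∈ A₁, ∃ b ∈ A₂, x = a * b := by
  have h1 : A₁ ≤ normalizer (A₂ : Set X) := by
    intro a ha
    rw [mem_normalizer_iff]
    intro b
    constructor
    · intro hb
      rw [h.comm a ha b hb, mul_inv_cancel_right]; exact hb
    · intro hb
      have := h.comm a ha _ hb
      have e : b = a * b * a⁻¹ := by
        calc b = a⁻¹ * (a * b * a⁻¹) * a := by group
          _ = a⁻¹ * ((a * b * a⁻¹) * a) := by group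
          _ = a⁻¹ * (a * (a * b * a⁻¹)) := by rw [this]
          _ = a * b * a⁻¹ := by group
      rw [e]; exact hb
  have h2 : x ∈ ((A₁ ⊔ A₂ : Subgroup X) : Set X) := hx
  rw [Subgroup.coe_mul_of_left_le_normalizer_right A₁ A₂ h1] at h2
  obtain ⟨a, ha, b, hb, e⟩ := h2
  exact ⟨a, ha, b, hb, e.symm⟩

/-- `A = [A, α] ≤ C(y)` is contained in `A₁ A₂`. -/
theorem le_sup [Finite X] (h : Comps z y A₁ A₂) {A : Subgroup X} {α : MulAut X} (hA : IsPGroup 2 A)
    (hgen : ∀ B : Subgroup X, (∀ a ∈ A, a * (α a)⁻¹ ∈ B) → A ≤ B) (hAα : ∀ a ∈ A, α a ∈ A)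
    (hAy : ∀ a ∈ A, a * y = y * a) (hαy : α y = y) : A ≤ A₁ ⊔ A₂ := by
  classical
  set D : Subgroup X := centralizer ({y} : Set X) with hD
  have hDmem : ∀ x, x ∈ D ↔ x * y = y * x := fun x => mem_centralizer_singleton_iff
  set S : Set X := {x | x ∈ D ∧ Odd (orderOf x)} with hS
  set M : Subgroup X := _root_.Subgroup.closure S with hM
  have hA1 : A₁ ≤ M := h.gen₁.trans (closure_mono (fun x hx => ⟨(hDmem x).2 (h.le₁ x hx.1), hx.2⟩))
  have hA2 : A₂ ≤ M := h.gen₂.trans (closure_mono (fun x hx => ⟨(hDmem x).2 (h.le₂ x hx.1), hx.2⟩))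
  have hNM : A₁ ⊔ A₂ ≤ M := sup_le hA1 hA2
  have hMD : M ≤ D := by
    rw [hM, closure_le]
    exact fun x hx => hx.1
  have hMn : ∀ c ∈ D, ∀ x ∈ M, c * x * c⁻¹ ∈ M := by
    intro c hc x hx
    have h1 : M ≤ M.comap (MulAut.conj c).toMonoidHom := by
      rw [hM, closure_le]
      intro s hs
      apply Subgroup.subset_closure
      refine ⟨D.mul_mem (D.mul_mem hc hs.1) (D.inv_mem hc), ?_⟩
      have := orderOf_injective (MulAut.conj c).toMonoidHom (MulAut.conj c).injective s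
      show Odd (orderOf ((MulAut.conj c).toMonoidHom s))
      rw [this]; exact hs.2
    exact h1 hx
  have hMα : ∀ x ∈ M, α x ∈ M := by
    have h1 : M ≤ M.comap (α : X ≃* X).toMonoidHom := by
      rw [hM, closure_le]
      intro s hs
      apply Subgroup.subset_closure
      refine ⟨?_, ?_⟩
      · rw [hDmem]
        show α s * y = y * α s
        rw [← hαy, ← map_mul, ← map_mul, (hDmem s).1 hs.1]
      · have := orderOf_injective (α : X ≃* X).toMonoidHom (α : X ≃* X).injective s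
        rw [this]; exact hs.2
    exact fun x hx => h1 hx
  have hMα' : ∀ x, α x ∈ M → x ∈ M := by
    have h1 : M.map (α : X ≃* X).toMonoidHom = M := by
      apply eq_of_le_of_card_ge
      · rintro _ ⟨b, hb, rfl⟩
        exact hMα b hb
      · rw [card_map_of_injective (α : X ≃* X).injective]
    intro x hx
    rw [← h1] at hx
    obtain ⟨b, hb, hbx⟩ := hx
    have : b = x := α.injective hbx
    rw [← this]; exact hb
  have hAD : A ≤ D := fun a ha => (hDmem a).2 (hAy a ha)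
  -- `A ≤ M`
  have hAM : A ≤ M := by
    have hMN : (M.subgroupOf D).Normal := by
      constructor
      intro x hx g
      rw [mem_subgroupOf] at hx ⊢
      exact hMn _ g.2 _ hx
    apply hgen
    intro a ha
    set W := D ⧸ M.subgroupOf D
    have hcard : Nat.card W = M.relIndex D := rfl
    let π := QuotientGroup.mk' (M.subgroupOf D)
    have hπ : ∀ x : D, π x = 1 ↔ (x : X) ∈ M := fun x => by
      rw [← mem_subgroupOf]
      exact QuotientGroup.eq_one_iff _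
    set B : Subgroup W := (A.subgroupOf D).map π with hB
    have hBp : IsPGroup 2 B := by
      apply IsPGroup.map
      exact hA.comap_of_injective D.subtype D.subtype_injective
    obtain ⟨m, hm⟩ := IsPGroup.iff_card.1 hBp
    have h3 : Nat.card B ∣ Nat.card W := B.card_subgroup_dvd_card
    have h4 : m ≤ 1 := by
      by_contra hcon
      apply h.idx
      have e1 : M.relIndex D ∣ (A₁ ⊔ A₂).relIndex D := by
        rw [← relIndex_mul_relIndex (A₁ ⊔ A₂) M D hNM hMD]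
        exact dvd_mul_left _ _
      refine dvd_trans ?_ e1
      rw [← hcard]
      refine dvd_trans ?_ h3
      rw [hm]
      exact pow_dvd_pow 2 (by omega : 2 ≤ m)
    have h5 : Nat.card B ≤ 2 := by
      rw [hm]
      calc 2 ^ m ≤ 2 ^ 1 := Nat.pow_le_pow_right (by norm_num) h4
        _ = 2 := by norm_num
    have hmemB : ∀ x (hx : x ∈ A), π ⟨x, hAD hx⟩ ∈ B := by
      intro x hx
      exact ⟨⟨x, hAD hx⟩, hx, rfl⟩
    have h6 := eq_of_card_le_two h5
    have h7 : π ⟨a, hAD ha⟩ = π ⟨α a, hAD (hAα a ha)⟩ := by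
      by_cases ha1 : π ⟨a, hAD ha⟩ = 1
      · rw [ha1, eq_comm, hπ]
        exact hMα a ((hπ _).1 ha1)
      · apply h6 _ (hmemB a ha) _ (hmemB _ (hAα a ha)) ha1
        intro h0
        exact ha1 ((hπ _).2 (hMα' a ((hπ _).1 h0)))
    have h8 : π (⟨a, hAD ha⟩ * ⟨α a, hAD (hAα a ha)⟩⁻¹) = 1 := by
      rw [map_mul, map_inv, h7, mul_inv_cancel]
    exact (hπ _).1 h8
  -- `M / A₁A₂` has odd order
  have hNn : ((A₁ ⊔ A₂).subgroupOf D).Normal := by
    constructor
    intro x hx g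
    rw [mem_subgroupOf] at hx ⊢
    exact h.norm _ ((hDmem _).1 g.2) _ hx
  intro a ha
  let π := QuotientGroup.mk' ((A₁ ⊔ A₂).subgroupOf D)
  have hπ : ∀ x : D, π x = 1 ↔ (x : X) ∈ A₁ ⊔ A₂ := fun x => by
    rw [← mem_subgroupOf]
    exact QuotientGroup.eq_one_iff _
  obtain ⟨n, hn⟩ := hA ⟨a, ha⟩
  have hn : a ^ 2 ^ n = 1 := congrArg Subtype.val hn
  have key : π ⟨a, hAD ha⟩ = 1 := by
    refine eq_one_of_mem_closure (W := D ⧸ (A₁ ⊔ A₂).subgroupOf D) h.idx (n := n) ?_ ?_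
    · have h1 : M ≤ ((Subgroup.closure {g : D ⧸ (A₁ ⊔ A₂).subgroupOf D | Odd (orderOf g)}).comap π).map D.subtype := by
        rw [hM, closure_le]
        intro s hs
        refine ⟨⟨s, hs.1⟩, ?_, rfl⟩
        refine Subgroup.subset_closure ?_
        show Odd (orderOf _)
        refine hs.2.of_dvd_nat ?_
        refine (orderOf_map_dvd π _).trans ?_
        rw [Subgroup.orderOf_mk]
      obtain ⟨s, hs, hsa⟩ := h1 (hAM ha)
      have : s = ⟨a, hAD ha⟩ := Subtype.ext hsa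
      rw [← this]; exact hs
    · rw [← map_pow]
      have : (⟨a, hAD ha⟩ : D) ^ 2 ^ n = 1 := Subtype.ext hn
      rw [this, map_one]
  exact (hπ _).1 key

/-- Commuting elements of `A₁ A₂`. -/
theorem comm_parts (h : Comps z y A₁ A₂) {a₁ a₂ b₁ b₂ : X} (ha₁ : a₁ ∈ A₁) (ha₂ : a₂ ∈ A₂) (hb₁ : b₁ ∈ A₁)
    (hb₂ : b₂ ∈ A₂) (e : a₁ * a₂ * (b₁ * b₂) = b₁ * b₂ * (a₁ * a₂)) : a₂ * b₂ = b₂ * a₂ := by
  have e1 : a₁ * b₁ * (a₂ * b₂) = b₁ * a₁ * (b₂ * a₂) := by
    calc a₁ * b₁ * (a₂ * b₂) = a₁ * (b₁ * a₂) * b₂ := by group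
      _ = a₁ * (a₂ * b₁) * b₂ := by rw [h.comm b₁ hb₁ a₂ ha₂]
      _ = a₁ * a₂ * (b₁ * b₂) := by group
      _ = b₁ * b₂ * (a₁ * a₂) := e
      _ = b₁ * (b₂ * a₁) * a₂ := by group
      _ = b₁ * (a₁ * b₂) * a₂ := by rw [h.comm a₁ ha₁ b₂ hb₂]
      _ = b₁ * a₁ * (b₂ * a₂) := by group
  have e2 : (b₁ * a₁)⁻¹ * (a₁ * b₁) = b₂ * a₂ * (a₂ * b₂)⁻¹ := by
    calc (b₁ * a₁)⁻¹ * (a₁ * b₁) = (b₁ * a₁)⁻¹ * (a₁ * b₁ * (a₂ * b₂)) * (a₂ * b₂)⁻¹ := by group
      _ = b₂ * a₂ * (a₂ * b₂)⁻¹ := by rw [e1]; group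
  have e3 : b₂ * a₂ * (a₂ * b₂)⁻¹ ∈ A₁ ⊓ A₂ := by
    refine ⟨?_, A₂.mul_mem (A₂.mul_mem hb₂ ha₂) (A₂.inv_mem (A₂.mul_mem ha₂ hb₂))⟩
    rw [← e2]
    exact A₁.mul_mem (A₁.inv_mem (A₁.mul_mem hb₁ ha₁)) (A₁.mul_mem ha₁ hb₁)
  rw [h.disj, mem_bot, mul_inv_eq_one] at e3
  exact e3.symm

/-- If the second parts commute and `A` meets `A₁` trivially, then the elements commute. -/
theorem comm_of_parts (h : Comps z y A₁ A₂) {A : Subgroup X} (hA : A ⊓ A₁ = ⊥) {a₁ a₂ b₁ b₂ : X} (ha₁ : a₁ ∈ A₁)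
    (ha₂ : a₂ ∈ A₂) (hb₁ : b₁ ∈ A₁) (hb₂ : b₂ ∈ A₂) (ha : a₁ * a₂ ∈ A) (hb : b₁ * b₂ ∈ A)
    (e : a₂ * b₂ = b₂ * a₂) : a₁ * a₂ * (b₁ * b₂) = b₁ * b₂ * (a₁ * a₂) := by
  have e1 : a₁ * a₂ * (b₁ * b₂) = a₁ * b₁ * (a₂ * b₂) := by
    calc a₁ * a₂ * (b₁ * b₂) = a₁ * (a₂ * b₁) * b₂ := by group
      _ = a₁ * (b₁ * a₂) * b₂ := by rw [h.comm b₁ hb₁ a₂ ha₂]
      _ = a₁ * b₁ * (a₂ * b₂) := by group
  have e2 : b₁ * b₂ * (a₁ * a₂) = b₁ * a₁ * (b₂ * a₂) := by
    calc b₁ * b₂ * (a₁ * a₂) = b₁ * (b₂ * a₁) * a₂ := by group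
      _ = b₁ * (a₁ * b₂) * a₂ := by rw [h.comm a₁ ha₁ b₂ hb₂]
      _ = b₁ * a₁ * (b₂ * a₂) := by group
  have e3 : a₁ * a₂ * (b₁ * b₂) * (b₁ * b₂ * (a₁ * a₂))⁻¹ ∈ A ⊓ A₁ := by
    refine ⟨A.mul_mem (A.mul_mem ha hb) (A.inv_mem (A.mul_mem hb ha)), ?_⟩
    rw [e1, e2, e]
    have : a₁ * b₁ * (b₂ * a₂) * (b₁ * a₁ * (b₂ * a₂))⁻¹ = a₁ * b₁ * (b₁ * a₁)⁻¹ := by group
    rw [this]
    exact A₁.mul_mem (A₁.mul_mem ha₁ hb₁) (A₁.inv_mem (A₁.mul_mem hb₁ ha₁))
  rw [hA, mem_bot, mul_inv_eq_one] at e3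
  exact e3

theorem inf_eq_bot (h : Comps z y A₁ A₂) {A : Subgroup X} {α : MulAut X} {w : X} (hA : OctA A α w)
    (hAN : A ≤ A₁ ⊔ A₂) (hw : w ∉ A₁) : A ⊓ A₁ = ⊥ := by
  by_contra hne
  apply hw
  refine (hA.min (A ⊓ A₁) inf_le_left ?_ hne).2
  rintro a ha n ⟨hn, hn1⟩
  refine ⟨A.mul_mem (A.mul_mem ha hn) (A.inv_mem ha), ?_⟩
  obtain ⟨a₁, ha₁, a₂, ha₂, rfl⟩ := h.decomp (hAN ha)
  have e : a₁ * a₂ * n * (a₁ * a₂)⁻¹ = a₁ * n * a₁⁻¹ := by
    calc a₁ * a₂ * n * (a₁ * a₂)⁻¹ = a₁ * (a₂ * n) * a₂⁻¹ * a₁⁻¹ := by group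
      _ = a₁ * (n * a₂) * a₂⁻¹ * a₁⁻¹ := by rw [h.comm n hn1 a₂ ha₂]
      _ = a₁ * n * a₁⁻¹ := by group
  rw [e]
  exact A₁.mul_mem (A₁.mul_mem ha₁ hn1) (A₁.inv_mem ha₁)

/-- **noquat at the level of `X`.** -/
theorem noquat [Finite X] (h : Comps z y A₁ A₂) (hz : z ≠ 1) (hyz : y * z ≠ 1) {A B : Subgroup X}
    {α β : MulAut X} (hA : OctA A α z) (hB : OctA B β (y * z)) (hAB : ∀ a ∈ A, ∀ b ∈ B, a * b = b * a)
    (hAy : ∀ a ∈ A, a * y = y * a) (hBy : ∀ b ∈ B, b * y = y * b) (hαy : α y = y) (hβy : β y = y) : False := by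
  have hAN := h.le_sup hA.pgrp hA.gen hA.norm hAy hαy
  have hBN := h.le_sup hB.pgrp hB.gen hB.norm hBy hβy
  have hA1 := h.inf_eq_bot hA hAN h.z_notin
  have hB1 := h.inf_eq_bot hB hBN h.yz_notin
  by_cases hcase : ∃ b₁ ∈ A₁, ∃ b₂ ∈ A₂, b₁ * b₂ ∈ B ∧ b₂ * b₂ ≠ 1
  · obtain ⟨b₁, hb₁, b₂, hb₂, hb, hc⟩ := hcase
    apply hA.not_comm hz
    intro u hu v hv
    obtain ⟨u₁, hu₁, u₂, hu₂, rfl⟩ := h.decomp (hAN hu)
    obtain ⟨v₁, hv₁, v₂, hv₂, rfl⟩ := h.decomp (hAN hv)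
    apply h.comm_of_parts hA1 hu₁ hu₂ hv₁ hv₂ hu hv
    apply h.cent b₂ hb₂ hc u₂ hu₂ v₂ hv₂
    · exact h.comm_parts hu₁ hu₂ hb₁ hb₂ (hAB _ hu _ hb)
    · exact h.comm_parts hv₁ hv₂ hb₁ hb₂ (hAB _ hv _ hb)
  · apply hB.not_comm hyz
    intro u hu v hv
    obtain ⟨u₁, hu₁, u₂, hu₂, rfl⟩ := h.decomp (hBN hu)
    obtain ⟨v₁, hv₁, v₂, hv₂, rfl⟩ := h.decomp (hBN hv)
    apply h.comm_of_parts hB1 hu₁ hu₂ hv₁ hv₂ hu hv
    have key : ∀ b₁ ∈ A₁, ∀ b₂ ∈ A₂, b₁ * b₂ ∈ B → b₂ * b₂ = 1 := by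
      intro b₁ hb₁ b₂ hb₂ hb
      by_contra hne
      exact hcase ⟨b₁, hb₁, b₂, hb₂, hb, hne⟩
    have k1 := key u₁ hu₁ u₂ hu₂ hu
    have k2 := key v₁ hv₁ v₂ hv₂ hv
    have k3 := key (u₁ * v₁) (A₁.mul_mem hu₁ hv₁) (u₂ * v₂) (A₂.mul_mem hu₂ hv₂) (by
      have e : u₁ * v₁ * (u₂ * v₂) = u₁ * u₂ * (v₁ * v₂) := by
        calc u₁ * v₁ * (u₂ * v₂) = u₁ * (v₁ * u₂) * v₂ := by group
          _ = u₁ * (u₂ * v₁) * v₂ := by rw [h.comm v₁ hv₁ u₂ hu₂]
          _ = u₁ * u₂ * (v₁ * v₂) := by group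
      rw [e]; exact B.mul_mem hu hv)
    have i1 : u₂⁻¹ = u₂ := inv_eq_of_mul_eq_one_left k1
    have i2 : v₂⁻¹ = v₂ := inv_eq_of_mul_eq_one_left k2
    have i3 : (u₂ * v₂)⁻¹ = u₂ * v₂ := inv_eq_of_mul_eq_one_left k3
    rw [mul_inv_rev, i1, i2] at i3
    exact i3.symm

end Comps

end comps

section xdata

variable {X : Type*} [Group X]

/-- The facts about `X = K / O(K)` (with `Z(X) = ⟨z⟩`). -/
structure XData (z y : X) : Prop where
  z_ne : z ≠ 1
  z_sq : z * z = 1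
  y_ne : y ≠ 1
  y_sq : y * y = 1
  y_ne_z : y ≠ z
  central : ∀ x, x * z = z * x
  inv : ∀ x, x * x = 1 → x ≠ 1 → x ≠ z → IsConj x y
  sqz : ∃ c, c * y = y * c ∧ c * c = z
  quat : ∃ (Q₁ Q₂ : Subgroup X) (d₁ d₂ : X), Oct Q₁ d₁ y ∧ Oct Q₂ d₂ (y * z) ∧
    ∀ a ∈ Q₁, ∀ b ∈ Q₂, a * b = b * a
  comps : ∃ A₁ A₂ : Subgroup X, Comps z y A₁ A₂

/-- `α` centralises an element with square `z`. -/
def XTypeI (z : X) (α : MulAut X) : Prop := ∃ w, α w = w ∧ w * w = z

/-- `α` centralises an `A₄ = V ⟨d⟩` and inverts an element with square in `V`. -/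
def XTypeII (α : MulAut X) : Prop := ∃ (j v d : X) (V : Subgroup X), α j = j⁻¹ ∧ j * j = v ∧ v ∈ V ∧ v ≠ 1 ∧
  v * v = 1 ∧ IsPGroup 2 V ∧ (∀ a ∈ V, α a = a) ∧ α d = d ∧ (∀ a ∈ V, d * a * d⁻¹ ∈ V) ∧
  ∀ B : Subgroup X, (∀ a ∈ V, a * (d * a * d⁻¹)⁻¹ ∈ B) → V ≤ B

end xdata

end Cfsg.Agent.GH.Cov.FrontX
end

-- part: GH/Cov/XAll
section
/-!
# GH-COV: all facts about `X = K / O(K)`

`Ctx.xdata`: `XData z z₁`.  `ctx_of_comp`: a 2-component with even centre whose top is `L` gives `Ctx D π z`.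
`ind`: the automorphism of `L` induced by an element normalizing `K`.
-/

set_option autoImplicit false

open Subgroup Cfsg

namespace Cfsg.Agent.GH.Cov.XAll

open Cfsg.Agent.Intrinsic.Basic
open Cfsg.Agent.GH.Defs Cfsg.Agent.GH.Comp
open Cfsg.Agent.GH.Cov.LieData Cfsg.Agent.GH.Cov.Lft Cfsg.Agent.GH.Cov.I5 Cfsg.Agent.GH.Cov.XOfCore
open Cfsg.Agent.GH.Cov.XTypes Cfsg.Agent.GH.Cov.XLevel Cfsg.Agent.GH.Cov.FrontX

section xlevel

variable {X L : Type*} [Group X] [Group L] {D : Core L} {π : X →* L} {z : X}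

theorem comps [Finite X] (h : Ctx D π z) (c : XCore D π) : Comps z c.z₁ (Lft π D.A₁) (Lft π D.A₂) where
  comm := fun a ha b hb => XCore.comm h.cext ha hb
  disj := h.disj
  z_notin := fun hz => h.z_ne (h.inj'.one z hz h.π_z)
  yz_notin := by
    have e : c.z₁ * z = c.z₂ := by rw [← h.z_eq c, ← mul_assoc, c.sq₁, one_mul]
    rw [e]
    intro hz
    have : c.z₂ ∈ Lft π D.A₁ ⊓ Lft π D.A₂ := ⟨hz, c.z₂_mem⟩
    rw [h.disj, mem_bot] at this
    exact c.z₂_ne this
  le₁ := fun a ha => comm_z₁ h c ha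
  le₂ := fun a ha => (XCore.comm h.cext c.z₁_mem ha).symm
  norm := fun g hg a ha => norm_sup h c hg a ha
  idx := index_sup h c
  gen₁ := Lft_gen _
  gen₂ := Lft_gen _
  cent := by
    intro u hu huu a ha b hb hau hbu
    have h1 : π u * π u ≠ 1 := by
      intro e
      apply huu
      exact h.inj'.two _ (mul_mem hu hu) (by rw [map_mul, e])
    refine h.inj'.eq₂ (mul_mem ha hb) (mul_mem hb ha) ?_
    rw [map_mul, map_mul]
    exact D.cent₂ _ (map_mem hu) h1 _ (map_mem ha) _ (map_mem hb)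
      (by rw [← map_mul, hau, map_mul]) (by rw [← map_mul, hbu, map_mul])

theorem xdata [Finite X] (h : Ctx D π z) (c : XCore D π) : XData z c.z₁ := by
  have hz := h.z_eq c
  have hl : Lifts π D (c.z₁ * c.z₂) c.z₁ c.z₂ c.I₁ c.J₁ c.E₁ c.I₂ c.J₂ c.E₂ :=
    lifts_of_xcore c h.cext ⟨z, h.π_z, h.z_ne⟩ (fun x hx => by rw [hz]; exact h.ker hx)
  rw [hz] at hl
  exact
    { z_ne := h.z_ne
      z_sq := h.zz
      y_ne := c.z₁_ne
      y_sq := c.sq₁
      y_ne_z := hl.z₁_ne_z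
      central := h.central
      inv := hl.inv
      sqz := hl.sqz
      quat := ⟨_, _, _, _, hl.quat⟩
      comps := ⟨_, _, comps h c⟩ }

theorem xTypeI' [Finite X] (h : Ctx D π z) {α : MulAut X} {φ : MulAut L} (hα : ∀ x, π (α x) = φ (π x))
    (hT : TypeI D φ) : XTypeI z α := xTypeI h hα hT

theorem xTypeII' [Finite X] (h : Ctx D π z) {α : MulAut X} {φ : MulAut L} (hα : ∀ x, π (α x) = φ (π x))
    (hT : TypeII D φ) : XTypeII α := by
  obtain ⟨j, v, d, V, h1, h2, h3, h4, h5, h6, h7, h8, _, h10, h11⟩ := xTypeII h hα hT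
  exact ⟨j, v, d, V, h1, h2, h5, h3, h4, h6, h7, h8, h10, h11⟩

end xlevel

/-! ### from the 2-component -/

section comp

universe u v

variable {G : Type u} [Group G] [Finite G] {L : Type v} [Group L]

/-- `K / O(K) → L` -/
def proj (K : Subgroup G) (e : STop K ≃* L) : Bar K →* L :=
  e.toMonoidHom.comp (QuotientGroup.mk' (center (Bar K)))

theorem proj_surjective (K : Subgroup G) (e : STop K ≃* L) : Function.Surjective (proj K e) :=
  e.surjective.comp (QuotientGroup.mk'_surjective _)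

theorem proj_eq_one {K : Subgroup G} {e : STop K ≃* L} {x : Bar K} : proj K e x = 1 ↔ x ∈ center (Bar K) := by
  rw [proj, MonoidHom.comp_apply]
  show e _ = 1 ↔ _
  rw [map_eq_one_iff e e.injective]
  exact QuotientGroup.eq_one_iff x

/-- Central elements of `K / O(K)` are 2-elements. -/
theorem center_two {K : Subgroup G} {x : Bar K} (hx : x ∈ center (Bar K)) : ∃ n : ℕ, x ^ 2 ^ n = 1 := by
  obtain ⟨n, m, hm, hnm⟩ := Nat.exists_eq_two_pow_mul_odd (n := orderOf x) (orderOf_pos x).ne'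
  refine ⟨n, ?_⟩
  -- `x ^ 2 ^ n` has odd order and is central, so it generates a normal subgroup of odd order
  set y := x ^ 2 ^ n with hy
  have hyc : y ∈ center (Bar K) := pow_mem hx _
  have hyo : y ^ m = 1 := by rw [hy, ← pow_mul, ← hnm, pow_orderOf_eq_one]
  have hn : (zpowers y).Normal := ⟨fun a ha g => by
    obtain ⟨i, rfl⟩ := mem_zpowers_iff.mp ha
    have h1 : g * y ^ i * g⁻¹ = y ^ i := by
      rw [mul_inv_eq_iff_eq_mul]
      exact (mem_center_iff.mp (zpow_mem hyc i) g)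
    rw [h1]; exact zpow_mem (mem_zpowers y) i⟩
  have hodd : Odd (Nat.card (zpowers y)) := by
    rw [Nat.card_zpowers]
    exact hm.of_dvd_nat (orderOf_dvd_of_pow_eq_one hyo)
  have h1 : zpowers y ≤ oddCore (Bar K) := le_sSup ⟨hn, Nat.coprime_two_right.mpr hodd⟩
  have h2 : oddCore (Bar K) = ⊥ := Cfsg.Agent.Lib.Cores.pPrimeCore_quotient_pPrimeCore (G := K) 2
  rw [h2] at h1
  have := h1 (mem_zpowers y)
  exact mem_bot.mp this

theorem cext_proj (K : Subgroup G) (e : STop K ≃* L) : CExt (proj K e) where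
  surj := proj_surjective K e
  cen := fun c hc x => (mem_center_iff.mp (proj_eq_one.mp hc) x).symm
  two := fun c hc => center_two (proj_eq_one.mp hc)

/-- The automorphism of `L` induced by an element of the normalizer of `K`. -/
def ind {K : Subgroup G} (e : STop K ≃* L) (a : normalizer (K : Set G)) : MulAut L :=
  e.symm.trans ((L2Frame.act K a).trans e)

end comp

end Cfsg.Agent.GH.Cov.XAll
end

private theorem dce_d6d5e0c07c55 : _root_.True := by
  try have : _root_.True := by simp only [_root_.Cfsg.Agent.GH.Cov.XAll.proj.eq_1]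
  exact _root_.True.intro
end

-- part: GH/Cov/QuatTop
section
prune_inst 0x430304500012200000018000420003e0280000002004b0000000006000e040c4000020e2148002110102228000000002002080040400000000a00000000040401002210001010a000200000001000000000000000000000000000000000000000200000000
set_option linter.all false
open scoped Cfsg.Agent.FastGrp

/-!
# GH-COV: tops `PSL₂(q)` and `A₇`, even centre: only one involution

* `Dbl.unique`: a perfect double cover of a group with dihedral Sylow 2-subgroups and one class of involutions has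
  exactly one involution.
* `qt_of_top`: a 2-component `K` with even centre and top `PSL₂(q)` or `A₇` satisfies `QT K`.
-/

set_option autoImplicit false

open Cfsg Subgroup
open scoped commutatorElement
open Cfsg.Agent.Intrinsic.Basic
open Cfsg.Agent.GH.Defs Cfsg.Agent.GH.Comp Cfsg.Agent.GH.L2Aut
open Cfsg.Agent.GH.Cov.Transfer

namespace Cfsg.Agent.GH.Cov.QuatTop

/-- Dihedral Sylow 2-subgroups and one class of involutions. -/
structure DihTop (L : Type*) [Group L] : Prop where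
  syl : ∃ (S : Sylow 2 L) (d r : L), Dih (S : Subgroup L) d r
  conj : ∀ s t : L, s * s = 1 → s ≠ 1 → t * t = 1 → t ≠ 1 → ∃ g : L, g * s * g⁻¹ = t

section

variable {Y L : Type*} [Group Y] [Group L]

theorem unique [Finite Y] {f : Y →* L} {c : Y} (D : Dbl f c) (hperf : commutator Y = ⊤)
    (h : DihTop L) : ∀ y : Y, y * y = 1 → y = 1 ∨ y = c := by
  have hp : Fact (Nat.Prime 2) := ⟨Nat.prime_two⟩
  have hfin : Finite L := Finite.of_surjective f D.surj
  intro y0 hy0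
  by_contra hne
  push Not at hne
  -- all involutions of `L` lift to involutions
  have hlift : ∀ y : Y, f y * f y = 1 → f y ≠ 1 → y * y = 1 := by
    intro y hy hy1
    obtain ⟨g, hg⟩ := h.conj (f y0) (f y) (by rw [← map_mul, hy0, map_one])
      (fun h1 => by rcases (D.ker y0).1 h1 with h2 | h2; exacts [hne.1 h2, hne.2 h2]) hy hy1
    obtain ⟨g, rfl⟩ := D.surj g
    rw [← map_inv, ← map_mul, ← map_mul] at hg
    have h1 : g * y0 * g⁻¹ * (g * y0 * g⁻¹) = 1 := by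
      rw [show g * y0 * g⁻¹ * (g * y0 * g⁻¹) = g * (y0 * y0) * g⁻¹ by group, hy0, mul_one, mul_inv_cancel]
    rcases D.eq_or hg with h2 | h2
    · rw [← h2]; exact h1
    · have h3 : y = g * y0 * g⁻¹ * c := by rw [h2, mul_assoc, D.cc, mul_one]
      have h4 : ∀ u : Y, u * c * (u * c) = u * u := by
        intro u
        rw [mul_assoc, ← mul_assoc c, ← D.comm u, mul_assoc u c, D.cc, mul_one]
      rw [h3, h4]
      exact h1
  -- a Sylow 2-subgroup of `Y` and the dihedral structure of its image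
  obtain ⟨P⟩ : Nonempty (Sylow 2 Y) := inferInstance
  obtain ⟨S, d₀, r₀, hD₀⟩ := h.syl
  have hPf : ∃ d r, Dih ((P : Subgroup Y).map f) d r := by
    obtain ⟨g, hg⟩ := MulAction.exists_smul_eq L S (P.mapSurjective D.surj)
    refine ⟨MulAut.conj g d₀, MulAut.conj g r₀, ?_⟩
    have h1 : (P : Subgroup Y).map f = (S : Subgroup L).map (MulAut.conj g).toMonoidHom := by
      exact (congrArg (fun Q : Sylow 2 L => (Q : Subgroup L)) hg).symm
    rw [h1]
    exact hD₀.map _ (MulAut.conj g).injective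
  obtain ⟨d, r, hD⟩ := hPf
  obtain ⟨δ, hδP, rfl⟩ := hD.d_mem
  obtain ⟨ρ, hρP, rfl⟩ := hD.r_mem
  have hρ : ρ * ρ = 1 := hlift ρ hD.rr hD.r1
  -- lifts of reflections
  have hrefl : ∀ k : ℤ, (δ ^ k * ρ) * (δ ^ k * ρ) = 1 := by
    intro k
    refine hlift _ ?_ ?_
    · rw [map_mul, map_zpow]
      exact hD.pow_r_sq k
    · rw [map_mul, map_zpow]
      intro h1
      apply hD.r_not
      rw [eq_inv_of_mul_eq_one_right h1]
      exact inv_mem (zpow_mem (mem_zpowers _) k)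
  -- the order of `δ`
  obtain ⟨n, hn1, hn2, hn3⟩ := hD.exists_z (P.isPGroup'.map f)
  have hδ : δ ^ 2 ^ (n + 1) = 1 := by
    rw [pow_succ, pow_mul, pow_two]
    apply hlift
    · rw [map_pow]; exact hn2
    · rw [map_pow]; exact hn3
  have hinj : ∀ k : ℤ, f (δ ^ k) = 1 → δ ^ k = 1 := by
    intro k hk
    rw [map_zpow] at hk
    have h1 : ((2 ^ (n + 1) : ℕ) : ℤ) ∣ k := by
      rw [← hn1]
      exact orderOf_dvd_iff_zpow_eq_one.2 hk
    obtain ⟨j, rfl⟩ := h1
    rw [zpow_mul, zpow_natCast, hδ, one_zpow]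
  have hρinv : ρ⁻¹ = ρ := inv_eq_of_mul_eq_one_left hρ
  have hρδ : ∀ k : ℤ, ρ * δ ^ k = δ ^ (-k) * ρ := by
    intro k
    have h1 := hrefl k
    have h2 : ρ * δ ^ k = (δ ^ k)⁻¹ * ρ⁻¹ := by
      rw [eq_inv_mul_iff_mul_eq, ← mul_assoc, eq_inv_iff_mul_eq_one, ← h1]
      group
    rw [h2, hρinv, zpow_neg]
  -- the dihedral complement
  let W : Subgroup Y :=
    { carrier := {x | (∃ k : ℤ, x = δ ^ k) ∨ ∃ k : ℤ, x = δ ^ k * ρ}
      one_mem' := Or.inl ⟨0, (zpow_zero _).symm⟩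
      mul_mem' := by
        rintro a b (⟨i, rfl⟩ | ⟨i, rfl⟩) (⟨j, rfl⟩ | ⟨j, rfl⟩)
        · exact Or.inl ⟨i + j, (zpow_add _ _ _).symm⟩
        · exact Or.inr ⟨i + j, by rw [← mul_assoc, zpow_add]⟩
        · refine Or.inr ⟨i + -j, ?_⟩
          rw [mul_assoc, hρδ, ← mul_assoc, zpow_add]
        · refine Or.inl ⟨i + -j, ?_⟩
          rw [mul_assoc, ← mul_assoc ρ, hρδ, mul_assoc, hρ, mul_one, zpow_add]
      inv_mem' := by
        rintro a (⟨i, rfl⟩ | ⟨i, rfl⟩)
        · exact Or.inl ⟨-i, (zpow_neg _ _).symm⟩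
        · refine Or.inr ⟨i, ?_⟩
          exact inv_eq_of_mul_eq_one_left (hrefl i) }
  have hcW : c ∉ W := by
    rintro (⟨k, hk⟩ | ⟨k, hk⟩)
    · apply D.ne
      rw [hk]
      exact hinj k (by rw [← hk]; exact D.map_c)
    · apply hD.r_not
      have h1 : f (δ ^ k * ρ) = 1 := by rw [← hk]; exact D.map_c
      rw [map_mul, map_zpow] at h1
      rw [eq_inv_of_mul_eq_one_right h1]
      exact inv_mem (zpow_mem (mem_zpowers _) k)
  have hcov : ∀ p ∈ (P : Subgroup Y), ∃ w ∈ W, p = w ∨ p = w * c := by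
    intro p hp
    have key : ∃ w ∈ W, f p = f w := by
      rcases hD.cov (f p) (mem_map_of_mem f hp) with h1 | ⟨k, hk⟩
      · obtain ⟨k, hk⟩ := mem_zpowers_iff.1 h1
        exact ⟨δ ^ k, Or.inl ⟨k, rfl⟩, by rw [map_zpow, hk]⟩
      · exact ⟨δ ^ k * ρ, Or.inr ⟨k, rfl⟩, by rw [map_mul, map_zpow, hk]⟩
    obtain ⟨w, hw, hpw⟩ := key
    exact ⟨w, hw, D.eq_or hpw⟩
  apply hcW
  have hle : ⁅(P : Subgroup Y), (P : Subgroup Y)⁆ ≤ W := by
    rw [commutator_le]
    intro a ha b hb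
    obtain ⟨u, hu, hau⟩ := hcov a ha
    obtain ⟨v, hv, hbv⟩ := hcov b hb
    have h1 : ⁅u, v⁆ ∈ W := mul_mem (mul_mem (mul_mem hu hv) (inv_mem hu)) (inv_mem hv)
    have hc : ∀ x y : Y, ⁅x * c, y⁆ = ⁅x, y⁆ := by
      intro x y
      rw [commutatorElement_def, commutatorElement_def, mul_inv_rev, mul_assoc x c y, ← D.comm y]
      group
    have hc' : ∀ x y : Y, ⁅x, y * c⁆ = ⁅x, y⁆ := by
      intro x y
      rw [← commutatorElement_inv, hc, commutatorElement_inv]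
    rcases hau with rfl | rfl <;> rcases hbv with rfl | rfl
    · exact h1
    · rw [hc']; exact h1
    · rw [hc]; exact h1
    · rw [hc, hc']; exact h1
  exact hle (D.mem_commutator hperf P)

/-- a perfect finite group is generated by its elements of odd order -/
theorem closure_odd [Finite Y] (hperf : commutator Y = ⊤) : closure {y : Y | Odd (orderOf y)} = ⊤ := by
  have hp : Fact (Nat.Prime 2) := ⟨Nat.prime_two⟩
  set N : Subgroup Y := closure {y : Y | Odd (orderOf y)} with hN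
  have hn : N.Normal := by
    refine ⟨fun a ha g => ?_⟩
    have h1 : N.map (MulAut.conj g).toMonoidHom ≤ N := by
      rw [hN, MonoidHom.map_closure, closure_le]
      rintro _ ⟨y, hy, rfl⟩
      apply Subgroup.subset_closure
      show Odd (orderOf ((MulAut.conj g).toMonoidHom y))
      rw [orderOf_injective _ (MulAut.conj g).injective]
      exact hy
    exact h1 ⟨a, ha, rfl⟩
  have h2 : IsPGroup 2 (Y ⧸ N) := by
    intro x
    obtain ⟨y, rfl⟩ := QuotientGroup.mk_surjective x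
    obtain ⟨n, m, hm, hnm⟩ := Nat.exists_eq_two_pow_mul_odd (n := orderOf y) (orderOf_pos y).ne'
    refine ⟨n, ?_⟩
    rw [← QuotientGroup.mk_pow, QuotientGroup.eq_one_iff]
    apply Subgroup.subset_closure
    show Odd (orderOf (y ^ 2 ^ n))
    refine hm.of_dvd_nat (orderOf_dvd_of_pow_eq_one ?_)
    rw [← pow_mul, ← hnm, pow_orderOf_eq_one]
  have h3 : commutator (Y ⧸ N) = ⊤ := by
    have h1 : (commutator Y).map (QuotientGroup.mk' N) = commutator (Y ⧸ N) := by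
      rw [_root_.commutator_def, _root_.commutator_def, Subgroup.map_commutator,
        ← MonoidHom.range_eq_map,
        MonoidHom.range_eq_top.mpr (QuotientGroup.mk'_surjective N)]
    rw [← h1, hperf, ← MonoidHom.range_eq_map,
      MonoidHom.range_eq_top.mpr (QuotientGroup.mk'_surjective N)]
  by_contra hne
  have hnt : Nontrivial (Y ⧸ N) := QuotientGroup.nontrivial_iff.2 hne
  have := h2.isNilpotent
  have h4 : commutator (Y ⧸ N) < ⊤ := by
    exact Group.IsSolvable.commutator_lt_top_of_nontrivial (Y ⧸ N)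
  exact h4.ne h3

end

section

variable {G : Type*} [Group G] [Finite G]

open Cfsg.Agent.GH.Cov.XAll in
theorem qt {H K : Subgroup G} (hK : IsComp H K) (he : EvenCenter K) (h : DihTop (STop K)) :
    QA.QT K := by
  have hp : Fact (Nat.Prime 2) := ⟨Nat.prime_two⟩
  have hq := quasisimple hK
  have hcomm : commutator (Bar K) = ⊤ := hq.1.commutator_eq_top
  -- a subgroup of index two of the centre
  obtain ⟨W, hWc, hW2⟩ : ∃ W : Subgroup (Bar K), W ≤ center (Bar K) ∧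
      Nat.card (center (Bar K)) = 2 * Nat.card W := by
    obtain ⟨M, hM⟩ := Alt.exists_index_two (C := center (Bar K))
      (fun a b => Subtype.ext (mem_center_iff.mp b.2 a)) (even_iff_two_dvd.mp he)
    refine ⟨M.map (center (Bar K)).subtype, map_subtype_le _, ?_⟩
    rw [card_map_of_injective (center (Bar K)).subtype_injective, ← M.card_mul_index, hM, mul_comm]
  have hWn : W.Normal := by
    constructor
    intro w hw g
    have := mem_center_iff.mp (hWc hw) g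
    rw [this, mul_inv_cancel_right]
    exact hw
  let f : (Bar K ⧸ W) →* STop K := QuotientGroup.map W (center (Bar K)) (MonoidHom.id _) hWc
  have hf : Function.Surjective f := by
    intro y
    obtain ⟨a, rfl⟩ := QuotientGroup.mk_surjective y
    exact ⟨QuotientGroup.mk a, rfl⟩
  have hperf : commutator (Bar K ⧸ W) = ⊤ := by
    have h1 : (commutator (Bar K)).map (QuotientGroup.mk' W) = commutator (Bar K ⧸ W) := by
      rw [_root_.commutator_def, _root_.commutator_def, Subgroup.map_commutator,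
        ← MonoidHom.range_eq_map,
        MonoidHom.range_eq_top.mpr (QuotientGroup.mk'_surjective W)]
    rw [← h1, hcomm, ← MonoidHom.range_eq_map,
      MonoidHom.range_eq_top.mpr (QuotientGroup.mk'_surjective W)]
  have hk : Nat.card f.ker = 2 := by
    have h1 : Nat.card (Bar K ⧸ W) = Nat.card (STop K) * Nat.card f.ker := by
      have h2 := card_eq_card_quotient_mul_card_subgroup f.ker
      rw [h2]
      congr 1
      exact Nat.card_congr (QuotientGroup.quotientKerEquivOfSurjective f hf).toEquiv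
    have h2 : Nat.card (Bar K) = Nat.card (STop K) * Nat.card (center (Bar K)) :=
      card_eq_card_quotient_mul_card_subgroup _
    have h3 : Nat.card (Bar K) = Nat.card (Bar K ⧸ W) * Nat.card W :=
      card_eq_card_quotient_mul_card_subgroup _
    have h5 : 0 < Nat.card W := Nat.card_pos
    have h6 : 0 < Nat.card (STop K) := Nat.card_pos
    have h7 : Nat.card (STop K) * Nat.card W * Nat.card f.ker =
        Nat.card (STop K) * Nat.card W * 2 := by
      rw [h1] at h3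
      rw [h3, hW2] at h2
      linarith
    exact Nat.eq_of_mul_eq_mul_left (Nat.mul_pos h6 h5) h7
  obtain ⟨c, D⟩ := exists_dbl f hf hk
  have hu := unique D hperf h
  -- `W = 1`
  have hinj : Function.Injective (QuotientGroup.mk' W) := by
    refine QuatLift.injective (closure_odd hcomm) (t := c) ?_ ?_ (fun y hy => hu _ hy)
    · rw [QuotientGroup.ker_mk']; exact hWc
    · rw [QuotientGroup.ker_mk']
      rintro ⟨w, hw⟩
      obtain ⟨n, hn⟩ := center_two (hWc hw)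
      exact ⟨n, Subtype.ext hn⟩
  -- the only involution of `K / O(K)`
  have huniq : ∀ a b : Bar K, a * a = 1 → b * b = 1 → a ≠ 1 → b ≠ 1 → a = b := by
    intro a b ha hb ha1 hb1
    apply hinj
    have key : ∀ a : Bar K, a * a = 1 → a ≠ 1 → QuotientGroup.mk' W a = c := by
      intro a ha ha1
      refine (hu _ (by rw [← map_mul, ha, map_one])).resolve_left fun h1 => ha1 (hinj ?_)
      rw [h1, map_one]
    rw [key a ha ha1, key b hb hb1]
  intro a ha b hb haa hbb ha1 hb1 hab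
  have hodd : ∀ k : K, (QuotientGroup.mk' (oddCore ↥K)) k = 1 → k * k = 1 → k = 1 := by
    intro k hk hkk
    have hk' : k ∈ oddCore ↥K := (QuotientGroup.eq_one_iff k).1 hk
    have h1 : Odd (Nat.card (oddCore ↥K)) := by
      exact Nat.coprime_two_right.1 (Cfsg.Agent.Lib.Cores.pPrimeCore_coprime (G := K) 2)
    have h2 : orderOf k ∣ Nat.card (oddCore ↥K) := by
      have h3 := orderOf_dvd_natCard (⟨k, hk'⟩ : oddCore ↥K)
      rwa [Subgroup.orderOf_mk] at h3
    have h3 : orderOf k ∣ 2 := orderOf_dvd_of_pow_eq_one (by rw [pow_two, hkk])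
    have h4 : orderOf k ∣ 1 := by
      rw [← Nat.coprime_two_right.2 (h1.of_dvd_nat h2)]
      exact Nat.dvd_gcd dvd_rfl h3
    exact orderOf_eq_one_iff.1 (Nat.dvd_one.1 h4)
  let a' : K := ⟨a, ha⟩
  let b' : K := ⟨b, hb⟩
  have haa' : a' * a' = 1 := Subtype.ext haa
  have hbb' : b' * b' = 1 := Subtype.ext hbb
  have hab' : a' * b' = b' * a' := Subtype.ext hab
  have h1 := huniq (QuotientGroup.mk' (oddCore ↥K) a') (QuotientGroup.mk' (oddCore ↥K) b')
    (by rw [← map_mul, haa', map_one]) (by rw [← map_mul, hbb', map_one])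
    (fun h2 => ha1 (congrArg Subtype.val (hodd a' h2 haa')))
    (fun h2 => hb1 (congrArg Subtype.val (hodd b' h2 hbb')))
  have h2 : a' * b'⁻¹ = 1 := by
    apply hodd
    · rw [map_mul, map_inv, h1, mul_inv_cancel]
    · rw [inv_eq_of_mul_eq_one_left hbb']
      calc a' * b' * (a' * b') = a' * (b' * a') * b' := by group
        _ = (a' * a') * (b' * b') := by rw [← hab']; group
        _ = 1 := by rw [haa', hbb', one_mul]
  exact congrArg Subtype.val (mul_inv_eq_one.1 h2)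

end

/-! ### the tops -/

theorem dihTop_of_isL2odd {L : Type*} [Group L] [Finite L] (h : IsL2odd L) : DihTop L := by
  obtain ⟨F, i, j, h1, -, ⟨e⟩⟩ := h
  have h2 : (2 : F) ≠ 0 := two_ne_zero_of_odd h1
  let R : L2Aut.Rep F L := L2Aut.Rep.ofEquiv h2 e
  obtain ⟨S⟩ : Nonempty (Sylow 2 L) := inferInstance
  obtain ⟨d, r, hD⟩ := R.exists_dih S
  exact ⟨⟨S, d, r, hD⟩, fun s t hs hs1 ht ht1 => R.inv_conj hs hs1 ht ht1⟩

theorem alt_conj (s t : ↥(alternatingGroup (Fin 7))) (hs : s * s = 1) (hs1 : s ≠ 1)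
    (ht : t * t = 1) (ht1 : t ≠ 1) : ∃ g, g * s * g⁻¹ = t := by
  have hp : Fact (Nat.Prime 2) := ⟨Nat.prime_two⟩
  have key : ∀ s : ↥(alternatingGroup (Fin 7)), s * s = 1 → s ≠ 1 →
      (s : Equiv.Perm (Fin 7)).cycleType = Multiset.replicate 2 2 := by
    intro s hs hs1
    have ho : orderOf (s : Equiv.Perm (Fin 7)) = 2 := by
      rw [Subgroup.orderOf_coe]
      exact orderOf_eq_prime (by rw [pow_two, hs]) hs1
    obtain ⟨n, hn⟩ := Equiv.Perm.cycleType_prime_order (by rw [ho]; exact Nat.prime_two)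
    rw [ho] at hn
    have h1 := Equiv.Perm.sign_of_cycleType (s : Equiv.Perm (Fin 7))
    rw [Equiv.Perm.mem_alternatingGroup.1 s.2, hn] at h1
    have h2 : (s : Equiv.Perm (Fin 7)).cycleType.sum ≤ 7 := by
      rw [Equiv.Perm.sum_cycleType]
      exact (Finset.card_le_univ _).trans (by simp)
    rw [hn] at h2
    simp only [Multiset.sum_replicate, Multiset.card_replicate, smul_eq_mul] at h1 h2
    have h3 : n ≤ 2 := by omega
    have h4 : n = 1 := by
      interval_cases n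
      · exact absurd h1 (by decide)
      · rfl
      · exact absurd h1 (by decide)
    rw [hn, h4]
  have h1 : IsConj (s : Equiv.Perm (Fin 7)) (t : Equiv.Perm (Fin 7)) := by
    rw [Equiv.Perm.isConj_iff_cycleType_eq, key s hs hs1, key t ht ht1]
  have h2 : (s : Equiv.Perm (Fin 7)).support.card + 2 ≤ Fintype.card (Fin 7) := by
    rw [← Equiv.Perm.sum_cycleType, key s hs hs1]
    simp
  exact isConj_iff.1 (alternatingGroup.isConj_of h1 h2)

theorem dihTop_alt : DihTop ↥(alternatingGroup (Fin 7)) := by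
  refine ⟨?_, alt_conj⟩
  obtain ⟨P, ⟨e⟩⟩ := L2FourAlt.exists_sylow
  have hpow : ∀ k : ℤ, (e.symm (DihedralGroup.r 1)) ^ k = e.symm (DihedralGroup.r (k : ZMod 4)) := by
    intro k
    rw [← map_zpow, DihedralGroup.r_zpow, one_mul]
  refine ⟨P, ((e.symm (DihedralGroup.r 1) : ↥(P : Subgroup ↥(alternatingGroup (Fin 7)))) :
    ↥(alternatingGroup (Fin 7))), ((e.symm (DihedralGroup.sr 0) :
    ↥(P : Subgroup ↥(alternatingGroup (Fin 7)))) : ↥(alternatingGroup (Fin 7))), ?_⟩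
  refine ⟨(e.symm _).2, (e.symm _).2, ?_, ?_, ?_, ?_, ?_⟩
  · intro h
    have h1 : e.symm (DihedralGroup.r 1) = 1 := Subtype.ext h
    have h2 : (DihedralGroup.r 1 : DihedralGroup 4) = 1 := e.symm.injective (by rw [h1, map_one])
    exact absurd h2 (by decide)
  · intro h
    obtain ⟨k, hk⟩ := mem_zpowers_iff.1 h
    rw [← Subgroup.coe_zpow, hpow] at hk
    have h2 := e.symm.injective (Subtype.ext hk)
    cases h2
  · rw [← Subgroup.coe_mul, ← map_mul]
    exact congrArg Subtype.val (map_one e.symm)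
  · rw [← Subgroup.coe_mul, ← Subgroup.coe_inv, ← Subgroup.coe_mul, ← Subgroup.coe_inv, ← map_mul,
      ← map_inv, ← map_mul, ← map_inv]
    congr 2
  · intro x hx
    obtain ⟨y, hy⟩ : ∃ y : DihedralGroup 4, e.symm y = ⟨x, hx⟩ := ⟨e ⟨x, hx⟩, e.symm_apply_apply _⟩
    have hy' : ((e.symm y : ↥(P : Subgroup ↥(alternatingGroup (Fin 7)))) :
      ↥(alternatingGroup (Fin 7))) = x := congrArg Subtype.val hy
    cases y with
    | r i =>
      left
      rw [← hy']
      refine mem_zpowers_iff.2 ⟨(i.val : ℤ), ?_⟩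
      rw [← Subgroup.coe_zpow, hpow]
      simp
    | sr i =>
      right
      refine ⟨-(i.val : ℤ), ?_⟩
      rw [← hy', ← Subgroup.coe_zpow, hpow, ← Subgroup.coe_mul, ← map_mul, DihedralGroup.r_mul_sr]
      simp

theorem DihTop.congr {L M : Type*} [Group L] [Finite L] [Group M] (e : L ≃* M) (h : DihTop L) :
    DihTop M := by
  have hp : Fact (Nat.Prime 2) := ⟨Nat.prime_two⟩
  refine ⟨?_, ?_⟩
  · obtain ⟨S, d, r, hD⟩ := h.syl
    exact ⟨S.mapSurjective (f := e.toMonoidHom) e.surjective, _, _, hD.map e.toMonoidHom e.injective⟩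
  · intro s t hs hs1 ht ht1
    obtain ⟨g, hg⟩ := h.conj (e.symm s) (e.symm t) (by rw [← map_mul, hs, map_one])
      (fun h1 => hs1 (e.symm.injective (by rw [h1, map_one])))
      (by rw [← map_mul, ht, map_one]) (fun h1 => ht1 (e.symm.injective (by rw [h1, map_one])))
    refine ⟨e g, ?_⟩
    have h1 := congrArg e hg
    rwa [map_mul, map_mul, map_inv, e.apply_symm_apply, e.apply_symm_apply] at h1

/-- **`QT` for the tops `PSL₂(q)`, `A₇`.** -/
theorem qt_of_top {G : Type*} [Group G] [Finite G] {H K : Subgroup G} (hK : IsComp H K)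
    (he : EvenCenter K) (ht : IsL2odd (STop K) ∨ IsAlt 7 (STop K)) : QA.QT K := by
  refine qt hK he ?_
  rcases ht with h | ⟨⟨e⟩⟩
  · exact dihTop_of_isL2odd h
  · exact dihTop_alt.congr e.symm

end Cfsg.Agent.GH.Cov.QuatTop
end

-- part: GH/Cov/TwelveMain_mg
section
prune_inst 0x4002000000100000000000014200022000000000000000001410007020204004000020000482020001002280000000008130000400000000000000000000004010020100010000000200000003003180c00000000000000000000000000000000200000000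
set_option linter.all false
open scoped Cfsg.Agent.FastGrp

-- part: GH/Cov/TwelveFront
section
/-!
# GH-COV, `2.M₁₂`: the front end

A 2-component `K` with even centre of `C(x)` whose top is `M₁₂`: `x ∈ K`, the image of `x` generates
`Z(K/O(K))`, the 2-elements of `C(x)` fixing `K` are `1` and `x`, and `K` is normal in `C(x)`.
-/

set_option autoImplicit false

open Cfsg Subgroup
open Cfsg.Agent.Intrinsic.Basic
open Cfsg.Agent.GH.Defs Cfsg.Agent.GH.Rank Cfsg.Agent.GH.Comp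

namespace Cfsg.Agent.GH.Cov.TwelveFront

universe u v

variable {G : Type u} [Group G]

/-- The projection `K/O(K) → STop K ≃* L`. -/
def pr {L : Type v} [Group L] (K : Subgroup G) (e : STop K ≃* L) : Bar K →* L :=
  e.toMonoidHom.comp (QuotientGroup.mk' (center (Bar K)))

theorem pr_surjective {L : Type v} [Group L] (K : Subgroup G) (e : STop K ≃* L) :
    Function.Surjective (pr K e) :=
  e.surjective.comp (QuotientGroup.mk'_surjective _)

theorem pr_eq_one {L : Type v} [Group L] {K : Subgroup G} {e : STop K ≃* L} {x : Bar K} :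
    pr K e x = 1 ↔ x ∈ center (Bar K) := by
  change e (QuotientGroup.mk x) = 1 ↔ _
  rw [map_eq_one_iff e e.injective]
  exact QuotientGroup.eq_one_iff x

/-- Central elements of `K / O(K)` are 2-elements. -/
theorem center_two [Finite G] {K : Subgroup G} {x : Bar K} (hx : x ∈ center (Bar K)) :
    ∃ n : ℕ, x ^ 2 ^ n = 1 := by
  obtain ⟨n, m, hm, hnm⟩ := Nat.exists_eq_two_pow_mul_odd (n := orderOf x) (orderOf_pos x).ne'
  refine ⟨n, ?_⟩
  have hcen : x ^ 2 ^ n ∈ center (Bar K) := pow_mem hx _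
  have hyo : (x ^ 2 ^ n) ^ m = 1 := by rw [← pow_mul, ← hnm, pow_orderOf_eq_one]
  have hn : (zpowers (x ^ 2 ^ n)).Normal := ⟨fun a ha g => by
    have h2 : a ∈ center (Bar K) := (zpowers_le.mpr hcen) ha
    have h3 : g * a * g⁻¹ = a := by
      rw [mul_inv_eq_iff_eq_mul]
      exact mem_center_iff.mp h2 g
    rwa [h3]⟩
  have hodd : Odd (Nat.card (zpowers (x ^ 2 ^ n))) := by
    rw [Nat.card_zpowers]
    exact hm.of_dvd_nat (orderOf_dvd_of_pow_eq_one hyo)
  have h1 : zpowers (x ^ 2 ^ n) ≤ oddCore (Bar K) := le_sSup ⟨hn, Nat.coprime_two_right.mpr hodd⟩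
  have h2 : oddCore (Bar K) = ⊥ := Cfsg.Agent.Lib.Cores.pPrimeCore_quotient_pPrimeCore (G := K) 2
  rw [h2] at h1
  exact mem_bot.mp (h1 (mem_zpowers _))

/-- `K/O(K)` is a perfect double cover of `M₁₂`. -/
theorem exists_cov [Finite G] {H K : Subgroup G} (hK : IsComp H K) (he : EvenCenter K)
    (e : STop K ≃* ↥Spor.M12) : ∃ z : Bar K, MTwCover.Cov (pr K e) z := by
  have hs : IsSimpleGroup ↥Spor.M12 := Schreier.MTwelve.isSimpleGroup
  refine MTwCenter.exists_cov (pr K e) (pr_surjective K e) ?_ ?_ ?_ ?_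
  · ext x
    rw [MonoidHom.mem_ker]
    exact pr_eq_one
  · exact (Group.isPerfect_def).mp (quasisimple hK).1
  · intro a
    obtain ⟨n, hn⟩ := center_two a.2
    exact ⟨n, Subtype.ext (by simpa only [_root_.SubmonoidClass.coe_pow, _root_.OneMemClass.coe_one] using hn)⟩
  · intro hbot
    have h2 : Nat.card (center (Bar K)) = 1 := by rw [hbot]; exact card_bot
    have h3 : Even (Nat.card (center (Bar K))) := he
    rw [h2] at h3
    exact absurd h3 (by decide)

/-- The situation of the `2.M₁₂` kill. -/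
theorem front [Finite G] (h4 : SectionalPRankLE 2 4 G) {x : G} {K : Subgroup G} (c : Comp2 x K)
    (he : EvenCenter K) (hiso : Spor.IsoM12 (STop K)) :
    ∃ hx : x ∈ K,
      (∀ e : STop K ≃* ↥Spor.M12, MTwCover.Cov (pr K e) (QuotientGroup.mk' (oddCore ↥K) ⟨x, hx⟩)) ∧
      centralizer ({x} : Set G) ≤ normalizer (K : Set G) ∧
      (∀ g ∈ centralizer ({x} : Set G), (∃ n : ℕ, g ^ 2 ^ n = 1) → Fixes g K → g = 1 ∨ g = x) := by
  have hr : 4 ≤ srank 2 (STop K) := by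
    by_contra hcon
    exact LowRankMathieu.isoM12 hiso ((srank_le_iff (by norm_num)).1 (by omega))
  obtain ⟨e₀⟩ := hiso
  obtain ⟨z, hz⟩ := exists_cov c.comp he e₀
  obtain ⟨hxK, hxz, hfix⟩ := FrameSyl.eq_of_fixes h4 c hr (ub := z) (fun u hu =>
    hz.ker u (pr_eq_one.mpr hu))
  refine ⟨hxK, fun e => ?_, fun g hg =>
    FrameSyl.le_normalizer_comp h4 c hr g (mem_centralizer_singleton_iff.mp hg),
    fun g hg ⟨n, hn⟩ hf => hfix g (mem_centralizer_singleton_iff.mp hg) n hn hf⟩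
  rw [hxz]
  exact
    { surj := pr_surjective K e
      ker := fun u hu => hz.ker u (pr_eq_one.mpr (pr_eq_one.mp hu))
      hz := hz.hz
      hz1 := hz.hz1
      hπz := pr_eq_one.mpr (pr_eq_one.mp hz.hπz)
      comm := hz.comm
      perfect := hz.perfect }

end Cfsg.Agent.GH.Cov.TwelveFront
end

-- part: GH/MTwFus
section
/-!
# 2.M12: fusion in a group with a Sylow 2-subgroup of `C(z)` of the form `T` or `T⟨s⟩`
-/

set_option autoImplicit false

open Subgroup

namespace Cfsg.Agent.GH.MTwFus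

open Cfsg.Agent.GH.MTwCode (Pm)
open Cfsg.Agent.GH.MTwModel Cfsg.Agent.GH.MTwSyl Cfsg.Agent.GH.MTwFacts

/-- the automorphism of `T` induced by `W` -/
noncomputable def tau (t : T) : T := ⟨W * t * W, tau_mem t.2⟩

noncomputable def tA : T := ⟨A, A_mem⟩
noncomputable def tZ : T := ⟨Z, Z_mem⟩
noncomputable def t0 : T := ⟨G0, G0_mem⟩
noncomputable def t1 : T := ⟨G1, G1_mem⟩

theorem tau_A : tau tA = tA := Subtype.ext WA
theorem tau_Z : tau tZ = tZ := Subtype.ext WZ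

theorem tZ_sq : tZ * tZ = 1 := Subtype.ext rels.hz
theorem tA_sq : tA * tA = 1 := Subtype.ext rels.ha
theorem tZ_ne : tZ ≠ 1 := fun h => Z_ne_one (congrArg Subtype.val h)
theorem tA_ne : tA ≠ 1 := fun h => A_ne_one (congrArg Subtype.val h)
theorem tA_ne_tZ : tA ≠ tZ := fun h => A_ne_Z (congrArg Subtype.val h)

theorem comm_tZ (t : T) : tZ * t = t * tZ := Subtype.ext (comm_Z t.2)
theorem comm_tA (t : T) : tA * t = t * tA := Subtype.ext (comm_A t.2)

theorem tau_tau (t : T) : tau (tau t) = t := by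
  apply Subtype.ext
  show W * (W * t * W) * W = t
  calc W * (W * (t : Pm) * W) * W = (W * W) * t * (W * W) := by group
    _ = t := by rw [W_sq, one_mul, mul_one]

section

variable {G : Type*} [Group G]

/-- the structure of `P` -/
structure Data (ι : T →* G) (P : Subgroup G) : Prop where
  inj : Function.Injective ι
  le : ∀ t, ι t ∈ P
  out : (∀ x ∈ P, ∃ t, x = ι t) ∨ ∃ s ∈ P, (∀ t, s ≠ ι t) ∧ (∀ x ∈ P, (∃ t, x = ι t) ∨ ∃ t, x = ι t * s) ∧
    (∀ t, s * ι t = ι (tau t) * s) ∧ (s * s = 1 ∨ s * s = ι tZ)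

variable {ι : T →* G} {P : Subgroup G}

theorem outer_sq {s : G} (hs : ∀ t, s * ι t = ι (tau t) * s) (t : T) :
    (ι t * s) * (ι t * s) = ι (t * tau t) * (s * s) := by
  calc (ι t * s) * (ι t * s) = ι t * (s * ι t) * s := by group
    _ = ι t * (ι (tau t) * s) * s := by rw [hs]
    _ = _ := by rw [map_mul]; group

theorem Data.central_Z (h : Data ι P) {x : G} (hx : x ∈ P) : x * ι tZ = ι tZ * x := by
  have h1 : ∀ t, ι t * ι tZ = ι tZ * ι t := fun t => by rw [← map_mul, ← map_mul, comm_tZ]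
  rcases h.out with ho | ⟨s, hsP, hs1, hs2, hs3, hs4⟩
  · obtain ⟨t, rfl⟩ := ho x hx
    exact h1 t
  · rcases hs2 x hx with ⟨t, rfl⟩ | ⟨t, rfl⟩
    · exact h1 t
    · calc ι t * s * ι tZ = ι t * (s * ι tZ) := by group
        _ = ι t * ι tZ * s := by rw [hs3, tau_Z]; group
        _ = _ := by rw [h1]; group

theorem Data.central_A (h : Data ι P) {x : G} (hx : x ∈ P) : x * ι tA = ι tA * x := by
  have h1 : ∀ t, ι t * ι tA = ι tA * ι t := fun t => by rw [← map_mul, ← map_mul, comm_tA]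
  rcases h.out with ho | ⟨s, hsP, hs1, hs2, hs3, hs4⟩
  · obtain ⟨t, rfl⟩ := ho x hx
    exact h1 t
  · rcases hs2 x hx with ⟨t, rfl⟩ | ⟨t, rfl⟩
    · exact h1 t
    · calc ι t * s * ι tA = ι t * (s * ι tA) := by group
        _ = ι t * ι tA * s := by rw [hs3, tau_A]; group
        _ = _ := by rw [h1]; group

theorem four_inner (t : T) : (ι t) ^ 4 = 1 ∨ (ι t) ^ 4 = ι (tA * tZ) := by
  rcases pow_four t.2 with h | h
  · left
    have h1 : t ^ 4 = 1 := Subtype.ext h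
    rw [← map_pow, h1, map_one]
  · right
    have h1 : t ^ 4 = tA * tZ := Subtype.ext h
    rw [← map_pow, h1]

theorem four_outer {s : G} (hs : ∀ t, s * ι t = ι (tau t) * s) (hs2 : s * s = 1 ∨ s * s = ι tZ)
    (t : T) : (ι t * s) ^ 4 = 1 ∨ (ι t * s) ^ 4 = ι tZ := by
  have h1 : (s * s) * (s * s) = 1 := by
    rcases hs2 with h | h
    · rw [h, one_mul]
    · rw [h, ← map_mul, tZ_sq, map_one]
  have h2 : (s * s) * ι (t * tau t) = ι (t * tau t) * (s * s) := by
    rcases hs2 with h | h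
    · rw [h, one_mul, mul_one]
    · rw [h, ← map_mul, ← map_mul, comm_tZ]
  rw [pow4, outer_sq hs]
  have h3 : ι (t * tau t) * (s * s) * (ι (t * tau t) * (s * s)) =
      ι ((t * tau t) * (t * tau t)) := by
    calc ι (t * tau t) * (s * s) * (ι (t * tau t) * (s * s))
        = ι (t * tau t) * ((s * s) * ι (t * tau t)) * (s * s) := by group
      _ = ι (t * tau t) * ι (t * tau t) * ((s * s) * (s * s)) := by rw [h2]; group
      _ = _ := by rw [h1, mul_one]; simp only [map_mul]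
  rw [h3]
  rcases outer_pow t.2 with h | h
  · left
    have : (t * tau t) * (t * tau t) = 1 := Subtype.ext h
    rw [this, map_one]
  · right
    have : (t * tau t) * (t * tau t) = tZ := Subtype.ext h
    rw [this]

/-- injection between root sets -/
theorem root_count [Finite G] (h : Data ι P) {n : G} (hn : ∀ x ∈ P, n * x * n⁻¹ ∈ P) {u v : T}
    (hnu : n * ι u * n⁻¹ = ι v)
    (hv : ∀ x ∈ P, x * x = ι v → ∃ t, x = ι t)
    (hu : ∃ x ∈ P, x * x = ι u ∧ ∀ t, x ≠ ι t)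
    (hcu : Nat.card {t : T // t * t = u} = 24) (hcv : Nat.card {t : T // t * t = v} = 24) : False := by
  classical
  obtain ⟨x0, hx0, hx0u, hx0t⟩ := hu
  -- map from Option {t // t * t = u} to {t // t * t = v}
  have key : ∀ x ∈ P, x * x = ι u → ∃ t : {t : T // t * t = v}, n * x * n⁻¹ = ι t.1 := by
    intro x hx hxu
    have h1 : (n * x * n⁻¹) * (n * x * n⁻¹) = ι v := by
      rw [← hnu, ← hxu]; group
    obtain ⟨t, ht⟩ := hv _ (hn x hx) h1
    refine ⟨⟨t, ?_⟩, ht⟩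
    apply h.inj
    rw [map_mul, ← ht, h1]
  let E : Option {t : T // t * t = u} → G := fun o => o.elim x0 (fun t => ι t.1)
  have hE : ∀ o, E o ∈ P ∧ E o * E o = ι u := by
    rintro (_ | t)
    · exact ⟨hx0, hx0u⟩
    · exact ⟨h.le _, by show ι t.1 * ι t.1 = ι u; rw [← map_mul, t.2]⟩
  have hEinj : Function.Injective E := by
    rintro (_ | t) (_ | t') htt
    · rfl
    · exact absurd htt (hx0t _)
    · exact absurd htt.symm (hx0t _)
    · exact congrArg some (Subtype.ext (h.inj htt))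
  let f : Option {t : T // t * t = u} → {t : T // t * t = v} := fun o =>
    (key (E o) (hE o).1 (hE o).2).choose
  have hf : ∀ o, n * E o * n⁻¹ = ι (f o).1 := fun o => (key (E o) (hE o).1 (hE o).2).choose_spec
  have hfinj : Function.Injective f := by
    intro o o' hoo
    apply hEinj
    have h1 : n * E o * n⁻¹ = n * E o' * n⁻¹ := by rw [hf, hf, hoo]
    exact mul_left_cancel (mul_right_cancel h1)
  have hfin : Finite T := Nat.finite_of_card_ne_zero (by rw [card_T]; norm_num)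
  have h1 := Nat.card_le_card_of_injective f hfinj
  rw [Finite.card_option, hcu, hcv] at h1
  omega

theorem card_Z : Nat.card {t : T // t * t = tZ} = 24 := by
  rw [← card_roots_Z]
  refine Nat.card_congr (Equiv.subtypeEquivRight fun t => ?_)
  exact ⟨fun h => congrArg Subtype.val h, fun h => Subtype.ext h⟩

theorem card_AZ : Nat.card {t : T // t * t = tA * tZ} = 24 := by
  rw [← card_roots_AZ]
  refine Nat.card_congr (Equiv.subtypeEquivRight fun t => ?_)
  exact ⟨fun h => congrArg Subtype.val h, fun h => Subtype.ext h⟩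

theorem t0_four : t0 ^ 4 = tA * tZ := Subtype.ext G0_pow_four
theorem t1_four : t1 ^ 4 = tA * tZ := Subtype.ext G1_pow_four
theorem t0t1 : (t0 * t1) * (t0 * t1) = tZ := Subtype.ext G0G1_sq

theorem tAZ_ne_one : tA * tZ ≠ 1 := by
  intro h
  apply tA_ne_tZ
  calc tA = tA * (tZ * tZ) := by rw [tZ_sq, mul_one]
    _ = (tA * tZ) * tZ := by group
    _ = tZ := by rw [h, one_mul]

theorem tAZ_ne_tZ : tA * tZ ≠ tZ := by
  intro h
  exact tA_ne (mul_eq_right.mp h)

/-- **elements normalizing `P` centralize `z`** -/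
theorem Data.normalizer [Finite G] (h : Data ι P) {n : G} (hn : ∀ x, x ∈ P ↔ n * x * n⁻¹ ∈ P) :
    n * ι tZ * n⁻¹ = ι tZ := by
  have hn1 : ∀ x ∈ P, n * x * n⁻¹ ∈ P := fun x hx => (hn x).mp hx
  have hn2 : ∀ x ∈ P, n⁻¹ * x * n⁻¹⁻¹ ∈ P := fun x hx => by
    rw [hn]
    have : n * (n⁻¹ * x * n⁻¹⁻¹) * n⁻¹ = x := by group
    rw [this]; exact hx
  have hpow : ∀ x : G, (n * x * n⁻¹) ^ 4 = n * x ^ 4 * n⁻¹ := fun x => conj_pow
  -- classification of fourth powers
  have h4 : ∀ x ∈ P, (x ^ 4 = 1 ∨ x ^ 4 = ι tZ) ∨ ((∃ t, x = ι t) ∧ x ^ 4 = ι (tA * tZ)) := by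
    intro x hx
    rcases h.out with ho | ⟨s, hsP, hs1, hs2, hs3, hs4⟩
    · obtain ⟨t, rfl⟩ := ho x hx
      rcases four_inner (ι := ι) t with h1 | h1
      · exact Or.inl (Or.inl h1)
      · exact Or.inr ⟨⟨t, rfl⟩, h1⟩
    · rcases hs2 x hx with ⟨t, rfl⟩ | ⟨t, rfl⟩
      · rcases four_inner (ι := ι) t with h1 | h1
        · exact Or.inl (Or.inl h1)
        · exact Or.inr ⟨⟨t, rfl⟩, h1⟩
      · exact Or.inl (four_outer hs3 hs4 t)
  have hAZ : n * ι (tA * tZ) * n⁻¹ = ι (tA * tZ) ∨ n * ι (tA * tZ) * n⁻¹ = ι tZ := by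
    have h1 : (n * ι t0 * n⁻¹) ^ 4 = n * ι (tA * tZ) * n⁻¹ := by
      rw [hpow, ← map_pow, t0_four]
    rcases h4 _ (hn1 _ (h.le t0)) with (h2 | h2) | ⟨_, h2⟩
    · exfalso
      rw [h1, mul_inv_eq_one, mul_eq_left] at h2
      exact tAZ_ne_one (h.inj (by rw [h2, map_one]))
    · right; rw [← h1, h2]
    · left; rw [← h1, h2]
  rcases hAZ with hAZ | hAZ
  · -- `az` is fixed
    have hy : ∀ t : T, t ^ 4 = tA * tZ → ∃ u, n * ι t * n⁻¹ = ι u := by
      intro t ht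
      have h1 : (n * ι t * n⁻¹) ^ 4 = ι (tA * tZ) := by
        rw [hpow, ← map_pow, ht, hAZ]
      rcases h4 _ (hn1 _ (h.le t)) with (h2 | h2) | ⟨h2, _⟩
      · exfalso
        rw [h1] at h2
        exact tAZ_ne_one (h.inj (by rw [h2, map_one]))
      · exfalso
        rw [h1] at h2
        exact tAZ_ne_tZ (h.inj h2)
      · exact h2
    obtain ⟨u0, hu0⟩ := hy t0 t0_four
    obtain ⟨u1, hu1⟩ := hy t1 t1_four
    have h5 : n * ι tZ * n⁻¹ = ι ((u0 * u1) * (u0 * u1)) := by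
      rw [← t0t1, map_mul, map_mul, map_mul, map_mul, ← hu0, ← hu1]; group
    set v := (u0 * u1) * (u0 * u1) with hv
    have h6 : ∀ w : T, w * v = v * w := by
      intro w
      apply h.inj
      rw [map_mul ι w v, map_mul ι v w, ← h5]
      have h7 := h.central_Z (hn2 _ (h.le w))
      calc ι w * (n * ι tZ * n⁻¹) = n * ((n⁻¹ * ι w * n⁻¹⁻¹) * ι tZ) * n⁻¹ := by group
        _ = n * (ι tZ * (n⁻¹ * ι w * n⁻¹⁻¹)) * n⁻¹ := by rw [h7]
        _ = n * ι tZ * n⁻¹ * ι w := by group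
    have h7 : (v : Pm) = 1 ∨ (v : Pm) = A ∨ (v : Pm) = Z ∨ (v : Pm) = A * Z :=
      MTwFacts.center v.2 fun u hu => congrArg Subtype.val (h6 ⟨u, hu⟩)
    rcases h7 with h7 | h7 | h7 | h7
    · exfalso
      have h8 : v = 1 := Subtype.ext h7
      rw [h8, map_one, mul_inv_eq_one, mul_eq_left] at h5
      exact tZ_ne (h.inj (by rw [h5, map_one]))
    · exfalso
      exact sq_ne_A (u0 * u1).2 h7
    · have h8 : v = tZ := Subtype.ext h7
      rw [h5, h8]
    · exfalso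
      have h8 : v = tA * tZ := Subtype.ext h7
      rw [h8, ← hAZ] at h5
      have h9 := h.inj (mul_left_cancel (mul_right_cancel h5))
      exact tAZ_ne_tZ h9.symm
  · -- `az ↦ z`
    exfalso
    rcases h.out with ho | ⟨s, hsP, hs1, hs2, hs3, hs4⟩
    · -- inner case: `z` is not a fourth power
      have h1 : (n * ι t0 * n⁻¹) ^ 4 = ι tZ := by
        rw [hpow, ← map_pow, t0_four, hAZ]
      obtain ⟨t, ht⟩ := ho _ (hn1 _ (h.le t0))
      rw [ht] at h1
      rcases four_inner (ι := ι) t with h2 | h2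
      · rw [h1] at h2; exact tZ_ne (h.inj (by rw [h2, map_one]))
      · rw [h1] at h2; exact tAZ_ne_tZ (h.inj h2).symm
    · rcases hs4 with hs4 | hs4
      · -- `s² = 1`
        refine root_count h hn1 hAZ ?_ ?_ card_AZ card_Z
        · intro x hx hxx
          rcases hs2 x hx with h1 | ⟨t, rfl⟩
          · exact h1
          · exfalso
            rw [outer_sq hs3, hs4, mul_one] at hxx
            exact outer_ne_Z t.2 (congrArg Subtype.val (h.inj hxx))
        · obtain ⟨t, ht, hte⟩ := exists_outer_AZ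
          refine ⟨ι ⟨t, ht⟩ * s, P.mul_mem (h.le _) hsP, ?_, ?_⟩
          · rw [outer_sq hs3, hs4, mul_one]
            congr 1
            exact Subtype.ext hte
          · intro u hu
            apply hs1 (⟨t, ht⟩⁻¹ * u)
            rw [map_mul, map_inv, ← hu]; group
      · -- `s² = z`
        have hAZ' : n⁻¹ * ι tZ * n⁻¹⁻¹ = ι (tA * tZ) := by
          rw [← hAZ]; group
        refine root_count h hn2 hAZ' ?_ ?_ card_Z card_AZ
        · intro x hx hxx
          rcases hs2 x hx with h1 | ⟨t, rfl⟩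
          · exact h1
          · exfalso
            rw [outer_sq hs3, hs4, ← map_mul] at hxx
            have h1 := h.inj hxx
            exact outer_ne_A t.2 (congrArg Subtype.val (mul_right_cancel h1))
        · exact ⟨s, hsP, hs4, hs1⟩

/-- `P` absorbs the 2-subgroups of the centralizer of `z` -/
def Absorb (P : Subgroup G) (z : G) : Prop :=
  ∀ Q : Subgroup G, IsPGroup 2 Q → (∀ x ∈ Q, x * z = z * x) →
    ∃ c, c * z * c⁻¹ = z ∧ ∀ x ∈ Q, c * x * c⁻¹ ∈ P

theorem exists_sylow [Finite G] (h : Data ι P) (hP : IsPGroup 2 P) (ha : Absorb P (ι tZ)) :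
    ∃ S : Sylow 2 G, (S : Subgroup G) = P := by
  obtain ⟨S, hS⟩ := hP.exists_le_sylow
  refine ⟨S, le_antisymm ?_ hS⟩
  by_contra hcon
  -- an element of the normalizer of `P` in `S` outside of `P`
  have hp2 : Fact (Nat.Prime 2) := ⟨Nat.prime_two⟩
  have hnil : Group.IsNilpotent S := S.2.isNilpotent
  have hlt : P.subgroupOf (S : Subgroup G) < ⊤ := by
    rw [lt_top_iff_ne_top]
    intro htop
    exact hcon (subgroupOf_eq_top.mp htop)
  have hlt2 := Group.normalizerCondition_of_isNilpotent (P.subgroupOf (S : Subgroup G)) hlt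
  obtain ⟨x, hxn, hxP⟩ := SetLike.exists_of_lt hlt2
  have hxn' : ∀ y, y ∈ P ↔ (x : G) * y * (x : G)⁻¹ ∈ P := by
    intro y
    constructor
    · intro hy
      have := (mem_normalizer_iff.mp hxn ⟨y, hS hy⟩).mp hy
      exact this
    · intro hy
      have hyS : y ∈ (S : Subgroup G) := by
        have h1 : (x : G)⁻¹ * ((x : G) * y * (x : G)⁻¹) * x = y := by group
        rw [← h1]
        exact mul_mem (mul_mem (inv_mem x.2) (hS hy)) x.2
      exact (mem_normalizer_iff.mp hxn ⟨y, hyS⟩).mpr hy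
  have hxz := h.normalizer hxn'
  set Q : Subgroup G := P ⊔ zpowers (x : G) with hQ
  have hQS : Q ≤ S := sup_le hS (by rw [zpowers_le]; exact x.2)
  have hQp : IsPGroup 2 Q := S.2.to_le hQS
  have hQc : Q ≤ centralizer {ι tZ} := by
    refine sup_le ?_ ?_
    · intro y hy
      rw [mem_centralizer_singleton_iff]
      exact (h.central_Z hy)
    · rw [zpowers_le, mem_centralizer_singleton_iff]
      rw [mul_inv_eq_iff_eq_mul] at hxz
      exact hxz
  obtain ⟨c, hc, hcQ⟩ := ha Q hQp fun y hy => mem_centralizer_singleton_iff.mp (hQc hy)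
  have h1 : Nat.card Q ≤ Nat.card P := by
    refine Nat.card_le_card_of_injective (fun y : Q => (⟨c * y * c⁻¹, hcQ y y.2⟩ : P)) ?_
    intro y y' hyy
    have := congrArg Subtype.val hyy
    exact Subtype.ext (mul_left_cancel (mul_right_cancel this))
  have h2 : P = Q := Subgroup.eq_of_le_of_card_ge le_sup_left h1
  apply hxP
  show (x : G) ∈ P
  rw [h2]
  exact (le_sup_right : zpowers (x : G) ≤ Q) (mem_zpowers _)

/-- a central element of `P` conjugate to `z` is `z` -/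
theorem central_conj [Finite G] (h : Data ι P) (hP : IsPGroup 2 P) (ha : Absorb P (ι tZ)) {t : G}
    (ht : ∀ x ∈ P, x * t = t * x) {g : G} (hg : g * ι tZ * g⁻¹ = t) : t = ι tZ := by
  have hp2 : Fact (Nat.Prime 2) := ⟨Nat.prime_two⟩
  obtain ⟨S, rfl⟩ := exists_sylow h hP ha
  obtain ⟨n, hn, hnt⟩ := Sylow.conj_eq_normalizer_conj_of_mem_centralizer S (ι tZ) g⁻¹
    (by
      rw [mem_centralizer_iff]
      exact fun x hx => h.central_Z hx)
    (by
      rw [mem_centralizer_iff, inv_inv, hg]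
      exact fun x hx => ht x hx)
  rw [inv_inv, hg] at hnt
  have hn' : n⁻¹ ∈ normalizer ((S : Subgroup G) : Set G) := inv_mem hn
  have h1 := h.normalizer (n := n⁻¹) (fun x => mem_normalizer_iff.mp hn' x)
  rw [hnt]
  rw [inv_inv] at h1
  exact h1

/-- **main fusion lemma** -/
theorem isolated [Finite G] (h : Data ι P) (hP : IsPGroup 2 P) (ha : Absorb P (ι tZ))
    (hinv : ∀ t : T, t * t = 1 → t ≠ 1 → t ≠ tZ →
      ∃ g, g * ι t * g⁻¹ = ι tA ∨ g * ι t * g⁻¹ = ι (tA * tZ)) :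
    ∀ g : G, g * ι tZ * g⁻¹ ∈ P → g * ι tZ * g⁻¹ = ι tZ := by
  have hA : ∀ g : G, g * ι tZ * g⁻¹ ≠ ι tA := by
    intro g hg
    have h1 := central_conj h hP ha (fun x hx => h.central_A hx) hg
    exact tA_ne_tZ (h.inj h1)
  have hAZ : ∀ g : G, g * ι tZ * g⁻¹ ≠ ι (tA * tZ) := by
    intro g hg
    have h1 := central_conj h hP ha (t := ι (tA * tZ)) (fun x hx => by
      rw [map_mul, ← mul_assoc, h.central_A hx, mul_assoc, h.central_Z hx, mul_assoc]) hg
    exact tAZ_ne_tZ (h.inj h1)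
  have hzz : ι tZ * ι tZ = 1 := by rw [← map_mul, tZ_sq, map_one]
  have hz1 : ι tZ ≠ 1 := fun h1 => tZ_ne (h.inj (by rw [h1, map_one]))
  -- elements of the range
  have hrange : ∀ (g : G) (t : T), g * ι tZ * g⁻¹ = ι t → t = tZ := by
    intro g t hg
    by_contra hne
    have h1 : t * t = 1 := by
      apply h.inj
      rw [map_mul, ← hg, map_one]
      calc g * ι tZ * g⁻¹ * (g * ι tZ * g⁻¹) = g * (ι tZ * ι tZ) * g⁻¹ := by group
        _ = 1 := by rw [hzz]; group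
    have h2 : t ≠ 1 := by
      rintro rfl
      rw [map_one, mul_inv_eq_one, mul_eq_left] at hg
      exact hz1 hg
    obtain ⟨k, hk | hk⟩ := hinv t h1 h2 hne
    · apply hA (k * g)
      rw [← hk, ← hg]; group
    · apply hAZ (k * g)
      rw [← hk, ← hg]; group
  rcases h.out with ho | ⟨s, hsP, hs1, hs2, hs3, hs4⟩
  · intro g hg
    obtain ⟨t, ht⟩ := ho _ hg
    rw [ht, hrange g t ht]
  · rcases hs4 with hs4 | hs4
    · -- `s² = 1`
      have houter : ∀ t : T, (ι t * s) * (ι t * s) = 1 → ∃ y : T, ι t * s = ι y * s * (ι y)⁻¹ := by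
        intro t ht
        rw [outer_sq hs3, hs4, mul_one] at ht
        have h1 : t * tau t = 1 := h.inj (by rw [ht, map_one])
        obtain ⟨y, hy, hye⟩ := outer_one t.2 (congrArg Subtype.val h1)
        refine ⟨⟨y, hy⟩, ?_⟩
        have h2 : t * tau ⟨y, hy⟩ = ⟨y, hy⟩ := Subtype.ext hye
        have h3 : s * (ι ⟨y, hy⟩)⁻¹ = (ι (tau ⟨y, hy⟩))⁻¹ * s := by
          have h4 := hs3 ⟨y, hy⟩
          rw [eq_inv_mul_iff_mul_eq, ← mul_assoc, ← h4, mul_inv_cancel_right]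
        rw [mul_assoc, h3, ← mul_assoc]
        congr 1
        rw [eq_mul_inv_iff_mul_eq, ← map_mul, h2]
      intro g hg
      by_contra hne
      -- `s` is conjugate to `z`
      have hgsq : (g * ι tZ * g⁻¹) * (g * ι tZ * g⁻¹) = 1 := by
        calc g * ι tZ * g⁻¹ * (g * ι tZ * g⁻¹) = g * (ι tZ * ι tZ) * g⁻¹ := by group
          _ = 1 := by rw [hzz]; group
      obtain ⟨g0, hg0⟩ : ∃ g0, g0 * s * g0⁻¹ = ι tZ := by
        rcases hs2 _ hg with ⟨t, ht⟩ | ⟨t, ht⟩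
        · exact absurd (by rw [ht, hrange g t ht]) hne
        · rw [ht] at hgsq
          obtain ⟨y, hy⟩ := houter t hgsq
          rw [← ht] at hy
          refine ⟨g⁻¹ * ι y, ?_⟩
          calc g⁻¹ * ι y * s * (g⁻¹ * ι y)⁻¹ = g⁻¹ * (ι y * s * (ι y)⁻¹) * g := by group
            _ = ι tZ := by rw [← hy]; group
      -- the elementary abelian subgroup
      set E : Subgroup G := P ⊓ centralizer {s} with hE
      have hEmem : ∀ x, x ∈ E ↔ x ∈ P ∧ x * s = s * x := by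
        intro x
        rw [hE, mem_inf, mem_centralizer_singleton_iff]
      have hEsq : ∀ x ∈ E, x * x = 1 := by
        intro x hx
        obtain ⟨hxP, hxs⟩ := (hEmem x).mp hx
        have key : ∀ t : T, ι t * s = s * ι t → t * t = 1 := by
          intro t ht
          rw [hs3] at ht
          have h1 : tau t = t := h.inj (mul_right_cancel ht).symm
          exact Subtype.ext (fixed_sq t.2 (congrArg Subtype.val h1))
        rcases hs2 x hxP with ⟨t, rfl⟩ | ⟨t, rfl⟩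
        · rw [← map_mul, key t hxs, map_one]
        · have h1 : ι t * s = s * ι t := by
            have h2 : ι t * s * s = s * ι t * s := by rw [hxs]; group
            exact mul_right_cancel h2
          calc ι t * s * (ι t * s) = ι t * s * (s * ι t) := by rw [← h1]
            _ = ι t * (s * s) * ι t := by group
            _ = 1 := by rw [hs4, mul_one, ← map_mul, key t h1, map_one]
      have hEcomm : ∀ x ∈ E, ∀ y ∈ E, x * y = y * x := by
        intro x hx y hy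
        have h1 := hEsq _ (E.mul_mem hx hy)
        have h2 : x * y = (x * y)⁻¹ := eq_inv_of_mul_eq_one_left h1
        rw [mul_inv_rev, inv_eq_of_mul_eq_one_left (hEsq x hx),
          inv_eq_of_mul_eq_one_left (hEsq y hy)] at h2
        exact h2
      have hEp : IsPGroup 2 E := hP.to_le inf_le_left
      -- move `E` into `P`
      obtain ⟨k, hkz, hkE⟩ := ha (E.map (MulAut.conj g0).toMonoidHom) (hEp.map _) (by
        rintro _ ⟨x, hx, rfl⟩
        show g0 * x * g0⁻¹ * ι tZ = ι tZ * (g0 * x * g0⁻¹)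
        rw [← hg0]
        have h1 := ((hEmem x).mp hx).2
        calc g0 * x * g0⁻¹ * (g0 * s * g0⁻¹) = g0 * (x * s) * g0⁻¹ := by group
          _ = g0 * (s * x) * g0⁻¹ := by rw [h1]
          _ = _ := by group)
      set g1 := k * g0 with hg1
      have hg1s : g1 * s * g1⁻¹ = ι tZ := by
        calc g1 * s * g1⁻¹ = k * (g0 * s * g0⁻¹) * k⁻¹ := by rw [hg1]; group
          _ = ι tZ := by rw [hg0, hkz]
      have hg1E : ∀ x ∈ E, g1 * x * g1⁻¹ ∈ P := by
        intro x hx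
        have h1 := hkE (g0 * x * g0⁻¹) ⟨x, hx, rfl⟩
        have h2 : k * (g0 * x * g0⁻¹) * k⁻¹ = g1 * x * g1⁻¹ := by rw [hg1]; group
        rwa [← h2]
      have hzE : ι tZ ∈ E := (hEmem _).mpr ⟨h.le _, by rw [hs3, tau_Z]⟩
      have hsE : s ∈ E := (hEmem _).mpr ⟨hsP, rfl⟩
      have hAE : ι tA ∈ E := (hEmem _).mpr ⟨h.le _, by rw [hs3, tau_A]⟩
      -- the image of `z` is outer
      obtain ⟨y, hy⟩ : ∃ y : T, g1 * ι tZ * g1⁻¹ = ι y * s * (ι y)⁻¹ := by
        rcases hs2 _ (hg1E _ hzE) with ⟨t, ht⟩ | ⟨t, ht⟩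
        · exfalso
          have h1 := hrange g1 t ht
          have h2 : g1 * ι tZ * g1⁻¹ = g1 * s * g1⁻¹ := by rw [ht, h1, hg1s]
          have h3 := mul_left_cancel (mul_right_cancel h2)
          exact hs1 tZ h3.symm
        · have h1 : (ι t * s) * (ι t * s) = 1 := by
            rw [← ht]
            calc g1 * ι tZ * g1⁻¹ * (g1 * ι tZ * g1⁻¹) = g1 * (ι tZ * ι tZ) * g1⁻¹ := by group
              _ = 1 := by rw [hzz]; group
          obtain ⟨y, hy⟩ := houter t h1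
          exact ⟨y, by rw [ht, hy]⟩
      set g2 := (ι y)⁻¹ * g1 with hg2
      have hg2s : g2 * s * g2⁻¹ = ι tZ := by
        calc g2 * s * g2⁻¹ = (ι y)⁻¹ * (g1 * s * g1⁻¹) * ι y := by rw [hg2]; group
          _ = (ι y)⁻¹ * (ι tZ * ι y) := by rw [hg1s]; group
          _ = (ι y)⁻¹ * (ι y * ι tZ) := by rw [← map_mul, ← map_mul, comm_tZ]
          _ = ι tZ := by group
      have hg2z : g2 * ι tZ * g2⁻¹ = s := by
        calc g2 * ι tZ * g2⁻¹ = (ι y)⁻¹ * (g1 * ι tZ * g1⁻¹) * ι y := by rw [hg2]; group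
          _ = s := by rw [hy]; group
      -- `g2` normalizes `E`
      have hg2E : ∀ x ∈ E, g2 * x * g2⁻¹ ∈ E := by
        intro x hx
        rw [hEmem]
        constructor
        · have h1 : g2 * x * g2⁻¹ = (ι y)⁻¹ * (g1 * x * g1⁻¹) * ι y := by rw [hg2]; group
          rw [h1]
          exact P.mul_mem (P.mul_mem (P.inv_mem (h.le y)) (hg1E x hx)) (h.le y)
        · rw [← hg2z]
          calc g2 * x * g2⁻¹ * (g2 * ι tZ * g2⁻¹) = g2 * (x * ι tZ) * g2⁻¹ := by group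
            _ = g2 * (ι tZ * x) * g2⁻¹ := by rw [hEcomm x hx _ hzE]
            _ = _ := by group
      have hg2E' : ∀ x ∈ E, g2⁻¹ * x * g2 ∈ E := by
        have h1 : E.map (MulAut.conj g2).toMonoidHom ≤ E := by
          rintro _ ⟨x, hx, rfl⟩
          exact hg2E x hx
        have h2 : E.map (MulAut.conj g2).toMonoidHom = E := by
          refine Subgroup.eq_of_le_of_card_ge h1 ?_
          rw [Subgroup.card_map_of_injective (MulAut.conj g2).injective]
        intro x hx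
        rw [← h2] at hx
        obtain ⟨w, hw, rfl⟩ := hx
        have h3 : g2⁻¹ * (MulAut.conj g2).toMonoidHom w * g2 = w := by
          show g2⁻¹ * (g2 * w * g2⁻¹) * g2 = w
          group
        rw [h3]; exact hw
      -- elements of `E` not conjugate to `z` are inner
      have hinner : ∀ x ∈ E, x ≠ 1 → (∀ g, g * ι tZ * g⁻¹ ≠ x) → ∃ t, g2⁻¹ * x * g2 = ι t := by
        intro x hx hx1 hxz
        have h1 := hg2E' x hx
        rcases hs2 _ ((hEmem _).mp h1).1 with h2 | ⟨t, ht⟩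
        · exact h2
        · exfalso
          have h3 := hEsq _ h1
          rw [ht] at h3
          obtain ⟨w, hw⟩ := houter t h3
          rw [← ht] at hw
          apply hxz (g2 * ι w * g2⁻¹)
          calc g2 * ι w * g2⁻¹ * ι tZ * (g2 * ι w * g2⁻¹)⁻¹
              = g2 * (ι w * (g2⁻¹ * ι tZ * g2) * (ι w)⁻¹) * g2⁻¹ := by group
            _ = g2 * (ι w * s * (ι w)⁻¹) * g2⁻¹ := by
              have h4 : g2⁻¹ * ι tZ * g2 = s := by rw [← hg2s]; group
              rw [h4]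
            _ = g2 * (g2⁻¹ * x * g2) * g2⁻¹ := by rw [hw]
            _ = x := by group
      obtain ⟨u, hu⟩ := hinner (ι tA) hAE (fun h1 => tA_ne (h.inj (by rw [h1, map_one]))) hA
      obtain ⟨v, hv⟩ := hinner (ι (tA * tZ)) (by rw [map_mul]; exact E.mul_mem hAE hzE)
        (fun h1 => tAZ_ne_one (h.inj (by rw [h1, map_one]))) hAZ
      apply hs1 (u * v)
      rw [map_mul, ← hu, ← hv]
      calc s = g2⁻¹ * ι tZ * g2 := by rw [← hg2s]; group
        _ = g2⁻¹ * ι (tA * (tA * tZ)) * g2 := by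
          have h5 : tA * (tA * tZ) = tZ := by rw [← mul_assoc, tA_sq, one_mul]
          rw [h5]
        _ = g2⁻¹ * (ι tA * ι (tA * tZ)) * g2 := by rw [map_mul]
        _ = _ := by group
    · -- `s² = z`: no outer involutions
      intro g hg
      rcases hs2 _ hg with ⟨t, ht⟩ | ⟨t, ht⟩
      · rw [ht, hrange g t ht]
      · exfalso
        have hgsq : (g * ι tZ * g⁻¹) * (g * ι tZ * g⁻¹) = 1 := by
          calc g * ι tZ * g⁻¹ * (g * ι tZ * g⁻¹) = g * (ι tZ * ι tZ) * g⁻¹ := by group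
            _ = 1 := by rw [hzz]; group
        rw [ht, outer_sq hs3, hs4, ← map_mul] at hgsq
        have h1 : t * tau t * tZ = 1 := h.inj (by rw [hgsq, map_one])
        have h2 : t * tau t = tZ := by
          calc t * tau t = t * tau t * (tZ * tZ) := by rw [tZ_sq, mul_one]
            _ = (t * tau t * tZ) * tZ := by group
            _ = tZ := by rw [h1, one_mul]
        exact outer_ne_Z t.2 (congrArg Subtype.val h2)

end

end Cfsg.Agent.GH.MTwFus
end

-- part: GH/MTwAut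
section
/-!
# 2.M12: automorphisms of the double cover
-/

set_option autoImplicit false
set_option maxRecDepth 100000

open Subgroup
open scoped commutatorElement Pointwise

namespace Cfsg.Agent.GH.MTwAut

open Cfsg.Agent.CoThreeStd.MTwelve (H wd wd_append wd_nil wd_cons wd_eq wd_ne wd_reverse eqW cj wd_cj
  inv_class card_H closure_gen wordsV incrV lenV incr_pairwise sig sig_eq card_cent_v act)
open Cfsg.Agent.GH.MTwBound Cfsg.Agent.GH.MTwModel Cfsg.Agent.GH.MTwSyl Cfsg.Agent.GH.MTwFacts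
  Cfsg.Agent.GH.MTwCover Cfsg.Agent.GH.MTwPsi Cfsg.Agent.GH.MTwCenter
open Cfsg.Agent.GH.MTwCode (Pm)

/-! ### the conjugates of `a0` in M12 -/

theorem conj_list (v : H) (h : ∃ c, c⁻¹ * a0 * c = v) : ∃ m ∈ wordsV, v = wd (cj [1, 3] m) := by
  classical
  have hfin : Finite H := inferInstance
  have hnd : (wordsV.map fun m => wd (cj [1, 3] m)).Nodup := by
    refine List.pairwise_map.mpr ?_
    exact (incr_pairwise incrV).imp fun h he => ne_of_lt h (sig_eq he 24 le_rfl)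
  set S : Finset H := (wordsV.map fun m => wd (cj [1, 3] m)).toFinset with hS
  have hScard : S.card = 495 := by
    rw [hS, List.toFinset_card_of_nodup hnd, List.length_map, lenV]
  set C : Subgroup H := centralizer {a0} with hC
  have hCcard : Nat.card C = 192 := by
    rw [hC, a0_eq]; exact card_cent_v
  have hidx : Nat.card (H ⧸ C) = 495 := by
    have h1 := Subgroup.card_eq_card_quotient_mul_card_subgroup C
    rw [card_H, hCcard] at h1
    omega
  let F : H ⧸ C → H := Quotient.lift (fun c : H => c * a0 * c⁻¹) (by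
    intro x y hxy
    have h1 : x⁻¹ * y ∈ C := QuotientGroup.leftRel_apply.mp hxy
    have h2 := mem_centralizer_iff.mp h1 a0 rfl
    show x * a0 * x⁻¹ = y * a0 * y⁻¹
    calc x * a0 * x⁻¹ = x * (a0 * (x⁻¹ * y)) * y⁻¹ := by group
      _ = x * ((x⁻¹ * y) * a0) * y⁻¹ := by rw [h2]
      _ = y * a0 * y⁻¹ := by group)
  have hF : ∀ c : H, F (c : H ⧸ C) = c * a0 * c⁻¹ := fun c => rfl
  have hsub : (S : Set H) ⊆ Set.range F := by
    intro x hx
    have hx' : x ∈ wordsV.map fun m => wd (cj [1, 3] m) := by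
      rw [← List.mem_toFinset]; exact hx
    obtain ⟨m, _, rfl⟩ := List.mem_map.mp hx'
    refine ⟨((wd m)⁻¹ : H), ?_⟩
    rw [hF, wd_cj, inv_inv]; rfl
  have hle : (Set.range F).ncard ≤ (S : Set H).ncard := by
    rw [Set.ncard_coe_finset, hScard, ← hidx]
    exact Finite.card_range_le F
  have heq := Set.eq_of_subset_of_ncard_le hsub hle (Set.toFinite _)
  obtain ⟨c, hc⟩ := h
  have hv : v ∈ (S : Set H) := by
    rw [heq]
    exact ⟨(c⁻¹ : H), by rw [hF, inv_inv, hc]⟩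
  have hv' : v ∈ wordsV.map fun m => wd (cj [1, 3] m) := by
    rw [← List.mem_toFinset]; exact hv
  obtain ⟨m, hm, h⟩ := List.mem_map.mp hv'
  exact ⟨m, hm, h.symm⟩

/-- word of `c = a b` -/
def wcc : List ℕ := [1, 3, 2, 1, 5]
/-- word of the second involution -/
def wa1 : List ℕ := cj [1, 3] [5, 1, 5, 0]

def cpow (i : ℕ) : List ℕ := (List.replicate i wcc).flatten

theorem wd_cpow (i : ℕ) : wd (cpow i) = (a0 * b0) ^ i := by
  induction i with
  | zero => rw [pow_zero]; rfl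
  | succ n ih =>
    rw [cpow, List.replicate_succ, List.flatten_cons, wd_append, pow_succ']
    have h1 : wd wcc = a0 * b0 := by
      rw [a0, b0, ← wd_append]; rfl
    rw [h1, ← ih]; rfl

/-- test: conjugate to `a0` or to `a1` by a power of `c` -/
def test (m : List ℕ) : Bool :=
  if eqW (cj [1, 3] m ++ wcc ++ (cj [1, 3] m ++ wcc) ++ (cj [1, 3] m ++ wcc)) [] then
    (List.range 11).any fun i => eqW (cj [1, 3] m) (cj [1, 3] (cpow i)) ||
      eqW (cj [1, 3] m) (cj wa1 (cpow i))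
  else true

private theorem _root_.Cfsg.Agent.KO3c54d2a.e0.{ku, kv} {α : Type kv} {M : List α → Sort ku} (φ : ∀ l, M l) {z : M List.nil} {s : ∀ a l, M l → M (List.cons a l)} (h0 : φ List.nil = z) (hs : ∀ a l, φ (List.cons a l) = s a l (φ l)) (l : List α) : φ l = @List.rec α M z s l := List.rec h0 (fun a l ih => (hs a l).trans (congrArg (s a l) ih)) l
private noncomputable def _root_.Cfsg.Agent.KO3c54d2a.k1.{ku0} : type_of% @List.all.{ku0} := @(fun x0 x1 x2 => @List.rec.{(ku0+1), ku0} @x0 @(fun x3 => (@x0 → @Bool) → @Bool) @(fun x3 => @Bool.true) @(fun x3 x4 x5 x6 => @Bool.rec.{1} @(fun x7 => @Bool) @Bool.false (@x5 @x6) (@x6 @x3)) @x1 @x2)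
private theorem _root_.Cfsg.Agent.KO3c54d2a.e1.{ku0} : @List.all.{ku0} = @_root_.Cfsg.Agent.KO3c54d2a.k1.{ku0} := by delta _root_.Cfsg.Agent.KO3c54d2a.k1; funext a0 a1 a2; refine (congrFun (_root_.Cfsg.Agent.KO3c54d2a.e0 (fun a1 a2 => @List.all.{ku0} a0 a1 a2) ?_ (fun c0 c1 => ?_) a1) a2 :) <;> (rfl')
private noncomputable def _root_.Cfsg.Agent.KO3c54d2a.oB.{ku} (α : Sort ku) (c : Bool) (f t : α) : α := @Decidable.rec (c = true) (fun _ => α) (fun _ => f) (fun _ => t) (instDecidableEqBool c true)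
private noncomputable def _root_.Cfsg.Agent.KO3c54d2a.k2.{ku} (α : Sort ku) (c : Bool) (f t : α) : α := @Bool.rec (fun _ => α) f t c
private theorem _root_.Cfsg.Agent.KO3c54d2a.e2.{ku} : @_root_.Cfsg.Agent.KO3c54d2a.oB.{ku} = @_root_.Cfsg.Agent.KO3c54d2a.k2.{ku} := funext fun α => funext fun c => funext fun f => funext fun t => by cases c <;> rfl
private theorem _root_.Cfsg.Agent.KO3c54d2a.e3.{ku} {M : Nat → Sort ku} (φ : ∀ n, M n) {z : M Nat.zero} {s : ∀ n, M n → M (Nat.succ n)} (h0 : φ Nat.zero = z) (hs : ∀ n, φ (Nat.succ n) = s n (φ n)) (n : Nat) : φ n = @Nat.rec M z s n := Nat.rec h0 (fun n ih => (hs n).trans (congrArg (s n) ih)) n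
private noncomputable def _root_.Cfsg.Agent.KO3c54d2a.k4 : (by first | exact type_of% @Cfsg.Agent.CoThreeStd.MTwelve.allB | exact Unit : Sort _) := by first | (refine @Subtype.val _ (fun g => @Cfsg.Agent.CoThreeStd.MTwelve.allB = @g) (@Subtype.mk _ _ (@(fun x0 x1 => @Nat.rec.{1} @(fun x2 => @Bool) @Bool.true @(fun x2 x3 => @Bool.rec.{1} @(fun x4 => @Bool) @Bool.false @x3 (@x0 @x2)) @x1)) ?_); funext a0 a1; refine (_root_.Cfsg.Agent.KO3c54d2a.e3 (fun a1 => @Cfsg.Agent.CoThreeStd.MTwelve.allB a0 a1) ?_ (fun c0 => ?_) a1 :) <;> (rfl')) | exact @Cfsg.Agent.CoThreeStd.MTwelve.allB | exact ()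
private theorem _root_.Cfsg.Agent.KO3c54d2a.e4 : (by first | exact @Cfsg.Agent.CoThreeStd.MTwelve.allB = @_root_.Cfsg.Agent.KO3c54d2a.k4 | exact True : Prop) := by first | (delta _root_.Cfsg.Agent.KO3c54d2a.k4; exact @Subtype.property _ (fun g => @Cfsg.Agent.CoThreeStd.MTwelve.allB = @g) _) | rfl | trivial
private noncomputable def _root_.Cfsg.Agent.KO3c54d2a.k5 : type_of% @Nat.decEq := @(letI c0 := @Nat.beq; @(fun x0 x1 => @Bool.rec.{1} @(fun x2 => (@Eq.{1} _ (@c0 @x0 @x1) @x2) → @Decidable (@Eq.{1} _ @x0 @x1)) @(fun x2 => @Decidable.isFalse _ (@Nat.ne_of_beq_eq_false _ _ @x2)) @(fun x2 => @Decidable.isTrue _ (@Nat.eq_of_beq_eq_true _ _ @x2)) (@c0 @x0 @x1) (@Eq.refl.{1} _ (@c0 @x0 @x1))))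
private theorem _root_.Cfsg.Agent.KO3c54d2a.e5 : @Nat.decEq = @_root_.Cfsg.Agent.KO3c54d2a.k5 := by delta _root_.Cfsg.Agent.KO3c54d2a.k5; exact Subsingleton.elim _ _
private noncomputable def _root_.Cfsg.Agent.KO3c54d2a.k6 : (by first | exact type_of% @Cfsg.Agent.CoThreeStd.MTwelve.ptab | exact Unit : Sort _) := by first | (refine @Subtype.val _ (fun g => @Cfsg.Agent.CoThreeStd.MTwelve.ptab = @g) (@Subtype.mk _ _ (@(letI c0 := @Decidable.rec.{1}; letI c1 := @Eq.rec.{1, 1}; letI c2 := @Eq.symm.{1}; letI c3 := @Cfsg.Agent.KO3c54d2a.k5; @(fun x0 => @c0 _ @(fun x1 => ℕ) @(fun x1 => @c0 _ @(fun x2 => ℕ) @(fun x2 => @c0 _ @(fun x3 => ℕ) @(fun x3 => @c0 _ @(fun x4 => ℕ) @(fun x4 => @c0 _ @(fun x5 => ℕ) @(fun x5 => @c0 _ @(fun x6 => ℕ) @(fun x6 => nat_lit 984818244535754528103549039458486304) @(fun x6 => @c1 ℕ (nat_lit 5) @(fun x7 x8 => ℕ) (nat_lit 470695984958501183632338083676959939) @x0 (@c2 _ _ _ @x6)) (@c3 @x0 (nat_lit 5)))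 @(fun x5 => @c1 ℕ (nat_lit 4) @(fun x6 x7 => ℕ) (nat_lit 726038449334658011187390141433938018) @x0 (@c2 _ _ _ @x5)) (@c3 @x0 (nat_lit 4))) @(fun x4 => @c1 ℕ (nat_lit 3) @(fun x5 x6 => ℕ) (nat_lit 316135199773439064679838769418249352) @x0 (@c2 _ _ _ @x4)) (@c3 @x0 (nat_lit 3))) @(fun x3 => @c1 ℕ (nat_lit 2) @(fun x4 x5 => ℕ) (nat_lit 944112378068428653973304136837505606) @x0 (@c2 _ _ _ @x3)) (@c3 @x0 (nat_lit 2))) @(fun x2 => @c1 ℕ (nat_lit 1) @(fun x3 x4 => ℕ) (nat_lit 731113300341743120980327113948168290) @x0 (@c2 _ _ _ @x2)) (@c3 @x0 (nat_lit 1))) @(fun x1 => @c1 ℕ (nat_lit 0) @(fun x2 x3 => ℕ) (nat_lit 234127864083396158983920601914215425) @x0 (@c2 _ _ _ @x1)) (@c3 @x0 (nat_lit 0))))) ?_); rewrite [← Cfsg.Agent.KO3c54d2a.e5]; rfl') | exact @Cfsg.Agent.CoThreeStd.MTwelve.ptab | exact ()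
private theorem _root_.Cfsg.Agent.KO3c54d2a.e6 : (by first | exact @Cfsg.Agent.CoThreeStd.MTwelve.ptab = @_root_.Cfsg.Agent.KO3c54d2a.k6 | exact True : Prop) := by first | (delta _root_.Cfsg.Agent.KO3c54d2a.k6; exact @Subtype.property _ (fun g => @Cfsg.Agent.CoThreeStd.MTwelve.ptab = @g) _) | rfl | trivial
private noncomputable def _root_.Cfsg.Agent.KO3c54d2a.k7 : (by first | exact type_of% @Cfsg.Agent.CoThreeStd.MTwelve.act | exact Unit : Sort _) := by first | (refine @Subtype.val _ (fun g => @Cfsg.Agent.CoThreeStd.MTwelve.act = @g) (@Subtype.mk _ _ (@(fun x0 x1 => @List.rec.{1, 0} ℕ @(fun x2 => ℕ → ℕ) @(fun x2 => @x2) @(fun x2 x3 x4 x5 => @Nat.mod (@Nat.shiftRight (@Cfsg.Agent.KO3c54d2a.k6 @x2) (@Nat.mul (nat_lit 5) (@x4 @x5))) (nat_lit 32)) @x0 @x1)) ?_); rewrite [← Cfsg.Agent.KO3c54d2a.e6]; funext a0 a1; refine (congrFun (_root_.Cfsg.Agent.KO3c54d2a.e0 (fun a0 a1 => @Cfsg.Agent.CoThreeStd.MTwelve.act a0 a1) ?_ (fun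 c0 c1 => ?_) a0) a1 :) <;> ((try delta Cfsg.Agent.CoThreeStd.MTwelve.act Cfsg.Agent.CoThreeStd.MTwelve.act._f); (try generalize @Cfsg.Agent.CoThreeStd.MTwelve.ptab = g0); rfl')) | exact @Cfsg.Agent.CoThreeStd.MTwelve.act | exact ()
private theorem _root_.Cfsg.Agent.KO3c54d2a.e7 : (by first | exact @Cfsg.Agent.CoThreeStd.MTwelve.act = @_root_.Cfsg.Agent.KO3c54d2a.k7 | exact True : Prop) := by first | (delta _root_.Cfsg.Agent.KO3c54d2a.k7; exact @Subtype.property _ (fun g => @Cfsg.Agent.CoThreeStd.MTwelve.act = @g) _) | rfl | trivial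
private noncomputable def _root_.Cfsg.Agent.KO3c54d2a.k8.{ku0} : type_of% @List.append.{ku0} := @(fun x0 x1 x2 => @List.rec.{(ku0+1), ku0} @x0 @(fun x3 => (@List.{ku0} @x0) → @List.{ku0} @x0) @(fun x3 => @x3) @(fun x3 x4 x5 x6 => @x3 :: (@x5 @x6)) @x1 @x2)
private theorem _root_.Cfsg.Agent.KO3c54d2a.e8.{ku0} : @List.append.{ku0} = @_root_.Cfsg.Agent.KO3c54d2a.k8.{ku0} := by delta _root_.Cfsg.Agent.KO3c54d2a.k8; funext a0 a1 a2; refine (congrFun (_root_.Cfsg.Agent.KO3c54d2a.e0 (fun a1 a2 => @List.append.{ku0} a0 a1 a2) ?_ (fun c0 c1 => ?_) a1) a2 :) <;> (rfl')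
private noncomputable def _root_.Cfsg.Agent.KO3c54d2a.k9.{ku0} : type_of% @List.reverseAux.{ku0} := @(fun x0 x1 x2 => @List.rec.{(ku0+1), ku0} @x0 @(fun x3 => (@List.{ku0} @x0) → @List.{ku0} @x0) @(fun x3 => @x3) @(fun x3 x4 x5 x6 => @x5 (@x3 :: @x6)) @x1 @x2)
private theorem _root_.Cfsg.Agent.KO3c54d2a.e9.{ku0} : @List.reverseAux.{ku0} = @_root_.Cfsg.Agent.KO3c54d2a.k9.{ku0} := by delta _root_.Cfsg.Agent.KO3c54d2a.k9; funext a0 a1 a2; refine (congrFun (_root_.Cfsg.Agent.KO3c54d2a.e0 (fun a1 a2 => @List.reverseAux.{ku0} a0 a1 a2) ?_ (fun c0 c1 => ?_) a1) a2 :) <;> (rfl')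
private noncomputable def _root_.Cfsg.Agent.KO3c54d2a.k10 : (by first | exact type_of% @Cfsg.Agent.CoThreeStd.MTwelve.cj | exact Unit : Sort _) := by first | (refine @Subtype.val _ (fun g => @Cfsg.Agent.CoThreeStd.MTwelve.cj = @g) (@Subtype.mk _ _ (@(fun x0 x1 => @Cfsg.Agent.KO3c54d2a.k8.{0} _ (@Cfsg.Agent.KO3c54d2a.k9.{0} _ @x1 []) (@Cfsg.Agent.KO3c54d2a.k8.{0} _ @x0 @x1))) ?_); rewrite [← Cfsg.Agent.KO3c54d2a.e9.{0}, ← Cfsg.Agent.KO3c54d2a.e8.{0}]; rfl') | exact @Cfsg.Agent.CoThreeStd.MTwelve.cj | exact ()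
private theorem _root_.Cfsg.Agent.KO3c54d2a.e10 : (by first | exact @Cfsg.Agent.CoThreeStd.MTwelve.cj = @_root_.Cfsg.Agent.KO3c54d2a.k10 | exact True : Prop) := by first | (delta _root_.Cfsg.Agent.KO3c54d2a.k10; exact @Subtype.property _ (fun g => @Cfsg.Agent.CoThreeStd.MTwelve.cj = @g) _) | rfl | trivial
private noncomputable def _root_.Cfsg.Agent.KO3c54d2a.k11.{ku0} : type_of% @List.any.{ku0} := @(fun x0 x1 x2 => @List.rec.{(ku0+1), ku0} @x0 @(fun x3 => (@x0 → @Bool) → @Bool) @(fun x3 => @Bool.false) @(fun x3 x4 x5 x6 => @Bool.rec.{1} @(fun x7 => @Bool) (@x5 @x6) @Bool.true (@x6 @x3)) @x1 @x2)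
private theorem _root_.Cfsg.Agent.KO3c54d2a.e11.{ku0} : @List.any.{ku0} = @_root_.Cfsg.Agent.KO3c54d2a.k11.{ku0} := by delta _root_.Cfsg.Agent.KO3c54d2a.k11; funext a0 a1 a2; refine (congrFun (_root_.Cfsg.Agent.KO3c54d2a.e0 (fun a1 a2 => @List.any.{ku0} a0 a1 a2) ?_ (fun c0 c1 => ?_) a1) a2 :) <;> (rfl')
private noncomputable def _root_.Cfsg.Agent.KO3c54d2a.k12 : type_of% @List.range.loop := @(fun x0 x1 => @Nat.rec.{1} @(fun x2 => (@List.{0} ℕ) → @List.{0} ℕ) @(fun x2 => @x2) @(fun x2 x3 x4 => @x3 (@x2 :: @x4)) @x0 @x1)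
private theorem _root_.Cfsg.Agent.KO3c54d2a.e12 : @List.range.loop = @_root_.Cfsg.Agent.KO3c54d2a.k12 := by delta _root_.Cfsg.Agent.KO3c54d2a.k12; funext a0 a1; refine (congrFun (_root_.Cfsg.Agent.KO3c54d2a.e3 (fun a0 a1 => @List.range.loop a0 a1) ?_ (fun c0 => ?_) a0) a1 :) <;> (rfl')
private noncomputable def _root_.Cfsg.Agent.KO3c54d2a.k13.{ku0} : type_of% @List.flatten.{ku0} := @(fun x0 x1 => @List.rec.{(ku0+1), ku0} (@List.{ku0} @x0) @(fun x2 => @List.{ku0} @x0) [] @(fun x2 x3 x4 => @Cfsg.Agent.KO3c54d2a.k8.{ku0} _ @x2 @x4) @x1)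
private theorem _root_.Cfsg.Agent.KO3c54d2a.e13.{ku0} : @List.flatten.{ku0} = @_root_.Cfsg.Agent.KO3c54d2a.k13.{ku0} := by delta _root_.Cfsg.Agent.KO3c54d2a.k13; rewrite [← Cfsg.Agent.KO3c54d2a.e8.{ku0}]; funext a0 a1; refine (_root_.Cfsg.Agent.KO3c54d2a.e0 (fun a1 => @List.flatten.{ku0} a0 a1) ?_ (fun c0 c1 => ?_) a1 :) <;> (rfl')
private noncomputable def _root_.Cfsg.Agent.KO3c54d2a.k14.{ku0} : type_of% @List.replicate.{ku0} := @(fun x0 x1 x2 => @Nat.rec.{(ku0+1)} @(fun x3 => @x0 → @List.{ku0} @x0) @(fun x3 => []) @(fun x3 x4 x5 => @x5 :: (@x4 @x5)) @x1 @x2)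
private theorem _root_.Cfsg.Agent.KO3c54d2a.e14.{ku0} : @List.replicate.{ku0} = @_root_.Cfsg.Agent.KO3c54d2a.k14.{ku0} := by delta _root_.Cfsg.Agent.KO3c54d2a.k14; funext a0 a1 a2; refine (congrFun (_root_.Cfsg.Agent.KO3c54d2a.e3 (fun a1 a2 => @List.replicate.{ku0} a0 a1 a2) ?_ (fun c0 => ?_) a1) a2 :) <;> (rfl')
private noncomputable def _root_.Cfsg.Agent.KO3c54d2a.k15 : (by first | exact type_of% @Cfsg.Agent.GH.MTwAut.test | exact Unit : Sort _) := by first | (refine @Subtype.val _ (fun g => @Cfsg.Agent.GH.MTwAut.test = @g) (@Subtype.mk _ _ (@(letI c0 := @Cfsg.Agent.KO3c54d2a.k4; letI c1 := @Nat.beq; letI c2 := @Cfsg.Agent.KO3c54d2a.k7; letI c3 := @Cfsg.Agent.KO3c54d2a.k8.{0}; letI c4 := @Cfsg.Agent.KO3c54d2a.k10; letI c5 := @Cfsg.Agent.GH.MTwAut.wcc; letI c6 := @Bool.true; @(fun x0 => @Cfsg.Agent.KO3c54d2a.k2.{1} @Bool (@c0 @(fun x1 => @c1 (@c2 (@c3 _ (@c3 _ (@c3 _ (@c4 ((nat_lit 1) :: ((nat_lit 3) :: [])) @x0) @c5)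 (@c3 _ (@c4 ((nat_lit 1) :: ((nat_lit 3) :: [])) @x0) @c5)) (@c3 _ (@c4 ((nat_lit 1) :: ((nat_lit 3) :: [])) @x0) @c5)) @x1) (@c2 [] @x1)) (nat_lit 24)) @c6 (@Cfsg.Agent.KO3c54d2a.k11.{0} _ (@Cfsg.Agent.KO3c54d2a.k12 (nat_lit 11) []) @(fun x1 => @Bool.rec.{1} @(fun x2 => @Bool) (@c0 @(fun x2 => @c1 (@c2 (@c4 ((nat_lit 1) :: ((nat_lit 3) :: [])) @x0) @x2) (@c2 (@c4 @Cfsg.Agent.GH.MTwAut.wa1 (@Cfsg.Agent.KO3c54d2a.k13.{0} _ (@Cfsg.Agent.KO3c54d2a.k14.{0} _ @x1 @c5))) @x2)) (nat_lit 24)) @c6 (@c0 @(fun x2 => @c1 (@c2 (@c4 ((nat_lit 1) :: ((nat_lit 3) :: [])) @x0) @x2) (@c2 (@c4 ((nat_lit 1) :: ((nat_lit 3) :: [])) (@Cfsg.Agent.KO3c54d2a.k13.{0} _ (@Cfsg.Agent.KO3c54d2a.k14.{0} _ @x1 @c5))) @x2)) (nat_lit 24))))))) ?_); rewrite [← Cfsg.Agent.KO3c54d2a.e14.{0}, ← Cfsg.Agent.KO3c54d2a.e13.{0}, ← Cfsg.Agent.KO3c54d2a.e12, ← Cfsg.Agent.KO3c54d2a.e11.{0}, ← Cfsg.Agent.KO3c54d2a.e10, ← Cfsg.Agent.KO3c54d2a.e8.{0}, ← Cfsg.Agent.KO3c54d2a.e7,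 ← Cfsg.Agent.KO3c54d2a.e4, ← Cfsg.Agent.KO3c54d2a.e2.{1}]; (try delta Cfsg.Agent.GH.MTwAut.test Cfsg.Agent.CoThreeStd.MTwelve.eqW Cfsg.Agent.GH.MTwAut.cpow); (try generalize @Cfsg.Agent.CoThreeStd.MTwelve.allB = g0); (try generalize @Cfsg.Agent.CoThreeStd.MTwelve.act = g1); (try generalize @Cfsg.Agent.CoThreeStd.MTwelve.cj = g2); (try generalize @Cfsg.Agent.GH.MTwAut.wcc = g3); (try generalize @Cfsg.Agent.GH.MTwAut.wa1 = g4); rfl') | exact @Cfsg.Agent.GH.MTwAut.test | exact ()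
private theorem _root_.Cfsg.Agent.KO3c54d2a.e15 : (by first | exact @Cfsg.Agent.GH.MTwAut.test = @_root_.Cfsg.Agent.KO3c54d2a.k15 | exact True : Prop) := by first | (delta _root_.Cfsg.Agent.KO3c54d2a.k15; exact @Subtype.property _ (fun g => @Cfsg.Agent.GH.MTwAut.test = @g) _) | rfl | trivial

theorem test_all : (wordsV.all test) = true := by (first | (rewrite [Cfsg.Agent.KO3c54d2a.e1.{0}, Cfsg.Agent.KO3c54d2a.e15]; decide +kernel) | decide +kernel)

theorem eqW_of_wd {l l' : List ℕ} (h : wd l = wd l') : eqW l l' = true :=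
  Cfsg.Agent.CoThreeStd.MTwelve.eqW_of_wd h

theorem families {v : H} (h : ∃ c, c⁻¹ * a0 * c = v) (h3 : (v * (a0 * b0)) ^ 3 = 1) :
    ∃ i : ℕ, v = ((a0 * b0) ^ i)⁻¹ * a0 * (a0 * b0) ^ i ∨
      v = ((a0 * b0) ^ i)⁻¹ * wd wa1 * (a0 * b0) ^ i := by
  obtain ⟨m, hm, rfl⟩ := conj_list v h
  have h1 := List.all_eq_true.mp test_all m hm
  have hc : wd wcc = a0 * b0 := by rw [a0, b0, ← wd_append]; rfl
  have h2 : eqW (cj [1, 3] m ++ wcc ++ (cj [1, 3] m ++ wcc) ++ (cj [1, 3] m ++ wcc)) [] = true := by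
    apply eqW_of_wd
    rw [wd_append, wd_append, wd_append, hc, wd_nil, ← h3]
    simp only [pow_succ, pow_zero, one_mul]
  rw [test, if_pos h2] at h1
  obtain ⟨i, _, hi⟩ := List.any_eq_true.mp h1
  rw [Bool.or_eq_true] at hi
  refine ⟨i, ?_⟩
  rw [← wd_cpow]
  rcases hi with hi | hi
  · left; rw [wd_eq hi, wd_cj]; rfl
  · right; rw [wd_eq hi, wd_cj]

/-! ### lifts of elements of type 2A -/

variable {X : Type*} [Group X] {π : X →* H} {z : X} {ψ : X →* Pm} {a b : X}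

theorem conj_y : (wd [5,0,3,2,5,0])⁻¹ * wd [0] * wd [5,0,3,2,5,0] = ew a0 b0 1 wx :=
  ew_eq_conj (by decide +kernel)

theorem x_sq (hM : Model π z ψ a b) : ew a b z wx * ew a b z wx = z := by
  have h1 : ew a b z wx * ew a b z wx = ew a b z (List.replicate 6 [0,1,0,1,0,2]).flatten := by
    rw [← ew_append]; rfl
  rw [h1, ew_pow]
  have h2 := hM.rel.z_eq
  have h3 : ew a b z [0,1,0,1,0,2] = a * b * a * b * a * b⁻¹ := by
    simp only [ew_cons, ew_nil, lt, mul_one, mul_assoc]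
  rw [h3]
  have h4 : z⁻¹ = z := inv_eq_of_mul_eq_one_left hM.cov.hz
  calc (a * b * a * b * a * b⁻¹) ^ 6 = (((a * b * a * b * a * b⁻¹) ^ 6)⁻¹)⁻¹ := by rw [inv_inv]
    _ = z⁻¹ := by rw [← h2]
    _ = z := h4

theorem sq_2A (hM : Model π z ψ a b) {x : X} {c : H} (hc : c⁻¹ * wd [0] * c = π x) :
    x * x = z := by
  have h1 := x_sq hM
  rw [← h1]
  refine hM.cov.sq_conj (c := (wd [5,0,3,2,5,0])⁻¹ * c) ?_ ?_
  · rw [map_ew, hM.πa, hM.πb, hM.cov.hπz, ← conj_y, ← hc]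
    group
  · intro g
    rw [h1]; exact (hM.cov.comm g).symm

/-- involutions outside of the center are of type 2B -/
theorem type_of_sq (hM : Model π z ψ a b) {x : X} (hx : x * x = 1) (hx1 : π x ≠ 1) :
    ∃ c, c⁻¹ * a0 * c = π x := by
  rcases inv_class (π x) hx1 (by rw [← map_mul, hx, map_one]) with ⟨c, hc⟩ | ⟨c, hc⟩
  · exfalso
    have := sq_2A hM (x := x) (c := c) (by
      rw [← hc, wd_cons, wd_nil, mul_one]; rfl)
    rw [hx] at this
    exact hM.cov.hz1 this.symm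
  · exact ⟨c, by rw [a0_eq]; exact hc⟩

/-! ### automorphisms -/

/-- an endomorphism inducing the identity on M12 is the identity -/
theorem eq_id (h : Cov π z) (β : X →* X) (hβ : ∀ x, π (β x) = π x) (x : X) : β x = x := by
  have h1 : commutator X ≤ β.eqLocus (MonoidHom.id X) := by
    rw [_root_.commutator_def, commutator_le]
    intro x _ y _
    have hx : ∃ ε, β x = x * ε ∧ ∀ g, g * ε = ε * g := by
      rcases h.eq_or (hβ x) with h2 | h2
      · exact ⟨1, by rw [mul_one]; exact h2, by simp⟩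
      · exact ⟨z, h2, fun g => (h.comm g).symm⟩
    have hy : ∃ ε, β y = y * ε ∧ ∀ g, g * ε = ε * g := by
      rcases h.eq_or (hβ y) with h2 | h2
      · exact ⟨1, by rw [mul_one]; exact h2, by simp⟩
      · exact ⟨z, h2, fun g => (h.comm g).symm⟩
    obtain ⟨ε, hxe, hε⟩ := hx
    obtain ⟨δ, hye, hδ⟩ := hy
    show β ⁅x, y⁆ = ⁅x, y⁆
    rw [map_commutatorElement, hxe, hye, commutatorElement_def, commutatorElement_def]
    calc x * ε * (y * δ) * (x * ε)⁻¹ * (y * δ)⁻¹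
        = x * (ε * (y * δ)) * (ε⁻¹ * x⁻¹) * (δ⁻¹ * y⁻¹) := by group
      _ = x * ((y * δ) * ε) * (ε⁻¹ * x⁻¹) * (δ⁻¹ * y⁻¹) := by rw [hε]
      _ = x * y * (δ * x⁻¹) * δ⁻¹ * y⁻¹ := by group
      _ = x * y * (x⁻¹ * δ) * δ⁻¹ * y⁻¹ := by rw [← hδ x⁻¹]
      _ = x * y * x⁻¹ * y⁻¹ := by group
  rw [h.perfect] at h1
  exact h1 (mem_top x)

theorem W_mem_M {m : Pm} (hm : m ∈ M) : W * m * W ∈ M := by
  have hWi : W⁻¹ = W := inv_eq_of_mul_eq_one_left W_sq
  have key : M ≤ M.comap (MulAut.conj W).toMonoidHom := by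
    show _root_.Subgroup.closure {A, B} ≤ _
    rw [closure_le]
    rintro x (rfl | rfl)
    · show W * A * W⁻¹ ∈ M
      rw [hWi, WA]; exact _root_.Subgroup.subset_closure (by simp)
    · show W * B * W⁻¹ ∈ M
      rw [hWi, WB]; exact inv_mem (_root_.Subgroup.subset_closure (by simp))
  have h1 : W * m * W⁻¹ ∈ M := key hm
  rwa [hWi] at h1

theorem exists_tau (hM : Model π z ψ a b) : ∃ τ : X ≃* X, (∀ x, ψ (τ x) = W * ψ x * W) ∧
    ∀ x, τ (τ x) = x := by
  have h1 : ∀ x, ∃ y, ψ y = W * ψ x * W := by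
    intro x
    have h2 : ψ x ∈ M := by rw [← hM.range]; exact ⟨x, rfl⟩
    have h3 := W_mem_M h2
    rwa [← hM.range] at h3
  choose t ht using h1
  have hWx : ∀ y : Pm, W * (W * y * W) * W = y := by
    intro y
    calc W * (W * y * W) * W = (W * W) * y * (W * W) := by group
      _ = y := by rw [W_sq, one_mul, mul_one]
  have htt : ∀ x, t (t x) = x := fun x => hM.inj (by rw [ht, ht, hWx])
  refine ⟨⟨⟨t, t, htt, htt⟩, ?_⟩, ht, htt⟩
  intro x y
  apply hM.inj
  show ψ (t (x * y)) = ψ (t x * t y)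
  rw [map_mul, ht, ht, ht, map_mul]
  calc W * (ψ x * ψ y) * W = W * ψ x * 1 * ψ y * W := by group
    _ = W * ψ x * (W * W) * ψ y * W := by rw [W_sq]
    _ = _ := by group

/-- automorphisms fixing `c` -/
theorem aut_fix (hM : Model π z ψ a b) (α : X ≃* X) (hα : α (a * b) = a * b) :
    ∃ g, ∀ x, α x = g * x * g⁻¹ := by
  have hc : π (a * b) = a0 * b0 := by rw [map_mul, hM.πa, hM.πb]
  have hu : α a * α a = 1 := by rw [← map_mul, hM.rel.ha, map_one]
  have hb : α b = (α a)⁻¹ * (a * b) := by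
    rw [← hα, map_mul, inv_mul_cancel_left]
  have hπu : π (α a) ≠ 1 := by
    intro h1
    -- `α a` central, so `a` central
    have h2 : ∀ g, g * α a = α a * g := hM.cov.central h1
    have h3 : a * b = b * a := by
      apply α.injective
      rw [map_mul, map_mul, h2]
    have h4 : a0 * b0 = b0 * a0 := by
      rw [← hM.πa, ← hM.πb, ← map_mul, ← map_mul, h3]
    have h5 : wd ([1, 3] ++ [2, 1, 5]) ≠ wd ([2, 1, 5] ++ [1, 3]) :=
      wd_ne 0 (by norm_num) (by decide +kernel)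
    rw [wd_append, wd_append] at h5
    exact h5 h4
  have h2B := type_of_sq hM hu hπu
  have h3 : (π (α a) * (a0 * b0)) ^ 3 = 1 := by
    have h4 : α b ^ 3 = 1 := by rw [← map_pow, hM.rel.b3, map_one]
    have h5 : α b = α a * (a * b) := by
      rw [hb, inv_eq_of_mul_eq_one_left hu]
    rw [h5] at h4
    rw [← hc, ← map_mul, ← map_pow, h4, map_one]
  obtain ⟨i, hi⟩ := families h2B h3
  set g := (a * b) ^ i with hg
  have hgπ : π g = (a0 * b0) ^ i := by rw [hg, map_pow, hc]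
  let β : X ≃* X := α.trans (MulAut.conj g)
  have hβ : ∀ x, β x = g * α x * g⁻¹ := fun x => rfl
  have hβc : β (a * b) = a * b := by
    rw [hβ, hα, hg]
    have : Commute ((a * b) ^ i) (a * b) := (Commute.refl _).pow_left i
    rw [this.eq, mul_inv_cancel_right]
  rcases hi with hi | hi
  · have h4 : π (β a) = a0 := by
      rw [hβ, map_mul, map_mul, map_inv, hgπ, hi]; group
    have h5 : π (β b) = b0 := by
      have h6 : b = a⁻¹ * (a * b) := by group
      rw [h6, map_mul, map_inv, hβc, map_mul, map_inv, h4, hc, inv_mul_cancel_left]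
    have h6 : ∀ x, π (β x) = π x := by
      have h7 : (⊤ : Subgroup X) ≤ (π.comp β.toMonoidHom).eqLocus π := by
        rw [← hM.top, closure_le]
        rintro x (rfl | rfl)
        · show π (β x) = π x
          rw [h4, hM.πa]
        · show π (β x) = π x
          rw [h5, hM.πb]
      exact fun x => h7 (mem_top x)
    have h7 := eq_id hM.cov β.toMonoidHom h6
    refine ⟨g⁻¹, fun x => ?_⟩
    have h8 : g * α x * g⁻¹ = x := h7 x
    calc α x = g⁻¹ * (g * α x * g⁻¹) * g := by group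
      _ = g⁻¹ * x * g⁻¹⁻¹ := by rw [h8, inv_inv]
  · exfalso
    have h4 : π (β a) = wd wa1 := by
      rw [hβ, map_mul, map_mul, map_inv, hgπ, hi]; group
    have h5 : π (β b) = (wd wa1)⁻¹ * (a0 * b0) := by
      have h6 : b = a⁻¹ * (a * b) := by group
      rw [h6, map_mul, map_inv, hβc, map_mul, map_inv, h4, hc]
    have hcc : wd wcc = a0 * b0 := by rw [a0, b0, ← wd_append]; rfl
    rw [wd_reverse, ← hcc, ← wd_append] at h5
    have h6 : (a * b⁻¹ * a * b) ^ 6 = 1 := by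
      have h7 := hM.rel.hrel [0,2,0,1,0,2,0,1,0,2,0,1,0,2,0,1,0,2,0,1,0,2,0,1] (by decide)
      rw [← h7]
      simp only [ew_cons, ew_nil, lt, mul_one, pow_succ, pow_zero, one_mul, mul_assoc]
    have h7 : (wd wa1 * (wd (wa1.reverse ++ wcc))⁻¹ * wd wa1 * wd (wa1.reverse ++ wcc)) ^ 6 = 1 := by
      rw [← h4, ← h5, ← map_inv, ← map_mul, ← map_mul, ← map_mul, ← map_inv, ← map_mul, ← map_mul,
        ← map_mul, ← map_pow, ← map_pow, h6, map_one, map_one]
    have h8 : wd (List.replicate 6 (wa1 ++ (wa1.reverse ++ wcc).reverse ++ wa1 ++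
        (wa1.reverse ++ wcc))).flatten ≠ wd [] := wd_ne 0 (by norm_num) (by decide +kernel)
    apply h8
    rw [wd_nil, ← h7]
    have h9 : ∀ (l : List ℕ) (n : ℕ), wd (List.replicate n l).flatten = wd l ^ n := by
      intro l n
      induction n with
      | zero => rw [pow_zero]; rfl
      | succ n ih => rw [List.replicate_succ, List.flatten_cons, wd_append, ih, pow_succ']
    rw [h9, wd_append, wd_append, wd_append, ← wd_reverse (wa1.reverse ++ wcc)]

/-- word of an element acting on `⟨c⟩` -/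
def wdd : List ℕ := [1,0,1,0,1,0,1,0,1,0,2,0,1,0,1,0,2,0,1,0,2,0,2,0,1,0,1,0,1,0,2]

theorem model_d : ew A B Z (wdd ++ [0, 1]) = ew A B Z ([0,1,0,1,0,1,0,1,0,1] ++ wdd) :=
  ew_eq (by decide +kernel)

theorem exists_d (hM : Model π z ψ a b) : ∃ d : X, d * (a * b) * d⁻¹ = (a * b) ^ 5 := by
  refine ⟨ew a b z wdd, ?_⟩
  rw [mul_inv_eq_iff_eq_mul]
  apply hM.inj
  have h2 := map_ew ψ a b z (wdd ++ [0, 1])
  have h3 := map_ew ψ a b z ([0,1,0,1,0,1,0,1,0,1] ++ wdd)
  rw [hM.ψa, hM.ψb, hM.ψz] at h2 h3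
  have h4 : ew a b z (wdd ++ [0, 1]) = ew a b z wdd * (a * b) := by
    rw [ew_append]; simp only [ew_cons, ew_nil, lt, mul_one]
  have h5 : ew a b z ([0,1,0,1,0,1,0,1,0,1] ++ wdd) = (a * b) ^ 5 * ew a b z wdd := by
    rw [ew_append]
    simp only [ew_cons, ew_nil, lt, mul_one, pow_succ, pow_zero, one_mul, mul_assoc]
  rw [← h4, ← h5, h2, h3, model_d]

theorem pow_fact : ∀ k : Fin 11, k.1 ≠ 0 → ∃ j : Fin 5, (k.1 * 5 ^ j.1) % 11 = 1 ∨
    (k.1 * 5 ^ j.1) % 11 = 10 := by decide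

theorem c_ne_one (hM : Model π z ψ a b) : a * b ≠ 1 := by
  intro h
  have h1 : a0 * b0 = 1 := by rw [← hM.πa, ← hM.πb, ← map_mul, h, map_one]
  have h2 : wd wcc = a0 * b0 := by rw [a0, b0, ← wd_append]; rfl
  rw [← h2, ← wd_nil] at h1
  exact wd_ne 0 (by norm_num) (by decide +kernel) h1

/-- every automorphism maps `c` to a conjugate of `c` or of its inverse -/
theorem aut_c (hM : Model π z ψ a b) (α : X ≃* X) :
    ∃ g, g * α (a * b) * g⁻¹ = a * b ∨ g * α (a * b) * g⁻¹ = (a * b)⁻¹ := by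
  set c := a * b with hc
  have hfin := Cov.finite hM.cov
  have hp11 : Fact (Nat.Prime 11) := ⟨by norm_num⟩
  have hc11 : c ^ 11 = 1 := hM.rel.pow11
  have hord : orderOf c = 11 := orderOf_eq_prime hc11 (c_ne_one hM)
  have hfac : (Nat.card X).factorization 11 = 1 := by
    rw [Cov.card hM.cov]
    have h1 : (190080 : ℕ) = 11 * 17280 := by norm_num
    rw [h1, Nat.factorization_mul (by norm_num) (by norm_num), Finsupp.add_apply,
      Nat.Prime.factorization_self (by norm_num), Nat.factorization_eq_zero_of_not_dvd (by norm_num)]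
  have hcardz : ∀ x : X, orderOf x = 11 →
      Nat.card (zpowers x) = 11 ^ (Nat.card X).factorization 11 := by
    intro x hx
    rw [hfac, pow_one, Nat.card_zpowers, hx]
  let P : Sylow 11 X := Sylow.ofCard (zpowers c) (hcardz c hord)
  have hordα : orderOf (α c) = 11 := by
    rw [show orderOf (α c) = orderOf c from orderOf_injective α.toMonoidHom α.injective c, hord]
  let Q : Sylow 11 X := Sylow.ofCard (zpowers (α c)) (hcardz _ hordα)
  obtain ⟨g, hg⟩ := MulAction.exists_smul_eq X Q P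
  have h1 : g * α c * g⁻¹ ∈ zpowers c := by
    have h2 : (MulAut.conj g) • (α c) ∈ (MulAut.conj g) • (Q : Subgroup X) :=
      Subgroup.smul_mem_pointwise_smul _ _ _ (mem_zpowers (α c))
    have h3 : ((g • Q : Sylow 11 X) : Subgroup X) = (MulAut.conj g) • (Q : Subgroup X) := rfl
    rw [← h3, hg] at h2
    exact h2
  obtain ⟨k, hk, hkc⟩ : ∃ k < 11, c ^ k = g * α c * g⁻¹ := by
    obtain ⟨n, hn⟩ := mem_zpowers_iff.mp h1
    have h2 : c ^ (n % 11) = c ^ n := by
      have := zpow_mod_orderOf c n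
      rw [hord] at this
      exact this
    refine ⟨(n % 11).toNat, ?_, ?_⟩
    · have := Int.emod_lt_of_pos n (show (0 : ℤ) < 11 by norm_num)
      omega
    · rw [← hn, ← h2, ← zpow_natCast, Int.toNat_of_nonneg (Int.emod_nonneg _ (by norm_num))]
  have hk0 : k ≠ 0 := by
    rintro rfl
    rw [pow_zero] at hkc
    have h2 : α c = 1 := by
      calc α c = g⁻¹ * (g * α c * g⁻¹) * g := by group
        _ = 1 := by rw [← hkc]; group
    rw [h2, orderOf_one] at hordα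
    norm_num at hordα
  obtain ⟨d, hd⟩ := exists_d hM
  have hdj : ∀ j : ℕ, d ^ j * c * (d ^ j)⁻¹ = c ^ (5 ^ j) := by
    intro j
    induction j with
    | zero => simp
    | succ j ih =>
      calc d ^ (j + 1) * c * (d ^ (j + 1))⁻¹ = d * (d ^ j * c * (d ^ j)⁻¹) * d⁻¹ := by
            rw [pow_succ']; group
        _ = d * c ^ (5 ^ j) * d⁻¹ := by rw [ih]
        _ = (d * c * d⁻¹) ^ (5 ^ j) := by rw [conj_pow]
        _ = (c ^ 5) ^ (5 ^ j) := by rw [hd]
        _ = c ^ (5 ^ (j + 1)) := by rw [← pow_mul, pow_succ, mul_comm 5]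
  obtain ⟨j, hj⟩ := pow_fact ⟨k, hk⟩ hk0
  have h4 : (d ^ j.1 * g) * α c * (d ^ j.1 * g)⁻¹ = c ^ ((k * 5 ^ j.1) % 11) := by
    calc (d ^ j.1 * g) * α c * (d ^ j.1 * g)⁻¹ = d ^ j.1 * (g * α c * g⁻¹) * (d ^ j.1)⁻¹ := by
          group
      _ = d ^ j.1 * c ^ k * (d ^ j.1)⁻¹ := by rw [hkc]
      _ = (d ^ j.1 * c * (d ^ j.1)⁻¹) ^ k := by rw [conj_pow]
      _ = c ^ (k * 5 ^ j.1) := by rw [hdj, ← pow_mul, mul_comm]
      _ = c ^ ((k * 5 ^ j.1) % 11) := by
        conv_lhs => rw [← pow_mod_orderOf, hord]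
  refine ⟨d ^ j.1 * g, ?_⟩
  rcases hj with hj | hj
  · left
    rw [h4]
    have hj' : k * 5 ^ j.1 % 11 = 1 := hj
    rw [hj', pow_one]
  · right
    rw [h4]
    have hj' : k * 5 ^ j.1 % 11 = 10 := hj
    rw [hj']
    apply eq_inv_of_mul_eq_one_left
    rw [← pow_succ, hc11]

/-- **automorphisms of 2.M12** -/
theorem aut (hM : Model π z ψ a b) (α : X ≃* X) :
    ∃ g, (∀ x, ψ (α x) = ψ g * ψ x * (ψ g)⁻¹) ∨
      ∀ x, ψ (α x) = ψ g * (W * ψ x * W) * (ψ g)⁻¹ := by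
  have key : ∀ β : X ≃* X, (∃ g, g * β (a * b) * g⁻¹ = a * b) → ∃ g, ∀ x, β x = g * x * g⁻¹ := by
    rintro β ⟨g, hg⟩
    obtain ⟨k, hk⟩ := aut_fix hM (β.trans (MulAut.conj g)) hg
    refine ⟨g⁻¹ * k, fun x => ?_⟩
    have h1 : g * β x * g⁻¹ = k * x * k⁻¹ := hk x
    calc β x = g⁻¹ * (g * β x * g⁻¹) * g := by group
      _ = g⁻¹ * k * x * (g⁻¹ * k)⁻¹ := by rw [h1]; group
  obtain ⟨g, hg | hg⟩ := aut_c hM α
  · obtain ⟨k, hk⟩ := key α ⟨g, hg⟩
    exact ⟨k, Or.inl fun x => by rw [hk, map_mul, map_mul, map_inv]⟩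
  · obtain ⟨τ, hτ, hττ⟩ := exists_tau hM
    have h1 : τ (a * b) = a * (a * b)⁻¹ * a⁻¹ := by
      apply hM.inj
      rw [hτ, map_mul, map_mul, map_mul, map_inv, map_inv, map_mul, hM.ψa, hM.ψb]
      calc W * (A * B) * W = W * A * 1 * B * W := by group
        _ = W * A * (W * W) * B * W := by rw [W_sq]
        _ = (W * A * W) * (W * B * W) := by group
        _ = A * B⁻¹ := by rw [WA, WB]
        _ = A * B⁻¹ * (A * A)⁻¹ := by rw [rels.ha]; group
        _ = _ := by group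
    have h2 : (g * (α a)⁻¹) * (τ.trans α) (a * b) * (g * (α a)⁻¹)⁻¹ = a * b := by
      show (g * (α a)⁻¹) * α (τ (a * b)) * (g * (α a)⁻¹)⁻¹ = a * b
      rw [h1, map_mul, map_mul, map_inv, map_inv]
      calc g * (α a)⁻¹ * (α a * (α (a * b))⁻¹ * (α a)⁻¹) * (g * (α a)⁻¹)⁻¹
          = (g * α (a * b) * g⁻¹)⁻¹ := by group
        _ = a * b := by rw [hg, inv_inv]
    obtain ⟨k, hk⟩ := key (τ.trans α) ⟨_, h2⟩
    refine ⟨k, Or.inr fun x => ?_⟩
    have h3 : α x = k * τ x * k⁻¹ := by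
      have h4 : α (τ (τ x)) = k * τ x * k⁻¹ := hk (τ x)
      rwa [hττ] at h4
    rw [h3, map_mul, map_mul, map_inv, hτ]

end Cfsg.Agent.GH.MTwAut
end

-- part: GH/MTwNorm
section
/-!
# 2.M12: normalizer of `T`, classes of involutions
-/

set_option autoImplicit false
set_option maxRecDepth 100000

open Subgroup

namespace Cfsg.Agent.GH.MTwNorm

open Cfsg.Agent.CoThreeStd.MTwelve (H wd card_H card_cent_v)
open Cfsg.Agent.GH.MTwBound Cfsg.Agent.GH.MTwModel Cfsg.Agent.GH.MTwSyl Cfsg.Agent.GH.MTwFacts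
  Cfsg.Agent.GH.MTwCover Cfsg.Agent.GH.MTwPsi Cfsg.Agent.GH.MTwAut
open Cfsg.Agent.GH.MTwCode (Pm)

theorem A_mem_M : A ∈ M := _root_.Subgroup.subset_closure (by simp)
theorem B_mem_M : B ∈ M := _root_.Subgroup.subset_closure (by simp)
theorem Z_mem_M : Z ∈ M := rels.z_mem

theorem ew_mem_M (w : List ℕ) : ew A B Z w ∈ M := by
  induction w with
  | nil => exact one_mem _
  | cons x w ih =>
    rw [ew_cons]
    refine mul_mem ?_ ih
    rcases x with _ | _ | _ | _ | x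
    · exact A_mem_M
    · exact B_mem_M
    · exact inv_mem B_mem_M
    · exact Z_mem_M
    · exact one_mem _

theorem T_le_M : T ≤ M := by
  show _root_.Subgroup.closure {G0, G1, G2} ≤ M
  rw [closure_le]
  rintro x (rfl | rfl | rfl)
  · rw [G0_eq]; exact ew_mem_M _
  · rw [G1_eq]; exact ew_mem_M _
  · rw [G2_eq]; exact ew_mem_M _

theorem comm_Z_M {m : Pm} (hm : m ∈ M) : Z * m = m * Z := by
  have h1 : M ≤ centralizer {Z} := by
    show _root_.Subgroup.closure {A, B} ≤ _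
    rw [closure_le]
    rintro x (rfl | rfl)
    · exact mem_centralizer_singleton_iff.mpr rels.comm_a.symm
    · exact mem_centralizer_singleton_iff.mpr rels.comm_b.symm
  exact (mem_centralizer_singleton_iff.mp (h1 hm)).symm

variable {X : Type*} [Group X] {π : X →* H} {z : X} {ψ : X →* Pm} {a b : X}

theorem card_M (hM : Model π z ψ a b) : Nat.card M = 190080 := by
  rw [← hM.range, ← Cov.card hM.cov]
  exact (Nat.card_congr (MonoidHom.ofInjective hM.inj).toEquiv).symm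

theorem exists_pre (hM : Model π z ψ a b) {m : Pm} (hm : m ∈ M) : ∃ x, ψ x = m := by
  rw [← hM.range] at hm
  exact hm

/-- involutions of `T` -/
theorem classT (hM : Model π z ψ a b) {t : Pm} (ht : t ∈ T) (h2 : t * t = 1) (h1 : t ≠ 1)
    (hZ : t ≠ Z) : ∃ m ∈ M, m * t * m⁻¹ = A ∨ m * t * m⁻¹ = A * Z := by
  obtain ⟨x, rfl⟩ := exists_pre hM (T_le_M ht)
  have hx2 : x * x = 1 := hM.inj (by rw [map_mul, h2, map_one])
  have hπ : π x ≠ 1 := by
    intro h
    rcases hM.cov.ker x h with h3 | h3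
    · exact h1 (by rw [h3, map_one])
    · exact hZ (by rw [h3, hM.ψz])
  obtain ⟨c, hc⟩ := type_of_sq hM hx2 hπ
  obtain ⟨g, rfl⟩ := hM.cov.surj c
  have h3 : π x = π (g⁻¹ * a * g) := by rw [map_mul, map_mul, map_inv, hM.πa, hc]
  refine ⟨ψ g, by rw [← hM.range]; exact ⟨g, rfl⟩, ?_⟩
  rcases hM.cov.eq_or h3 with h4 | h4
  · left
    rw [h4, ← hM.ψa, ← map_mul, ← map_inv, ← map_mul]
    congr 1
    group
  · right
    rw [h4, ← hM.ψa, ← hM.ψz, ← map_mul, ← map_inv, ← map_mul, ← map_mul]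
    congr 1
    calc g * (g⁻¹ * a * g * z) * g⁻¹ = a * (g * z) * g⁻¹ := by group
      _ = a * (z * g) * g⁻¹ := by rw [hM.cov.comm g]
      _ = a * z := by group

theorem card_cent_A (hM : Model π z ψ a b) :
    Nat.card (M ⊓ centralizer {A} : Subgroup Pm) ≤ 384 := by
  have hfin := Cov.finite hM.cov
  have h1 : (M ⊓ centralizer {A} : Subgroup Pm) ≤ (centralizer {a}).map ψ := by
    rintro m ⟨hm, hmA⟩
    obtain ⟨x, rfl⟩ := exists_pre hM hm
    refine ⟨x, ?_, rfl⟩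
    have h2 := mem_centralizer_singleton_iff.mp hmA
    refine mem_centralizer_singleton_iff.mpr (hM.inj ?_)
    rw [map_mul, map_mul, hM.ψa, h2]
  refine (Subgroup.card_le_of_le h1).trans ?_
  refine (Nat.card_le_card_of_surjective _ (ψ.subgroupMap_surjective (centralizer {a}))).trans ?_
  -- the map to the centralizer in M12
  let f : centralizer {a} →* H := π.comp (centralizer {a}).subtype
  have hk := f.ker.card_mul_index
  rw [index_ker] at hk
  have hker : Nat.card f.ker ≤ 2 := by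
    rw [← Cov.card_ker hM.cov]
    refine Nat.card_le_card_of_injective
      (fun x : f.ker => (⟨x.1.1, show x.1.1 ∈ π.ker from x.2⟩ : π.ker)) ?_
    intro x y hxy
    have h3 := congrArg (fun y : π.ker => (y : X)) hxy
    exact Subtype.ext (Subtype.ext h3)
  have hrange : Nat.card f.range ≤ 192 := by
    have h2 : f.range ≤ centralizer {a0} := by
      rintro _ ⟨x, rfl⟩
      rw [mem_centralizer_singleton_iff]
      show π x.1 * a0 = a0 * π x.1
      rw [← hM.πa, ← map_mul, ← map_mul, mem_centralizer_singleton_iff.mp x.2]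
    have h3 : Nat.card (centralizer {a0} : Subgroup H) = 192 := by rw [a0_eq]; exact card_cent_v
    rw [← h3]
    exact Subgroup.card_le_of_le h2
  calc Nat.card (centralizer {a}) = Nat.card f.ker * Nat.card f.range := hk.symm
    _ ≤ 2 * 192 := Nat.mul_le_mul hker hrange
    _ = 384 := by norm_num

theorem AZ_mul_Z : A * Z * Z = A := by rw [mul_assoc, rels.hz, mul_one]

/-- `T` is self-normalizing in `M` -/
theorem normT (hM : Model π z ψ a b) {m : Pm} (hm : m ∈ M) (h : ∀ t ∈ T, m * t * m⁻¹ ∈ T) :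
    m ∈ T := by
  have hfinP : Finite Pm := inferInstance
  set N : Subgroup Pm := M ⊓ normalizer (T : Set Pm) with hN
  have hmem : ∀ n ∈ M, (∀ t ∈ T, n * t * n⁻¹ ∈ T) → n ∈ N := by
    intro n hn hnT
    refine ⟨hn, ?_⟩
    show n ∈ normalizer (T : Set Pm)
    rw [mem_normalizer_iff]
    have h1 : T.map (MulAut.conj n).toMonoidHom = T := by
      refine Subgroup.eq_of_le_of_card_ge ?_ ?_
      · rintro _ ⟨t, ht, rfl⟩
        exact hnT t ht
      · rw [Subgroup.card_map_of_injective (MulAut.conj n).injective]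
    intro t
    constructor
    · exact hnT t
    · intro h2
      have h3 : n * t * n⁻¹ ∈ T.map (MulAut.conj n).toMonoidHom := by rw [h1]; exact h2
      obtain ⟨u, hu, hut⟩ := h3
      have h4 : n * u * n⁻¹ = n * t * n⁻¹ := hut
      rwa [← mul_left_cancel (mul_right_cancel h4)]
  set CA : Subgroup Pm := M ⊓ centralizer {A} with hCA
  have hNC : N ≤ CA := by
    rintro n ⟨hn, hnT⟩
    refine ⟨hn, ?_⟩
    show n ∈ centralizer {A}
    rw [mem_centralizer_singleton_iff]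
    have h1 : n * G0 * n⁻¹ ∈ T := (mem_normalizer_iff.mp hnT G0).mp G0_mem
    have h2 : (n * G0 * n⁻¹) ^ 4 = n * (A * Z) * n⁻¹ := by rw [conj_pow, G0_pow_four]
    have h3 : n * (A * Z) * n⁻¹ = A * Z := by
      rcases pow_four h1 with h4 | h4
      · exfalso
        rw [h2, mul_inv_eq_one, mul_eq_left] at h4
        apply A_ne_Z
        rw [← AZ_mul_Z, h4, one_mul]
      · rw [← h2, h4]
    have h5 : n * A * n⁻¹ = A := by
      calc n * A * n⁻¹ = n * (A * Z * Z) * n⁻¹ := by rw [AZ_mul_Z]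
        _ = n * (A * Z) * n⁻¹ * (n * Z) * n⁻¹ := by group
        _ = A * Z * (Z * n) * n⁻¹ := by rw [h3, comm_Z_M hn]
        _ = A * Z * Z := by group
        _ = A := AZ_mul_Z
    rw [mul_inv_eq_iff_eq_mul] at h5
    exact h5
  have hTN : T ≤ N := le_inf T_le_M le_normalizer
  have hX0C : X0 ∈ CA := ⟨ew_mem_M _, mem_centralizer_singleton_iff.mpr X0_comm⟩
  have hX0N : X0 ∉ N := by
    rintro ⟨_, h1⟩
    exact X0_not ((mem_normalizer_iff.mp h1 G0).mp G0_mem)
  have hcardC : Nat.card CA ≤ 384 := card_cent_A hM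
  have h128 : 128 ∣ Nat.card N := by rw [← card_T]; exact card_dvd_of_le hTN
  obtain ⟨j, hj⟩ := h128
  have hNC2 : Nat.card N ∣ Nat.card CA := card_dvd_of_le hNC
  obtain ⟨i, hi⟩ := hNC2
  have hCpos : 0 < Nat.card CA := Nat.card_pos
  have hi1 : i ≠ 1 := by
    rintro rfl
    rw [mul_one] at hi
    have h1 : N = CA := Subgroup.eq_of_le_of_card_ge hNC hi.le
    rw [← h1] at hX0C
    exact hX0N hX0C
  have hi0 : i ≠ 0 := by rintro rfl; omega
  have hj0 : j ≠ 0 := by rintro rfl; rw [hj] at hi; omega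
  have hj1 : j = 1 := by
    by_contra hj1
    have h2 : 2 ≤ i := by omega
    have h3 : 2 ≤ j := by omega
    have h4 : 128 * 2 * 2 ≤ Nat.card CA := by
      rw [hi, hj]
      exact Nat.mul_le_mul (Nat.mul_le_mul_left _ h3) h2
    omega
  rw [hj1, mul_one] at hj
  have hTN2 : T = N := Subgroup.eq_of_le_of_card_ge hTN (by rw [hj, card_T])
  rw [hTN2]
  exact hmem m hm h

end Cfsg.Agent.GH.MTwNorm
end

-- part: GH/MTwLocal
section
/-!
# 2.M12: local analysis
-/

set_option autoImplicit false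

open Subgroup
open scoped Pointwise

namespace Cfsg.Agent.GH.MTwLocal

open Cfsg.Agent.GH.MTwCode (Pm)
open Cfsg.Agent.GH.MTwModel Cfsg.Agent.GH.MTwSyl Cfsg.Agent.GH.MTwFacts Cfsg.Agent.GH.MTwFus
  Cfsg.Agent.GH.MTwNorm

/-! ### general lemmas -/

/-- a homomorphism with odd kernel onto a 2-group splits -/
theorem exists_section {Y T : Type*} [Group Y] [Group T] [Finite Y] (f : Y →* T)
    (hf : Function.Surjective f) (hT : IsPGroup 2 T) (hk : Odd (Nat.card f.ker)) :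
    ∃ g : T →* Y, ∀ t, f (g t) = t := by
  classical
  have hp2 : Fact (Nat.Prime 2) := ⟨Nat.prime_two⟩
  have hfinT : Finite T := Finite.of_surjective f hf
  obtain ⟨Q⟩ : Nonempty (Sylow 2 Y) := inferInstance
  let f' : Q →* T := f.comp (Q : Subgroup Y).subtype
  have hinj : Function.Injective f' := by
    rw [injective_iff_map_eq_one]
    intro q hq
    have h1 : (q : Y) ∈ f.ker := hq
    obtain ⟨n, hn⟩ := Q.2 q
    have h2 : orderOf q ∣ 2 ^ n := orderOf_dvd_of_pow_eq_one hn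
    have h3 : orderOf q ∣ Nat.card f.ker := by
      rw [← Subgroup.orderOf_coe]
      have := _root_.orderOf_dvd_natCard (⟨q, h1⟩ : f.ker)
      rwa [← Subgroup.orderOf_coe] at this
    have h4 : (2 ^ n).Coprime (Nat.card f.ker) := (Nat.coprime_two_left.mpr hk).pow_left n
    exact orderOf_eq_one_iff.mp (Nat.eq_one_of_dvd_coprimes h4 h2 h3)
  obtain ⟨k, hkc⟩ := (IsPGroup.iff_card).mp hT
  have hcard : Nat.card Q = Nat.card T := by
    rw [Q.card_eq_multiplicity]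
    have h1 := f.ker.card_mul_index
    rw [index_ker, MonoidHom.range_eq_top.mpr hf, Subgroup.card_top] at h1
    rw [← h1, Nat.factorization_mul hk.pos.ne' (Nat.card_pos).ne', Finsupp.add_apply,
      Nat.factorization_eq_zero_of_not_dvd hk.not_two_dvd_nat, zero_add, hkc,
      Nat.Prime.factorization_pow Nat.prime_two, Finsupp.single_eq_same]
  have hbij : Function.Bijective f' :=
    (Nat.bijective_iff_injective_and_card f').mpr ⟨hinj, hcard⟩
  let e : Q ≃* T := MulEquiv.ofBijective f' hbij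
  refine ⟨(Q : Subgroup Y).subtype.comp e.symm.toMonoidHom, fun t => ?_⟩
  exact e.apply_symm_apply t

/-- involutions whose product has odd order are conjugate -/
theorem conj_of_odd {Y : Type*} [Group Y] {x y : Y} (hx : x * x = 1) (hy : y * y = 1) {n : ℕ}
    (hn : Odd n) (h : (x * y) ^ n = 1) : ∃ g, g * x * g⁻¹ = y := by
  obtain ⟨k, rfl⟩ := hn
  have hxi : x⁻¹ = x := inv_eq_of_mul_eq_one_left hx
  have hyi : y⁻¹ = y := inv_eq_of_mul_eq_one_left hy
  set w := (x * y) ^ k with hw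
  have h1 : x * w * x⁻¹ = w⁻¹ := by
    rw [hw, ← conj_pow, ← inv_pow]
    congr 1
    rw [mul_inv_rev, hxi, hyi]
    calc x * (x * y) * x = (x * x) * y * x := by group
      _ = y * x := by rw [hx, one_mul]
  have h2 : w * w * (x * y) = 1 := by
    rw [← h, hw, pow_add, pow_one, two_mul, pow_add]
  have h3 : w * w = y * x := by
    have : w * w = (x * y)⁻¹ := eq_inv_of_mul_eq_one_left h2
    rw [this, mul_inv_rev, hxi, hyi]
  have h4 : w⁻¹ * x = x * w := by
    rw [← h1]; group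
  refine ⟨x * w⁻¹, ?_⟩
  calc x * w⁻¹ * x * (x * w⁻¹)⁻¹ = x * (w⁻¹ * x) * w * x⁻¹ := by group
    _ = x * (x * w) * w * x⁻¹ := by rw [h4]
    _ = (x * x) * (w * w) * x⁻¹ := by group
    _ = y := by rw [hx, h3, one_mul, mul_inv_cancel_right]

/-- a Sylow 2-subgroup of the centralizer of `z` containing a given 2-subgroup -/
theorem exists_absorb {G : Type*} [Group G] [Finite G] (z : G) (Q : Subgroup G)
    (hQ : IsPGroup 2 Q) (hQz : Q ≤ centralizer {z}) :
    ∃ P : Subgroup G, Q ≤ P ∧ IsPGroup 2 P ∧ P ≤ centralizer {z} ∧ Absorb P z := by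
  have hp2 : Fact (Nat.Prime 2) := ⟨Nat.prime_two⟩
  set C : Subgroup G := centralizer {z} with hC
  have h1 : IsPGroup 2 (Q.subgroupOf C) := hQ.comap_subtype
  obtain ⟨S, hS⟩ := h1.exists_le_sylow
  refine ⟨(S : Subgroup C).map C.subtype, ?_, S.2.map _, map_subtype_le _, ?_⟩
  · intro x hx
    exact ⟨⟨x, hQz hx⟩, hS hx, rfl⟩
  · intro R hR hRz
    have hRC : R ≤ C := fun x hx => mem_centralizer_singleton_iff.mpr (hRz x hx)
    have h2 : IsPGroup 2 (R.subgroupOf C) := hR.comap_subtype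
    obtain ⟨S', hS'⟩ := h2.exists_le_sylow
    obtain ⟨c, hc⟩ := MulAction.exists_smul_eq C S' S
    refine ⟨c, ?_, ?_⟩
    · have := mem_centralizer_singleton_iff.mp c.2
      rw [this, mul_inv_cancel_right]
    · intro x hx
      have h3 : (⟨x, hRC hx⟩ : C) ∈ (S' : Subgroup C) := hS' hx
      have h4 : (MulAut.conj c) • (⟨x, hRC hx⟩ : C) ∈ (MulAut.conj c) • (S' : Subgroup C) :=
        Subgroup.smul_mem_pointwise_smul _ _ _ h3
      have h5 : ((c • S' : Sylow 2 C) : Subgroup C) = (MulAut.conj c) • (S' : Subgroup C) := rfl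
      rw [← h5, hc] at h4
      exact ⟨_, h4, rfl⟩

/-! ### the situation -/

variable {G : Type*} [Group G]

/-- conjugation by an element of the normalizer -/
def cjK {K : Subgroup G} {u : G} (hu : u ∈ normalizer (K : Set G)) (k : K) : K :=
  ⟨u * k * u⁻¹, (mem_normalizer_iff.mp hu k).mp k.2⟩

structure Sit (z : G) (K : Subgroup G) (θ : K →* Pm) : Prop where
  ord : orderOf z = 2
  le : K ≤ centralizer {z}
  nor : ∀ u, u * z = z * u → u ∈ normalizer (K : Set G)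
  range : θ.range = M
  ker : Odd (Nat.card θ.ker)
  hz : ∃ hz : z ∈ K, θ ⟨z, hz⟩ = Z
  act : ∀ (u : G) (hu : u * z = z * u), ∃ m ∈ M, (∀ k, θ (cjK (nor u hu) k) = m * θ k * m⁻¹) ∨
    ∀ k, θ (cjK (nor u hu) k) = m * (W * θ k * W) * m⁻¹
  fix : ∀ (u : G) (hu : u * z = z * u), (∃ n : ℕ, u ^ 2 ^ n = 1) →
    (∀ k, θ (cjK (nor u hu) k) = θ k) → u = 1 ∨ u = z
  cardM : Nat.card M = 190080
  cls : ∀ t ∈ T, t * t = 1 → t ≠ 1 → t ≠ Z → ∃ m ∈ M, m * t * m⁻¹ = A ∨ m * t * m⁻¹ = A * Z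
  norT : ∀ m ∈ M, (∀ t ∈ T, m * t * m⁻¹ ∈ T) → m ∈ T

variable {z : G} {K : Subgroup G} {θ : K →* Pm}

theorem two_element_ker [Finite G] (h : Sit z K θ) {k : K} (hk : θ k = 1) {n : ℕ}
    (hn : k ^ 2 ^ n = 1) : k = 1 := by
  have h2 : orderOf k ∣ 2 ^ n := orderOf_dvd_of_pow_eq_one hn
  have h3 : orderOf k ∣ Nat.card θ.ker := by
    have := _root_.orderOf_dvd_natCard (⟨k, hk⟩ : θ.ker)
    rwa [← Subgroup.orderOf_coe] at this
  have h4 : (2 ^ n).Coprime (Nat.card θ.ker) := (Nat.coprime_two_left.mpr h.ker).pow_left n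
  exact orderOf_eq_one_iff.mp (Nat.eq_one_of_dvd_coprimes h4 h2 h3)

theorem mem_ker_of_odd [Finite G] (h : Sit z K θ) {x : G} (hx : x * z = z * x) {n : ℕ}
    (hn : x ^ 2 ^ n = 1) (hin : ∃ m ∈ M, ∀ k, θ (cjK (h.nor x hx) k) = m * θ k * m⁻¹) :
    x ∈ K := by
  classical
  have hp2 : Fact (Nat.Prime 2) := ⟨Nat.prime_two⟩
  obtain ⟨m, hm, hxk⟩ := hin
  rw [← h.range] at hm
  obtain ⟨k0, rfl⟩ := hm
  -- the kernel of the action
  set C : Subgroup G := centralizer {z} with hC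
  have hCn : C ≤ normalizer (K : Set G) := fun u hu => h.nor u (mem_centralizer_singleton_iff.mp hu)
  have hcomp : ∀ (u v : G) (hu : u * z = z * u) (hv : v * z = z * v) (k : K),
      cjK (h.nor (u * v) (by rw [mul_assoc, hv, ← mul_assoc, hu, mul_assoc])) k =
        cjK (h.nor u hu) (cjK (h.nor v hv) k) := by
    intro u v hu hv k
    apply Subtype.ext
    show u * v * k * (u * v)⁻¹ = u * (v * k * v⁻¹) * u⁻¹
    group
  let N : Subgroup G :=
    { carrier := {u | ∃ hu : u * z = z * u, ∀ k, θ (cjK (h.nor u hu) k) = θ k}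
      one_mem' := by
        refine ⟨by simp, fun k => ?_⟩
        congr 1
        apply Subtype.ext
        show 1 * (k : G) * 1⁻¹ = k
        group
      mul_mem' := by
        rintro u v ⟨hu, hu2⟩ ⟨hv, hv2⟩
        refine ⟨by rw [mul_assoc, hv, ← mul_assoc, hu, mul_assoc], fun k => ?_⟩
        rw [hcomp u v hu hv, hu2, hv2]
      inv_mem' := by
        rintro u ⟨hu, hu2⟩
        have hu' : u⁻¹ * z = z * u⁻¹ := by
          rw [inv_mul_eq_iff_eq_mul, ← mul_assoc, hu, mul_inv_cancel_right]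
        refine ⟨hu', fun k => ?_⟩
        rw [← hu2 (cjK (h.nor u⁻¹ hu') k)]
        congr 1
        apply Subtype.ext
        show u * (u⁻¹ * k * u⁻¹⁻¹) * u⁻¹ = k
        group }
  have hNmem : ∀ u, u ∈ N ↔ ∃ hu : u * z = z * u, ∀ k, θ (cjK (h.nor u hu) k) = θ k := fun u => Iff.rfl
  have hNC : N ≤ C := fun u hu => mem_centralizer_singleton_iff.mpr ((hNmem u).mp hu).1
  obtain ⟨hzK, hθz⟩ := h.hz
  -- odd index
  have hodd : Odd (K.subgroupOf N).index := by
    obtain ⟨S⟩ : Nonempty (Sylow 2 N) := inferInstance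
    have h1 : (S : Subgroup N) ≤ K.subgroupOf N := by
      intro u hu
      rw [mem_subgroupOf]
      obtain ⟨n, hn⟩ := S.2 ⟨u, hu⟩
      have hn' : (u : G) ^ 2 ^ n = 1 := by
        have h2 := congrArg (fun v : S => ((v : N) : G)) hn
        simpa only [_root_.SubmonoidClass.mk_pow, _root_.SubmonoidClass.coe_pow, _root_.OneMemClass.coe_one] using h2
      obtain ⟨hu1, hu2⟩ := (hNmem u).mp u.2
      rcases h.fix u hu1 ⟨n, hn'⟩ hu2 with h3 | h3
      · rw [h3]; exact one_mem _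
      · rw [h3]; exact hzK
    have h2 := index_dvd_of_le h1
    have h3 := S.not_dvd_index
    rw [← Nat.not_even_iff_odd, even_iff_two_dvd]
    exact fun h4 => h3 (h4.trans h2)
  have hKN : (K.subgroupOf N).Normal := by
    refine normal_subgroupOf_of_le_normalizer ?_
    exact hNC.trans hCn
  -- `y = k0⁻¹ x ∈ N`
  have hkz : (k0 : G)⁻¹ * z = z * (k0 : G)⁻¹ := by
    have := mem_centralizer_singleton_iff.mp (h.le k0.2)
    rw [inv_mul_eq_iff_eq_mul, ← mul_assoc, this, mul_inv_cancel_right]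
  have hyz : ((k0 : G)⁻¹ * x) * z = z * ((k0 : G)⁻¹ * x) := by
    rw [mul_assoc, hx, ← mul_assoc, hkz, mul_assoc]
  have hy : (k0 : G)⁻¹ * x ∈ N := by
    refine (hNmem _).mpr ⟨hyz, fun k => ?_⟩
    have h1 : cjK (h.nor _ hyz) k = k0⁻¹ * cjK (h.nor x hx) k * k0 := by
      apply Subtype.ext
      show (k0 : G)⁻¹ * x * k * ((k0 : G)⁻¹ * x)⁻¹ = (k0 : G)⁻¹ * (x * k * x⁻¹) * k0
      group
    rw [h1, map_mul, map_mul, map_inv, hxk]
    group
  have hpow : ((k0 : G)⁻¹ * x) ^ (K.subgroupOf N).index ∈ K := by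
    have h1 := Subgroup.pow_index_mem (K.subgroupOf N) (⟨_, hy⟩ : N)
    exact h1
  -- the quotient `C / K`
  have hKC : (K.subgroupOf C).Normal := normal_subgroupOf_of_le_normalizer hCn
  let q := QuotientGroup.mk' (K.subgroupOf C)
  have hxC : x ∈ C := mem_centralizer_singleton_iff.mpr hx
  have hk0C : (k0 : G) ∈ C := h.le k0.2
  let x' : C := ⟨x, hxC⟩
  let k' : C := ⟨k0, hk0C⟩
  have hq1 : q (k'⁻¹ * x') = q x' := by
    have : q k' = 1 := (QuotientGroup.eq_one_iff k').mpr k0.2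
    rw [map_mul, map_inv, this, inv_one, one_mul]
  have hq2 : q x' ^ (K.subgroupOf N).index = 1 := by
    rw [← hq1, ← map_pow]
    exact (QuotientGroup.eq_one_iff _).mpr hpow
  have hq3 : q x' ^ 2 ^ n = 1 := by
    rw [← map_pow]
    have : x' ^ 2 ^ n = 1 := Subtype.ext hn
    rw [this, map_one]
  have h4 : (2 ^ n).Coprime (K.subgroupOf N).index := (Nat.coprime_two_left.mpr hodd).pow_left n
  have h5 : orderOf (q x') = 1 := Nat.eq_one_of_dvd_coprimes h4 (orderOf_dvd_of_pow_eq_one hq3)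
    (orderOf_dvd_of_pow_eq_one hq2)
  exact (QuotientGroup.eq_one_iff x').mp (orderOf_eq_one_iff.mp h5)

theorem card_le_of_two [Finite G] (h : Sit z K θ) {R : Subgroup G} (hR : IsPGroup 2 R)
    (hRK : R ≤ K) : Nat.card R ≤ 128 := by
  have hp2 : Fact (Nat.Prime 2) := ⟨Nat.prime_two⟩
  let f : R →* M := (θ.codRestrict M (fun k => by rw [← h.range]; exact ⟨k, rfl⟩)).comp
    (inclusion hRK)
  have hinj : Function.Injective f := by
    rw [injective_iff_map_eq_one]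
    intro r hr
    obtain ⟨n, hn⟩ := hR r
    have h1 : θ (inclusion hRK r) = 1 := congrArg Subtype.val hr
    have h2 : (inclusion hRK r) ^ 2 ^ n = 1 := by rw [← map_pow, hn, map_one]
    have h3 := two_element_ker h h1 h2
    exact (inclusion_injective hRK) (by rw [h3, map_one])
  have h1 : Nat.card R ∣ Nat.card M := Subgroup.card_dvd_of_injective f hinj
  obtain ⟨n, hn⟩ := (IsPGroup.iff_card).mp hR
  rw [hn, h.cardM] at h1
  rw [hn]
  have h2 : (190080 : ℕ) = 2 ^ 7 * 1485 := by norm_num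
  rw [h2] at h1
  have h3 : 2 ^ n ∣ 2 ^ 7 :=
    Nat.Coprime.dvd_of_dvd_mul_right ((Nat.coprime_two_left.mpr (by decide)).pow_left n) h1
  have h4 := Nat.le_of_dvd (by norm_num) h3
  exact h4

/-- **the structure of a Sylow 2-subgroup of `C(z)`** -/
theorem exists_data [Finite G] (h : Sit z K θ) : ∃ (ι : T →* G) (P : Subgroup G), ι tZ = z ∧
    Data ι P ∧ IsPGroup 2 P ∧ Absorb P z ∧ (∀ t, ∃ ht : ι t ∈ K, θ ⟨ι t, ht⟩ = t) := by
  classical
  have hp2 : Fact (Nat.Prime 2) := ⟨Nat.prime_two⟩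
  have hT2 : IsPGroup 2 T := IsPGroup.of_card (n := 7) (by rw [card_T]; norm_num)
  obtain ⟨hzK, hθz⟩ := h.hz
  have hTr : T ≤ θ.range := by rw [h.range]; exact T_le_M
  -- section
  let f : (T.comap θ) →* T := (θ.comp (T.comap θ).subtype).codRestrict T (fun k => k.2)
  have hf : Function.Surjective f := by
    rintro ⟨t, ht⟩
    obtain ⟨k, hk⟩ := hTr ht
    exact ⟨⟨k, by rw [mem_comap, hk]; exact ht⟩, Subtype.ext hk⟩
  have hfk : Odd (Nat.card f.ker) := by
    have h1 : Nat.card f.ker = Nat.card θ.ker := by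
      refine Nat.card_congr ⟨fun x => ⟨x.1.1, ?_⟩, fun x => ⟨⟨x.1, ?_⟩, ?_⟩, fun x => rfl, fun x => rfl⟩
      · exact congrArg Subtype.val x.2
      · rw [mem_comap, show θ x.1 = 1 from x.2]; exact one_mem _
      · exact Subtype.ext x.2
    rw [h1]; exact h.ker
  obtain ⟨g, hg⟩ := exists_section f hf hT2 hfk
  let ι : T →* G := (K.subtype.comp (T.comap θ).subtype).comp g
  have hιK : ∀ t, ι t ∈ K := fun t => (g t).1.2
  have hθι : ∀ t, θ ⟨ι t, hιK t⟩ = t := fun t => congrArg Subtype.val (hg t)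
  have hinj : Function.Injective ι := by
    intro t u htu
    apply Subtype.ext
    rw [← hθι t, ← hθι u]
    congr 1
    exact Subtype.ext htu
  -- `ι Z = z`
  have hιZ : ι tZ = z := by
    have h1 : θ (⟨ι tZ, hιK tZ⟩⁻¹ * ⟨z, hzK⟩) = 1 := by
      rw [map_mul, map_inv, hθι, hθz]
      exact inv_mul_cancel Z
    have hzz : z * z = 1 := by
      have := pow_orderOf_eq_one z
      rwa [h.ord, pow_two] at this
    have hcomm : ι tZ * z = z * ι tZ := mem_centralizer_singleton_iff.mp (h.le (hιK tZ))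
    have h2 : (⟨ι tZ, hιK tZ⟩⁻¹ * ⟨z, hzK⟩ : K) ^ 2 ^ 1 = 1 := by
      apply Subtype.ext
      show ((ι tZ)⁻¹ * z) ^ 2 ^ 1 = 1
      have h3 : ι tZ * ι tZ = 1 := by rw [← map_mul, tZ_sq, map_one]
      have h4 : (ι tZ)⁻¹ = ι tZ := inv_eq_of_mul_eq_one_left h3
      rw [h4, pow_one, pow_two]
      calc ι tZ * z * (ι tZ * z) = ι tZ * (z * ι tZ) * z := by group
        _ = (ι tZ * ι tZ) * (z * z) := by rw [← hcomm]; group
        _ = 1 := by rw [h3, hzz, one_mul]
    have h3 := two_element_ker h h1 h2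
    have h4 : (ι tZ)⁻¹ * z = 1 := congrArg Subtype.val h3
    exact (inv_mul_eq_one.mp h4)
  -- Sylow subgroup
  obtain ⟨P, hQP, hP2, hPC, habs⟩ := exists_absorb z ι.range
    (by
      rw [MonoidHom.range_eq_map]
      exact IsPGroup.map (H := (⊤ : Subgroup T)) (hT2.to_subgroup ⊤) ι) (by
      rintro _ ⟨t, rfl⟩
      exact h.le (hιK t))
  have hιP : ∀ t, ι t ∈ P := fun t => hQP ⟨t, rfl⟩
  have hPz : ∀ x ∈ P, x * z = z * x := fun x hx => mem_centralizer_singleton_iff.mp (hPC hx)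
  -- `P ∩ K`
  have hPK : ∀ x ∈ P, x ∈ K → ∃ t, x = ι t := by
    intro x hx hxK
    have h1 : ι.range = P ⊓ K := by
      refine Subgroup.eq_of_le_of_card_ge ?_ ?_
      · rintro _ ⟨t, rfl⟩
        exact ⟨hιP t, hιK t⟩
      · refine (card_le_of_two h (hP2.to_le inf_le_left) inf_le_right).trans ?_
        rw [← card_T]
        exact (Nat.card_congr (MonoidHom.ofInjective hinj).toEquiv).le
    have h2 : x ∈ ι.range := by rw [h1]; exact ⟨hx, hxK⟩
    obtain ⟨t, ht⟩ := h2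
    exact ⟨t, ht.symm⟩
  have hPpow : ∀ x ∈ P, ∃ n : ℕ, x ^ 2 ^ n = 1 := by
    intro x hx
    obtain ⟨n, hn⟩ := hP2 ⟨x, hx⟩
    exact ⟨n, congrArg Subtype.val hn⟩
  refine ⟨ι, P, hιZ, ⟨hinj, hιP, ?_⟩, hP2, habs, fun t => ⟨hιK t, hθι t⟩⟩
  by_cases hcase : ∀ x ∈ P, ∃ t, x = ι t
  · exact Or.inl hcase
  · right
    push Not at hcase
    obtain ⟨u, huP, hu⟩ := hcase
    -- elements outside of the range act as outer automorphisms
    have hout : ∀ x (hx : x ∈ P), (∀ t, x ≠ ι t) →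
        ∃ m ∈ M, ∀ k, θ (cjK (h.nor x (hPz x hx)) k) = m * (W * θ k * W) * m⁻¹ := by
      intro x hx hxt
      obtain ⟨m, hm, hmk | hmk⟩ := h.act x (hPz x hx)
      · exfalso
        obtain ⟨n, hn⟩ := hPpow x hx
        have h1 := mem_ker_of_odd h (hPz x hx) hn ⟨m, hm, hmk⟩
        obtain ⟨t, ht⟩ := hPK x hx h1
        exact hxt t ht
      · exact ⟨m, hm, hmk⟩
    obtain ⟨m, hm, hmk⟩ := hout u huP hu
    -- `m` normalizes `T`
    have hconjP : ∀ (x : G) (hx : x ∈ P) (t : T), ∃ t', x * ι t * x⁻¹ = ι t' := by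
      intro x hx t
      refine hPK _ (P.mul_mem (P.mul_mem hx (hιP t)) (P.inv_mem hx)) ?_
      exact (mem_normalizer_iff.mp (h.nor x (hPz x hx)) _).mp (hιK t)
    have hmT : m ∈ T := by
      refine h.norT m hm ?_
      intro t ht
      have h1 := hmk ⟨ι (tau ⟨t, ht⟩), hιK _⟩
      rw [hθι] at h1
      obtain ⟨t', ht'⟩ := hconjP u huP (tau ⟨t, ht⟩)
      have h2 : cjK (h.nor u (hPz u huP)) ⟨ι (tau ⟨t, ht⟩), hιK _⟩ = ⟨ι t', hιK t'⟩ :=
        Subtype.ext ht'
      rw [h2, hθι] at h1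
      have h3 : W * ((tau ⟨t, ht⟩ : T) : Pm) * W = t := congrArg Subtype.val (tau_tau ⟨t, ht⟩)
      rw [h3] at h1
      rw [← h1]
      exact t'.2
    set r : G := ι ⟨m, hmT⟩ with hr
    set s : G := r⁻¹ * u with hs
    have hsP : s ∈ P := P.mul_mem (P.inv_mem (hιP _)) huP
    have hsr : ∀ t, s ≠ ι t := by
      intro t ht
      apply hu (⟨m, hmT⟩ * t)
      rw [map_mul, ← ht, ← hr, hs]; group
    have hsact : ∀ k, θ (cjK (h.nor s (hPz s hsP)) k) = W * θ k * W := by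
      intro k
      have h1 : cjK (h.nor s (hPz s hsP)) k =
          ⟨r, hιK _⟩⁻¹ * cjK (h.nor u (hPz u huP)) k * ⟨r, hιK _⟩ := by
        apply Subtype.ext
        show s * k * s⁻¹ = r⁻¹ * (u * k * u⁻¹) * r
        rw [hs]; group
      rw [h1, map_mul, map_mul, map_inv, hmk, hθι]
      show m⁻¹ * (m * (W * θ k * W) * m⁻¹) * m = _
      group
    refine ⟨s, hsP, hsr, ?_, ?_, ?_⟩
    · intro x hx
      by_cases hxr : ∃ t, x = ι t
      · exact Or.inl hxr
      · right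
        push Not at hxr
        obtain ⟨m', hm', hmk'⟩ := hout x hx hxr
        have hxs : x * s⁻¹ ∈ P := P.mul_mem hx (P.inv_mem hsP)
        obtain ⟨n, hn⟩ := hPpow _ hxs
        have h1 : x * s⁻¹ ∈ K := by
          refine mem_ker_of_odd h (hPz _ hxs) hn ⟨m', hm', fun k => ?_⟩
          -- `k = s k' s⁻¹`
          have hsi : s⁻¹ * z = z * s⁻¹ := hPz _ (P.inv_mem hsP)
          set k' := cjK (h.nor s⁻¹ hsi) k with hk'
          have h2 : cjK (h.nor s (hPz s hsP)) k' = k := by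
            apply Subtype.ext
            show s * (s⁻¹ * k * s⁻¹⁻¹) * s⁻¹ = k
            group
          have h3 : cjK (h.nor (x * s⁻¹) (hPz _ hxs)) k = cjK (h.nor x (hPz x hx)) k' := by
            apply Subtype.ext
            show x * s⁻¹ * k * (x * s⁻¹)⁻¹ = x * (s⁻¹ * k * s⁻¹⁻¹) * x⁻¹
            group
          have h4 : θ k = W * θ k' * W := by
            conv_lhs => rw [← h2]
            rw [hsact]
          rw [h3, hmk', ← h4]
        obtain ⟨t, ht⟩ := hPK _ hxs h1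
        exact ⟨t, by rw [← ht]; group⟩
    · intro t
      obtain ⟨t', ht'⟩ := hconjP s hsP t
      have h1 := hsact ⟨ι t, hιK t⟩
      have h2 : cjK (h.nor s (hPz s hsP)) ⟨ι t, hιK t⟩ = ⟨ι t', hιK t'⟩ := Subtype.ext ht'
      rw [h2, hθι, hθι] at h1
      have h3 : t' = tau t := Subtype.ext h1
      rw [← h3, ← ht', inv_mul_cancel_right]
    · rw [hιZ]
      have hss : s * s ∈ P := P.mul_mem hsP hsP
      refine h.fix (s * s) (hPz _ hss) (hPpow _ hss) ?_
      intro k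
      have h1 : cjK (h.nor (s * s) (hPz _ hss)) k =
          cjK (h.nor s (hPz s hsP)) (cjK (h.nor s (hPz s hsP)) k) := by
        apply Subtype.ext
        show s * s * k * (s * s)⁻¹ = s * (s * k * s⁻¹) * s⁻¹
        group
      rw [h1, hsact, hsact]
      calc W * (W * θ k * W) * W = (W * W) * θ k * (W * W) := by group
        _ = θ k := by rw [W_sq, one_mul, mul_one]

/-- **the central involution is isolated** -/
theorem isolated [Finite G] (h : Sit z K θ) : ∃ P : Sylow 2 G, z ∈ P ∧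
    ∀ g : G, g * z * g⁻¹ ∈ P → g * z * g⁻¹ = z := by
  obtain ⟨ι, P, hιZ, hD, hP, habs, hθ⟩ := exists_data h
  have habs' : Absorb P (ι tZ) := by rw [hιZ]; exact habs
  obtain ⟨S, hS⟩ := exists_sylow hD hP habs'
  refine ⟨S, ?_, ?_⟩
  · show z ∈ (S : Subgroup G)
    rw [hS, ← hιZ]; exact hD.le _
  · intro g hg
    have hg' : g * ι tZ * g⁻¹ ∈ P := by
      rw [hιZ, ← hS]; exact hg
    have := MTwFus.isolated hD hP habs' ?_ g hg'
    · rwa [hιZ] at this
    · intro t ht ht1 htZ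
      obtain ⟨m, hm, hmt⟩ := h.cls t t.2 (congrArg Subtype.val ht)
        (fun h1 => ht1 (Subtype.ext h1)) (fun h1 => htZ (Subtype.ext h1))
      rw [← h.range] at hm
      obtain ⟨k, rfl⟩ := hm
      -- conjugation in `K` modulo the kernel
      have key : ∀ u : T, u * u = 1 → θ k * t * (θ k)⁻¹ = u → ∃ g, g * ι t * g⁻¹ = ι u := by
        intro u hu hku
        obtain ⟨htK, hθt⟩ := hθ t
        obtain ⟨huK, hθu⟩ := hθ u
        set x : K := k * ⟨ι t, htK⟩ * k⁻¹ with hx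
        set y : K := ⟨ι u, huK⟩ with hy
        have hxx : x * x = 1 := by
          have h1 : (⟨ι t, htK⟩ : K) * ⟨ι t, htK⟩ = 1 := by
            apply Subtype.ext
            show ι t * ι t = 1
            rw [← map_mul, ht, map_one]
          calc x * x = k * ((⟨ι t, htK⟩ : K) * ⟨ι t, htK⟩) * k⁻¹ := by rw [hx]; group
            _ = 1 := by rw [h1]; group
        have hyy : y * y = 1 := by
          apply Subtype.ext
          show ι u * ι u = 1
          rw [← map_mul, hu, map_one]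
        have hxy : x * y ∈ θ.ker := by
          rw [MonoidHom.mem_ker, map_mul, hx, map_mul, map_mul, map_inv, hθt, hku, hθu]
          exact congrArg Subtype.val hu
        have hpow : (x * y) ^ Nat.card θ.ker = 1 := by
          have := pow_card_eq_one' (x := (⟨x * y, hxy⟩ : θ.ker))
          exact congrArg Subtype.val this
        obtain ⟨w, hw⟩ := conj_of_odd hxx hyy h.ker hpow
        refine ⟨w * k, ?_⟩
        have h1 : w * (k * ⟨ι t, htK⟩ * k⁻¹) * w⁻¹ = ⟨ι u, huK⟩ := hw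
        have h2 := congrArg Subtype.val h1
        have h3 : (w : G) * (k * ι t * (k : G)⁻¹) * (w : G)⁻¹ = ι u := h2
        rw [← h3]; group
      rcases hmt with hmt | hmt
      · obtain ⟨g', hg'⟩ := key tA tA_sq hmt
        exact ⟨g', Or.inl hg'⟩
      · have h1 : (tA * tZ) * (tA * tZ) = 1 := by
          calc (tA * tZ) * (tA * tZ) = tA * (tZ * tA) * tZ := by group
            _ = (tA * tA) * (tZ * tZ) := by rw [comm_tZ]; group
            _ = 1 := by rw [tA_sq, tZ_sq, one_mul]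
        obtain ⟨g', hg'⟩ := key (tA * tZ) h1 hmt
        exact ⟨g', Or.inr hg'⟩

end Cfsg.Agent.GH.MTwLocal
end

-- part: GH/MTwMain
section
/-!
# GH-COV (7): no 2-component with top `M₁₂` and centre of even order
-/

set_option autoImplicit false

open Subgroup Cfsg
open scoped commutatorElement

namespace Cfsg.Agent.GH.MTwMain

open Cfsg.Agent.Intrinsic.Basic Cfsg.Agent.GH.Defs
open Cfsg.Agent.CoThreeStd.MTwelve (H)
open Cfsg.Agent.GH.MTwCode (Pm)
open Cfsg.Agent.GH.MTwModel Cfsg.Agent.GH.MTwSyl Cfsg.Agent.GH.MTwCover Cfsg.Agent.GH.MTwPsi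
  Cfsg.Agent.GH.MTwAut Cfsg.Agent.GH.MTwNorm Cfsg.Agent.GH.MTwLocal

/-- the centre of a group without odd normal subgroups is a 2-group -/
theorem center_two {X : Type*} [Group X] [Finite X] (h : oddCore X = ⊥) :
    IsPGroup 2 (center X) := by
  rintro ⟨z, hz⟩
  obtain ⟨k, m, hm, hkm⟩ := Nat.exists_eq_two_pow_mul_odd (orderOf_pos z).ne'
  refine ⟨k, Subtype.ext ?_⟩
  show z ^ 2 ^ k = 1
  have hy : z ^ 2 ^ k ∈ center X := pow_mem hz _
  have hN : (zpowers (z ^ 2 ^ k)).Normal := by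
    refine ⟨fun n hn g => ?_⟩
    have h1 : n ∈ center X := (zpowers_le.mpr hy) hn
    rw [mem_center_iff.mp h1 g, mul_inv_cancel_right]
    exact hn
  have hodd : (Nat.card (zpowers (z ^ 2 ^ k))).Coprime 2 := by
    rw [Nat.card_zpowers]
    have h1 : orderOf (z ^ 2 ^ k) ∣ m :=
      orderOf_dvd_of_pow_eq_one (by rw [← pow_mul, ← hkm, pow_orderOf_eq_one])
    exact Nat.Coprime.coprime_dvd_left h1 (Nat.coprime_two_right.mpr hm)
  have h1 := Lib.Cores.le_pPrimeCore hN hodd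
  rw [show pPrimeCore 2 X = ⊥ from h, le_bot_iff, zpowers_eq_bot] at h1
  exact h1

variable {G : Type*} [Group G]

/-- conjugation as an automorphism -/
def cjE {K : Subgroup G} {u : G} (hu : u ∈ normalizer (K : Set G)) : K ≃* K where
  toFun := cjK hu
  invFun := cjK (inv_mem hu)
  left_inv k := Subtype.ext (by
    show u⁻¹ * (u * k * u⁻¹) * u⁻¹⁻¹ = k
    group)
  right_inv k := Subtype.ext (by
    show u * (u⁻¹ * k * u⁻¹⁻¹) * u⁻¹ = k
    group)
  map_mul' k l := Subtype.ext (by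
    show u * (k * l) * u⁻¹ = u * k * u⁻¹ * (u * l * u⁻¹)
    group)

/-- the induced automorphism of `K / O(K)` -/
noncomputable def barE {K : Subgroup G} {u : G} (hu : u ∈ normalizer (K : Set G)) :
    Bar K ≃* Bar K :=
  QuotientGroup.congr (oddCore ↥K) (oddCore ↥K) (cjE hu) (Lib.Cores.map_equiv_pPrimeCore (cjE hu) 2)

variable [Finite G]

/-- **No 2-component with top `M₁₂` containing the involution.** -/
theorem false_of_iso [IsSimpleGroup G] (hna : ¬ IsMulCommutative G) {x : G} {K : Subgroup G}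
    (c : Comp2 x K) (hxK : x ∈ K)
    (hn : centralizer ({x} : Set G) ≤ normalizer (K : Set G))
    (hfix : ∀ g ∈ centralizer ({x} : Set G), (∃ n, g ^ 2 ^ n = 1) → Fixes g K → g = 1 ∨ g = x)
    (hM : Spor.IsoM12 (STop K)) : False := by
  have hxx : x * x = 1 := by rw [← pow_two, ← c.inv, pow_orderOf_eq_one]
  have hx1 : x ≠ 1 := by
    rintro h
    have := c.inv
    rw [h, orderOf_one] at this
    norm_num at this
  obtain ⟨e⟩ := hM
  have hsimple : IsSimpleGroup (STop K) := Comp.top_simple c.comp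
  have hH : IsSimpleGroup H := e.isSimpleGroup_congr.1 hsimple
  have hq := Comp.quasisimple c.comp
  -- the cover
  let mkK := QuotientGroup.mk' (oddCore ↥K)
  let π : Bar K →* H := e.toMonoidHom.comp (QuotientGroup.mk' (center (Bar K)))
  have hπs : Function.Surjective π := e.surjective.comp (QuotientGroup.mk'_surjective _)
  have hπk : π.ker = center (Bar K) := by
    ext y
    rw [MonoidHom.mem_ker]
    show e (QuotientGroup.mk' (center (Bar K)) y) = 1 ↔ _
    rw [MulEquiv.map_eq_one_iff]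
    exact QuotientGroup.eq_one_iff y
  have hperf : _root_.commutator (Bar K) = ⊤ := by
    have : Group.IsPerfect (Bar K) := hq.1
    exact this.commutator_eq_top
  have hcore : oddCore (Bar K) = ⊥ := Lib.Cores.pPrimeCore_quotient_pPrimeCore 2
  have hxC : x ∈ centralizer ({x} : Set G) := mem_centralizer_singleton_iff.mpr rfl
  have hcomm : ∀ k ∈ K, k * x = x * k := fun k hk => mem_centralizer_singleton_iff.mp (c.comp.le hk)
  have hzc : mkK ⟨x, hxK⟩ ∈ center (Bar K) := by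
    rw [mem_center_iff]
    intro y
    obtain ⟨k, rfl⟩ := QuotientGroup.mk'_surjective _ y
    show mkK k * mkK ⟨x, hxK⟩ = mkK ⟨x, hxK⟩ * mkK k
    rw [← map_mul, ← map_mul]
    congr 1
    exact Subtype.ext (hcomm k k.2)
  have hz1 : mkK ⟨x, hxK⟩ ≠ 1 := by
    intro h
    have h1 : (⟨x, hxK⟩ : K) ∈ oddCore ↥K := (QuotientGroup.eq_one_iff _).mp h
    have h2 : x ∈ core K := (mem_core_iff hxK).mpr h1
    exact hx1 (eq_one_of_mem_core_sq h2 hxx)
  obtain ⟨z, hz⟩ := MTwCenter.exists_cov π hπs hπk hperf (center_two hcore) (by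
    intro h
    rw [h, mem_bot] at hzc
    exact hz1 hzc)
  have hzx : mkK ⟨x, hxK⟩ = z := by
    rw [← hπk] at hzc
    rcases hz.ker _ hzc with h | h
    · exact absurd h hz1
    · exact h
  obtain ⟨ψ, a, b, hMod⟩ := Cov.exists_model hz
  let θ : K →* Pm := ψ.comp mkK
  have hker : θ.ker = oddCore ↥K := by
    ext k
    rw [MonoidHom.mem_ker]
    constructor
    · intro h
      have h1 : mkK k = 1 := hMod.inj (by rw [map_one]; exact h)
      exact (QuotientGroup.eq_one_iff k).mp h1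
    · intro h
      have h1 : mkK k = 1 := (QuotientGroup.eq_one_iff k).mpr h
      show ψ (mkK k) = 1
      rw [h1, map_one]
  have hsit : Sit x K θ :=
    { ord := c.inv
      le := c.comp.le
      nor := fun u hu => hn (mem_centralizer_singleton_iff.mpr hu)
      range := by
        rw [← hMod.range, MonoidHom.range_eq_map, MonoidHom.range_eq_map, ← Subgroup.map_map,
          Subgroup.map_top_of_surjective mkK (QuotientGroup.mk'_surjective _)]
      ker := by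
        rw [hker]
        exact Nat.coprime_two_right.1 (Lib.Cores.pPrimeCore_coprime (G := ↥K) 2)
      hz := ⟨hxK, by
        show ψ (mkK ⟨x, hxK⟩) = Z
        rw [hzx, hMod.ψz]⟩
      act := by
        intro u hu
        have hu' := hn (mem_centralizer_singleton_iff.mpr hu)
        obtain ⟨g, hg⟩ := aut hMod (barE hu')
        refine ⟨ψ g, by rw [← hMod.range]; exact ⟨g, rfl⟩, ?_⟩
        rcases hg with hg | hg
        · exact Or.inl fun k => hg (mkK k)
        · exact Or.inr fun k => hg (mkK k)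
      fix := by
        intro u hu hpow hk
        have hu' := hn (mem_centralizer_singleton_iff.mpr hu)
        refine hfix u (mem_centralizer_singleton_iff.mpr hu) hpow ⟨hu', fun y hy => ?_⟩
        have h1 : mkK (cjK hu' ⟨y, hy⟩) = mkK ⟨y, hy⟩ := hMod.inj (hk ⟨y, hy⟩)
        have h2 : mkK (cjK hu' ⟨y, hy⟩ * (⟨y, hy⟩ : K)⁻¹) = 1 := by
          rw [map_mul, map_inv, h1, mul_inv_cancel]
        have h3 := (QuotientGroup.eq_one_iff _).mp h2
        exact (mem_core_iff (K := K) (x := ⁅u, y⁆) (cjK hu' ⟨y, hy⟩ * (⟨y, hy⟩ : K)⁻¹).2).mpr h3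
      cardM := card_M hMod
      cls := fun t ht h2 h1 hZ => classT hMod ht h2 h1 hZ
      norT := fun m hm h => normT hMod hm h }
  obtain ⟨P, hxP, hiso⟩ := isolated hsit
  obtain ⟨N, hN, hNodd, hNc⟩ := Cfsg.Agent.S0215.result P x c.inv hxP hiso
  rcases hN.eq_bot_or_eq_top with h | h
  · -- `x` central
    have hxcen : x ∈ center G := by
      rw [mem_center_iff]
      intro g
      have h1 := hNc g
      rw [h, mem_bot, mul_inv_eq_one, mul_inv_eq_iff_eq_mul] at h1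
      exact h1.symm
    rcases (inferInstance : (center G).Normal).eq_bot_or_eq_top with h1 | h1
    · rw [h1, mem_bot] at hxcen
      exact hx1 hxcen
    · apply hna
      refine ⟨⟨fun u v => ?_⟩⟩
      have h2 : u ∈ center G := h1 ▸ mem_top u
      exact (mem_center_iff.mp h2 v).symm
  · rw [h, Subgroup.card_top] at hNodd
    have h1 : orderOf x ∣ Nat.card G := _root_.orderOf_dvd_natCard x
    rw [c.inv] at h1
    exact (Nat.not_even_iff_odd.mpr hNodd) (even_iff_two_dvd.mpr h1)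

end Cfsg.Agent.GH.MTwMain
end

-- part: GH/Cov/TwelveMain
section
/-!
# GH-COV, `2.M₁₂`: no 2-component with even centre and top `M₁₂`
-/

set_option autoImplicit false

open Cfsg Subgroup
open Cfsg.Agent.Intrinsic.Basic
open Cfsg.Agent.GH.Defs

namespace Cfsg.Agent.GH.Cov.TwelveMain

universe u

/-- The field `m12` of `Cov.Main.Inputs`. -/
theorem m12 {G : Type u} [Group G] [Finite G] (h : Hyp G) (x : G) (K : Subgroup G) (c : Comp2 x K)
    (he : EvenCenter K) (hiso : Spor.IsoM12 (STop K)) : False := by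
  have := h.simple
  obtain ⟨hxK, -, hn, hfix⟩ := TwelveFront.front h.rank4 c he hiso
  exact MTwMain.false_of_iso h.nonComm c hxK hn hfix hiso

end Cfsg.Agent.GH.Cov.TwelveMain
end

-- part: GH/QARank
section
/-!
# GH-Q, scenario A: rank lemmas

* `isCyclic_of_srank_le_one` : a finite 2-group of sectional rank at most 1 is cyclic.
* `two_le_srank_top` : the simple top of a 2-component has sectional 2-rank at least 2.
* `srank_three` : three distinct 2-components give sectional rank at least `r₁ + r₂ + r₃`.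
* `not_three` : with sectional rank at most 4 there are at most two 2-components.
-/

set_option autoImplicit false

open Cfsg Subgroup
open Cfsg.Agent.Intrinsic.Basic
open Cfsg.Agent.SignalizersComponents.IntrinsicBasic
open Cfsg.Agent.TwoFusion.SectionalRank
open Cfsg.Agent.GH.Defs Cfsg.Agent.GH.Rank Cfsg.Agent.GH.Comp
open Cfsg.Agent.SignalizersComponents
open scoped commutatorElement

namespace Cfsg.Agent.GH.QA

/-- A finite 2-group of sectional rank at most 1 is cyclic. -/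
theorem isCyclic_of_srank_le_one {P : Type*} [Group P] [Finite P] (hP : IsPGroup 2 P)
    (h : SectionalPRankLE 2 1 P) : IsCyclic P := by
  have : Fact (Nat.Prime 2) := ⟨Nat.prime_two⟩
  by_contra hc
  have hne : ∀ x : P, zpowers x ≠ ⊤ := by
    intro x hx
    exact hc ⟨⟨x, fun y => by
      have : y ∈ zpowers x := hx ▸ mem_top y
      exact this⟩⟩
  obtain ⟨M, hM, -⟩ := (eq_top_or_exists_le_coatom (zpowers (1 : P))).resolve_left (hne 1)
  obtain ⟨x, hx⟩ : ∃ x, x ∉ M := by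
    by_contra hcon
    push Not at hcon
    exact hM.1 (eq_top_iff.2 fun y _ => hcon y)
  obtain ⟨N, hN, hxN⟩ := (eq_top_or_exists_le_coatom (zpowers x)).resolve_left (hne x)
  obtain ⟨hMn, hMi⟩ := Cfsg.Agent.S0014.coatom_normal_index hP hM
  obtain ⟨hNn, hNi⟩ := Cfsg.Agent.S0014.coatom_normal_index hP hN
  rw [sectionalPRankLE_iff] at h
  have h1 := h ⊤ (M ⊓ N)
    { le := le_top
      comm := by
        intro a _ b _
        refine ⟨?_, ?_⟩
        · change _ ∈ M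
          have h2 := mul_mem_iff_of_index_two hMi (a := a * b) (b := a⁻¹ * b⁻¹)
          rw [← mul_assoc] at h2
          rw [h2, mul_mem_iff_of_index_two hMi, mul_mem_iff_of_index_two hMi, inv_mem_iff,
            inv_mem_iff]
        · change _ ∈ N
          have h2 := mul_mem_iff_of_index_two hNi (a := a * b) (b := a⁻¹ * b⁻¹)
          rw [← mul_assoc] at h2
          rw [h2, mul_mem_iff_of_index_two hNi, mul_mem_iff_of_index_two hNi, inv_mem_iff,
            inv_mem_iff]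
      pow := by
        intro a _
        exact ⟨sq_mem_of_index_two hMi a, sq_mem_of_index_two hNi a⟩ }
  have h2 : (M ⊓ N).relIndex M * M.index = (M ⊓ N).index := relIndex_mul_index inf_le_left
  have h3 : (M ⊓ N).relIndex M ≠ 1 := by
    intro h4
    rw [relIndex_eq_one] at h4
    have h5 : M ≤ N := h4.trans inf_le_right
    rcases hM.le_iff.1 h5 with h6 | h6
    · exact hN.1 h6
    · exact hx (h6 ▸ hxN (mem_zpowers x))
  have h4 : (M ⊓ N).relIndex M ≠ 0 := by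
    intro h0
    rw [h0, zero_mul] at h2
    exact index_ne_zero_of_finite h2.symm
  have h5 : 4 ≤ (M ⊓ N).index := by
    rw [← h2, hMi]; omega
  have h6 := card_mul_index (M ⊓ N)
  rw [card_top, ← h6] at h1
  have h7 : 0 < Nat.card (M ⊓ N : Subgroup P) := Nat.card_pos
  nlinarith only [h1, h5, h7]

variable {G : Type*} [Group G] [Finite G]

/-- A finite perfect group with a central Sylow 2-subgroup has odd order. -/
theorem odd_of_perfect_of_central {L : Type*} [Group L] [Finite L] (hp : Group.IsPerfect L)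
    (S : Sylow 2 L) (hS : (S : Subgroup L) ≤ center L) : ¬ 2 ∣ Nat.card L := by
  have : Fact (Nat.Prime 2) := ⟨Nat.prime_two⟩
  have hcomm : ∀ a ∈ (S : Subgroup L), ∀ b ∈ (S : Subgroup L), a * b = b * a := fun a ha b _ =>
    (mem_center_iff.mp (hS ha) b).symm
  have hle : normalizer ((S : Subgroup L) : Set L) ≤ centralizer ((S : Subgroup L) : Set L) := by
    intro x _
    rw [mem_centralizer_iff]
    intro s hs
    exact (mem_center_iff.mp (hS hs) x).symm
  have hcompl := MonoidHom.ker_transferSylow_isComplement' S hle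
  set K := (MonoidHom.transferSylow S hle).ker
  have hK : K = ⊤ := by
    have hle : commutator L ≤ K := by
      rw [commutator_def, Subgroup.commutator_le]
      intro a _ b _
      rw [MonoidHom.mem_ker, map_commutatorElement, commutatorElement_eq_one_iff_mul_comm]
      exact Subtype.ext (hcomm _ (SetLike.coe_mem _) _ (SetLike.coe_mem _))
    rw [hp.commutator_eq_top] at hle
    exact top_le_iff.mp hle
  rw [hK, Subgroup.isComplement'_top_left] at hcompl
  intro h2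
  have h3 : 2 ∣ Nat.card (S : Subgroup L) := by
    rw [S.card_eq_multiplicity]
    apply dvd_pow_self
    rw [← pos_iff_ne_zero]
    exact Nat.prime_two.factorization_pos_of_dvd Nat.card_pos.ne' h2
  rw [hcompl] at h3
  simp at h3

/-- The simple top of a 2-component has even order. -/
theorem even_top {H K : Subgroup G} (hK : IsComp H K) : 2 ∣ Nat.card (STop K) := by
  have : Fact (Nat.Prime 2) := ⟨Nat.prime_two⟩
  have hq := quasisimple hK
  by_contra h2
  obtain ⟨S⟩ : Nonempty (Sylow 2 (Bar K)) := inferInstance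
  have h3 : (S : Subgroup (Bar K)) ≤ center (Bar K) := by
    intro x hx
    obtain ⟨n, hn⟩ := S.2 ⟨x, hx⟩
    have hn' : x ^ 2 ^ n = 1 := congrArg Subtype.val hn
    have h4 : ((QuotientGroup.mk' (center (Bar K))) x) ^ 2 ^ n = 1 := by
      rw [← map_pow, hn', map_one]
    have h5 : orderOf ((QuotientGroup.mk' (center (Bar K))) x) = 1 := by
      refine Nat.eq_one_of_dvd_coprimes ?_ (_root_.orderOf_dvd_natCard _) (orderOf_dvd_of_pow_eq_one h4)
      exact Nat.Coprime.pow_right n ((Nat.prime_two.coprime_iff_not_dvd.2 h2).symm)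
    exact (QuotientGroup.eq_one_iff x).mp (orderOf_eq_one_iff.mp h5)
  have h4 := odd_of_perfect_of_central hq.1 S h3
  apply h4
  have h5 : 2 ∣ Nat.card K := hK.even
  rw [card_eq_card_quotient_mul_card_subgroup (oddCore ↥K)] at h5
  rcases (Nat.prime_two.dvd_mul).1 h5 with h6 | h6
  · exact h6
  · exfalso
    have h7 := Lib.Cores.pPrimeCore_coprime (G := K) 2
    have h8 := (Nat.coprime_two_right.1 h7)
    exact (Nat.not_even_iff_odd.2 h8) (even_iff_two_dvd.2 h6)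

/-- The simple top of a 2-component has sectional 2-rank at least 2. -/
theorem two_le_srank_top {H K : Subgroup G} (hK : IsComp H K) : 2 ≤ srank 2 (STop K) := by
  have : Fact (Nat.Prime 2) := ⟨Nat.prime_two⟩
  by_contra h
  have h1 : srank 2 (STop K) ≤ 1 := by omega
  obtain ⟨S⟩ : Nonempty (Sylow 2 (STop K)) := inferInstance
  rw [← srank_sylow S, srank_le_iff (by norm_num)] at h1
  have h2 := isCyclic_of_srank_le_one S.2 h1
  have hs := top_simple hK
  have hp : Group.IsPerfect (STop K) := by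
    have := (quasisimple hK).1
    infer_instance
  exact QsBasic.not_isCyclic_sylow (even_iff_two_dvd.2 (even_top hK)) S h2

/-- Three distinct 2-components. -/
theorem srank_three {H K L M : Subgroup G} (hK : IsComp H K) (hL : IsComp H L) (hM : IsComp H M)
    (hKL : K ≠ L) (hKM : K ≠ M) (hLM : L ≠ M) :
    srank 2 (STop K) + (srank 2 (STop L) + srank 2 (STop M)) ≤ srank 2 H := by
  have hp : (2 : ℕ).Prime := Nat.prime_two
  rw [← srank_prod hp, ← srank_prod hp]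
  let π : H →* H ⧸ oddCore ↥H := QuotientGroup.mk' (oddCore ↥H)
  have hπ : ∀ (a : G) (ha : a ∈ H), π ⟨a, ha⟩ = 1 ↔ a ∈ core H := by
    intro a ha
    rw [mem_core_iff ha]
    exact QuotientGroup.eq_one_iff _
  have hcomm : ∀ {A B : Subgroup G} (hA : IsComp H A) (hB : IsComp H B) (_ : A ≠ B) (a : A) (b : B),
      Commute (π.comp (inclusion hA.le) a) (π.comp (inclusion hB.le) b) := by
    intro A B hA hB hne a b
    have h1 : ⁅(a : G), (b : G)⁆ ∈ core H := by
      have h2 := hA.comm_le_core hB hne (commutator_mem_commutator a.2 b.2)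
      exact hA.core_le_core h2.1
    have h3 : π ⁅(⟨a, hA.le a.2⟩ : H), (⟨b, hB.le b.2⟩ : H)⁆ = 1 := by
      rw [commutatorElement_def] at h1
      exact (hπ _ (SetLike.coe_mem (⁅(⟨a, hA.le a.2⟩ : H), (⟨b, hB.le b.2⟩ : H)⁆ : H))).mpr h1
    rw [map_commutatorElement] at h3
    exact commutatorElement_eq_one_iff_commute.mp h3
  have hker : ∀ {A : Subgroup G} (hA : IsComp H A) (a : A),
      (∀ y : A, Commute (π.comp (inclusion hA.le) a) (π.comp (inclusion hA.le) y)) →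
      topMap A a = 1 := by
    intro A hA a ha
    rw [← MonoidHom.mem_ker, mem_ker_topMap]
    intro y hy
    have h5 : π.comp (inclusion hA.le) ⁅a, ⟨y, hy⟩⁆ = 1 := by
      rw [map_commutatorElement]
      exact commutatorElement_eq_one_iff_commute.mpr (ha ⟨y, hy⟩)
    have h6 : ⁅(a : G), y⁆ ∈ core H := (hπ _ (hA.le (A.mul_mem
      (A.mul_mem (A.mul_mem a.2 hy) (A.inv_mem a.2)) (A.inv_mem hy)))).mp h5
    rw [hA.core_eq]
    exact ⟨A.mul_mem (A.mul_mem (A.mul_mem a.2 hy) (A.inv_mem a.2)) (A.inv_mem hy), h6⟩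
  let fK : K →* H ⧸ oddCore ↥H := π.comp (inclusion hK.le)
  let fL : L →* H ⧸ oddCore ↥H := π.comp (inclusion hL.le)
  let fM : M →* H ⧸ oddCore ↥H := π.comp (inclusion hM.le)
  let f1 : L × M →* H ⧸ oddCore ↥H := MonoidHom.noncommCoprod fL fM (hcomm hL hM hLM)
  have h1 : ∀ (k : K) (m : L × M), Commute (fK k) (f1 m) := by
    rintro k ⟨l, m⟩
    exact (hcomm hK hL hKL k l).mul_right (hcomm hK hM hKM k m)
  let f : K × (L × M) →* H ⧸ oddCore ↥H := MonoidHom.noncommCoprod fK f1 h1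
  let g : K × (L × M) →* STop K × (STop L × STop M) :=
    MonoidHom.prodMap (topMap K) (MonoidHom.prodMap (topMap L) (topMap M))
  have h0 : srank 2 (H ⧸ oddCore ↥H) ≤ srank 2 H := srank_quotient_le hp.one_lt _
  refine le_trans ((srank_le_iff hp.one_lt).2 ?_) h0
  refine of_homs (srank_spec hp.one_lt) f g ?_ ?_
  · rintro ⟨x, y, z⟩
    obtain ⟨a, rfl⟩ := topMap_surjective K x
    obtain ⟨b, rfl⟩ := topMap_surjective L y
    obtain ⟨c, rfl⟩ := topMap_surjective M z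
    exact ⟨(a, b, c), rfl⟩
  · rintro ⟨k, l, m⟩ h
    have h2 : fK k * (fL l * fM m) = 1 := h
    have e1 : fK k = (fL l * fM m)⁻¹ := eq_inv_of_mul_eq_one_left h2
    have e2 : fL l = (fK k)⁻¹ * (fM m)⁻¹ := by
      rw [e1, inv_inv, mul_inv_cancel_right]
    have e3 : fM m = (fL l)⁻¹ * (fK k)⁻¹ := by
      rw [e1, inv_inv, inv_mul_cancel_left]
    refine Prod.ext (hker hK k fun y => ?_) (Prod.ext (hker hL l fun y => ?_) (hker hM m fun y => ?_))
    · change Commute (fK k) (fK y)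
      rw [e1]
      exact ((hcomm hK hL hKL y l).mul_right (hcomm hK hM hKM y m)).symm.inv_left
    · change Commute (fL l) (fL y)
      rw [e2]
      exact ((hcomm hK hL hKL k y).inv_left).mul_left ((hcomm hM hL hLM.symm m y).inv_left)
    · change Commute (fM m) (fM y)
      rw [e3]
      exact ((hcomm hL hM hLM l y).inv_left).mul_left ((hcomm hK hM hKM k y).inv_left)

/-- Sectional rank at most 4: at most two 2-components. -/
theorem only_two (hr : SectionalPRankLE 2 4 G) {H K L M : Subgroup G} (hK : IsComp H K)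
    (hL : IsComp H L) (hM : IsComp H M) (hKL : K ≠ L) : M = K ∨ M = L := by
  by_contra hcon
  push Not at hcon
  have h1 := srank_three hK hL hM hKL hcon.1.symm hcon.2.symm
  have h2 := two_le_srank_top hK
  have h3 := two_le_srank_top hL
  have h4 := two_le_srank_top hM
  have h5 : srank 2 H ≤ 4 := (srank_subgroup_le (by norm_num) _).trans
    ((srank_le_iff (by norm_num)).2 hr)
  omega

end Cfsg.Agent.GH.QA
end

-- part: GH/QABase
section
/-!
# GH-Q (I): components containing the involution, `alpha` pairs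

Facts on `QC z K` and `Alpha a b Ka Kb Ja Jb` (see `QADefs`).
-/

set_option autoImplicit false

open Cfsg Subgroup
open Cfsg.Agent.Intrinsic.Basic Cfsg.Agent.Intrinsic.Cen
open Cfsg.Agent.SignalizersComponents.IntrinsicBasic
open Cfsg.Agent.TwoFusion.SectionalRank
open Cfsg.Agent.GH.Defs Cfsg.Agent.GH.Rank Cfsg.Agent.GH.Comp
open scoped commutatorElement

namespace Cfsg.Agent.GH.QA

variable {G : Type*} [Group G]

/-! ### involutions -/

theorem sq_of_order {x : G} (h : orderOf x = 2) : x * x = 1 := by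
  rw [← pow_two, ← h, pow_orderOf_eq_one]

theorem ne_one_of_order {x : G} (h : orderOf x = 2) : x ≠ 1 := by
  rintro rfl
  simp at h

theorem order_of_sq {x : G} (h2 : x * x = 1) (h1 : x ≠ 1) : orderOf x = 2 :=
  orderOf_eq_prime (by rw [pow_two, h2]) h1

theorem inv_of_sq {x : G} (h : x * x = 1) : x⁻¹ = x := inv_eq_of_mul_eq_one_right h

theorem sq_cj {x : G} (h : x * x = 1) (g : G) : (g * x * g⁻¹) * (g * x * g⁻¹) = 1 := by
  calc (g * x * g⁻¹) * (g * x * g⁻¹) = g * (x * x) * g⁻¹ := by group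
    _ = 1 := by rw [h]; group

theorem ne_one_cj {x : G} (h : x ≠ 1) (g : G) : g * x * g⁻¹ ≠ 1 := by
  intro h3
  apply h
  calc x = g⁻¹ * (g * x * g⁻¹) * g := by group
    _ = 1 := by rw [h3]; group

theorem mul_sq {a b : G} (ha : a * a = 1) (hb : b * b = 1) (hab : a * b = b * a) :
    (a * b) * (a * b) = 1 := by
  calc (a * b) * (a * b) = a * (b * a) * b := by group
    _ = (a * a) * (b * b) := by rw [← hab]; group
    _ = 1 := by rw [ha, hb, one_mul]

theorem mul_ne_one {a b : G} (ha : a * a = 1) (hne : a ≠ b) : a * b ≠ 1 := by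
  intro h
  apply hne
  calc a = a * (a * b) := by rw [h, mul_one]
    _ = b := by rw [← mul_assoc, ha, one_mul]

/-- conjugation and `cj` -/
theorem comp2_cj {x : G} {K : Subgroup G} (h : Comp2 x K) (g : G) :
    Comp2 (g * x * g⁻¹) (cj g K) := by
  refine ⟨?_, ?_⟩
  · have e : orderOf (MulAut.conj g x) = orderOf x := orderOf_injective (MulAut.conj g).toMonoidHom
      (MulAut.conj g).injective x
    rw [← h.inv, ← e]
    rfl
  · rw [← cj_centralizer]
    exact h.comp.cj g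

/-- centralizers of a four-group -/
theorem cent_inf_mul {a b : G} :
    centralizer ({a * b} : Set G) ⊓ centralizer ({b} : Set G) =
      centralizer ({a} : Set G) ⊓ centralizer ({b} : Set G) := by
  ext x
  simp only [mem_inf, mem_centralizer_singleton_iff]
  constructor
  · rintro ⟨h1, h2⟩
    refine ⟨?_, h2⟩
    have h3 : x * a * b = a * x * b := by
      calc x * a * b = x * (a * b) := by group
        _ = a * (b * x) := by rw [h1]; group
        _ = a * x * b := by rw [← h2]; group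
    exact mul_right_cancel h3
  · rintro ⟨h1, h2⟩
    refine ⟨?_, h2⟩
    calc x * (a * b) = (x * a) * b := by group
      _ = a * (x * b) := by rw [h1]; group
      _ = a * b * x := by rw [h2]; group

theorem cent_inf_mul' {a b : G} (hab : a * b = b * a) :
    centralizer ({a * b} : Set G) ⊓ centralizer ({a} : Set G) =
      centralizer ({b} : Set G) ⊓ centralizer ({a} : Set G) := by
  rw [hab]
  exact cent_inf_mul

/-! ### `QC` -/

namespace QC

variable {z : G} {K L : Subgroup G}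

theorem sq (h : QC z K) : z * z = 1 := sq_of_order h.comp.inv

theorem ne_one (h : QC z K) : z ≠ 1 := ne_one_of_order h.comp.inv

theorem mul_comm_of (h : QC z K) {k : G} (hk : k ∈ K) : k * z = z * k :=
  mem_centralizer_singleton_iff.mp (h.comp.comp.le hk)

theorem cj (h : QC z K) (g : G) : QC (g * z * g⁻¹) (cj g K) :=
  ⟨comp2_cj h.comp g, conj_mem_cj h.mem⟩

variable [Finite G]

theorem qt (h : QC z K) (F : Frame G) : QT K :=
  F.even_qt z K h.comp (evenCenter_of_mem h.comp h.mem)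

/-- `z` is the only involution of `K` -/
theorem eq_z (h : QC z K) (F : Frame G) {a : G} (ha : a ∈ K) (h2 : a * a = 1) (h1 : a ≠ 1) :
    a = z := h.qt F a ha z h.mem h2 h.sq h1 h.ne_one (h.mul_comm_of ha)

omit [Finite G] in
theorem unique (h : QC z K) (F : Frame G) (h' : QC z L) : K = L :=
  F.one z K L h.comp h'.comp h.mem h'.mem

omit [Finite G] in
theorem eq_cj (h : QC z K) (F : Frame G) {g : G} (h' : QC (g * z * g⁻¹) L) : L = Cfsg.Agent.SignalizersComponents.IntrinsicBasic.cj g K :=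
  h'.unique F (h.cj g)

omit [Finite G] in
theorem centralizer_le (h : QC z K) (F : Frame G) :
    centralizer ({z} : Set G) ≤ normalizer (K : Set G) := by
  intro g hg
  rw [mem_normalizer_iff_cj]
  have h1 : g * z * g⁻¹ = z := by
    rw [mem_centralizer_singleton_iff.mp hg, mul_inv_cancel_right]
  have h2 := h.cj g
  rw [h1] at h2
  exact h2.unique F h

end QC

/-! ### pump-ups -/

variable [Finite G]

/-- `X` a 2-component of `C(u)` fixed by the involution `v`; an involution `u` of `cen X v`: there is a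
2-component of `C(v)` containing `cen X v`. -/
theorem exists_pump {u v : G} {X : Subgroup G} (hX : IsComp (centralizer ({u} : Set G)) X)
    (huX : u ∈ X) (huu : u * u = 1) (hvv : v * v = 1) (huv : u * v = v * u) (hf : Fixes v X) :
    ∃ M, IsComp (centralizer ({v} : Set G)) M ∧ cen X v ≤ M ∧ u ∈ M := by
  have hvC : v ∈ centralizer ({u} : Set G) := mem_centralizer_singleton_iff.mpr huv.symm
  have h1 := (isComp_cen hX hvC hvv hf).1
  rw [inf_comm] at h1
  have hu : u ∈ cen X v := mem_cen_of_sq huX huv huu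
  obtain ⟨M, hM, hle⟩ := exists_pumpup huu hu h1
  exact ⟨M, hM, hle, hle hu⟩

/-- existence of the pump-ups of an `alpha` pair -/
theorem exists_alpha (F : Frame G) {a b : G} {Ka Kb : Subgroup G} (qa : QC a Ka) (qb : QC b Kb)
    (hne : a ≠ b) (hab : a * b = b * a) (hf : Fixes b Ka) : ∃ Ja Jb, Alpha a b Ka Kb Ja Jb := by
  -- one direction
  obtain ⟨Jb, hJb, hle, haJ⟩ := exists_pump qa.comp.comp qa.mem qa.sq qb.sq hab hf
  have hJK : Kb ≠ Jb := by
    rintro rfl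
    exact hne (qb.eq_z F haJ qa.sq qa.ne_one)
  have hfa : Fixes a Kb := qb.comp.comp.fixes_of_mem hJb hJK haJ
  obtain ⟨Ja, hJa, hle', -⟩ := exists_pump qb.comp.comp qb.mem qb.sq qa.sq hab.symm hfa
  exact ⟨Ja, Jb, qa, qb, hne, hab, hf, hfa, ⟨qa.comp.inv, hJa⟩, ⟨qb.comp.inv, hJb⟩, hle', hle⟩

namespace Alpha

variable {a b : G} {Ka Kb Ja Jb : Subgroup G}

omit [Finite G] in
theorem symm (h : Alpha a b Ka Kb Ja Jb) : Alpha b a Kb Ka Jb Ja :=
  ⟨h.qb, h.qa, h.ne.symm, h.comm.symm, h.fb, h.fa, h.jb, h.ja, h.leJb, h.leJa⟩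

omit [Finite G] in
theorem mem_cen' (h : Alpha a b Ka Kb Ja Jb) : b ∈ cen Kb a :=
  mem_cen_of_sq h.qb.mem h.comm.symm h.qb.sq

omit [Finite G] in
theorem mem_J (h : Alpha a b Ka Kb Ja Jb) : b ∈ Ja := h.leJa h.mem_cen'

theorem J_ne_K (h : Alpha a b Ka Kb Ja Jb) (F : Frame G) : Ka ≠ Ja := by
  intro h1
  have h2 : b ∈ Ka := h1 ▸ h.mem_J
  exact h.ne (h.qa.eq_z F h2 h.qb.sq h.qb.ne_one).symm

theorem not_mem_J (h : Alpha a b Ka Kb Ja Jb) (F : Frame G) : a ∉ Ja := fun h1 =>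
  h.J_ne_K F (F.one a Ka Ja h.qa.comp h.ja h.qa.mem h1)

/-- `Ka`, `Ja` are the only 2-components of `C(a)` -/
theorem only (h : Alpha a b Ka Kb Ja Jb) (F : Frame G) {M : Subgroup G} (hM : Comp2 a M) :
    M = Ka ∨ M = Ja := only_two F.rank4 h.qa.comp.comp h.ja.comp hM.comp (h.J_ne_K F)

theorem centralizer_le (h : Alpha a b Ka Kb Ja Jb) (F : Frame G) :
    centralizer ({a} : Set G) ≤ normalizer (Ja : Set G) := by
  intro g hg
  rw [mem_normalizer_iff_cj]
  have h1 : g * a * g⁻¹ = a := by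
    rw [mem_centralizer_singleton_iff.mp hg, mul_inv_cancel_right]
  have h2 := comp2_cj h.ja g
  rw [h1] at h2
  rcases h.only F h2 with h3 | h3
  · exfalso
    apply h.J_ne_K F
    have h4 : cj g Ka = Ka := mem_normalizer_iff_cj.1 (h.qa.centralizer_le F hg)
    rw [← h4] at h3
    exact (cj_injective g h3).symm
  · exact h3

/-- `Ja` has odd centre or is `QT` -/
theorem even_iff (h : Alpha a b Ka Kb Ja Jb) (F : Frame G) : EvenCenter Ja ↔ QT Ja := by
  constructor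
  · exact F.even_qt a Ja h.ja
  · intro hq
    by_contra hodd
    have hfix := fixes_of_qt hq h.mem_J h.qb.sq h.qb.ne_one
    have h1 := eq_one_of_odd h.ja.comp hodd hfix ⟨b, h.mem_J, by
      rw [inv_mul_cancel]; exact one_mem _⟩ (n := 1) (by rw [pow_one, pow_two, h.qb.sq])
    exact h.qb.ne_one h1

end Alpha

end Cfsg.Agent.GH.QA
end

private theorem dce_637194c3d983 : _root_.True := by
  try have : _root_.True := by simp only [_root_.Cfsg.Agent.GH.MTwAut.cpow.eq_1]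
  try have : _root_.True := by simp only [_root_.Cfsg.Agent.GH.MTwAut.test.eq_1]
  exact _root_.True.intro
end

-- part: GH/L3S/WorldOf
section
prune_inst 0x1400001a0282000000000800004000020006800c000000082080202000002220040030000812080040000000000000000001180481000010000000a000000000000000000000000000000000000000000000000000200000000
set_option linter.all false
open scoped Cfsg.Agent.FastGrp

-- part: GH/L3S/SylL
section
/-!
# GH-L3, SD case: automorphisms of `L` centralizing Sylow subgroups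
-/

set_option autoImplicit false

open Cfsg Subgroup
open Cfsg.Agent.GH.L3S.Defs

namespace Cfsg.Agent.GH.L3S.SylL

variable {L : Type*} [Group L]

/-- The restriction of an automorphism. -/
def res (C : Subgroup L) (α : MulAut L) (h : ∀ x, x ∈ C ↔ α x ∈ C) : MulAut C where
  toFun x := ⟨α x, (h x).1 x.2⟩
  invFun x := ⟨α.symm x, (h _).2 (by rw [α.apply_symm_apply]; exact x.2)⟩
  left_inv x := Subtype.ext (α.symm_apply_apply _)
  right_inv x := Subtype.ext (α.apply_symm_apply _)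
  map_mul' x y := Subtype.ext (map_mul α _ _)

theorem res_apply (C : Subgroup L) (α : MulAut L) (h : ∀ x, x ∈ C ↔ α x ∈ C) (x : C) :
    ((res C α h x : C) : L) = α x := rfl

theorem exists_central [Finite L] (hx : ∃ x : L, orderOf x = 2) (S : Sylow 2 L) :
    ∃ z ∈ S, orderOf z = 2 ∧ ∀ s ∈ S, z * s = s * z := by
  have : Fact (Nat.Prime 2) := ⟨Nat.prime_two⟩
  have hne : Nontrivial ↥(S : Subgroup L) := by
    by_contra hcon
    rw [not_nontrivial_iff_subsingleton] at hcon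
    obtain ⟨x, hx⟩ := hx
    have h1 : 2 ∣ Nat.card L := hx ▸ _root_.orderOf_dvd_natCard x
    have h2 := S.dvd_card_of_dvd_card h1
    have h3 : Nat.card ↥(S : Subgroup L) = 1 := Nat.card_unique
    rw [h3] at h2
    omega
  have h1 := S.2.center_nontrivial
  have h2 : IsPGroup 2 (center ↥(S : Subgroup L)) := S.2.to_subgroup _
  obtain ⟨n, hn, h3⟩ := (IsPGroup.nontrivial_iff_card h2).1 h1
  obtain ⟨z, hz⟩ := exists_prime_orderOf_dvd_card' (G := center ↥(S : Subgroup L)) 2 (by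
    rw [h3]; exact dvd_pow_self 2 hn.ne')
  refine ⟨z, z.1.2, ?_, ?_⟩
  · have h4 : orderOf (((z : center ↥(S : Subgroup L)) : ↥(S : Subgroup L)) : L) = orderOf z := by
      rw [orderOf_coe, orderOf_coe]
    exact h4.trans hz
  · intro s hs
    exact (congrArg Subtype.val (mem_center_iff.1 z.2 ⟨s, hs⟩)).symm

theorem le_centralizer {S : Sylow 2 L} {z : L} (h : ∀ s ∈ S, z * s = s * z) :
    (S : Subgroup L) ≤ centralizer ({z} : Set L) := fun s hs =>
  mem_centralizer_singleton_iff.2 (h s hs).symm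

/-- The Sylow 2-subgroups of `L` are quasi-dihedral of order 16. -/
theorem sylow [Finite L] (h : SDF L) (hx : ∃ x : L, orderOf x = 2) (S : Sylow 2 L) :
    IsQuasiDihedral ↥(S : Subgroup L) ∧ Nat.card ↥(S : Subgroup L) = 16 := by
  obtain ⟨z, hz, hz2, hc⟩ := exists_central hx S
  obtain ⟨e⟩ := h.gl z hz2
  have h1 := Models.gl_sylow e (S.subtype (le_centralizer hc))
  let f : ↥((S.subtype (le_centralizer hc) : Sylow 2 _) : Subgroup ↥(centralizer ({z} : Set L))) ≃*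
      ↥(S : Subgroup L) := subgroupOfEquivOfLe (le_centralizer hc)
  exact ⟨TwoFusion.SylowTypeTransfer.isQuasiDihedral_of_mulEquiv f h1.1, by
    rw [← h1.2]; exact Nat.card_congr f.symm.toEquiv⟩

/-- An automorphism centralizing a Sylow 2-subgroup `S` is conjugation by an element of `Z(S)`. -/
theorem aut_sylow [Finite L] (h : SDF L) (hx : ∃ x : L, orderOf x = 2) (S : Sylow 2 L) {α : MulAut L}
    (hα : ∀ s ∈ S, α s = s) : α = 1 ∨
      ∃ z ∈ S, orderOf z = 2 ∧ (∀ s ∈ S, z * s = s * z) ∧ α = MulAut.conj z := by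
  obtain ⟨z, hz, hz2, hc⟩ := exists_central hx S
  obtain ⟨e⟩ := h.gl z hz2
  have hinv : ∀ x, x ∈ centralizer ({z} : Set L) ↔ α x ∈ centralizer ({z} : Set L) := by
    intro x
    rw [mem_centralizer_singleton_iff, mem_centralizer_singleton_iff]
    constructor
    · intro hh
      have := congrArg α hh
      rwa [map_mul, map_mul, hα z hz] at this
    · intro hh
      apply α.injective
      rw [map_mul, map_mul, hα z hz]
      exact hh
  have h1 := Models.gl_aut e (S.subtype (le_centralizer hc)) (α := res _ α hinv) (by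
    intro s hs
    apply Subtype.ext
    rw [res_apply]
    exact hα _ hs)
  rcases h.cent z hz2 α (by
    intro y hy
    have h2 := congrArg (fun β : MulAut _ =>
      ((β ⟨y, mem_centralizer_singleton_iff.2 hy⟩ : ↥(centralizer ({z} : Set L))) : L)) h1
    exact h2) with h2 | h2
  · exact Or.inl h2
  · exact Or.inr ⟨z, hz, hz2, hc, h2⟩

/-- Outer involutions `α`: an automorphism `β` commuting with `α` and centralizing a Sylow 2-subgroup `D` of
`Fix α` is conjugation by an element of `Z(D)`, or the product with `α`. -/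
theorem aut_outer [Finite L] (h : SDF L) {α : MulAut L} (h2 : α * α = 1) (hα : ¬ Inn α)
    (D : Sylow 2 (Fix α)) {β : MulAut L} (hβα : β * α = α * β)
    (hβ : ∀ s ∈ D, β (s : L) = s) : ∃ v ∈ D, (∀ s ∈ D, v * s = s * v) ∧
      (β = MulAut.conj (v : L) ∨ β = MulAut.conj (v : L) * α) := by
  obtain ⟨e⟩ := h.s4 α h2 hα
  have hcomm : ∀ x, α (β x) = β (α x) := fun x =>
    (congrArg (fun γ : MulAut L => γ x) hβα).symm
  have hinv : ∀ x, x ∈ _root_.Cfsg.Agent.GH.L3S.Defs.Fix α ↔ β x ∈ _root_.Cfsg.Agent.GH.L3S.Defs.Fix α := by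
    intro x
    constructor
    · intro hx
      change α (β x) = β x
      rw [hcomm, show α x = x from hx]
    · intro hx
      change α x = x
      apply β.injective
      rw [← hcomm]
      exact hx
  obtain ⟨v, hv, hvc, h1⟩ := Models.s4_aut e D (α := res _ β hinv) (by
    intro s hs
    apply Subtype.ext
    rw [res_apply]
    exact hβ _ hs)
  refine ⟨v, hv, hvc, ?_⟩
  have h3 := h.outCent α h2 hα ((MulAut.conj (v : L))⁻¹ * β) (by
    intro y hy
    have h4 := congrArg (fun γ : MulAut _ => ((γ ⟨y, hy⟩ : Fix α) : L)) h1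
    change β y = v * y * (v : L)⁻¹ at h4
    change (MulAut.conj (v : L))⁻¹ (β y) = y
    rw [h4, ← map_inv, MulAut.conj_apply]
    group)
  rcases h3 with h3 | h3
  · rw [inv_mul_eq_one] at h3
    exact Or.inl h3.symm
  · exact Or.inr (inv_mul_eq_iff_eq_mul.1 h3)

/-- The Sylow 2-subgroups of `Fix α`. -/
theorem sylow_outer [Finite L] (h : SDF L) {α : MulAut L} (h2 : α * α = 1) (hα : ¬ Inn α)
    (D : Sylow 2 (Fix α)) : Nat.card ↥(D : Subgroup (Fix α)) = 8 ∧ ∃ v ∈ D, v ≠ 1 ∧ v * v = 1 ∧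
      (∀ s ∈ D, v * s = s * v) ∧ (∀ w ∈ D, (∀ s ∈ D, w * s = s * w) → w = 1 ∨ w = v) ∧
      ∃ a ∈ D, ∃ b ∈ D, a * b ≠ b * a := by
  obtain ⟨e⟩ := h.s4 α h2 hα
  exact Models.s4_sylow e D

/-- The Sylow 2-subgroups of `Fix α` contain a noncentral involution. -/
theorem sylow_four [Finite L] (h : SDF L) {α : MulAut L} (h2 : α * α = 1) (hα : ¬ Inn α)
    (D : Sylow 2 (Fix α)) : ∃ b ∈ D, b ≠ 1 ∧ b * b = 1 ∧ ∃ s ∈ D, b * s ≠ s * b := by
  obtain ⟨e⟩ := h.s4 α h2 hα
  exact Models.s4_four e D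

/-- `α` and `α v` are conjugate (`v` fixed by `α`). -/
theorem outer_conj (h : SDF L) {α : MulAut L} (h2 : α * α = 1) (hα : ¬ Inn α) {v : L} (hv : α v = v)
    (hv2 : v * v = 1) : ∃ l : L, α * MulAut.conj v = MulAut.conj l * α * (MulAut.conj l)⁻¹ := by
  have hcomm : α * MulAut.conj v = MulAut.conj v * α := by
    ext x
    change α (v * x * v⁻¹) = v * α x * v⁻¹
    rw [map_mul, map_mul, map_inv, hv]
  refine h.outConj α _ h2 ?_ hα ?_
  · calc α * MulAut.conj v * (α * MulAut.conj v) = α * (MulAut.conj v * α) * MulAut.conj v := by group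
      _ = (α * α) * (MulAut.conj v * MulAut.conj v) := by rw [← hcomm]; group
      _ = 1 := by rw [h2, ← map_mul, hv2, map_one, mul_one]
  · rintro ⟨l, hl⟩
    apply hα
    exact ⟨l * v⁻¹, by rw [map_mul, ← hl, map_inv, mul_inv_cancel_right]⟩

end Cfsg.Agent.GH.L3S.SylL
end

-- part: GH/L3S/WFrame
section
/-!
# GH-L3, SD case: `World ⇒ TFrame.Frame`
-/

set_option autoImplicit false

open Cfsg Subgroup
open Cfsg.Agent.SignalizersComponents
open Cfsg.Agent.Intrinsic.Basic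
open Cfsg.Agent.GH.Defs Cfsg.Agent.GH.Comp Cfsg.Agent.GH.XSet
open Cfsg.Agent.GH.L2Frame (fix mem_fix act act_apply act_of_mem act_eq_one_iff odd_card_ker)
open Cfsg.Agent.GH.L3S.Defs
open Cfsg.Agent.GH.L3.TFrame (C Ctr Full Outer)
open Cfsg.Agent.Walter.SylowIn

namespace Cfsg.Agent.GH.L3S.WFrame

/-! ### elementary facts -/

/-- Two involutions congruent modulo an odd subgroup `N` are conjugate under `N`. -/
theorem conj_of_odd {G : Type*} [Group G] {N : Subgroup G} (hN : Odd (Nat.card N)) {x y : G}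
    (hx : x * x = 1) (hy : y * y = 1) (hxy : y * x ∈ N) : ∃ r ∈ N, r * x * r⁻¹ = y := by
  obtain ⟨m, hm⟩ : Odd (orderOf (y * x)) := Odd.of_dvd_nat hN (Subgroup.orderOf_dvd_natCard N hxy)
  have hx' : x⁻¹ = x := inv_eq_of_mul_eq_one_right hx
  have hy' : y⁻¹ = y := inv_eq_of_mul_eq_one_right hy
  have hpow : ∀ k : ℕ, x * ((y * x) ^ k)⁻¹ = (y * x) ^ k * x := by
    intro k
    induction k with
    | zero => simp
    | succ k ih =>
      rw [pow_succ', mul_inv_rev, ← mul_assoc, ih, mul_inv_rev, hx', hy']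
      have h1 : (y * x) ^ k * x * (x * y) = (y * x) ^ k * (x * x) * y := by group
      rw [h1, hx, mul_one]
      have h2 : y * x * (y * x) ^ k * x = (y * x) ^ k * (y * x) * x := by
        rw [← pow_succ', ← pow_succ]
      rw [h2]
      have h3 : (y * x) ^ k * (y * x) * x = (y * x) ^ k * y * (x * x) := by group
      rw [h3, hx, mul_one]
  refine ⟨(y * x) ^ (m + 1), N.pow_mem hxy _, ?_⟩
  rw [mul_assoc, hpow, ← mul_assoc, ← pow_add]
  have h1 : m + 1 + (m + 1) = orderOf (y * x) + 1 := by omega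
  rw [h1, pow_succ, pow_orderOf_eq_one, one_mul, mul_assoc, hx, mul_one]

/-- Facts on the quasi-dihedral group of order 16. -/
theorem sd_facts {S : Type*} [Group S] [Finite S] (h : IsQuasiDihedral S) (hc : Nat.card S = 16) :
    ∃ z : S, orderOf z = 2 ∧ (∀ s, z * s = s * z) ∧ (∀ a, (∀ s, a * s = s * a) → a = 1 ∨ a = z) ∧
      (∃ a b : S, a * b ≠ b * a) ∧ ∃ b : S, orderOf b = 2 ∧ b ≠ z := by
  obtain ⟨u, y, H⟩ := TwoFusion.QDBasic.exists_qdcoord' h 3 (by rw [hc]; norm_num)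
  have d1 : ∀ a : ZMod (2 ^ 3), ((2 : ZMod (2 ^ 3)) ^ (3 - 1) - 1) * a = a → a = 0 ∨ a = 4 := by
    decide
  have d2 : ∀ a : ZMod (2 ^ 3), a + ((2 : ZMod (2 ^ 3)) ^ (3 - 1) - 1) * 1 ≠ 1 + a := by decide
  have e1 : u 4 * u 4 = 1 := by
    rw [H.u_mul, ← H.u_zero]
    congr 1
  have e2 : u 4 ≠ 1 := by
    rw [← H.u_zero]
    intro h1
    exact absurd (H.u_inj _ _ h1) (by decide)
  have e3 : y ≠ 1 := by
    intro h1
    apply H.u_ne 0 0
    rw [h1, mul_one]
  have e4 : y ≠ u 4 := by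
    intro h1
    apply H.u_ne 4 0
    rw [H.u_zero, one_mul, h1]
  refine ⟨u 4, orderOf_eq_prime (by rw [pow_two, e1]) e2, ?_, ?_, ⟨y, u 1, ?_⟩,
    y, orderOf_eq_prime (by rw [pow_two, H.y_y]) e3, e4⟩
  · intro s
    rcases H.cases s with ⟨a, rfl⟩ | ⟨a, rfl⟩
    · rw [H.u_mul, H.u_mul, add_comm]
    · have h1 : ∀ a : ZMod (2 ^ 3), 4 + a = a + ((2 : ZMod (2 ^ 3)) ^ (3 - 1) - 1) * 4 := by decide
      rw [H.u_mul_uy, H.uy_mul_u, h1 a]
  · intro s hs
    rcases H.cases s with ⟨a, rfl⟩ | ⟨a, rfl⟩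
    · have h1 := hs y
      rw [H.y_u] at h1
      have h2 := H.u_inj _ _ (mul_right_cancel h1)
      rcases d1 a h2.symm with rfl | rfl
      · exact Or.inl H.u_zero
      · exact Or.inr rfl
    · have h1 := hs (u 1)
      rw [H.uy_mul_u, H.u_mul_uy] at h1
      exact absurd (H.u_inj _ _ (mul_right_cancel h1)) (d2 a)
  · intro h1
    rw [H.y_u] at h1
    exact absurd (H.u_inj _ _ (mul_right_cancel h1)) (by decide)

/-! ### `T` Sylow in `C(y)` -/

variable {G : Type*} [Group G] [Finite G] {X : Set G} {N : ℕ}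

theorem frame (h : World X N) {y : G} (hy : y ∈ X) {T : Subgroup G} (hT : SylIn 2 T (C y)) :
    L2Frame.Frame (C y) (KK y) T :=
  ⟨h.comp y hy, h.odd y hy, fun _ ht => h.toXBase.mem_normalizer hy
    (mem_centralizer_singleton_iff.1 (hT.le ht)), hT⟩

theorem exists_inv (h : World X N) {y : G} (hy : y ∈ X) : ∃ x : STop (KK y), orderOf x = 2 := by
  have : Fact (Nat.Prime 2) := ⟨Nat.prime_two⟩
  exact exists_prime_orderOf_dvd_card' 2 (Tops.even_top (h.comp y hy))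

/-- `P = T ⊓ KK y` is isomorphic to a Sylow 2-subgroup of `L`. -/
theorem P_facts (h : World X N) {y : G} (hy : y ∈ X) {T : Subgroup G}
    (F : L2Frame.Frame (C y) (KK y) T) :
    IsQuasiDihedral ↥(T ⊓ KK y : Subgroup G) ∧ Nat.card ↥(T ⊓ KK y : Subgroup G) = 16 := by
  obtain ⟨S, hS⟩ := F.exists_sylow
  obtain ⟨h1, h2⟩ := SylL.sylow (h.sdf y hy) (exists_inv h hy) S
  let e : ↥(T ⊓ KK y : Subgroup G) ≃* ↥(S : Subgroup (STop (KK y))) :=
    (MonoidHom.ofInjective F.dTop_injective).trans (MulEquiv.subgroupCongr hS.symm)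
  exact ⟨TwoFusion.SylowTypeTransfer.isQuasiDihedral_of_mulEquiv e.symm h1, by
    rw [← h2]; exact Nat.card_congr e.toEquiv⟩

/-- `z ∈ Z(P)`, all the facts on `P`. -/
theorem exists_ctr (h : World X N) {y : G} (hy : y ∈ X) {T : Subgroup G}
    (F : L2Frame.Frame (C y) (KK y) T) : ∃ z, Ctr y T z := by
  obtain ⟨h1, h2⟩ := P_facts h hy F
  obtain ⟨z, hz, hc, hu, ⟨a, b, hab⟩, c, hc2, hcz⟩ := sd_facts h1 h2
  have huniq : ∀ a ∈ T ⊓ KK y, (∀ p ∈ T ⊓ KK y, Commute a p) → a = 1 ∨ a = z := by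
    intro a ha hac
    rcases hu ⟨a, ha⟩ (fun s => Subtype.ext (hac s s.2)) with h3 | h3
    · exact Or.inl (congrArg Subtype.val h3)
    · exact Or.inr (congrArg Subtype.val h3)
  refine ⟨z, z.2, by rw [orderOf_coe, hz], ?_, huniq, ⟨a, a.2, b, b.2, fun h3 => hab
    (Subtype.ext h3)⟩, c, c.2, by rw [orderOf_coe, hc2], fun h3 => hcz (Subtype.ext h3)⟩
  intro t ht
  have h3 : t * z * t⁻¹ ∈ T ⊓ KK y := F.conj_mem_D ht z.2
  have h4 : ∀ p ∈ T ⊓ KK y, Commute (t * z * t⁻¹) p := by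
    intro p hp
    have h5 : t⁻¹ * p * t ∈ T ⊓ KK y := by
      have := F.conj_mem_D (T.inv_mem ht) hp
      rwa [inv_inv] at this
    have h6 : (z : G) * (t⁻¹ * p * t) = (t⁻¹ * p * t) * z := congrArg Subtype.val (hc ⟨_, h5⟩)
    change t * z * t⁻¹ * p = p * (t * z * t⁻¹)
    calc t * z * t⁻¹ * p = t * (z * (t⁻¹ * p * t)) * t⁻¹ := by group
      _ = p * (t * z * t⁻¹) := by rw [h6]; group
  rcases huniq _ h3 h4 with h5 | h5
  · exfalso
    have h6 : (z : G) = 1 := by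
      have : t * z * t⁻¹ = 1 := h5
      rw [mul_inv_eq_one, mul_eq_left] at this
      exact this
    rw [show z = 1 from Subtype.ext h6, orderOf_one] at hz
    exact absurd hz (by norm_num)
  · exact mul_inv_eq_iff_eq_mul.1 h5

/-- `C_T(P) = Q × ⟨z⟩` -/
theorem cent_full (h : World X N) {y : G} (hy : y ∈ X) {T : Subgroup G}
    (F : L2Frame.Frame (C y) (KK y) T) {z : G} (hz : Ctr y T z) {t : G} (ht : t ∈ T)
    (hc : ∀ p ∈ T ⊓ KK y, Commute t p) : Fixes t (KK y) ∨ Fixes (t * z) (KK y) := by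
  obtain ⟨S, hS⟩ := F.exists_sylow
  have hmem : ∀ s, s ∈ S ↔ ∃ d, F.dTop d = s := fun s => by
    have : s ∈ (S : Subgroup (STop (KK y))) ↔ s ∈ F.dTop.range := by rw [hS]
    exact this
  rcases SylL.aut_sylow (h.sdf y hy) (exists_inv h hy) S (α := F.rho ⟨t, ht⟩) (by
    intro s hs
    obtain ⟨d, rfl⟩ := (hmem s).1 hs
    exact (F.comm_iff ⟨t, ht⟩ d).1 (hc d d.2)) with h1 | ⟨l, hl, hl2, hlc, h1⟩
  · exact Or.inl (mem_fix.1 ((F.rho_eq_one_iff ⟨t, ht⟩).1 h1))
  · right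
    obtain ⟨d, rfl⟩ := (hmem l).1 hl
    have h2 : (d : G) = 1 ∨ (d : G) = z := by
      refine hz.uniq d d.2 fun p hp => ?_
      have h3 := hlc (F.dTop ⟨p, hp⟩) ((hmem _).2 ⟨_, rfl⟩)
      rw [← map_mul, ← map_mul] at h3
      exact congrArg Subtype.val (F.dTop_injective h3)
    have h3 : (d : G) = z := by
      refine h2.resolve_left fun h3 => ?_
      rw [show d = 1 from Subtype.ext h3, map_one, orderOf_one] at hl2
      exact absurd hl2 (by norm_num)
    have h4 : F.rho (⟨t, ht⟩ * ⟨z, hz.mem.1⟩) = 1 := by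
      have h5 : (⟨z, hz.mem.1⟩ : T) = ⟨d, d.2.1⟩ := Subtype.ext h3.symm
      rw [map_mul, h1, h5, F.rho_of_mem, ← map_mul, ← map_mul]
      have h6 : d * d = 1 := Subtype.ext (by
        change (d : G) * d = 1
        rw [h3]
        exact hz.sq)
      rw [h6, map_one, map_one]
    exact mem_fix.1 ((F.rho_eq_one_iff _).1 h4)

/-- `|T' : Q'P| ≤ 2` -/
theorem index_le (h : World X N) {y : G} (hy : y ∈ X) {T : Subgroup G}
    (F : L2Frame.Frame (C y) (KK y) T) {T' : Subgroup G} (hT' : T' ≤ T) (hP : T ⊓ KK y ≤ T') :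
    Nat.card T' ≤ 32 * Nat.card ↥(T' ⊓ fixer (KK y) : Subgroup G) := by
  -- the elements acting as inner automorphisms
  let R : Subgroup (MulAut (STop (KK y))) := (MulAut.conj : STop (KK y) →* _).range
  let A : Subgroup T' := R.comap (F.rho.comp (inclusion hT'))
  have hA : ∀ t : T', t ∈ A ↔ Inn (F.rho (inclusion hT' t)) := by
    intro t
    constructor
    · rintro ⟨l, hl⟩
      exact ⟨l, hl.symm⟩
    · rintro ⟨l, hl⟩
      exact ⟨l, hl.symm⟩
  have h1 : Nat.card A ≤ Nat.card ↥(T' ⊓ fixer (KK y) : Subgroup G) * 16 := by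
    rw [← (P_facts h hy F).2, ← Nat.card_prod]
    have hmul : ∀ (q : ↥(T' ⊓ fixer (KK y) : Subgroup G)) (p : ↥(T ⊓ KK y : Subgroup G)),
        (q : G) * p ∈ T' := fun q p => mul_mem q.2.1 (hP p.2)
    refine Nat.card_le_card_of_surjective (fun x : ↥(T' ⊓ fixer (KK y) : Subgroup G) ×
      ↥(T ⊓ KK y : Subgroup G) => (⟨⟨(x.1 : G) * x.2, hmul x.1 x.2⟩, ?_⟩ : A)) ?_
    · rw [hA]
      refine ⟨F.dTop x.2, ?_⟩
      have h2 : inclusion hT' ⟨(x.1 : G) * x.2, hmul x.1 x.2⟩ =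
          ⟨(x.1 : G), hT' x.1.2.1⟩ * ⟨(x.2 : G), x.2.2.1⟩ := rfl
      have h3 : F.rho ⟨(x.1 : G), hT' x.1.2.1⟩ = 1 :=
        (F.rho_eq_one_iff _).2 (mem_fix.2 x.1.2.2)
      rw [h2, map_mul, h3, one_mul, F.rho_of_mem]
    · rintro ⟨⟨t, ht⟩, htA⟩
      obtain ⟨l, hl⟩ := (hA _).1 htA
      obtain ⟨q, hq, a, hta, -⟩ := F.exists_mul hl
      have hta' : t = q * a := hta
      have hq' : q ∈ T' := by
        have h3 : q = t * (a : G)⁻¹ := by rw [hta']; group
        rw [h3]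
        exact mul_mem ht (inv_mem (hP a.2))
      refine ⟨(⟨q, hq', mem_fix.1 hq.2⟩, a), ?_⟩
      apply Subtype.ext
      apply Subtype.ext
      exact hta'.symm
  have h2 : Nat.card T' ≤ 2 * Nat.card A := by
    by_cases hcon : ∃ t₀ : T', t₀ ∉ A
    · obtain ⟨t₀, ht₀⟩ := hcon
      have h3 : A.index = 2 := by
        rw [Subgroup.index_eq_two_iff]
        refine ⟨t₀, fun b => ?_⟩
        by_cases hb : b ∈ A
        · right
          refine ⟨hb, fun h4 => ht₀ ?_⟩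
          have := mul_mem (inv_mem hb) h4
          rwa [inv_mul_cancel_left] at this
        · left
          refine ⟨?_, hb⟩
          rw [hA] at hb ht₀ ⊢
          have h4 := (h.sdf y hy).out _ _ hb ht₀
          rwa [← map_mul, ← map_mul] at h4
      rw [← A.card_mul_index, h3, mul_comm]
    · push Not at hcon
      have h3 : A = ⊤ := by rw [eq_top_iff]; exact fun t _ => hcon t
      rw [h3, Subgroup.card_top]
      omega
  omega

/-! ### pairs -/

omit [Finite G] in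
theorem act_sq {K : Subgroup G} {u : G} (hu : u ∈ normalizer (K : Set G)) (h2 : u * u = 1) :
    act K ⟨u, hu⟩ * act K ⟨u, hu⟩ = 1 := by
  rw [← map_mul]
  have : (⟨u, hu⟩ : normalizer (K : Set G)) * ⟨u, hu⟩ = 1 := Subtype.ext h2
  rw [this, map_one]

omit [Finite G] in
theorem act_mul {K : Subgroup G} {u v : G} (hu : u ∈ normalizer (K : Set G))
    (hv : v ∈ normalizer (K : Set G)) :
    act K ⟨u * v, mul_mem hu hv⟩ = act K ⟨u, hu⟩ * act K ⟨v, hv⟩ := by
  rw [← map_mul]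
  rfl

/-- `C_K(u) → Fix u` -/
def fixMap (K : Subgroup G) {u : G} (hu : u ∈ normalizer (K : Set G)) :
    ↥(K ⊓ C u : Subgroup G) →* ↥(_root_.Cfsg.Agent.GH.L3S.Defs.Fix (act K ⟨u, hu⟩)) where
  toFun k := ⟨topMap K ⟨k, k.2.1⟩, by
    change act K ⟨u, hu⟩ (topMap K ⟨k, k.2.1⟩) = _
    rw [act_apply]
    congr 1
    apply Subtype.ext
    change u * (k : G) * u⁻¹ = k
    rw [mul_inv_eq_iff_eq_mul]
    exact (mem_centralizer_singleton_iff.1 k.2.2).symm⟩
  map_one' := by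
    apply Subtype.ext
    exact (map_one (topMap K) :)
  map_mul' a b := by
    apply Subtype.ext
    exact map_mul (topMap K) ⟨a, a.2.1⟩ ⟨b, b.2.1⟩

theorem fixMap_surjective {K : Subgroup G} (hodd : ¬ EvenCenter K) {u : G}
    (hu : u ∈ normalizer (K : Set G)) (h2 : u * u = 1) : Function.Surjective (fixMap K hu) := by
  rintro ⟨l, hl⟩
  have hz : ∀ p ∈ zpowers u, p = 1 ∨ p = u := by
    rintro p ⟨k, rfl⟩
    rcases Int.even_or_odd' k with ⟨m, rfl | rfl⟩
    · left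
      change u ^ (2 * m) = 1
      rw [zpow_mul, zpow_two, h2, one_zpow]
    · right
      change u ^ (2 * m + 1) = u
      rw [zpow_add, zpow_mul, zpow_two, h2, one_zpow, one_mul, zpow_one]
  obtain ⟨k, hk, hkl⟩ := L2Frame.exists_fixed hodd (P := zpowers u) (l := l) (by
      rintro ⟨p, hp⟩
      refine ⟨1, Subtype.ext ?_⟩
      rcases hz p hp with rfl | rfl
      · simp only [_root_.pow_one, _root_.SubmonoidClass.mk_pow, _root_.one_pow, _root_.OneMemClass.coe_one]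
      · change p ^ 2 ^ 1 = 1
        rw [pow_one, pow_two, h2]) (by rw [zpowers_le]; exact hu) (by
      intro p hp
      rcases hz p hp with h1 | rfl
      · have : (⟨p, (by rw [h1]; exact one_mem _)⟩ : normalizer (K : Set G)) = 1 := Subtype.ext h1
        rw [this, map_one]
        rfl
      · exact hl)
  exact ⟨⟨k, k.2, mem_centralizer_singleton_iff.2 (hk u (mem_zpowers u)).symm⟩, Subtype.ext hkl⟩

/-- `y ∈ X`, `u` an involution of `C(y)`, `T` Sylow in `C(y) ∩ C(u)`. -/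
structure PairD (X : Set G) (y u : G) (T : Subgroup G) : Prop where
  hy : y ∈ X
  sq : u * u = 1
  comm : Commute u y
  syl : SylIn 2 T (C y ⊓ C u)

namespace PairD

variable {y u : G} {T : Subgroup G}

theorem norm (h : World X N) (d : PairD X y u T) : u ∈ normalizer (KK y : Set G) :=
  h.toXBase.mem_normalizer d.hy d.comm

omit [Finite G] in
theorem commute (d : PairD X y u T) {t : G} (ht : t ∈ T) : Commute t u :=
  mem_centralizer_singleton_iff.1 (d.syl.le ht).2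

/-- The Sylow 2-subgroup `D` of `Fix u`. -/
theorem exists_D (h : World X N) (d : PairD X y u T) :
    ∃ D : (Sylow 2 ↥(_root_.Cfsg.Agent.GH.L3S.Defs.Fix (act (KK y) ⟨u, d.norm h⟩)) :), ∀ x, x ∈ D ↔
      ∃ k, ∃ hk : k ∈ T ⊓ KK y, topMap (KK y) ⟨k, hk.2⟩ = x := by
  have : Fact (Nat.Prime 2) := ⟨Nat.prime_two⟩
  have hMH : KK y ⊓ C u ≤ C y ⊓ C u := inf_le_inf_right _ (h.comp y d.hy).le
  have hn : C y ⊓ C u ≤ normalizer ((KK y ⊓ C u : Subgroup G) : Set G) := by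
    intro g hg
    have h1 := h.toXBase.mem_normalizer d.hy (mem_centralizer_singleton_iff.1 hg.1)
    rw [mem_normalizer_iff] at h1 ⊢
    intro k
    constructor
    · rintro ⟨hk1, hk2⟩
      exact ⟨(h1 k).1 hk1, (C u).mul_mem ((C u).mul_mem hg.2 hk2) ((C u).inv_mem hg.2)⟩
    · rintro ⟨hk1, hk2⟩
      refine ⟨(h1 k).2 hk1, ?_⟩
      have h3 := (C u).mul_mem ((C u).mul_mem ((C u).inv_mem hg.2) hk2) hg.2
      have h4 : g⁻¹ * (g * k * g⁻¹) * g = k := by group
      rwa [h4] at h3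
  obtain ⟨Q, hQ⟩ := d.syl.inf hMH hn
  refine ⟨Q.mapSurjective (fixMap_surjective (h.odd y d.hy) (d.norm h) d.sq), fun x => ?_⟩
  have hQm : ∀ k : ↥(KK y ⊓ C u : Subgroup G), k ∈ (Q : Subgroup _) ↔ (k : G) ∈ T ⊓ KK y := by
    intro k
    constructor
    · intro hk
      have h1 : (k : G) ∈ T ⊓ (KK y ⊓ C u) := by
        rw [← hQ]
        exact ⟨k, hk, rfl⟩
      exact ⟨h1.1, h1.2.1⟩
    · intro hk
      have h1 : (k : G) ∈ T ⊓ (KK y ⊓ C u) := ⟨hk.1, k.2⟩
      rw [← hQ] at h1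
      obtain ⟨k', hk', h2⟩ := h1
      rwa [← Subtype.ext h2]
  constructor
  · intro hx
    have hx' : x ∈ (Q : Subgroup _).map (fixMap (KK y) (d.norm h)) := hx
    obtain ⟨k, hk, rfl⟩ := hx'
    exact ⟨k, (hQm k).1 hk, rfl⟩
  · rintro ⟨k, hk, hkx⟩
    have hx' : x ∈ (Q : Subgroup _).map (fixMap (KK y) (d.norm h)) := by
      refine ⟨⟨k, hk.2, (d.syl.le hk.1).2⟩, (hQm _).2 hk, ?_⟩
      exact Subtype.ext hkx
    exact hx'

/-- A Sylow 2-subgroup `T₁` of `C(y)` over `T`. -/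
theorem exists_frame (h : World X N) (d : PairD X y u T) :
    ∃ T₁, L2Frame.Frame (C y) (KK y) T₁ ∧ T ≤ T₁ := by
  have : Fact (Nat.Prime 2) := ⟨Nat.prime_two⟩
  obtain ⟨T₁, hT₁, hle⟩ := exists_sylIn_ge (d.syl.le.trans inf_le_left) d.syl.isPGroup
  exact ⟨T₁, frame h d.hy hT₁, hle⟩

omit [Finite G] in
theorem u_mem (d : PairD X y u T) : u ∈ T := by
  have : Fact (Nat.Prime 2) := ⟨Nat.prime_two⟩
  have h1 : IsPGroup 2 ↥(zpowers u ⊔ T) := by
    refine IsPGroup.to_sup_of_normal_right' ?_ d.syl.isPGroup ?_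
    · rintro ⟨p, k, rfl⟩
      refine ⟨1, Subtype.ext ?_⟩
      change (u ^ k) ^ 2 ^ 1 = 1
      rw [pow_one, ← zpow_natCast, ← zpow_mul, mul_comm, zpow_mul, zpow_natCast, pow_two, d.sq,
        one_zpow]
    · rw [zpowers_le, mem_normalizer_iff]
      intro t
      have h2 : ∀ t ∈ T, u * t * u⁻¹ = t := fun t ht => by
        rw [mul_inv_eq_iff_eq_mul]; exact (d.commute ht).symm
      constructor
      · intro ht
        rwa [h2 t ht]
      · intro ht
        have h3 := h2 _ ht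
        have h4 : u * t * u⁻¹ = t := by
          have h5 : u * (u * t * u⁻¹) * u⁻¹ = (u * u) * t * (u * u)⁻¹ := by group
          rw [h5, d.sq] at h3
          rw [← h3]
          group
        rwa [h4] at ht
  have h2 : zpowers u ⊔ T ≤ C y ⊓ C u := by
    refine sup_le ?_ d.syl.le
    rw [zpowers_le]
    exact ⟨mem_centralizer_singleton_iff.2 d.comm, mem_centralizer_singleton_iff.2 rfl⟩
  have h3 := d.syl.eq_of_le le_sup_right h2 h1
  rw [← h3]
  exact mem_sup_left (mem_zpowers u)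

theorem card_eq (h : World X N) (d : PairD X y u T) {T₁ : Subgroup G}
    (F : L2Frame.Frame (C y) (KK y) T₁) (hle : T ≤ T₁)
    {D : (Sylow 2 ↥(_root_.Cfsg.Agent.GH.L3S.Defs.Fix (act (KK y) ⟨u, d.norm h⟩)) :)} (hD : ∀ x, x ∈ D ↔
      ∃ k, ∃ hk : k ∈ T ⊓ KK y, topMap (KK y) ⟨k, hk.2⟩ = x) :
    Nat.card ↥(T ⊓ KK y : Subgroup G) = Nat.card ↥(D : Subgroup ↥(_root_.Cfsg.Agent.GH.L3S.Defs.Fix (act (KK y) ⟨u, d.norm h⟩))) := by
  refine Nat.card_congr (Equiv.ofBijective (fun k : ↥(T ⊓ KK y : Subgroup G) =>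
    (⟨fixMap (KK y) (d.norm h) ⟨k, k.2.2, (d.syl.le k.2.1).2⟩, (hD _).2 ⟨k, k.2, rfl⟩⟩ :
      ↥(D : (Subgroup ↥(_root_.Cfsg.Agent.GH.L3S.Defs.Fix (act (KK y) ⟨u, d.norm h⟩)) :)))) ⟨?_, ?_⟩)
  · intro a b hab
    have h1 := congrArg (fun x : ↥(D : Subgroup ↥(_root_.Cfsg.Agent.GH.L3S.Defs.Fix (act (KK y) ⟨u, d.norm h⟩))) =>
      ((x : ↥(_root_.Cfsg.Agent.GH.L3S.Defs.Fix (act (KK y) ⟨u, d.norm h⟩))) : STop (KK y))) hab
    exact Subtype.ext (F.eq_of_top_eq ⟨hle a.2.1, a.2.2⟩ ⟨hle b.2.1, b.2.2⟩ h1)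
  · rintro ⟨x, hx⟩
    obtain ⟨k, hk, hkx⟩ := (hD x).1 hx
    exact ⟨⟨k, hk⟩, Subtype.ext (Subtype.ext hkx)⟩

/-- Inner case -/
theorem inner (h : World X N) (d : PairD X y u T) (hf : ¬ Fixes u (KK y))
    (hi : Inn (act (KK y) ⟨u, d.norm h⟩)) : ∃ z, Full y T z ∧ Fixes (u * z) (KK y) := by
  obtain ⟨T₁, F, hle⟩ := d.exists_frame h
  obtain ⟨D, hD⟩ := d.exists_D h
  obtain ⟨l, hl⟩ := hi
  have hα1 : act (KK y) ⟨u, d.norm h⟩ ≠ 1 := fun h1 => hf
    ((act_eq_one_iff (Comp.quasisimple (h.comp y d.hy)) (d.norm h)).1 h1)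
  have hl1 : l ≠ 1 := by
    rintro rfl
    exact hα1 (by rw [hl, map_one])
  have hl2 : l * l = 1 := by
    apply L2Frame.conj_injective (h.comp y d.hy)
    rw [map_mul, ← hl, act_sq (d.norm h) d.sq, map_one]
  have hfix : _root_.Cfsg.Agent.GH.L3S.Defs.Fix (act (KK y) ⟨u, d.norm h⟩) = centralizer ({l} : Set (STop (KK y))) := by
    ext x
    rw [mem_centralizer_singleton_iff]
    change act (KK y) ⟨u, d.norm h⟩ x = x ↔ _
    rw [hl, MulAut.conj_apply, mul_inv_eq_iff_eq_mul]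
    exact eq_comm
  obtain ⟨e⟩ := (h.sdf y d.hy).gl l (orderOf_eq_prime (by rw [pow_two, hl2]) hl1)
  have hc16 : Nat.card ↥(D : Subgroup ↥(_root_.Cfsg.Agent.GH.L3S.Defs.Fix (act (KK y) ⟨u, d.norm h⟩))) = 16 :=
    (Models.gl_sylow ((MulEquiv.subgroupCongr hfix).trans e) D).2
  have h1 := d.card_eq h F hle hD
  have h2 : T ⊓ KK y = T₁ ⊓ KK y := by
    refine Subgroup.eq_of_le_of_card_ge (inf_le_inf_right _ hle) ?_
    rw [h1, hc16, (P_facts h d.hy F).2]
  obtain ⟨z, hz⟩ := exists_ctr h d.hy F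
  have huT : u ∈ T := d.u_mem
  refine ⟨z, ⟨⟨h2 ▸ hz.mem, hz.ord, fun t ht => hz.comm t (hle ht), fun a ha hc => hz.uniq a
    (h2 ▸ ha) (fun p hp => hc p (h2 ▸ hp)), ?_, ?_⟩, ?_, ?_, ?_, ?_⟩, ?_⟩
  · rw [h2]; exact hz.nonab
  · rw [h2]; exact hz.four
  · rw [h2]; exact (P_facts h d.hy F).1
  · rw [h2]; exact (P_facts h d.hy F).2
  · intro t ht hc
    exact cent_full h d.hy F hz (hle ht) (fun p hp => hc p (h2 ▸ hp))
  · exact index_le h d.hy F hle (by rw [← h2]; exact inf_le_left)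
  · have hrho : F.rho ⟨u, hle huT⟩ = MulAut.conj l := hl
    obtain ⟨q, hq, a, hua, hal⟩ := F.exists_mul hrho
    have hua' : u = q * a := hua
    have h3 : (a : G) = 1 ∨ (a : G) = z := by
      refine hz.uniq a a.2 fun p hp => ?_
      have h4 : Commute q p := F.comm hq hp
      have h5 : Commute u p := (d.commute (t := p) (h2 ▸ hp : p ∈ T ⊓ KK y).1).symm
      have h6 : (a : G) = q⁻¹ * u := by rw [hua']; group
      rw [h6]
      exact (h4.inv_left).mul_left h5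
    have h4 : (a : G) = z := by
      refine h3.resolve_left fun h4 => hl1 ?_
      rw [← hal, show a = 1 from Subtype.ext h4, map_one]
    have h5 : u * z = q := by
      rw [hua', h4, mul_assoc, hz.sq, mul_one]
    rw [h5]
    exact mem_fix.1 hq.2

/-- Outer case -/
theorem outer (h : World X N) (d : PairD X y u T)
    (ho : ¬ Inn (act (KK y) ⟨u, d.norm h⟩)) : ∃ z, Outer y u T z := by
  obtain ⟨T₁, F, hle⟩ := d.exists_frame h
  obtain ⟨D, hD⟩ := d.exists_D h
  have hsdf := h.sdf y d.hy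
  have hα2 := act_sq (d.norm h) d.sq
  obtain ⟨hc8, v, hv, hv1, hv2, hvc, hvu, a', ha', b', hb', hab⟩ := SylL.sylow_outer hsdf hα2 ho D
  obtain ⟨c', hc', hc1, hc2, s', hs', hcs⟩ := SylL.sylow_four hsdf hα2 ho D
  have hinj : ∀ {a b : G} (ha : a ∈ T ⊓ KK y) (hb : b ∈ T ⊓ KK y),
      topMap (KK y) ⟨a, ha.2⟩ = topMap (KK y) ⟨b, hb.2⟩ → a = b := fun ha hb hab =>
    F.eq_of_top_eq ⟨hle ha.1, ha.2⟩ ⟨hle hb.1, hb.2⟩ hab
  have hmul : ∀ {a b : G} (ha : a ∈ T ⊓ KK y) (hb : b ∈ T ⊓ KK y),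
      topMap (KK y) ⟨a * b, (mul_mem ha hb).2⟩ =
        topMap (KK y) ⟨a, ha.2⟩ * topMap (KK y) ⟨b, hb.2⟩ := fun ha hb => by
    rw [← map_mul]
    rfl
  have hone : topMap (KK y) ⟨1, one_mem _⟩ = 1 := map_one _
  obtain ⟨z, hz, hzv⟩ := (hD v).1 hv
  -- `P` and `D`
  have hcomm : ∀ {a b : G} (ha : a ∈ T ⊓ KK y) (hb : b ∈ T ⊓ KK y),
      Commute a b ↔ topMap (KK y) ⟨a, ha.2⟩ * topMap (KK y) ⟨b, hb.2⟩ =
        topMap (KK y) ⟨b, hb.2⟩ * topMap (KK y) ⟨a, ha.2⟩ := by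
    intro a b ha hb
    rw [← hmul ha hb, ← hmul hb ha]
    constructor
    · intro h1
      congr 1
      exact Subtype.ext h1
    · intro h1
      exact hinj (mul_mem ha hb) (mul_mem hb ha) h1
  have hz1 : z ≠ 1 := by
    rintro rfl
    apply hv1
    apply Subtype.ext
    rw [← hzv, hone]
    rfl
  have hz2 : z * z = 1 := by
    refine hinj (mul_mem hz hz) (one_mem _) ?_
    rw [hmul hz hz, hzv, hone]
    exact congrArg Subtype.val hv2
  have huniq : ∀ a ∈ T ⊓ KK y, (∀ p ∈ T ⊓ KK y, Commute a p) → a = 1 ∨ a = z := by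
    intro a ha hac
    have h1 : fixMap (KK y) (d.norm h) ⟨a, ha.2, (d.syl.le ha.1).2⟩ ∈ D := (hD _).2 ⟨a, ha, rfl⟩
    rcases hvu _ h1 (by
      intro s hs
      obtain ⟨k, hk, hks⟩ := (hD s).1 hs
      apply Subtype.ext
      change topMap (KK y) ⟨a, ha.2⟩ * (s : STop (KK y)) = s * topMap (KK y) ⟨a, ha.2⟩
      rw [← hks]
      exact (hcomm ha hk).1 (hac k hk)) with h2 | h2
    · left
      refine hinj ha (one_mem _) ?_
      rw [hone]
      exact congrArg Subtype.val h2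
    · right
      refine hinj ha hz ?_
      rw [hzv]
      exact congrArg Subtype.val h2
  have hzc : ∀ p ∈ T ⊓ KK y, Commute z p := by
    intro p hp
    have h1 : fixMap (KK y) (d.norm h) ⟨p, hp.2, (d.syl.le hp.1).2⟩ ∈ D := (hD _).2 ⟨p, hp, rfl⟩
    rw [hcomm hz hp, hzv]
    exact congrArg Subtype.val (hvc _ h1)
  have hTn : ∀ {t k : G}, t ∈ T → k ∈ T ⊓ KK y → t * k * t⁻¹ ∈ T ⊓ KK y := by
    intro t k ht hk
    exact ⟨T.mul_mem (T.mul_mem ht hk.1) (T.inv_mem ht),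
      (F.conj_mem_D (hle ht) ⟨hle hk.1, hk.2⟩).2⟩
  refine ⟨z, ⟨⟨hz, orderOf_eq_prime (by rw [pow_two, hz2]) hz1, ?_, huniq, ?_, ?_⟩, ?_, ?_, ?_, ?_⟩⟩
  · intro t ht
    have h3 := hTn ht hz
    have h4 : ∀ p ∈ T ⊓ KK y, Commute (t * z * t⁻¹) p := by
      intro p hp
      have h5 : t⁻¹ * p * t ∈ T ⊓ KK y := by
        have := hTn (T.inv_mem ht) hp
        rwa [inv_inv] at this
      have h6 : z * (t⁻¹ * p * t) = (t⁻¹ * p * t) * z := hzc _ h5
      change t * z * t⁻¹ * p = p * (t * z * t⁻¹)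
      calc t * z * t⁻¹ * p = t * (z * (t⁻¹ * p * t)) * t⁻¹ := by group
        _ = p * (t * z * t⁻¹) := by rw [h6]; group
    rcases huniq _ h3 h4 with h5 | h5
    · exfalso
      apply hz1
      rw [mul_inv_eq_one, mul_eq_left] at h5
      exact h5
    · exact mul_inv_eq_iff_eq_mul.1 h5
  · obtain ⟨a, ha, haa⟩ := (hD a').1 ha'
    obtain ⟨b, hb, hbb⟩ := (hD b').1 hb'
    refine ⟨a, ha, b, hb, fun h1 => hab ?_⟩
    apply Subtype.ext
    change (a' : STop (KK y)) * b' = b' * a'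
    rw [← haa, ← hbb]
    exact (hcomm ha hb).1 h1
  · obtain ⟨c, hc, hcc⟩ := (hD c').1 hc'
    obtain ⟨s, hs, hss⟩ := (hD s').1 hs'
    refine ⟨c, hc, orderOf_eq_prime ?_ ?_, ?_⟩
    · rw [pow_two]
      refine hinj (mul_mem hc hc) (one_mem _) ?_
      rw [hmul hc hc, hcc, hone]
      exact congrArg Subtype.val hc2
    · rintro rfl
      apply hc1
      apply Subtype.ext
      rw [← hcc, hone]
      rfl
    · rintro rfl
      apply hcs
      apply Subtype.ext
      change (c' : STop (KK y)) * s' = s' * c'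
      rw [← hcc, ← hss]
      exact (hcomm hc hs).1 (hzc s hs)
  · rw [d.card_eq h F hle hD, hc8]
  · intro k hk hfk
    apply ho
    have hkn : k ∈ normalizer (KK y : Set G) := le_normalizer hk
    have h1 : act (KK y) ⟨u * k, mul_mem (d.norm h) hkn⟩ = 1 :=
      (act_eq_one_iff (Comp.quasisimple (h.comp y d.hy)) _).2 hfk
    rw [act_mul (d.norm h) hkn, act_of_mem ⟨k, hk⟩] at h1
    refine ⟨(topMap (KK y) ⟨k, hk⟩)⁻¹, ?_⟩
    rw [map_inv]
    exact eq_inv_of_mul_eq_one_left h1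
  · -- `cent`
    intro t ht hc
    have htn : t ∈ normalizer (KK y : Set G) := F.norm (hle ht)
    have hun := d.norm h
    have hzn : z ∈ normalizer (KK y : Set G) := le_normalizer hz.2
    have hut : act (KK y) ⟨t, htn⟩ * act (KK y) ⟨u, hun⟩ =
        act (KK y) ⟨u, hun⟩ * act (KK y) ⟨t, htn⟩ := by
      rw [← map_mul, ← map_mul]
      congr 1
      exact Subtype.ext (d.commute ht)
    obtain ⟨w, hw, hwc, hcase⟩ := SylL.aut_outer hsdf hα2 ho D hut (by
      intro s hs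
      obtain ⟨k, hk, hks⟩ := (hD s).1 hs
      rw [← hks, act_apply]
      congr 1
      apply Subtype.ext
      change t * k * t⁻¹ = k
      rw [mul_inv_eq_iff_eq_mul]
      exact hc k hk)
    have hqs := Comp.quasisimple (h.comp y d.hy)
    have hzact : act (KK y) ⟨z, hzn⟩ = MulAut.conj (v : STop (KK y)) := by
      rw [← hzv]
      exact act_of_mem ⟨z, hz.2⟩
    have hvv : MulAut.conj (v : STop (KK y)) * MulAut.conj (v : STop (KK y)) = 1 := by
      rw [← map_mul, show (v : STop (KK y)) * v = 1 from congrArg Subtype.val hv2, map_one]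
    rcases hvu w hw hwc with rfl | rfl
    · rcases hcase with h1 | h1
      · left
        rw [← act_eq_one_iff hqs htn, h1]
        exact map_one _
      · right; right; left
        rw [← act_eq_one_iff hqs (mul_mem htn hun), act_mul htn hun, h1]
        rw [show ((1 : Fix (act (KK y) ⟨u, hun⟩)) : STop (KK y)) = 1 from rfl, map_one, one_mul, hα2]
    · rcases hcase with h1 | h1
      · right; left
        rw [← act_eq_one_iff hqs (mul_mem htn hzn), act_mul htn hzn, h1, hzact, hvv]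
      · right; right; right
        rw [← act_eq_one_iff hqs (mul_mem (mul_mem htn hun) hzn), act_mul (mul_mem htn hun) hzn,
          act_mul htn hun, h1, hzact, mul_assoc (MulAut.conj _), hα2, mul_one, hvv]
  · -- `fus`
    have hun := d.norm h
    have hzn : z ∈ normalizer (KK y : Set G) := le_normalizer hz.2
    have hzact : act (KK y) ⟨z, hzn⟩ = MulAut.conj (v : STop (KK y)) := by
      rw [← hzv]
      exact act_of_mem ⟨z, hz.2⟩
    obtain ⟨l, hl⟩ := SylL.outer_conj hsdf hα2 ho (v := (v : STop (KK y))) v.2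
      (congrArg Subtype.val hv2)
    obtain ⟨k, rfl⟩ := topMap_surjective (KK y) l
    have hkn : (k : G) ∈ normalizer (KK y : Set G) := le_normalizer k.2
    have huz : Commute u z := (d.commute hz.1).symm
    -- `f = (u z) (k u k⁻¹)` is in the kernel
    have hfK : (u * z) * (k * u * (k : G)⁻¹) ∈ KK y := by
      have h1 : (u * z) * (k * u * (k : G)⁻¹) = (u * (z * k) * u⁻¹) * (u * u) * (k : G)⁻¹ := by
        group
      rw [h1, d.sq, mul_one]
      exact mul_mem (L2Frame.conj_mem hun (mul_mem hz.2 k.2)) (inv_mem k.2)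
    have hfker : (⟨_, hfK⟩ : KK y) ∈ (topMap (KK y)).ker := by
      rw [L2Frame.mem_ker_iff, mem_fix]
      have hkun : k * u * (k : G)⁻¹ ∈ normalizer (KK y : Set G) :=
        mul_mem (mul_mem hkn hun) (inv_mem hkn)
      rw [← act_eq_one_iff (Comp.quasisimple (h.comp y d.hy)) (mul_mem (mul_mem hun hzn) hkun),
        act_mul (mul_mem hun hzn) hkun, act_mul hun hzn, hzact]
      have h1 : act (KK y) ⟨k * u * (k : G)⁻¹, hkun⟩ =
          MulAut.conj (topMap (KK y) k) * act (KK y) ⟨u, hun⟩ * (MulAut.conj (topMap (KK y) k))⁻¹ := by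
        rw [← act_of_mem k, ← map_inv, ← map_mul, ← map_mul]
        rfl
      rw [h1, ← hl, ← mul_assoc]
      have h2 : act (KK y) ⟨u, hun⟩ * MulAut.conj (v : STop (KK y)) =
          MulAut.conj (v : STop (KK y)) * act (KK y) ⟨u, hun⟩ := by
        rw [← hzact, ← map_mul, ← map_mul]
        congr 1
        exact Subtype.ext huz
      rw [mul_assoc (act (KK y) ⟨u, hun⟩), ← h2, ← mul_assoc, hα2, one_mul, ← map_mul,
        show (v : STop (KK y)) * v = 1 from congrArg Subtype.val hv2, map_one]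
    have hodd : Odd (Nat.card ↥((topMap (KK y)).ker.map (KK y).subtype)) := by
      rw [card_map_of_injective (KK y).subtype_injective]
      exact odd_card_ker (h.odd y d.hy)
    obtain ⟨r, hr, hru⟩ := conj_of_odd hodd (x := k * u * (k : G)⁻¹) (y := u * z) (by
        have h1 : k * u * (k : G)⁻¹ * (k * u * (k : G)⁻¹) = k * (u * u) * (k : G)⁻¹ := by group
        rw [h1, d.sq, mul_one, mul_inv_cancel]) (by
        calc u * z * (u * z) = u * (z * u) * z := by group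
          _ = (u * u) * (z * z) := by rw [← huz.eq]; group
          _ = 1 := by rw [d.sq, hz2, mul_one]) ⟨_, hfker, rfl⟩
    obtain ⟨r', -, rfl⟩ := hr
    refine ⟨r' * k, mul_mem r'.2 k.2, ?_⟩
    rw [← hru]
    change (r' : G) * k * u * ((r' : G) * k)⁻¹ = r' * (k * u * (k : G)⁻¹) * (r' : G)⁻¹
    group

end PairD

/-! ### the frame -/

theorem conjK (h : World X N) {y : G} (hy : y ∈ X) {a b : G} (ha : a ∈ KK y) (hb : b ∈ KK y)
    (ha2 : orderOf a = 2) (hb2 : orderOf b = 2) : ∃ c ∈ KK y, c * a * c⁻¹ = b := by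
  have hsq : ∀ {g : G}, orderOf g = 2 → g * g = 1 := fun hg => by
    rw [← pow_two, ← hg, pow_orderOf_eq_one]
  have key : ∀ {g : G} (hg : g ∈ KK y), orderOf g = 2 → orderOf (topMap (KK y) ⟨g, hg⟩) = 2 := by
    intro g hg hg2
    refine orderOf_eq_prime ?_ ?_
    · rw [pow_two, ← map_mul]
      have : (⟨g, hg⟩ : KK y) * ⟨g, hg⟩ = 1 := Subtype.ext (hsq hg2)
      rw [this, map_one]
    · intro h1
      have h2 : (⟨g, hg⟩ : KK y) ∈ (topMap (KK y)).ker := h1
      have h3 := (odd_card_ker (h.odd y hy)).of_dvd_nat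
        (Subgroup.orderOf_dvd_natCard _ h2)
      rw [Subgroup.orderOf_mk, hg2] at h3
      exact absurd h3 (by decide)
  obtain ⟨l, hl⟩ := isConj_iff.1 ((h.sdf y hy).conj _ _ (key ha ha2) (key hb hb2))
  obtain ⟨k, rfl⟩ := topMap_surjective (KK y) l
  have hodd : Odd (Nat.card ↥((topMap (KK y)).ker.map (KK y).subtype)) := by
    rw [card_map_of_injective (KK y).subtype_injective]
    exact odd_card_ker (h.odd y hy)
  obtain ⟨r, hr, hru⟩ := conj_of_odd hodd (x := k * a * (k : G)⁻¹) (y := b) (by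
      have h1 : k * a * (k : G)⁻¹ * (k * a * (k : G)⁻¹) = k * (a * a) * (k : G)⁻¹ := by group
      rw [h1, hsq ha2, mul_one, mul_inv_cancel]) (hsq hb2) (by
      refine ⟨⟨b, hb⟩ * (k * ⟨a, ha⟩ * k⁻¹), ?_, rfl⟩
      change topMap (KK y) _ = 1
      rw [map_mul, map_mul, map_mul, map_inv, hl, ← map_mul]
      have : (⟨b, hb⟩ : KK y) * ⟨b, hb⟩ = 1 := Subtype.ext (hsq hb2)
      rw [this, map_one])
  obtain ⟨r', -, rfl⟩ := hr
  refine ⟨r' * k, mul_mem r'.2 k.2, ?_⟩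
  rw [← hru]
  change (r' : G) * k * a * ((r' : G) * k)⁻¹ = r' * (k * a * (k : G)⁻¹) * (r' : G)⁻¹
  group

/-- **Theorem.** A `World` is a `Frame`. -/
theorem toFrame (h : World X N) : L3.TFrame.Frame X N where
  toXSet := h.toXSet
  odd := h.odd
  rank := h.rank
  conjK _ hy _ ha _ hb := conjK h hy ha hb
  full y hy T hT := by
    have F := frame h hy hT
    obtain ⟨z, hz⟩ := exists_ctr h hy F
    exact ⟨z, hz, (P_facts h hy F).1, (P_facts h hy F).2,
      fun t ht hc => cent_full h hy F hz ht hc, index_le h hy F le_rfl inf_le_left⟩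
  pair y hy u hu hyu hf T hT := by
    have d : PairD X y u T := ⟨hy, h.toXBase.sq hu, hyu.symm, hT⟩
    by_cases hi : Inn (act (KK y) ⟨u, d.norm h⟩)
    · obtain ⟨z, hz1, hz2⟩ := d.inner h hf hi
      exact ⟨z, Or.inl ⟨hz1, hz2⟩⟩
    · obtain ⟨z, hz⟩ := d.outer h hi
      exact ⟨z, Or.inr hz⟩

end Cfsg.Agent.GH.L3S.WFrame
end

-- part: GH/WAct
section
/-!
# Project GH, branch GH-L3 (W): the homocyclic step

`W` is a 2-group, `V ≤ A0 ≤ Ap ≤ W`, `A0 = 4 × 4`, `V = Ω₁(A0)` central in `W`, `Ap = A0⟨τ⟩`, `x ∈ ⟨τ⟩` an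
involution, `W / Ap ≅ V` via `w ↦ [x, w]`, and `r` is an element normalising everything, commuting with `τ` and
acting on `V` without fixed points.  Then (no section of order `32`) `τ = x` and there is `s ∈ W` such that
`U = A0⟨s, s^r⟩` is homocyclic of exponent `8`.
-/

set_option autoImplicit false

namespace Cfsg.Agent.GH.WAct

open Subgroup Cfsg.Agent.TwoFusion.SectionalRank

variable {G : Type*} [Group G]

/-- The configuration in `W`. -/
structure Cfg (V A0 Ap W : Subgroup G) (x τ r z : G) : Prop where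
  V_le : V ≤ A0
  A0_le : A0 ≤ Ap
  Ap_le : Ap ≤ W
  V_sq : ∀ v ∈ V, v * v = 1
  V_comm : ∀ v ∈ V, ∀ w ∈ W, w * v = v * w
  A0_comm : ∀ g ∈ A0, ∀ h ∈ A0, g * h = h * g
  A0_sq : ∀ g ∈ A0, g * g ∈ V
  A0_inv : ∀ g ∈ A0, g * g = 1 → g ∈ V
  A0_surj : ∀ v ∈ V, ∃ g ∈ A0, g * g = v
  Ap_mem : ∀ g ∈ Ap, ∃ a ∈ A0, ∃ i : ℕ, g = a * τ ^ i
  τ_mem : τ ∈ Ap
  τ_A0 : (∀ g ∈ A0, τ * g * τ⁻¹ = g) ∨ (∀ g ∈ A0, τ * g * τ⁻¹ = g⁻¹)
  x_pow : ∃ m : ℕ, x = τ ^ m
  x_sq : x * x = 1
  x_not : x ∉ A0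
  x_comm : ∀ g ∈ A0, x * g = g * x
  τ_sq : ∀ i : ℕ, τ ^ i * τ ^ i ∈ A0 → τ ^ i = 1 ∨ τ ^ i = x
  W_Ap : ∀ w ∈ W, ∀ g ∈ Ap, w * g * w⁻¹ ∈ Ap
  W_x : ∀ w ∈ W, ∃ v ∈ V, w * x * w⁻¹ = x * v
  W_cent : ∀ w ∈ W, w * x = x * w → w ∈ Ap
  W_surj : ∀ v ∈ V, ∃ w ∈ W, w * x * w⁻¹ = x * v
  r_W : ∀ w ∈ W, r * w * r⁻¹ ∈ W
  r_A0 : ∀ g ∈ A0, r * g * r⁻¹ ∈ A0
  r_τ : r * τ = τ * r
  z_mem : z ∈ V
  z_ne : z ≠ 1
  V_eq : ∀ v ∈ V, v = 1 ∨ v = z ∨ v = r * z * r⁻¹ ∨ v = r * (r * z * r⁻¹) * r⁻¹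
  r_prod : z * (r * z * r⁻¹) * (r * (r * z * r⁻¹) * r⁻¹) = 1
  r_fix : ∀ v ∈ V, r * v * r⁻¹ = v → v = 1

namespace Cfg

variable {V A0 Ap W : Subgroup G} {x τ r z : G} (C : Cfg V A0 Ap W x τ r z)

include C

theorem V_inv {v : G} (hv : v ∈ V) : v⁻¹ = v := inv_eq_iff_mul_eq_one.mpr (C.V_sq v hv)

theorem x_inv : x⁻¹ = x := inv_eq_iff_mul_eq_one.mpr C.x_sq

theorem x_mem : x ∈ Ap := by
  obtain ⟨m, hm⟩ := C.x_pow
  rw [hm]
  exact Ap.pow_mem C.τ_mem m

theorem x_ne : x ≠ 1 := fun h => C.x_not (h ▸ A0.one_mem)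

theorem r_x : r * x = x * r := by
  obtain ⟨m, hm⟩ := C.x_pow
  rw [hm]
  exact (Commute.pow_right (show Commute r τ from C.r_τ) m)

theorem r_V {v : G} (hv : v ∈ V) : r * v * r⁻¹ ∈ V := by
  refine C.A0_inv _ (C.r_A0 v (C.V_le hv)) ?_
  have : r * v * r⁻¹ * (r * v * r⁻¹) = r * (v * v) * r⁻¹ := by group
  rw [this, C.V_sq v hv]
  group

/-- Powers of `τ` act on `A0` trivially or by inversion. -/
theorem τ_pow_A0 (i : ℕ) : (∀ g ∈ A0, τ ^ i * g * (τ ^ i)⁻¹ = g) ∨ (∀ g ∈ A0, τ ^ i * g * (τ ^ i)⁻¹ = g⁻¹) := by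
  induction i with
  | zero => left; intro g _; simp
  | succ i ih =>
    have e : ∀ g : G, τ ^ (i + 1) * g * (τ ^ (i + 1))⁻¹ = τ * (τ ^ i * g * (τ ^ i)⁻¹) * τ⁻¹ := by
      intro g
      rw [pow_succ']
      group
    rcases ih with ih | ih <;> rcases C.τ_A0 with h | h
    · left; intro g hg; rw [e, ih g hg, h g hg]
    · right; intro g hg; rw [e, ih g hg, h g hg]
    · right; intro g hg; rw [e, ih g hg, h _ (A0.inv_mem hg)]
    · left; intro g hg; rw [e, ih g hg, h _ (A0.inv_mem hg), inv_inv]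

theorem τ_pow_mem (i : ℕ) {g : G} (hg : g ∈ A0) : τ ^ i * g * (τ ^ i)⁻¹ ∈ A0 := by
  rcases C.τ_pow_A0 i with h | h
  · rw [h g hg]; exact hg
  · rw [h g hg]; exact A0.inv_mem hg

/-- `Ap` acts on `A0` trivially or by inversion. -/
theorem Ap_A0 {w : G} (hw : w ∈ Ap) :
    (∀ g ∈ A0, w * g * w⁻¹ = g) ∨ (∀ g ∈ A0, w * g * w⁻¹ = g⁻¹) := by
  obtain ⟨a, ha, i, rfl⟩ := C.Ap_mem w hw
  have e : ∀ g ∈ A0, a * τ ^ i * g * (a * τ ^ i)⁻¹ = τ ^ i * g * (τ ^ i)⁻¹ := by
    intro g hg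
    have h1 := C.A0_comm a ha _ (C.τ_pow_mem i hg)
    calc a * τ ^ i * g * (a * τ ^ i)⁻¹ = a * (τ ^ i * g * (τ ^ i)⁻¹) * a⁻¹ := by group
      _ = τ ^ i * g * (τ ^ i)⁻¹ := by rw [h1, mul_inv_cancel_right]
  rcases C.τ_pow_A0 i with h | h
  · left; intro g hg; rw [e g hg, h g hg]
  · right; intro g hg; rw [e g hg, h g hg]

theorem Ap_A0_mem {w g : G} (hw : w ∈ Ap) (hg : g ∈ A0) : w * g * w⁻¹ ∈ A0 := by
  rcases C.Ap_A0 hw with h | h
  · rw [h g hg]; exact hg
  · rw [h g hg]; exact A0.inv_mem hg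

/-- Elements of `Ap` with square in `V` are in `A0 ∪ A0 x`. -/
theorem mem_of_sq {h : G} (hh : h ∈ Ap) (h2 : h * h ∈ V) : h ∈ A0 ∨ ∃ a ∈ A0, h = a * x := by
  obtain ⟨a, ha, i, rfl⟩ := C.Ap_mem h hh
  have h3 : τ ^ i * τ ^ i ∈ A0 := by
    have h4 := C.τ_pow_mem i ha
    have e : τ ^ i * τ ^ i = (τ ^ i * a * (τ ^ i)⁻¹)⁻¹ * a⁻¹ * (a * τ ^ i * (a * τ ^ i)) := by
      rcases C.τ_pow_A0 i with h | h
      · rw [h a ha]
        have h5 := h a ha
        have h6 : τ ^ i * a = a * τ ^ i := by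
          rw [mul_inv_eq_iff_eq_mul] at h5
          exact h5
        calc τ ^ i * τ ^ i = a⁻¹ * a⁻¹ * (a * (a * τ ^ i) * τ ^ i) := by group
          _ = a⁻¹ * a⁻¹ * (a * (τ ^ i * a) * τ ^ i) := by rw [h6]
          _ = _ := by group
      · rw [h a ha]
        have h5 := h a ha
        have h6 : τ ^ i * a = a⁻¹ * τ ^ i := by
          rw [mul_inv_eq_iff_eq_mul] at h5
          exact h5
        calc τ ^ i * τ ^ i = a⁻¹⁻¹ * a⁻¹ * (a * (a⁻¹ * τ ^ i) * τ ^ i) := by group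
          _ = a⁻¹⁻¹ * a⁻¹ * (a * (τ ^ i * a) * τ ^ i) := by rw [h6]
          _ = _ := by group
    rw [e]
    exact A0.mul_mem (A0.mul_mem (A0.inv_mem h4) (A0.inv_mem ha)) (C.V_le h2)
  rcases C.τ_sq i h3 with h | h
  · left; rw [h, mul_one]; exact ha
  · right; exact ⟨a, ha, by rw [h]⟩

/-- Step 3: conjugates of elements of `A0` under `W`, weak form. -/
theorem conj_form {w g : G} (hw : w ∈ W) (hg : g ∈ A0) :
    ∃ v ∈ V, w * g * w⁻¹ = g * v ∨ w * g * w⁻¹ = g * v * x := by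
  have h1 : w * g * w⁻¹ ∈ Ap := C.W_Ap w hw g (C.A0_le hg)
  have h2 : w * g * w⁻¹ * (w * g * w⁻¹) = g * g := by
    have : w * g * w⁻¹ * (w * g * w⁻¹) = w * (g * g) * w⁻¹ := by group
    rw [this, C.V_comm _ (C.A0_sq g hg) w hw, mul_inv_cancel_right]
  have key : ∀ a ∈ A0, a * a = g * g → ∃ v ∈ V, a = g * v := by
    intro a ha haa
    refine ⟨g⁻¹ * a, ?_, by group⟩
    refine C.A0_inv _ (A0.mul_mem (A0.inv_mem hg) ha) ?_
    have hc := C.A0_comm a ha _ (A0.inv_mem hg)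
    calc g⁻¹ * a * (g⁻¹ * a) = g⁻¹ * (a * g⁻¹) * a := by group
      _ = g⁻¹ * g⁻¹ * (a * a) := by rw [hc]; group
      _ = 1 := by rw [haa]; group
  rcases C.mem_of_sq h1 (by rw [h2]; exact C.A0_sq g hg) with h | ⟨a, ha, h⟩
  · obtain ⟨v, hv, hav⟩ := key _ h h2
    exact ⟨v, hv, Or.inl hav⟩
  · have h3 : a * a = g * g := by
      rw [← h2, h]
      have := C.x_comm a ha
      calc a * a = a * (a * (x * x)) := by rw [C.x_sq, mul_one]
        _ = a * (a * x) * x := by group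
        _ = a * (x * a) * x := by rw [this]
        _ = _ := by group
    obtain ⟨v, hv, hav⟩ := key a ha h3
    exact ⟨v, hv, Or.inr (by rw [h, hav])⟩

/-- `w²` commutes with `x`. -/
theorem sq_mem_Ap {w : G} (hw : w ∈ W) : w * w ∈ Ap := by
  refine C.W_cent _ (W.mul_mem hw hw) ?_
  obtain ⟨v, hv, h⟩ := C.W_x w hw
  have h1 : w * w * x * (w * w)⁻¹ = x := by
    have : w * w * x * (w * w)⁻¹ = w * (w * x * w⁻¹) * w⁻¹ := by group
    rw [this, h]
    have : w * (x * v) * w⁻¹ = (w * x * w⁻¹) * (w * v * w⁻¹) := by group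
    rw [this, h, C.V_comm v hv w hw, mul_inv_cancel_right, mul_assoc, C.V_sq v hv, mul_one]
  rw [mul_inv_eq_iff_eq_mul] at h1
  exact h1

/-- Step 3: `[A0, W] ≤ V`. -/
theorem conj_A0 {w g : G} (hw : w ∈ W) (hg : g ∈ A0) : ∃ v ∈ V, w * g * w⁻¹ = g * v := by
  -- the form of the action of `w ^ 2`
  obtain ⟨u, hu, hwx⟩ := C.W_x w hw
  have hsq : ∀ g ∈ A0, ∀ v ∈ V, w * g * w⁻¹ = g * v → w * w * g * (w * w)⁻¹ = g := by
    intro g hg v hv h
    have : w * w * g * (w * w)⁻¹ = w * (w * g * w⁻¹) * w⁻¹ := by group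
    rw [this, h]
    have : w * (g * v) * w⁻¹ = (w * g * w⁻¹) * (w * v * w⁻¹) := by group
    rw [this, h, C.V_comm v hv w hw, mul_inv_cancel_right, mul_assoc, C.V_sq v hv, mul_one]
  have hsq' : ∀ g ∈ A0, ∀ v ∈ V, w * g * w⁻¹ = g * v * x → w * w * g * (w * w)⁻¹ = g * u := by
    intro g hg v hv h
    have : w * w * g * (w * w)⁻¹ = w * (w * g * w⁻¹) * w⁻¹ := by group
    rw [this, h]
    have : w * (g * v * x) * w⁻¹ = (w * g * w⁻¹) * (w * v * w⁻¹) * (w * x * w⁻¹) := by group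
    rw [this, h, C.V_comm v hv w hw, mul_inv_cancel_right, hwx]
    have hxv := C.x_comm v (C.V_le hv)
    calc g * v * x * v * (x * u) = g * v * (x * v) * (x * u) := by group
      _ = g * (v * v) * (x * x) * u := by rw [hxv]; group
      _ = g * u := by rw [C.V_sq v hv, C.x_sq, mul_one, mul_one]
  obtain ⟨v, hv, h | h⟩ := C.conj_form hw hg
  · exact ⟨v, hv, h⟩
  · exfalso
    have hww := C.sq_mem_Ap hw
    have h1 := hsq' g hg v hv h
    have hwAp : w ∉ Ap := by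
      intro hwA
      have h2 := C.Ap_A0_mem hwA hg
      rw [h] at h2
      have h3 : x = (g * v)⁻¹ * (g * v * x) := by group
      exact C.x_not (h3 ▸ A0.mul_mem (A0.inv_mem (A0.mul_mem hg (C.V_le hv))) h2)
    have hu1 : u ≠ 1 := by
      rintro rfl
      apply hwAp
      refine C.W_cent w hw ?_
      rw [mul_one, mul_inv_eq_iff_eq_mul] at hwx
      exact hwx
    rcases C.Ap_A0 hww with h2 | h2
    · rw [h2 g hg] at h1
      exact hu1 (mul_left_cancel (h1.symm.trans (mul_one g).symm))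
    · -- squares of `A0` lie in `⟨u⟩`
      have h3 : ∀ y ∈ V, y = 1 ∨ y = u := by
        intro y hy
        obtain ⟨a, ha, rfl⟩ := C.A0_surj y hy
        obtain ⟨v', hv', h' | h'⟩ := C.conj_form hw ha
        · left
          have h4 := hsq a ha v' hv' h'
          rw [h2 a ha] at h4
          rw [← h4]
          nth_rw 1 [h4]
          rw [mul_inv_cancel]
        · right
          have h4 := hsq' a ha v' hv' h'
          rw [h2 a ha] at h4
          have h5 : (a * a)⁻¹ = u := by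
            rw [mul_inv_rev]
            nth_rw 1 [h4]
            rw [C.A0_comm a ha u (C.V_le hu)]
            group
          rw [← h5, C.V_inv (C.A0_sq a ha)]
      have h4 := h3 z C.z_mem
      have h5 := h3 _ (C.r_V C.z_mem)
      have hz : z = u := h4.resolve_left C.z_ne
      have hrz : r * z * r⁻¹ = u := by
        refine h5.resolve_left ?_
        intro h6
        apply C.z_ne
        have : z = r⁻¹ * (r * z * r⁻¹) * r := by group
        rw [this, h6]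
        group
      exact C.z_ne (C.r_fix z C.z_mem (by rw [hrz, hz]))

theorem W_A0 {w g : G} (hw : w ∈ W) (hg : g ∈ A0) : w * g * w⁻¹ ∈ A0 := by
  obtain ⟨v, hv, h⟩ := C.conj_A0 hw hg
  rw [h]
  exact A0.mul_mem hg (C.V_le hv)

end Cfg

namespace Cfg

variable {V A0 Ap W : Subgroup G} {x τ r z : G} (C : Cfg V A0 Ap W x τ r z)

include C

theorem r_prod' {v : G} (hv : v ∈ V) : v * (r * v * r⁻¹) * (r * (r * v * r⁻¹) * r⁻¹) = 1 := by
  have h0 := C.r_prod
  have h1 : r * z * r⁻¹ * (r * (r * z * r⁻¹) * r⁻¹) * (r * (r * (r * z * r⁻¹) * r⁻¹) * r⁻¹) = 1 := by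
    calc _ = r * (z * (r * z * r⁻¹) * (r * (r * z * r⁻¹) * r⁻¹)) * r⁻¹ := by group
      _ = 1 := by rw [h0]; group
  have h2 : r * (r * z * r⁻¹) * r⁻¹ * (r * (r * (r * z * r⁻¹) * r⁻¹) * r⁻¹) *
      (r * (r * (r * (r * z * r⁻¹) * r⁻¹) * r⁻¹) * r⁻¹) = 1 := by
    calc _ = r * (r * z * r⁻¹ * (r * (r * z * r⁻¹) * r⁻¹) *
          (r * (r * (r * z * r⁻¹) * r⁻¹) * r⁻¹)) * r⁻¹ := by group
      _ = 1 := by rw [h1]; group
  rcases C.V_eq v hv with rfl | rfl | rfl | rfl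
  · group
  · exact h0
  · exact h1
  · exact h2

/-- `Ap` acts trivially on `Ap / A0`. -/
theorem Ap_τ {g : G} (hg : g ∈ Ap) : ∃ b ∈ A0, g * τ * g⁻¹ = b * τ := by
  obtain ⟨a, ha, i, rfl⟩ := C.Ap_mem g hg
  refine ⟨a * (τ * a⁻¹ * τ⁻¹), A0.mul_mem ha (C.Ap_A0_mem C.τ_mem (A0.inv_mem ha)), ?_⟩
  have h1 : τ ^ i * τ = τ * τ ^ i := (Commute.refl τ).pow_left i
  calc a * τ ^ i * τ * (a * τ ^ i)⁻¹ = a * (τ ^ i * τ) * (τ ^ i)⁻¹ * a⁻¹ := by group
    _ = a * τ * a⁻¹ := by rw [h1]; group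
    _ = _ := by group

/-- Step 3: `W` centralises `Ap / A0`. -/
theorem W_τ {w : G} (hw : w ∈ W) : ∃ b ∈ A0, w * τ * w⁻¹ = b * τ := by
  have hu : ∀ w ∈ W, ∃ b ∈ A0, (w⁻¹ * (r * w * r⁻¹)) * τ * (w⁻¹ * (r * w * r⁻¹))⁻¹ = b * τ := by
    intro w hw
    obtain ⟨a, ha, i, hai⟩ := C.Ap_mem _ (C.W_Ap w hw τ C.τ_mem)
    have hrτ : r * τ ^ i * r⁻¹ = τ ^ i := by
      rw [(Commute.pow_right (show Commute r τ from C.r_τ) i).eq, mul_inv_cancel_right]
    have hrτ' : r⁻¹ * τ * r = τ := by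
      rw [mul_assoc, ← C.r_τ, inv_mul_cancel_left]
    refine ⟨w⁻¹ * (r * a * r⁻¹ * a⁻¹) * w, ?_, ?_⟩
    · have := C.W_A0 (W.inv_mem hw) (A0.mul_mem (C.r_A0 a ha) (A0.inv_mem ha))
      rwa [inv_inv] at this
    · have h1 : w⁻¹ * (a * τ ^ i) * w = τ := by rw [← hai]; group
      calc w⁻¹ * (r * w * r⁻¹) * τ * (w⁻¹ * (r * w * r⁻¹))⁻¹
          = w⁻¹ * (r * (w * (r⁻¹ * τ * r) * w⁻¹) * r⁻¹) * w := by group
        _ = w⁻¹ * (r * (a * τ ^ i) * r⁻¹) * w := by rw [hrτ', hai]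
        _ = w⁻¹ * (r * a * r⁻¹ * (r * τ ^ i * r⁻¹)) * w := by group
        _ = w⁻¹ * (r * a * r⁻¹ * τ ^ i) * w := by rw [hrτ]
        _ = w⁻¹ * (r * a * r⁻¹ * a⁻¹) * w * (w⁻¹ * (a * τ ^ i) * w) := by group
        _ = _ := by rw [h1]
  obtain ⟨v, hv, hwx⟩ := C.W_x w hw
  obtain ⟨w', hw', hwx'⟩ := C.W_surj _ (C.r_V hv)
  set! u := w'⁻¹ * (r * w' * r⁻¹) with hudef
  have huW : u ∈ W := W.mul_mem (W.inv_mem hw') (C.r_W w' hw')
  have hux : u * x * u⁻¹ = x * v := by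
    have hrx' : r⁻¹ * x * r = x := by
      rw [mul_assoc, ← C.r_x, inv_mul_cancel_left]
    have hrx : r * x * r⁻¹ = x := by
      rw [C.r_x, mul_inv_cancel_right]
    have hv1 := C.r_V hv
    have h1 : w'⁻¹ * x * w' = x * (r * v * r⁻¹) := by
      have h2 : x = w'⁻¹ * x * w' * (r * v * r⁻¹) := by
        calc x = w'⁻¹ * (w' * x * w'⁻¹) * w' := by group
          _ = w'⁻¹ * (x * (r * v * r⁻¹)) * w' := by rw [hwx']
          _ = w'⁻¹ * x * (r * v * r⁻¹ * w') := by group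
          _ = w'⁻¹ * x * (w' * (r * v * r⁻¹)) := by rw [C.V_comm _ hv1 w' hw']
          _ = _ := by group
      calc w'⁻¹ * x * w' = w'⁻¹ * x * w' * (r * v * r⁻¹) * (r * v * r⁻¹)⁻¹ := by group
        _ = x * (r * v * r⁻¹) := by rw [← h2, C.V_inv hv1]
    have h3 := C.r_V hv1
    calc u * x * u⁻¹ = w'⁻¹ * (r * (w' * (r⁻¹ * x * r) * w'⁻¹) * r⁻¹) * w' := by rw [hudef]; group
      _ = w'⁻¹ * (r * (x * (r * v * r⁻¹)) * r⁻¹) * w' := by rw [hrx', hwx']
      _ = w'⁻¹ * (r * x * r⁻¹ * (r * (r * v * r⁻¹) * r⁻¹)) * w' := by group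
      _ = w'⁻¹ * x * ((r * (r * v * r⁻¹) * r⁻¹) * w') := by rw [hrx]; group
      _ = w'⁻¹ * x * (w' * (r * (r * v * r⁻¹) * r⁻¹)) := by rw [C.V_comm _ h3 w' hw']
      _ = w'⁻¹ * x * w' * (r * (r * v * r⁻¹) * r⁻¹) := by group
      _ = x * (v⁻¹ * (v * (r * v * r⁻¹) * (r * (r * v * r⁻¹) * r⁻¹))) := by rw [h1]; group
      _ = x * v := by rw [C.r_prod' hv, mul_one, C.V_inv hv]
  have hα : u⁻¹ * w ∈ Ap := by
    refine C.W_cent _ (W.mul_mem (W.inv_mem huW) hw) ?_
    have h1 : u⁻¹ * w * x * (u⁻¹ * w)⁻¹ = x := by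
      calc u⁻¹ * w * x * (u⁻¹ * w)⁻¹ = u⁻¹ * (w * x * w⁻¹) * u := by group
        _ = u⁻¹ * (u * x * u⁻¹) * u := by rw [hwx, hux]
        _ = x := by group
    rw [mul_inv_eq_iff_eq_mul] at h1
    exact h1
  obtain ⟨b, hb, hbτ⟩ := C.Ap_τ hα
  obtain ⟨b', hb', hbτ'⟩ := hu w' hw'
  refine ⟨u * b * u⁻¹ * b', A0.mul_mem (C.W_A0 huW hb) hb', ?_⟩
  calc w * τ * w⁻¹ = u * (u⁻¹ * w * τ * (u⁻¹ * w)⁻¹) * u⁻¹ := by group
    _ = u * b * u⁻¹ * (u * τ * u⁻¹) := by rw [hbτ]; group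
    _ = u * b * u⁻¹ * b' * τ := by rw [hudef, hbτ']; group

theorem r_norm [Finite G] : r ∈ normalizer (A0 : Set G) :=
  mem_normalizer_fintype (S := (A0 : Set G)) C.r_A0

theorem W_norm : W ≤ normalizer (A0 : Set G) := by
  intro w hw
  rw [mem_normalizer_iff]
  intro g
  refine ⟨fun hg => C.W_A0 hw hg, fun hg => ?_⟩
  have := C.W_A0 (W.inv_mem hw) hg
  have e : w⁻¹ * (w * g * w⁻¹) * w⁻¹⁻¹ = g := by group
  rwa [e] at this

end Cfg

/-! ### computations in the quotient by `A0` -/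

theorem step4 {Q : Type*} [Group Q] {s τ r t : Q} {e : ℕ} (ht : t * t = 1) (htτ : t * τ = τ * t)
    (hts : t * s = s * t) (hrτ : r * τ = τ * r) (hτs : τ * s = s * τ)
    (h : t * (r * s * r⁻¹) * t = s * (r * s * r⁻¹) * τ ^ e) :
    s * τ ^ e * (s * τ ^ e) = 1 ∧
      s * τ ^ e * (r * (s * τ ^ e) * r⁻¹) = r * (s * τ ^ e) * r⁻¹ * (s * τ ^ e) := by
  set ε := τ ^ e with hε
  have htε : t * ε = ε * t := (Commute.pow_right (show Commute t τ from htτ) e)
  have hrε : r * ε = ε * r := (Commute.pow_right (show Commute r τ from hrτ) e)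
  have hεs : ε * s = s * ε := (Commute.pow_left (show Commute τ s from hτs) e)
  set w := r * s * r⁻¹ with hw
  have hεw : ε * w = w * ε := by
    rw [hw]
    calc ε * (r * s * r⁻¹) = (ε * r) * s * r⁻¹ := by group
      _ = r * (ε * s) * r⁻¹ := by rw [← hrε]; group
      _ = r * s * (ε * r⁻¹) := by rw [hεs]; group
      _ = r * s * (r⁻¹ * (r * ε) * r⁻¹) := by group
      _ = r * s * r⁻¹ * ε := by rw [hrε]; group
  have hw' : r * (s * ε) * r⁻¹ = w * ε := by
    calc r * (s * ε) * r⁻¹ = r * s * (r⁻¹ * (r * ε)) * r⁻¹ := by group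
      _ = w * ε := by rw [hrε, hw]; group
  have hs2 : s * ε * (s * ε) = 1 := by
    have h1 : t * (t * w * t) * t = w := by
      calc t * (t * w * t) * t = (t * t) * w * (t * t) := by group
        _ = w := by rw [ht]; group
    rw [h] at h1
    have h2 : t * (s * w * ε) * t = (s * ε) * (s * ε) * w := by
      calc t * (s * w * ε) * t = (t * s) * w * (ε * t) := by group
        _ = s * (t * w * t) * ε := by rw [hts, ← htε]; group
        _ = s * (s * w * ε) * ε := by rw [h]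
        _ = s * s * (w * ε) * ε := by group
        _ = s * s * (ε * w) * ε := by rw [hεw]
        _ = s * (s * ε) * (w * ε) := by group
        _ = s * (s * ε) * (ε * w) := by rw [hεw]
        _ = s * (s * ε) * ε * w := by group
        _ = (s * ε) * (s * ε) * w := by
          congr 1
          calc s * (s * ε) * ε = s * (ε * s) * ε := by rw [hεs]
            _ = s * ε * (s * ε) := by group
    rw [h2] at h1
    exact mul_eq_right.1 h1
  refine ⟨hs2, ?_⟩
  rw [hw']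
  -- `(t w' t)² = 1` and `t w' t = s' w'`
  have hw2 : w * ε * (w * ε) = 1 := by
    rw [← hw']
    calc r * (s * ε) * r⁻¹ * (r * (s * ε) * r⁻¹) = r * (s * ε * (s * ε)) * r⁻¹ := by group
      _ = 1 := by rw [hs2]; group
  have h3 : t * (w * ε) * t = s * ε * (w * ε) := by
    calc t * (w * ε) * t = t * w * (ε * t) := by group
      _ = t * w * t * ε := by rw [← htε]; group
      _ = s * (w * ε) * ε := by rw [h]; group
      _ = s * (ε * w) * ε := by rw [hεw]
      _ = s * ε * (w * ε) := by group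
  have h4 : (s * ε * (w * ε)) * (s * ε * (w * ε)) = 1 := by
    rw [← h3]
    calc t * (w * ε) * t * (t * (w * ε) * t) = t * (w * ε) * (t * t) * (w * ε) * t := by group
      _ = t * (w * ε * (w * ε)) * t := by rw [ht]; group
      _ = 1 := by rw [hw2, mul_one, ht]
  have hs3 : (s * ε)⁻¹ = s * ε := inv_eq_iff_mul_eq_one.mpr hs2
  have hw3 : (w * ε)⁻¹ = w * ε := inv_eq_iff_mul_eq_one.mpr hw2
  have h5 : (s * ε * (w * ε))⁻¹ = s * ε * (w * ε) := inv_eq_iff_mul_eq_one.mpr h4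
  rw [mul_inv_rev, hs3, hw3] at h5
  exact h5.symm

theorem step4c {Q : Type*} [Group Q] {s r n : Q} (hs : s * s = 1)
    (hc : s * (r * s * r⁻¹) = r * s * r⁻¹ * s)
    (hn : s * (r * s * r⁻¹) * (r * (r * s * r⁻¹) * r⁻¹) = n)
    (hns : n * s = s * n) (hnw : n * (r * s * r⁻¹) = r * s * r⁻¹ * n) : n * n = 1 := by
  set w := r * s * r⁻¹ with hw
  set w2 := r * w * r⁻¹ with hw2
  have hww : w * w = 1 := by
    calc w * w = r * (s * s) * r⁻¹ := by rw [hw]; group
      _ = 1 := by rw [hs]; group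
  have hww2 : w2 * w2 = 1 := by
    calc w2 * w2 = r * (w * w) * r⁻¹ := by rw [hw2]; group
      _ = 1 := by rw [hww]; group
  have h1 : w * w2 = w2 * w := by
    calc w * w2 = r * (s * w) * r⁻¹ := by rw [hw2, hw]; group
      _ = r * (w * s) * r⁻¹ := by rw [hc]
      _ = w2 * w := by rw [hw2, hw]; group
  have hw2' : w2 = w⁻¹ * s⁻¹ * n := by rw [← hn]; group
  have C1 : Commute n s := hns
  have C2 : Commute n w := hnw
  have C3 : Commute s w := hc
  have C4 : Commute s w2 := by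
    rw [hw2']
    exact (C3.inv_right.mul_right (Commute.refl s).inv_right).mul_right C1.symm
  calc n * n = s * w * w2 * (s * w * w2) := by rw [hn]
    _ = s * w * (w2 * s) * w * w2 := by group
    _ = s * w * s * (w2 * w) * w2 := by rw [← C4.eq]; group
    _ = s * (w * s) * w * (w2 * w2) := by rw [← h1]; group
    _ = s * s * (w * w) * (w2 * w2) := by rw [← hc]; group
    _ = 1 := by rw [hs, hww, hww2]; group

theorem step4b {Q : Type*} [Group Q] {s x r : Q} (hs : s * s = 1) (hx : x * x = 1)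
    (hrx : r * x = x * r) (hxs : x * s = s * x) (hc : s * (r * s * r⁻¹) = r * s * r⁻¹ * s)
    (hn : s * (r * s * r⁻¹) * (r * (r * s * r⁻¹) * r⁻¹) = x) :
    s * x * (s * x) = 1 ∧ s * x * (r * (s * x) * r⁻¹) = r * (s * x) * r⁻¹ * (s * x) ∧
      s * x * (r * (s * x) * r⁻¹) * (r * (r * (s * x) * r⁻¹) * r⁻¹) = 1 := by
  have Crx : Commute r x := hrx
  have Cxs : Commute x s := hxs
  set w := r * s * r⁻¹ with hw
  set w2 := r * w * r⁻¹ with hw2
  have Cxw : Commute x w := (Crx.symm.mul_right Cxs).mul_right Crx.symm.inv_right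
  have Cxw2 : Commute x w2 := (Crx.symm.mul_right Cxw).mul_right Crx.symm.inv_right
  have e1 : r * (s * x) * r⁻¹ = w * x := by
    calc r * (s * x) * r⁻¹ = r * s * (x * r⁻¹) := by group
      _ = r * s * (r⁻¹ * x) := by rw [Crx.symm.inv_right.eq]
      _ = w * x := by rw [hw]; group
  have e2 : r * (w * x) * r⁻¹ = w2 * x := by
    calc r * (w * x) * r⁻¹ = r * w * (x * r⁻¹) := by group
      _ = r * w * (r⁻¹ * x) := by rw [Crx.symm.inv_right.eq]
      _ = w2 * x := by rw [hw2]; group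
  rw [e1, e2]
  refine ⟨?_, ?_, ?_⟩
  · calc s * x * (s * x) = s * (x * s) * x := by group
      _ = (s * s) * (x * x) := by rw [hxs]; group
      _ = 1 := by rw [hs, hx, one_mul]
  · calc s * x * (w * x) = s * (x * w) * x := by group
      _ = (s * w) * (x * x) := by rw [Cxw.eq]; group
      _ = w * s * (x * x) := by rw [hc]
      _ = w * (s * x) * x := by group
      _ = w * (x * s) * x := by rw [hxs]
      _ = w * x * (s * x) := by group
  · calc s * x * (w * x) * (w2 * x) = s * (x * w) * (x * w2) * x := by group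
      _ = s * (w * x) * (w2 * x) * x := by rw [Cxw.eq, Cxw2.eq]
      _ = s * w * (x * w2) * (x * x) := by group
      _ = s * w * w2 * x * (x * x) := by rw [Cxw2.eq]; group
      _ = 1 := by rw [hn, hx, one_mul]

/-- The configuration together with `t` and `s`. -/
structure TCfg (V A0 Ap W : Subgroup G) (x τ r z t s : G) : Prop extends Cfg V A0 Ap W x τ r z where
  t_sq : t * t = 1
  t_τ : t * τ = τ * t
  t_A0 : ∀ g ∈ A0, t * g * t⁻¹ ∈ A0
  t_W : ∀ w ∈ W, t * w * t⁻¹ ∈ W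
  t_rz : t * (r * z * r⁻¹) * t⁻¹ = r * (r * z * r⁻¹) * r⁻¹
  s_mem : s ∈ W
  s_x : s * x * s⁻¹ = x * z
  t_s : s⁻¹ * (t * s * t) ∈ A0

namespace TCfg

variable {V A0 Ap W : Subgroup G} {x τ r z t s : G} (C : TCfg V A0 Ap W x τ r z t s)

include C

theorem t_inv : t⁻¹ = t := inv_eq_iff_mul_eq_one.mpr C.t_sq

theorem t_x : t * x = x * t := by
  obtain ⟨m, hm⟩ := C.x_pow
  rw [hm]
  exact (Commute.pow_right (show Commute t τ from C.t_τ) m)

/-- The relation between `t`, `s` and `s^r`. -/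
theorem rel_t : ∃ a ∈ A0, ∃ e : ℕ, t * (r * s * r⁻¹) * t = s * (r * s * r⁻¹) * a * τ ^ e := by
  set w := r * s * r⁻¹ with hw
  have hwW : w ∈ W := C.r_W s C.s_mem
  have hrx : r * x * r⁻¹ = x := by rw [C.r_x, mul_inv_cancel_right]
  have hrx' : r⁻¹ * x * r = x := by rw [mul_assoc, ← C.r_x, inv_mul_cancel_left]
  have hwx : w * x * w⁻¹ = x * (r * z * r⁻¹) := by
    calc w * x * w⁻¹ = r * (s * (r⁻¹ * x * r) * s⁻¹) * r⁻¹ := by rw [hw]; group
      _ = r * x * r⁻¹ * (r * z * r⁻¹) := by rw [hrx', C.s_x]; group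
      _ = x * (r * z * r⁻¹) := by rw [hrx]
  have htx : t * x * t⁻¹ = x := by rw [C.t_x, mul_inv_cancel_right]
  have htx' : t⁻¹ * x * t = x := by rw [mul_assoc, ← C.t_x, inv_mul_cancel_left]
  set! y := t * w * t⁻¹ with hy
  have hyW : y ∈ W := C.t_W w hwW
  have hyx : y * x * y⁻¹ = x * (r * (r * z * r⁻¹) * r⁻¹) := by
    calc y * x * y⁻¹ = t * (w * (t⁻¹ * x * t) * w⁻¹) * t⁻¹ := by rw [hy]; group
      _ = t * x * t⁻¹ * (t * (r * z * r⁻¹) * t⁻¹) := by rw [htx', hwx]; group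
      _ = _ := by rw [htx, C.t_rz]
  have hrzV := C.r_V C.z_mem
  have hr2zV := C.r_V hrzV
  have hswx : s * w * x * (s * w)⁻¹ = x * (r * (r * z * r⁻¹) * r⁻¹) := by
    have hp := C.r_prod
    have hzz : z * (r * z * r⁻¹) = r * (r * z * r⁻¹) * r⁻¹ := by
      have h1 := eq_inv_of_mul_eq_one_left hp
      rw [C.V_inv hr2zV] at h1
      exact h1
    calc s * w * x * (s * w)⁻¹ = s * (w * x * w⁻¹) * s⁻¹ := by group
      _ = s * x * (r * z * r⁻¹ * s⁻¹) := by rw [hwx]; group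
      _ = s * x * (s⁻¹ * (r * z * r⁻¹)) := by
        rw [C.V_comm _ hrzV s⁻¹ (W.inv_mem C.s_mem)]
      _ = s * x * s⁻¹ * (r * z * r⁻¹) := by group
      _ = x * (z * (r * z * r⁻¹)) := by rw [C.s_x]; group
      _ = _ := by rw [hzz]
  have hmem : (s * w)⁻¹ * y ∈ Ap := by
    refine C.W_cent _ (W.mul_mem (W.inv_mem (W.mul_mem C.s_mem hwW)) hyW) ?_
    have h1 : (s * w)⁻¹ * y * x * ((s * w)⁻¹ * y)⁻¹ = x := by
      calc (s * w)⁻¹ * y * x * ((s * w)⁻¹ * y)⁻¹ = (s * w)⁻¹ * (y * x * y⁻¹) * (s * w) := by group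
        _ = (s * w)⁻¹ * (s * w * x * (s * w)⁻¹) * (s * w) := by rw [hyx, hswx]
        _ = x := by group
    rw [mul_inv_eq_iff_eq_mul] at h1
    exact h1
  obtain ⟨a, ha, e, hae⟩ := C.Ap_mem _ hmem
  refine ⟨a, ha, e, ?_⟩
  have h1 : t * w * t = y := by rw [hy, C.t_inv]
  rw [h1]
  calc y = s * w * ((s * w)⁻¹ * y) := by group
    _ = s * w * a * τ ^ e := by rw [hae]; group

/-- Step 4: the element `s` may be chosen such that `A0⟨s, s^r⟩ / A0` is elementary abelian and `r`-invariant. -/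
theorem exists_s [Finite G] : ∃ s ∈ W, s * x * s⁻¹ = x * z ∧ s * s ∈ A0 ∧
    s * (r * s * r⁻¹) * s⁻¹ * (r * s * r⁻¹)⁻¹ ∈ A0 ∧
    s * (r * s * r⁻¹) * (r * (r * s * r⁻¹) * r⁻¹) ∈ A0 := by
  obtain ⟨a, ha, e, hrel⟩ := C.rel_t
  let H : Subgroup G := normalizer (A0 : Set G)
  have hA0H : A0 ≤ H := le_normalizer
  let N : Subgroup H := A0.subgroupOf H
  have hN : N.Normal := normal_in_normalizer
  let φ : H →* H ⧸ N := QuotientGroup.mk' N
  have hφ : ∀ (g : G) (hg : g ∈ H), φ ⟨g, hg⟩ = 1 ↔ g ∈ A0 := by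
    intro g hg
    exact QuotientGroup.eq_one_iff _
  have hWH : W ≤ H := C.W_norm
  have hrH : r ∈ H := C.r_norm
  have htH : t ∈ H := mem_normalizer_fintype (S := (A0 : Set G)) C.t_A0
  have hτW : τ ∈ W := C.Ap_le C.τ_mem
  have hxW : x ∈ W := C.Ap_le C.x_mem
  let r' : H := ⟨r, hrH⟩
  let t' : H := ⟨t, htH⟩
  let τ' : H := ⟨τ, hWH hτW⟩
  let x' : H := ⟨x, hWH hxW⟩
  let s' : H := ⟨s, hWH C.s_mem⟩
  let a' : H := ⟨a, hA0H ha⟩
  have ha' : φ a' = 1 := (hφ a _).2 ha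
  have q1 : φ t' * φ t' = 1 := by
    rw [← map_mul, show t' * t' = 1 from Subtype.ext C.t_sq, map_one]
  have q2 : φ t' * φ τ' = φ τ' * φ t' := by
    rw [← map_mul, ← map_mul, show t' * τ' = τ' * t' from Subtype.ext C.t_τ]
  have q3 : φ t' * φ s' = φ s' * φ t' := by
    have h1 : φ (s'⁻¹ * (t' * s' * t')) = 1 := (hφ _ _).2 C.t_s
    rw [map_mul, map_mul, map_mul, map_inv] at h1
    have h2 : φ s' = φ t' * φ s' * φ t' := inv_mul_eq_one.1 h1
    calc φ t' * φ s' = φ t' * φ s' * (φ t' * φ t') := by rw [q1, mul_one]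
      _ = (φ t' * φ s' * φ t') * φ t' := by group
      _ = φ s' * φ t' := by rw [← h2]
  have q4 : φ r' * φ τ' = φ τ' * φ r' := by
    rw [← map_mul, ← map_mul, show r' * τ' = τ' * r' from Subtype.ext C.r_τ]
  have hcen : ∀ (w : G) (hw : w ∈ W), φ τ' * φ ⟨w, hWH hw⟩ = φ ⟨w, hWH hw⟩ * φ τ' := by
    intro w hw
    obtain ⟨b, hb, hbτ⟩ := C.W_τ hw
    have h1 : (⟨w, hWH hw⟩ : H) * τ' = ⟨b, hA0H hb⟩ * τ' * ⟨w, hWH hw⟩ := by
      apply Subtype.ext
      show w * τ = b * τ * w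
      rw [← hbτ]
      group
    rw [← map_mul _ (⟨w, hWH hw⟩ : H) τ', h1, map_mul, map_mul, (hφ b _).2 hb, one_mul]
  have q5 : φ τ' * φ s' = φ s' * φ τ' := hcen s C.s_mem
  have q6 : φ t' * (φ r' * φ s' * (φ r')⁻¹) * φ t' = φ s' * (φ r' * φ s' * (φ r')⁻¹) * φ τ' ^ e := by
    have h1 : t' * (r' * s' * r'⁻¹) * t' = s' * (r' * s' * r'⁻¹) * a' * τ' ^ e := Subtype.ext hrel
    have h2 := congrArg φ h1
    simp only [map_mul, map_inv, map_pow] at h2
    rw [ha', mul_one] at h2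
    exact h2
  obtain ⟨p1, p2⟩ := step4 q1 q2 q3 q4 q5 q6
  -- the new `s`
  set! s1 : G := s * τ ^ e with hs1
  have hs1W : s1 ∈ W := W.mul_mem C.s_mem (W.pow_mem hτW e)
  let s1' : H := ⟨s1, hWH hs1W⟩
  have hs1' : φ s1' = φ s' * φ τ' ^ e := by
    rw [← map_pow, ← map_mul]
    rfl
  rw [← hs1'] at p1 p2
  have hxτ : x * τ ^ e = τ ^ e * x := by
    obtain ⟨m, hm⟩ := C.x_pow
    rw [hm]
    exact ((Commute.refl τ).pow_pow m e)
  have hs1x : s1 * x * s1⁻¹ = x * z := by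
    rw [hs1, ← C.s_x]
    calc s * τ ^ e * x * (s * τ ^ e)⁻¹ = s * (τ ^ e * x) * (τ ^ e)⁻¹ * s⁻¹ := by group
      _ = s * x * s⁻¹ := by rw [← hxτ]; group
  -- `n`
  have key : ∀ s2 ∈ W, s2 * x * s2⁻¹ = x * z → s2 * (r * s2 * r⁻¹) * (r * (r * s2 * r⁻¹) * r⁻¹) ∈ Ap := by
    intro s2 hs2 hs2x
    have hrx : r * x * r⁻¹ = x := by rw [C.r_x, mul_inv_cancel_right]
    have hrx' : r⁻¹ * x * r = x := by rw [mul_assoc, ← C.r_x, inv_mul_cancel_left]
    set! w := r * s2 * r⁻¹ with hw; rewrite [← hw]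
    set! w2 := r * w * r⁻¹ with hw2; rewrite [← hw2]
    have hwW : w ∈ W := C.r_W s2 hs2
    have hw2W : w2 ∈ W := C.r_W w hwW
    have hwx : w * x * w⁻¹ = x * (r * z * r⁻¹) := by
      calc w * x * w⁻¹ = r * (s2 * (r⁻¹ * x * r) * s2⁻¹) * r⁻¹ := by rw [hw]; group
        _ = r * x * r⁻¹ * (r * z * r⁻¹) := by rw [hrx', hs2x]; group
        _ = x * (r * z * r⁻¹) := by rw [hrx]
    have hw2x : w2 * x * w2⁻¹ = x * (r * (r * z * r⁻¹) * r⁻¹) := by
      calc w2 * x * w2⁻¹ = r * (w * (r⁻¹ * x * r) * w⁻¹) * r⁻¹ := by rw [hw2]; group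
        _ = r * x * r⁻¹ * (r * (r * z * r⁻¹) * r⁻¹) := by rw [hrx', hwx]; group
        _ = _ := by rw [hrx]
    refine C.W_cent _ (W.mul_mem (W.mul_mem hs2 hwW) hw2W) ?_
    have hrzV := C.r_V C.z_mem
    have hr2zV := C.r_V hrzV
    have h1 : s2 * w * w2 * x * (s2 * w * w2)⁻¹ = x := by
      calc s2 * w * w2 * x * (s2 * w * w2)⁻¹ = s2 * (w * (w2 * x * w2⁻¹) * w⁻¹) * s2⁻¹ := by group
        _ = s2 * (w * x * ((r * (r * z * r⁻¹) * r⁻¹) * w⁻¹)) * s2⁻¹ := by rw [hw2x]; group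
        _ = s2 * (w * x * (w⁻¹ * (r * (r * z * r⁻¹) * r⁻¹))) * s2⁻¹ := by
          rw [C.V_comm _ hr2zV w⁻¹ (W.inv_mem hwW)]
        _ = s2 * (w * x * w⁻¹ * (r * (r * z * r⁻¹) * r⁻¹)) * s2⁻¹ := by group
        _ = s2 * x * (((r * z * r⁻¹) * (r * (r * z * r⁻¹) * r⁻¹)) * s2⁻¹) := by rw [hwx]; group
        _ = s2 * x * (s2⁻¹ * ((r * z * r⁻¹) * (r * (r * z * r⁻¹) * r⁻¹))) := by
          rw [C.V_comm _ (V.mul_mem hrzV hr2zV) s2⁻¹ (W.inv_mem hs2)]
        _ = s2 * x * s2⁻¹ * ((r * z * r⁻¹) * (r * (r * z * r⁻¹) * r⁻¹)) := by group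
        _ = x * (z * (r * z * r⁻¹) * (r * (r * z * r⁻¹) * r⁻¹)) := by rw [hs2x]; group
        _ = x := by rw [C.r_prod, mul_one]
    rw [mul_inv_eq_iff_eq_mul] at h1
    exact h1
  obtain ⟨b, hb, i, hbi⟩ := C.Ap_mem _ (key s1 hs1W hs1x)
  have hn : φ s1' * (φ r' * φ s1' * (φ r')⁻¹) * (φ r' * (φ r' * φ s1' * (φ r')⁻¹) * (φ r')⁻¹) =
      φ τ' ^ i := by
    have h1 : s1' * (r' * s1' * r'⁻¹) * (r' * (r' * s1' * r'⁻¹) * r'⁻¹) = ⟨b, hA0H hb⟩ * τ' ^ i :=
      Subtype.ext hbi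
    have h2 := congrArg φ h1
    simp only [map_mul, map_inv, map_pow] at h2
    rw [(hφ b _).2 hb, one_mul] at h2
    exact h2
  have hwW : r * s1 * r⁻¹ ∈ W := C.r_W s1 hs1W
  have hns : φ τ' ^ i * φ s1' = φ s1' * φ τ' ^ i :=
    (Commute.pow_left (show Commute (φ τ') (φ s1') from hcen s1 hs1W) i)
  have hnw : φ τ' ^ i * (φ r' * φ s1' * (φ r')⁻¹) = φ r' * φ s1' * (φ r')⁻¹ * φ τ' ^ i := by
    have h1 := hcen _ hwW
    have h2 : φ ⟨r * s1 * r⁻¹, hWH hwW⟩ = φ r' * φ s1' * (φ r')⁻¹ := by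
      rw [← map_inv, ← map_mul, ← map_mul]
      rfl
    rw [h2] at h1
    exact (Commute.pow_left (show Commute _ _ from h1) i)
  have hnn := step4c p1 p2 hn hns hnw
  have hττ : τ ^ i * τ ^ i ∈ A0 := by
    rw [← hφ _ (H.mul_mem (H.pow_mem (hWH hτW) i) (H.pow_mem (hWH hτW) i))]
    rw [← map_pow, ← map_mul] at hnn
    exact hnn
  have back : ∀ s2 (hs2 : s2 ∈ W), s2 * x * s2⁻¹ = x * z → φ ⟨s2, hWH hs2⟩ * φ ⟨s2, hWH hs2⟩ = 1 →
      φ ⟨s2, hWH hs2⟩ * (φ r' * φ ⟨s2, hWH hs2⟩ * (φ r')⁻¹) =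
        φ r' * φ ⟨s2, hWH hs2⟩ * (φ r')⁻¹ * φ ⟨s2, hWH hs2⟩ →
      φ ⟨s2, hWH hs2⟩ * (φ r' * φ ⟨s2, hWH hs2⟩ * (φ r')⁻¹) *
        (φ r' * (φ r' * φ ⟨s2, hWH hs2⟩ * (φ r')⁻¹) * (φ r')⁻¹) = 1 →
      ∃ s ∈ W, s * x * s⁻¹ = x * z ∧ s * s ∈ A0 ∧
        s * (r * s * r⁻¹) * s⁻¹ * (r * s * r⁻¹)⁻¹ ∈ A0 ∧
        s * (r * s * r⁻¹) * (r * (r * s * r⁻¹) * r⁻¹) ∈ A0 := by
    intro s2 hs2 hs2x k1 k2 k3
    have hs2H := hWH hs2
    refine ⟨s2, hs2, hs2x, ?_, ?_, ?_⟩
    · rw [← hφ _ (H.mul_mem hs2H hs2H)]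
      rw [← map_mul] at k1
      exact k1
    · rw [← hφ _ (H.mul_mem (H.mul_mem (H.mul_mem hs2H (H.mul_mem (H.mul_mem hrH hs2H)
        (H.inv_mem hrH))) (H.inv_mem hs2H)) (H.inv_mem (H.mul_mem (H.mul_mem hrH hs2H)
        (H.inv_mem hrH))))]
      have h1 : φ ⟨s2, hs2H⟩ * (φ r' * φ ⟨s2, hs2H⟩ * (φ r')⁻¹) * (φ ⟨s2, hs2H⟩)⁻¹ *
          (φ r' * φ ⟨s2, hs2H⟩ * (φ r')⁻¹)⁻¹ = 1 := by
        rw [k2]
        group
      simp only [← map_mul, ← map_inv] at h1
      exact h1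
    · rw [← hφ _ (H.mul_mem (H.mul_mem hs2H (H.mul_mem (H.mul_mem hrH hs2H)
        (H.inv_mem hrH))) (H.mul_mem (H.mul_mem hrH (H.mul_mem (H.mul_mem hrH hs2H)
        (H.inv_mem hrH))) (H.inv_mem hrH)))]
      simp only [← map_mul, ← map_inv] at k3
      exact k3
  rcases C.τ_sq i hττ with h | h
  · refine back s1 hs1W hs1x p1 p2 ?_
    have : φ τ' ^ i = 1 := by
      rw [← map_pow, show τ' ^ i = 1 from Subtype.ext h, map_one]
    rw [this] at hn
    exact hn
  · have hx' : φ τ' ^ i = φ x' := by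
      rw [← map_pow, show τ' ^ i = x' from Subtype.ext h]
    rw [hx'] at hn hns
    have hxx : φ x' * φ x' = 1 := by
      rw [← map_mul, show x' * x' = 1 from Subtype.ext C.x_sq, map_one]
    have hrx : φ r' * φ x' = φ x' * φ r' := by
      rw [← map_mul, ← map_mul, show r' * x' = x' * r' from Subtype.ext C.r_x]
    obtain ⟨k1, k2, k3⟩ := step4b p1 hxx hrx hns p2 hn
    have hs2W : s1 * x ∈ W := W.mul_mem hs1W hxW
    have hs2 : φ ⟨s1 * x, hWH hs2W⟩ = φ s1' * φ x' := by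
      rw [← map_mul]
      rfl
    rw [← hs2] at k1 k2 k3
    refine back (s1 * x) hs2W ?_ k1 k2 k3
    calc s1 * x * x * (s1 * x)⁻¹ = s1 * (x * x) * x⁻¹ * s1⁻¹ := by group
      _ = s1 * x * s1⁻¹ := by rw [C.x_sq, C.x_inv, mul_one]
      _ = x * z := hs1x

end TCfg

end Cfsg.Agent.GH.WAct
end

-- part: GH/WHom
section
/-!
# Project GH, branch GH-L3 (W): the homocyclic subgroup `U`
-/

set_option autoImplicit false

namespace Cfsg.Agent.GH.WAct

open Subgroup Cfsg.Agent.TwoFusion.SectionalRank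

variable {G : Type*} [Group G]

/-- commutator relation in class two -/
theorem comm_inv_eq {Q : Type*} [Group Q] {s w w2 a c : Q} (hc : s * w * s⁻¹ * w⁻¹ = c)
    (hcs : c * s = s * c) (hcw : c * w = w * c) (ha : s * w * w2 = a) (haw : a * w = w * a) :
    w * w2 * w⁻¹ * w2⁻¹ = c := by
  have h1 : w2 = w⁻¹ * s⁻¹ * a := by rw [← ha]; group
  have h2 : w * w2 * w⁻¹ * w2⁻¹ = s⁻¹ * w⁻¹ * s * w := by
    rw [h1]
    calc w * (w⁻¹ * s⁻¹ * a) * w⁻¹ * (w⁻¹ * s⁻¹ * a)⁻¹ = s⁻¹ * (a * w⁻¹) * a⁻¹ * s * w := by group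
      _ = s⁻¹ * (w⁻¹ * a) * a⁻¹ * s * w := by rw [(show Commute a w from haw).inv_right.eq]
      _ = _ := by group
  rw [h2]
  have h3 : s * w = c * w * s := by rw [← hc]; group
  calc s⁻¹ * w⁻¹ * s * w = s⁻¹ * w⁻¹ * (s * w) := by group
    _ = s⁻¹ * (w⁻¹ * c) * w * s := by rw [h3]; group
    _ = s⁻¹ * (c * w⁻¹) * w * s := by rw [(show Commute c w from hcw).symm.inv_left.eq]
    _ = s⁻¹ * c * s := by group
    _ = c := by rw [mul_assoc, hcs, inv_mul_cancel_left]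

theorem two_mul_card_le [Finite G] {H K : Subgroup G} (h : H ≤ K) {g : G} (hg : g ∈ K) (hg' : g ∉ H) :
    2 * Nat.card H ≤ Nat.card K := by
  have h1 : H.relIndex K ≠ 1 := by
    intro h2
    rw [relIndex_eq_one] at h2
    exact hg' (h2 hg)
  have h0 : H.relIndex K ≠ 0 := by
    intro h0
    have h2 := card_eq_relIndex_mul K H h
    rw [h0, zero_mul] at h2
    exact Nat.card_pos.ne' h2
  rw [card_eq_relIndex_mul K H h]
  apply Nat.mul_le_mul_right
  omega

/-- Generators commuting mod the central subgroup `V`, with squares in `V`. -/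
theorem elemSection_closure {V W : Subgroup G} (hVc : ∀ v ∈ V, ∀ w ∈ W, w * v = v * w) (S : Set G)
    (hS : S ⊆ W) (hVS : V ≤ closure S) (h1 : ∀ a ∈ S, ∀ b ∈ S, a * b * a⁻¹ * b⁻¹ ∈ V)
    (h2 : ∀ a ∈ S, a * a ∈ V) : ElemSection 2 (closure S) V := by
  have hSW : closure S ≤ W := (closure_le W).2 hS
  have mulL : ∀ a ∈ W, ∀ a' ∈ W, ∀ b ∈ W, a * b * a⁻¹ * b⁻¹ ∈ V → a' * b * a'⁻¹ * b⁻¹ ∈ V →
      a * a' * b * (a * a')⁻¹ * b⁻¹ ∈ V := by
    intro a ha a' _ b hb k1 k2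
    have : a * a' * b * (a * a')⁻¹ * b⁻¹ = (a * (a' * b * a'⁻¹ * b⁻¹) * a⁻¹) * (a * b * a⁻¹ * b⁻¹) := by
      group
    rw [this, hVc _ k2 a ha, mul_inv_cancel_right]
    exact V.mul_mem k2 k1
  have invL : ∀ a ∈ W, ∀ b ∈ W, a * b * a⁻¹ * b⁻¹ ∈ V → a⁻¹ * b * a⁻¹⁻¹ * b⁻¹ ∈ V := by
    intro a ha b hb k1
    have : a⁻¹ * b * a⁻¹⁻¹ * b⁻¹ = a⁻¹ * (a * b * a⁻¹ * b⁻¹)⁻¹ * a := by group
    rw [this, hVc _ (V.inv_mem k1) a⁻¹ (W.inv_mem ha), inv_mul_cancel_right]
    exact V.inv_mem k1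
  have symm : ∀ a b : G, a * b * a⁻¹ * b⁻¹ ∈ V → b * a * b⁻¹ * a⁻¹ ∈ V := by
    intro a b k1
    have : b * a * b⁻¹ * a⁻¹ = (a * b * a⁻¹ * b⁻¹)⁻¹ := by group
    rw [this]
    exact V.inv_mem k1
  have s1 : ∀ b ∈ S, ∀ a ∈ _root_.Subgroup.closure S, a * b * a⁻¹ * b⁻¹ ∈ V := by
    intro b hb a ha
    induction ha using closure_induction with
    | mem a ha => exact h1 a ha b hb
    | one => simp
    | mul a a' ha ha' k1 k2 => exact mulL a (hSW ha) a' (hSW ha') b (hS hb) k1 k2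
    | inv a ha k => exact invL a (hSW ha) b (hS hb) k
  have s2 : ∀ a ∈ _root_.Subgroup.closure S, ∀ b ∈ closure S, a * b * a⁻¹ * b⁻¹ ∈ V := by
    intro a ha b hb
    apply symm
    induction hb using closure_induction with
    | mem b hb => exact symm _ _ (s1 b hb a ha)
    | one => simp
    | mul b b' hb hb' k1 k2 => exact mulL b (hSW hb) b' (hSW hb') a (hSW ha) k1 k2
    | inv b hb k => exact invL b (hSW hb) a (hSW ha) k
  refine ⟨hVS, s2, ?_⟩
  intro a ha
  rw [pow_two]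
  induction ha using closure_induction with
  | mem a ha => exact h2 a ha
  | one => simp
  | mul a b ha hb k1 k2 =>
    have h3 := s2 b hb a ha
    have : a * b * (a * b) = a * (b * a * b⁻¹ * a⁻¹) * a * (b * b) := by group
    rw [this, hVc _ h3 a (hSW ha)]
    have : b * a * b⁻¹ * a⁻¹ * a * a * (b * b) = (b * a * b⁻¹ * a⁻¹) * (a * a) * (b * b) := by group
    rw [this]
    exact V.mul_mem (V.mul_mem h3 k1) k2
  | inv a ha k =>
    have : a⁻¹ * a⁻¹ = (a * a)⁻¹ := by group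
    rw [this]
    exact V.inv_mem k

/-- `s ∈ W` as produced by `TCfg.exists_s`. -/
structure SCfg (V A0 Ap W : Subgroup G) (x τ r z s : G) : Prop extends Cfg V A0 Ap W x τ r z where
  s_mem : s ∈ W
  s_x : s * x * s⁻¹ = x * z
  s_sq : s * s ∈ A0
  s_comm : s * (r * s * r⁻¹) * s⁻¹ * (r * s * r⁻¹)⁻¹ ∈ A0
  s_prod : s * (r * s * r⁻¹) * (r * (r * s * r⁻¹) * r⁻¹) ∈ A0

namespace SCfg

variable {V A0 Ap W : Subgroup G} {x τ r z s : G} (C : SCfg V A0 Ap W x τ r z s)

include C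

theorem w_mem : r * s * r⁻¹ ∈ W := C.r_W s C.s_mem

theorem w2_mem : r * (r * s * r⁻¹) * r⁻¹ ∈ W := C.r_W _ C.w_mem

theorem r_prodV {v : G} (hv : v ∈ V) : v * (r * v * r⁻¹) = r * (r * v * r⁻¹) * r⁻¹ := by
  have h1 := eq_inv_of_mul_eq_one_left (C.r_prod' hv)
  rwa [C.V_inv (C.r_V (C.r_V hv))] at h1

/-- an element of `A0` that is fixed mod `V` by `r` lies in `V`. -/
theorem mem_V_of_fixed {g v : G} (hg : g ∈ A0) (hv : v ∈ V) (h : r * g * r⁻¹ = g * v) : g ∈ V := by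
  refine C.A0_inv g hg ?_
  refine C.r_fix _ (C.A0_sq g hg) ?_
  calc r * (g * g) * r⁻¹ = (r * g * r⁻¹) * (r * g * r⁻¹) := by group
    _ = g * (v * g) * v := by rw [h]; group
    _ = g * g * (v * v) := by rw [C.A0_comm v (C.V_le hv) g hg]; group
    _ = g * g := by rw [C.V_sq v hv, mul_one]

/-- `[g, w] ∈ V` for `g ∈ A0`, `w ∈ W`, in the form `w g = g w v`. -/
theorem swap {w g : G} (hw : w ∈ W) (hg : g ∈ A0) : ∃ v ∈ V, w * g = g * w * v := by
  obtain ⟨v, hv, h⟩ := C.conj_A0 hw hg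
  refine ⟨v, hv, ?_⟩
  calc w * g = (w * g * w⁻¹) * w := by group
    _ = g * (v * w) := by rw [h]; group
    _ = g * (w * v) := by rw [C.V_comm v hv w hw]
    _ = _ := by group

/-- the commutator `c = [s, s^r]` lies in `V`. -/
theorem comm_mem_V [Finite G] : s * (r * s * r⁻¹) * s⁻¹ * (r * s * r⁻¹)⁻¹ ∈ V := by
  let H : Subgroup G := normalizer (V : Set G)
  let N : Subgroup H := V.subgroupOf H
  have hN : N.Normal := normal_in_normalizer
  let φ : H →* H ⧸ N := QuotientGroup.mk' N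
  have hφ : ∀ (g : G) (hg : g ∈ H), φ ⟨g, hg⟩ = 1 ↔ g ∈ V := by
    intro g hg
    exact QuotientGroup.eq_one_iff _
  have hWH : W ≤ H := by
    intro w hw
    refine mem_normalizer_fintype (S := (V : Set G)) ?_
    intro v hv
    rw [C.V_comm v hv w hw, mul_inv_cancel_right]
    exact hv
  have hrH : r ∈ H := mem_normalizer_fintype (S := (V : Set G)) fun v hv => C.r_V hv
  have hA0W : A0 ≤ W := C.A0_le.trans C.Ap_le
  set w := r * s * r⁻¹ with hw
  set! w2 := r * w * r⁻¹ with hw2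
  set c := s * w * s⁻¹ * w⁻¹ with hc
  let s' : H := ⟨s, hWH C.s_mem⟩
  let w' : H := ⟨w, hWH C.w_mem⟩
  let w2' : H := ⟨w2, hWH C.w2_mem⟩
  let c' : H := ⟨c, hWH (hA0W C.s_comm)⟩
  let a' : H := ⟨s * w * w2, hWH (hA0W C.s_prod)⟩
  let r' : H := ⟨r, hrH⟩
  have hcen : ∀ (g : G) (hg : g ∈ A0) (y : G) (hy : y ∈ W),
      φ ⟨g, hWH (hA0W hg)⟩ * φ ⟨y, hWH hy⟩ = φ ⟨y, hWH hy⟩ * φ ⟨g, hWH (hA0W hg)⟩ := by
    intro g hg y hy
    obtain ⟨v, hv, h⟩ := C.swap hy hg
    have h1 : (⟨y, hWH hy⟩ : H) * ⟨g, hWH (hA0W hg)⟩ =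
        ⟨g, hWH (hA0W hg)⟩ * ⟨y, hWH hy⟩ * ⟨v, hWH (hA0W (C.V_le hv))⟩ := Subtype.ext h
    rw [← map_mul _ (⟨y, hWH hy⟩ : H), h1, map_mul, map_mul, (hφ v _).2 hv, mul_one]
  have h1 : φ s' * φ w' * (φ s')⁻¹ * (φ w')⁻¹ = φ c' := by
    rw [← map_inv, ← map_inv, ← map_mul, ← map_mul, ← map_mul]
    rfl
  have h2 : φ s' * φ w' * φ w2' = φ a' := by
    rw [← map_mul, ← map_mul]
    rfl
  have h3 := comm_inv_eq h1 (hcen c C.s_comm s C.s_mem) (hcen c C.s_comm w C.w_mem) h2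
    (hcen _ C.s_prod w C.w_mem)
  have h4 : φ w' * φ w2' * (φ w')⁻¹ * (φ w2')⁻¹ = φ r' * φ c' * (φ r')⁻¹ := by
    rw [← map_inv, ← map_inv, ← map_inv, ← map_mul, ← map_mul, ← map_mul, ← map_mul, ← map_mul]
    congr 1
    apply Subtype.ext
    show w * w2 * w⁻¹ * w2⁻¹ = r * c * r⁻¹
    rw [hc, hw2, hw]
    group
  rw [h4] at h3
  have h5 : c⁻¹ * (r * c * r⁻¹) ∈ V := by
    have h6 : φ (c'⁻¹ * (r' * c' * r'⁻¹)) = 1 := by
      rw [map_mul, map_mul, map_mul, map_inv, map_inv, h3, inv_mul_cancel]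
    exact (hφ _ _).1 h6
  exact C.mem_V_of_fixed C.s_comm h5 (by group)

theorem z_ne_rz : r * z * r⁻¹ ≠ z := fun h => C.z_ne (C.r_fix z C.z_mem h)

theorem card_V [Finite G] : 4 ≤ Nat.card V := by
  have h1 : 2 * Nat.card (zpowers z) ≤ Nat.card V := by
    refine two_mul_card_le (zpowers_le.2 C.z_mem) (C.r_V C.z_mem) ?_
    intro h
    have h2 : ∀ y ∈ zpowers z, y = 1 ∨ y = z := by
      intro y hy
      rw [mem_zpowers_iff] at hy
      obtain ⟨k, rfl⟩ := hy
      have hzz : z ^ 2 = 1 := by rw [pow_two]; exact C.V_sq z C.z_mem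
      rcases Int.even_or_odd k with ⟨m, rfl⟩ | ⟨m, rfl⟩
      · left
        rw [← two_mul, zpow_mul, zpow_ofNat, hzz, one_zpow]
      · right
        rw [zpow_add, zpow_mul, zpow_ofNat, hzz, one_zpow, zpow_one, one_mul]
    rcases h2 _ h with h3 | h3
    · apply C.z_ne
      have : z = r⁻¹ * (r * z * r⁻¹) * r := by group
      rw [this, h3]
      group
    · exact C.z_ne_rz h3
  have h2 : Nat.card (zpowers z) = 2 := by
    rw [Nat.card_zpowers, orderOf_eq_prime (by rw [pow_two]; exact C.V_sq z C.z_mem) C.z_ne]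
  omega

theorem card_A0 [Finite G] : Nat.card A0 = Nat.card V * Nat.card V := by
  let f : A0 →* V :=
    { toFun := fun g => ⟨g.1 * g.1, C.A0_sq g.1 g.2⟩
      map_one' := by simp only [_root_.OneMemClass.coe_one, _root_.mul_one, _root_.Subgroup.mk_eq_one]
      map_mul' := by
        intro g h
        apply Subtype.ext
        show (g : G) * h * (g * h) = g * g * (h * h)
        calc (g : G) * h * (g * h) = g * (h * g) * h := by group
          _ = g * g * (h * h) := by rw [C.A0_comm h.1 h.2 g.1 g.2]; group }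
  have hf : Function.Surjective f := by
    rintro ⟨v, hv⟩
    obtain ⟨g, hg, hgv⟩ := C.A0_surj v hv
    exact ⟨⟨g, hg⟩, Subtype.ext hgv⟩
  have hk : Nat.card f.ker = Nat.card V := by
    have e : f.ker = V.subgroupOf A0 := by
      ext g
      rw [MonoidHom.mem_ker, mem_subgroupOf]
      constructor
      · intro h
        exact C.A0_inv g.1 g.2 (congrArg Subtype.val h)
      · intro h
        exact Subtype.ext (C.V_sq _ h)
    rw [e, Nat.card_congr (subgroupOfEquivOfLe C.V_le).toEquiv]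
  have h1 := Subgroup.card_eq_card_quotient_mul_card_subgroup f.ker
  rw [Nat.card_congr (QuotientGroup.quotientKerEquivOfSurjective f hf).toEquiv, hk] at h1
  exact h1

theorem w_x : (r * s * r⁻¹) * x * (r * s * r⁻¹)⁻¹ = x * (r * z * r⁻¹) := by
  have hrx : r * x * r⁻¹ = x := by rw [C.r_x, mul_inv_cancel_right]
  have hrx' : r⁻¹ * x * r = x := by rw [mul_assoc, ← C.r_x, inv_mul_cancel_left]
  calc (r * s * r⁻¹) * x * (r * s * r⁻¹)⁻¹ = r * (s * (r⁻¹ * x * r) * s⁻¹) * r⁻¹ := by group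
    _ = r * x * r⁻¹ * (r * z * r⁻¹) := by rw [hrx', C.s_x]; group
    _ = x * (r * z * r⁻¹) := by rw [hrx]

/-- Step 5, first half: the squares do not lie in `V` (otherwise there is a section of order `32`). -/
theorem sq_not_mem [Finite G] (hrank : ∀ X Y : Subgroup G, ElemSection 2 X Y → Nat.card X ≤ 2 ^ 4 * Nat.card Y) :
    s * s ∉ V := by
  intro hsV
  set! w := r * s * r⁻¹ with hw
  have hwW : w ∈ W := C.w_mem
  have hxW : x ∈ W := C.Ap_le C.x_mem
  have hA0W : A0 ≤ W := C.A0_le.trans C.Ap_le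
  have hwV : w * w ∈ V := by
    have : w * w = r * (s * s) * r⁻¹ := by rw [hw]; group
    rw [this]
    exact C.r_V hsV
  -- the chain
  let X1 : Subgroup G := A0 ⊔ zpowers x
  let X2 : Subgroup G := X1 ⊔ zpowers s
  let X3 : Subgroup G := X2 ⊔ zpowers w
  -- the elements of `X1` commute with `x`; of `X2` move `x` by `1` or `z`
  have hX1 : ∀ g ∈ X1, g * x * g⁻¹ = x := by
    have : X1 ≤ centralizer ({x} : Set G) := by
      refine sup_le ?_ ?_
      · intro g hg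
        rw [mem_centralizer_singleton_iff]
        exact (C.x_comm g hg).symm
      · rw [zpowers_le, mem_centralizer_singleton_iff]
    intro g hg
    have h1 := mem_centralizer_singleton_iff.1 (this hg)
    rw [h1, mul_inv_cancel_right]
  let Z1 : Subgroup G :=
    { carrier := {g | g ∈ W ∧ (g * x * g⁻¹ = x ∨ g * x * g⁻¹ = x * z)}
      one_mem' := ⟨W.one_mem, Or.inl (by group)⟩
      mul_mem' := by
        rintro a b ⟨ha, ha'⟩ ⟨hb, hb'⟩
        refine ⟨W.mul_mem ha hb, ?_⟩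
        have e : a * b * x * (a * b)⁻¹ = a * (b * x * b⁻¹) * a⁻¹ := by group
        rw [e]
        have e2 : a * (x * z) * a⁻¹ = a * x * a⁻¹ * z := by
          calc a * (x * z) * a⁻¹ = a * x * (z * a⁻¹) := by group
            _ = a * x * (a⁻¹ * z) := by rw [C.V_comm z C.z_mem a⁻¹ (W.inv_mem ha)]
            _ = a * x * a⁻¹ * z := by group
        rcases hb' with h | h <;> rcases ha' with h' | h'
        · left; rw [h, h']
        · right; rw [h, h']
        · right; rw [h, e2, h']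
        · left; rw [h, e2, h', mul_assoc, C.V_sq z C.z_mem, mul_one]
      inv_mem' := by
        rintro a ⟨ha, ha'⟩
        refine ⟨W.inv_mem ha, ?_⟩
        rcases ha' with h | h
        · left
          calc a⁻¹ * x * a⁻¹⁻¹ = a⁻¹ * (a * x * a⁻¹) * a := by rw [h]; group
            _ = x := by group
        · right
          have h2 : a⁻¹ * (x * z) * a = x := by rw [← h]; group
          have h3 : a⁻¹ * x * a * z = x := by
            calc a⁻¹ * x * a * z = a⁻¹ * x * (a * z) := by group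
              _ = a⁻¹ * x * (z * a) := by rw [C.V_comm z C.z_mem a ha]
              _ = a⁻¹ * (x * z) * a := by group
              _ = x := h2
          calc a⁻¹ * x * a⁻¹⁻¹ = a⁻¹ * x * a * z * z⁻¹ := by group
            _ = x * z := by rw [h3, C.V_inv C.z_mem] }
  have hX2 : X2 ≤ Z1 := by
    refine sup_le (fun g hg => ⟨?_, Or.inl (hX1 g hg)⟩) ?_
    · have : X1 ≤ W := sup_le hA0W (zpowers_le.2 hxW)
      exact this hg
    · rw [zpowers_le]
      exact ⟨C.s_mem, Or.inr C.s_x⟩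
  have c1 : 2 * Nat.card A0 ≤ Nat.card X1 :=
    two_mul_card_le le_sup_left (mem_sup_right (mem_zpowers x)) C.x_not
  have c2 : 2 * Nat.card X1 ≤ Nat.card X2 := by
    refine two_mul_card_le le_sup_left (mem_sup_right (mem_zpowers s)) ?_
    intro h
    have h1 := hX1 s h
    rw [C.s_x] at h1
    exact C.z_ne (mul_left_cancel (h1.trans (mul_one x).symm))
  have c3 : 2 * Nat.card X2 ≤ Nat.card X3 := by
    refine two_mul_card_le le_sup_left (mem_sup_right (mem_zpowers w)) ?_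
    intro h
    have hwx := C.w_x
    rcases (hX2 h).2 with h1 | h1
    · rw [← hw, h1] at hwx
      have h2 : r * z * r⁻¹ = 1 := mul_left_cancel (hwx.symm.trans (mul_one x).symm)
      apply C.z_ne
      have : z = r⁻¹ * (r * z * r⁻¹) * r := by group
      rw [this, h2]
      group
    · rw [← hw, h1] at hwx
      exact C.z_ne_rz (mul_left_cancel hwx).symm
  -- the section
  have e3 : X3 = _root_.Subgroup.closure ((A0 : Set G) ∪ {x, s, w}) := by
    apply le_antisymm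
    · refine sup_le (sup_le (sup_le ?_ ?_) ?_) ?_
      · intro g hg
        exact _root_.Subgroup.subset_closure (Or.inl hg)
      · rw [zpowers_le]; exact _root_.Subgroup.subset_closure (Or.inr (by simp))
      · rw [zpowers_le]; exact _root_.Subgroup.subset_closure (Or.inr (by simp))
      · rw [zpowers_le]; exact _root_.Subgroup.subset_closure (Or.inr (by simp))
    · rw [closure_le]
      rintro g (hg | hg)
      · exact mem_sup_left (mem_sup_left (mem_sup_left hg))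
      · rcases hg with rfl | rfl | rfl
        · exact mem_sup_left (mem_sup_left (mem_sup_right (mem_zpowers _)))
        · exact mem_sup_left (mem_sup_right (mem_zpowers _))
        · exact mem_sup_right (mem_zpowers _)
  have symm : ∀ a b : G, a * b * a⁻¹ * b⁻¹ ∈ V → b * a * b⁻¹ * a⁻¹ ∈ V := by
    intro a b k1
    have : b * a * b⁻¹ * a⁻¹ = (a * b * a⁻¹ * b⁻¹)⁻¹ := by group
    rw [this]
    exact V.inv_mem k1
  have hA0W' : ∀ g ∈ A0, ∀ y ∈ W, y * g * y⁻¹ * g⁻¹ ∈ V := by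
    intro g hg y hy
    obtain ⟨v, hv, h⟩ := C.conj_A0 hy hg
    rw [h, C.A0_comm g hg v (C.V_le hv), mul_inv_cancel_right]
    exact hv
  have hxy : ∀ y ∈ W, y * x * y⁻¹ * x⁻¹ ∈ V := by
    intro y hy
    obtain ⟨v, hv, h⟩ := C.W_x y hy
    rw [h, C.x_comm v (C.V_le hv), mul_inv_cancel_right]
    exact hv
  have hsw : s * w * s⁻¹ * w⁻¹ ∈ V := C.comm_mem_V
  have self4 : ∀ y : G, y * y * y⁻¹ * y⁻¹ = 1 := fun y => by group
  have sec : ElemSection 2 X3 V := by
    rw [e3]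
    refine elemSection_closure (W := W) C.V_comm _ ?_ ?_ ?_ ?_
    · rintro g (hg | hg)
      · exact hA0W hg
      · rcases hg with rfl | rfl | rfl
        · exact hxW
        · exact C.s_mem
        · exact hwW
    · intro v hv
      exact _root_.Subgroup.subset_closure (Or.inl (C.V_le hv))
    · have hSW : ∀ g ∈ (A0 : Set G) ∪ {x, s, w}, g ∈ W := by
        rintro g (hg | hg)
        · exact hA0W hg
        · rcases hg with rfl | rfl | rfl
          · exact hxW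
          · exact C.s_mem
          · exact hwW
      intro a ha b hb
      rcases ha with ha' | ha'
      · exact symm _ _ (hA0W' a ha' b (hSW b hb))
      rcases hb with hb' | hb'
      · exact hA0W' b hb' a (hSW a (Or.inr ha'))
      rcases ha' with rfl | rfl | rfl
      · exact symm _ _ (hxy b (hSW b (Or.inr hb')))
      · rcases hb' with rfl | rfl | rfl
        · exact hxy _ C.s_mem
        · rw [self4]; exact V.one_mem
        · exact hsw
      · rcases hb' with rfl | rfl | rfl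
        · exact hxy _ hwW
        · exact symm _ _ hsw
        · rw [self4]; exact V.one_mem
    · rintro g (hg | hg)
      · exact C.A0_sq g hg
      · rcases hg with rfl | rfl | rfl
        · rw [C.x_sq]; exact V.one_mem
        · exact hsV
        · exact hwV
  have h1 := hrank X3 V sec
  have h2 := C.card_V
  have h3 := C.card_A0
  have h4 : 4 * Nat.card V ≤ Nat.card V * Nat.card V := Nat.mul_le_mul_right _ h2
  omega

theorem V_eq' {y : G} (hy : y ∈ V) (hy1 : y ≠ 1) {v : G} (hv : v ∈ V) :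
    v = 1 ∨ v = y ∨ v = r * y * r⁻¹ ∨ v = r * (r * y * r⁻¹) * r⁻¹ := by
  have h3 : ∀ u ∈ V, r * (r * (r * u * r⁻¹) * r⁻¹) * r⁻¹ = u := by
    intro u hu
    have h1 := C.r_prod' hu
    have h2 := C.r_prod' (C.r_V hu)
    have h4 := eq_inv_of_mul_eq_one_right h2
    have h5 := eq_inv_of_mul_eq_one_left ((mul_assoc _ _ _).symm.trans h1)
    rw [h4, ← h5]
  have hz := C.z_mem
  rcases C.V_eq y hy with rfl | rfl | rfl | rfl
  · exact absurd rfl hy1
  · exact C.V_eq v hv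
  · rw [h3 z hz]
    rcases C.V_eq v hv with h | h | h | h
    · exact Or.inl h
    · exact Or.inr (Or.inr (Or.inr h))
    · exact Or.inr (Or.inl h)
    · exact Or.inr (Or.inr (Or.inl h))
  · rw [h3 z hz]
    rcases C.V_eq v hv with h | h | h | h
    · exact Or.inl h
    · exact Or.inr (Or.inr (Or.inl h))
    · exact Or.inr (Or.inr (Or.inr h))
    · exact Or.inr (Or.inl h)

/-- The commutator map. -/
def K (y g : G) : G := g⁻¹ * (y * g * y⁻¹)

theorem K_mem {y g : G} (hy : y ∈ W) (hg : g ∈ A0) : K y g ∈ V := by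
  obtain ⟨v, hv, h⟩ := C.conj_A0 hy hg
  unfold K
  rw [h, inv_mul_cancel_left]
  exact hv

omit C in
theorem K_eq {y g : G} : y * g * y⁻¹ = g * K y g := by
  unfold K
  rw [mul_inv_cancel_left]

theorem K_mul_left {y y' g : G} (hy : y ∈ W) (hy' : y' ∈ W) (hg : g ∈ A0) :
    K (y * y') g = K y g * K y' g := by
  have h1 : y * y' * g * (y * y')⁻¹ = g * (K y g * K y' g) := by
    calc y * y' * g * (y * y')⁻¹ = y * (y' * g * y'⁻¹) * y⁻¹ := by group
      _ = y * g * (K y' g * y⁻¹) := by rw [K_eq (y := y') (g := g)]; group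
      _ = y * g * (y⁻¹ * K y' g) := by rw [C.V_comm _ (C.K_mem hy' hg) y⁻¹ (W.inv_mem hy)]
      _ = y * g * y⁻¹ * K y' g := by group
      _ = _ := by rw [K_eq (y := y) (g := g)]; group
  unfold K at h1 ⊢
  rw [h1]
  group

theorem K_mul_right {y g h : G} (hy : y ∈ W) (hg : g ∈ A0) (hh : h ∈ A0) :
    K y (g * h) = K y g * K y h := by
  have h1 : y * (g * h) * y⁻¹ = g * h * (K y g * K y h) := by
    calc y * (g * h) * y⁻¹ = (y * g * y⁻¹) * (y * h * y⁻¹) := by group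
      _ = g * (K y g * h) * K y h := by rw [K_eq, K_eq]; group
      _ = _ := by rw [C.A0_comm _ (C.V_le (C.K_mem hy hg)) h hh]; group
  unfold K at h1 ⊢
  rw [h1]
  group

theorem K_V {y v : G} (hy : y ∈ W) (hv : v ∈ V) : K y v = 1 := by
  unfold K
  rw [C.V_comm v hv y hy, mul_inv_cancel_right, inv_mul_cancel]

theorem K_inv_right {y g : G} (hy : y ∈ W) (hg : g ∈ A0) : K y g⁻¹ = K y g := by
  have h1 := C.K_mul_right hy hg (A0.inv_mem hg)
  rw [mul_inv_cancel, C.K_V hy V.one_mem] at h1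
  rw [← C.V_inv (C.K_mem hy hg)]
  exact eq_inv_of_mul_eq_one_right h1.symm

omit C in
theorem K_comm {y g : G} : K y g = 1 ↔ y * g = g * y := by
  unfold K
  rw [inv_mul_eq_one, eq_comm, mul_inv_eq_iff_eq_mul]

omit C in
theorem K_conj {y g : G} : r * K y g * r⁻¹ = K (r * y * r⁻¹) (r * g * r⁻¹) := by
  unfold K
  group

/-- `s` commutes with the square of `s^r`. -/
theorem K_p [Finite G] : K s (r * s * r⁻¹ * (r * s * r⁻¹)) = 1 := by
  set w := r * s * r⁻¹ with hw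
  set! w2 := r * w * r⁻¹ with hw2
  have hsW := C.s_mem
  have hwW : w ∈ W := C.w_mem
  have hw2W : w2 ∈ W := C.w2_mem
  have hq : s * s ∈ A0 := C.s_sq
  have hp : w * w ∈ A0 := by
    have : w * w = r * (s * s) * r⁻¹ := by rw [hw]; group
    rw [this]
    exact C.r_A0 _ hq
  set! c := s * w * s⁻¹ * w⁻¹ with hc
  have hcV : c ∈ V := C.comm_mem_V
  have hsw : s * w * (s * w) = c * (s * s) * (w * w) := by
    have h1 : w * s = c * (s * w) := by
      have h2 : s * w = c * (w * s) := by rw [hc]; group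
      rw [h2, ← mul_assoc, C.V_sq c hcV, one_mul]
    calc s * w * (s * w) = s * (w * s) * w := by group
      _ = s * c * (s * w) * w := by rw [h1]; group
      _ = c * s * (s * w) * w := by rw [C.V_comm c hcV s hsW]
      _ = _ := by group
  have hA : s * w * (s * w) ∈ A0 := by
    rw [hsw]
    exact A0.mul_mem (A0.mul_mem (C.V_le hcV) hq) hp
  have hswW : s * w ∈ W := W.mul_mem hsW hwW
  have e1 : K s (s * s) = 1 := K_comm.2 (by group)
  have e2 : K w (w * w) = 1 := K_comm.2 (by group)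
  have e3 : K (s * w) (s * w * (s * w)) = 1 := K_comm.2 (by group)
  have e4 : K w (s * s) * K s (w * w) = 1 := by
    rw [hsw, C.K_mul_right hswW (A0.mul_mem (C.V_le hcV) hq) hp, C.K_mul_right hswW (C.V_le hcV) hq,
      C.K_V hswW hcV, one_mul, C.K_mul_left hsW hwW hq, C.K_mul_left hsW hwW hp, e1, e2, one_mul,
      mul_one] at e3
    exact e3
  have e5 : K w (s * s) = K s (w * w) := by
    have h1 := eq_inv_of_mul_eq_one_left e4
    rwa [C.V_inv (C.K_mem hsW hp)] at h1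
  -- apply `r`
  have ha : s * w * w2 ∈ A0 := C.s_prod
  set a := s * w * w2 with hadef
  have hw2' : w2 = (s * w)⁻¹ * a := by rw [hadef]; group
  have haa : a * a ∈ V := C.A0_sq a ha
  have hswi : (s * w)⁻¹ ∈ W := W.inv_mem hswW
  have e6 : w2 * w2 = (s * w * (s * w))⁻¹ * (K (s * w) a * (a * a)) := by
    have h1 : a * (s * w)⁻¹ = (s * w)⁻¹ * (a * K (s * w) a) := by
      rw [← K_eq]; group
    calc w2 * w2 = (s * w)⁻¹ * (a * (s * w)⁻¹) * a := by rw [hw2']; group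
      _ = (s * w)⁻¹ * (s * w)⁻¹ * (a * (K (s * w) a * a)) := by rw [h1]; group
      _ = (s * w)⁻¹ * (s * w)⁻¹ * (a * (a * K (s * w) a)) := by
        rw [C.A0_comm _ (C.V_le (C.K_mem hswW ha)) a ha]
      _ = (s * w)⁻¹ * (s * w)⁻¹ * (a * a * K (s * w) a) := by group
      _ = (s * w)⁻¹ * (s * w)⁻¹ * (K (s * w) a * (a * a)) := by
        rw [C.A0_comm _ (C.V_le (C.K_mem hswW ha)) _ (A0.mul_mem ha ha)]
      _ = _ := by group
  have e7 : K w (w2 * w2) = K w (s * s) := by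
    have hKa : K (s * w) a * (a * a) ∈ V := V.mul_mem (C.K_mem hswW ha) haa
    rw [e6, C.K_mul_right hwW (A0.inv_mem hA) (C.V_le hKa), C.K_V hwW hKa, mul_one,
      C.K_inv_right hwW hA, hsw, C.K_mul_right hwW (A0.mul_mem (C.V_le hcV) hq) hp,
      C.K_mul_right hwW (C.V_le hcV) hq, C.K_V hwW hcV, one_mul, e2, mul_one]
  have e8 : r * K s (w * w) * r⁻¹ = K s (w * w) := by
    rw [K_conj]
    have : r * (w * w) * r⁻¹ = w2 * w2 := by rw [hw2]; group
    rw [this, ← hw, e7, e5]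
  exact C.r_fix _ (C.K_mem hsW hp) e8

/-- Step 5: `s` centralises `A0`. -/
theorem s_A0 [Finite G] (hs : s * s ∉ V) {g : G} (hg : g ∈ A0) : s * g = g * s := by
  rw [← K_comm]
  set! w := r * s * r⁻¹ with hw
  have hsW := C.s_mem
  have hq : s * s ∈ A0 := C.s_sq
  have hp : w * w ∈ A0 := by
    have : w * w = r * (s * s) * r⁻¹ := by rw [hw]; group
    rw [this]
    exact C.r_A0 _ hq
  have e1 : K s (s * s) = 1 := K_comm.2 (by group)
  have e2 : K s (w * w) = 1 := C.K_p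
  have hy : s * s * (s * s) ∈ V := C.A0_sq _ hq
  have hy1 : s * s * (s * s) ≠ 1 := fun h => hs (C.A0_inv _ hq h)
  have key : ∀ g0 ∈ A0, K s g0 = 1 → g * g = g0 * g0 → K s g = 1 := by
    intro g0 hg0 h1 h2
    have h3 : g0⁻¹ * g ∈ V := by
      refine C.A0_inv _ (A0.mul_mem (A0.inv_mem hg0) hg) ?_
      calc g0⁻¹ * g * (g0⁻¹ * g) = g0⁻¹ * (g * g0⁻¹) * g := by group
        _ = g0⁻¹ * g0⁻¹ * (g * g) := by rw [C.A0_comm g hg _ (A0.inv_mem hg0)]; group
        _ = 1 := by rw [h2]; group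
    have h4 : g = g0 * (g0⁻¹ * g) := by group
    rw [h4, C.K_mul_right hsW hg0 (C.V_le h3), h1, C.K_V hsW h3, mul_one]
  have hr1 : r * (s * s * (s * s)) * r⁻¹ = w * w * (w * w) := by rw [hw]; group
  have hr2 : r * (r * (s * s * (s * s)) * r⁻¹) * r⁻¹ = s * s * (w * w) * (s * s * (w * w)) := by
    rw [← C.r_prodV hy, hr1]
    calc s * s * (s * s) * (w * w * (w * w)) = s * s * ((s * s) * (w * w)) * (w * w) := by group
      _ = s * s * ((w * w) * (s * s)) * (w * w) := by rw [C.A0_comm _ hq _ hp]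
      _ = _ := by group
  rcases C.V_eq' hy hy1 (C.A0_sq g hg) with h | h | h | h
  · refine key 1 A0.one_mem (C.K_V hsW V.one_mem) (by rw [h]; group)
  · exact key _ hq e1 h
  · rw [hr1] at h
    exact key _ hp e2 h
  · rw [hr2] at h
    refine key _ (A0.mul_mem hq hp) ?_ h
    rw [C.K_mul_right hsW hq hp, e1, e2, mul_one]

/-- Step 5: `s^r` centralises `A0`. -/
theorem w_A0 [Finite G] (hs : s * s ∉ V) {g : G} (hg : g ∈ A0) :
    r * s * r⁻¹ * g = g * (r * s * r⁻¹) := by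
  have h1 : r⁻¹ * g * r ∈ A0 := by
    have := (mem_normalizer_iff'' (g := r)).1 C.r_norm g
    exact this.1 hg
  have h2 := C.s_A0 hs h1
  calc r * s * r⁻¹ * g = r * (s * (r⁻¹ * g * r)) * r⁻¹ := by group
    _ = _ := by rw [h2]; group

/-- Step 5: `s` and `s^r` commute. -/
theorem s_w [Finite G] (hs : s * s ∉ V) : s * (r * s * r⁻¹) = r * s * r⁻¹ * s := by
  set w := r * s * r⁻¹ with hw
  set! w2 := r * w * r⁻¹ with hw2
  have hcV : s * w * s⁻¹ * w⁻¹ ∈ V := C.comm_mem_V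
  have h1 := comm_inv_eq (s := s) (w := w) (w2 := w2) rfl (C.V_comm _ hcV s C.s_mem).symm
    (C.V_comm _ hcV w C.w_mem).symm rfl (C.w_A0 hs C.s_prod).symm
  have h2 : r * (s * w * s⁻¹ * w⁻¹) * r⁻¹ = w * w2 * w⁻¹ * w2⁻¹ := by
    rw [hw2, hw]; group
  rw [h1] at h2
  have h3 := C.r_fix _ hcV h2
  rw [mul_inv_eq_one, mul_inv_eq_iff_eq_mul] at h3
  exact h3

/-- Step 6: `τ²` centralises `s`. -/
theorem τ_sq_s [Finite G] (hs : s * s ∉ V) : τ * τ * s = s * (τ * τ) := by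
  obtain ⟨b, hb, hbτ⟩ := C.W_τ C.s_mem
  have hbs := C.s_A0 hs hb
  have h1 : τ * s * τ⁻¹ = b⁻¹ * s := by
    have h2 : s * τ = b * τ * s := by rw [← hbτ]; group
    calc τ * s * τ⁻¹ = b⁻¹ * (b * τ * s) * τ⁻¹ := by group
      _ = b⁻¹ * (s * τ) * τ⁻¹ := by rw [h2]
      _ = _ := by group
  have h3 : τ * τ * s * (τ * τ)⁻¹ = (τ * b⁻¹ * τ⁻¹) * (b⁻¹ * s) := by
    calc τ * τ * s * (τ * τ)⁻¹ = τ * (τ * s * τ⁻¹) * τ⁻¹ := by group
      _ = τ * (b⁻¹ * s) * τ⁻¹ := by rw [h1]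
      _ = (τ * b⁻¹ * τ⁻¹) * (τ * s * τ⁻¹) := by group
      _ = _ := by rw [h1]
  have h4 : τ * τ * s * (τ * τ)⁻¹ = s := by
    rw [h3]
    rcases C.τ_A0 with h | h
    · rw [h _ (A0.inv_mem hb)]
      have h5 := h _ C.s_sq
      have h6 : τ * (s * s) * τ⁻¹ = b⁻¹ * b⁻¹ * (s * s) := by
        calc τ * (s * s) * τ⁻¹ = (τ * s * τ⁻¹) * (τ * s * τ⁻¹) := by group
          _ = b⁻¹ * (s * b⁻¹) * s := by rw [h1]; group
          _ = _ := by rw [(show Commute s b from hbs).inv_right.eq]; group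
      rw [h6] at h5
      have h7 := mul_eq_right.1 h5
      rw [← mul_assoc, h7, one_mul]
    · rw [h _ (A0.inv_mem hb), inv_inv, mul_inv_cancel_left]
  rw [mul_inv_eq_iff_eq_mul] at h4
  exact h4

theorem false_of_pow [Finite G] (hs : s * s ∉ V) (hx : ∃ m : ℕ, x = (τ * τ) ^ m) : False := by
  obtain ⟨m, hm⟩ := hx
  have h1 : Commute (τ * τ) s := C.τ_sq_s hs
  have h2 : x * s = s * x := by rw [hm]; exact (h1.pow_left m)
  have h3 := C.s_x
  rw [← h2, mul_inv_cancel_right] at h3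
  exact C.z_ne (mul_left_cancel ((mul_one x).trans h3)).symm

end SCfg

end Cfsg.Agent.GH.WAct
end

-- part: GH/WFin
section
/-!
# Project GH, branch GH-L3 (W): the final transfer

`τ = x`: then `R1 = U⟨x, t⟩` is a Sylow 2-subgroup of `G` and no conjugate of `x` lies in the maximal
subgroup `U⟨t⟩`.
-/

set_option autoImplicit false

namespace Cfsg.Agent.GH.WAct

open Subgroup Cfsg.Agent.TwoFusion.SectionalRank

variable {G : Type*} [Group G]

theorem exists_mem_normalizer [Finite G] {T P : Subgroup G} (hP : IsPGroup 2 P) (hle : T ≤ P)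
    (hne : T ≠ P) : ∃ y ∈ P, y ∉ T ∧ ∀ g ∈ T, y * g * y⁻¹ ∈ T := by
  have : Fact (Nat.Prime 2) := ⟨Nat.prime_two⟩
  have hnil : Group.IsNilpotent P := hP.isNilpotent
  have hlt : T.subgroupOf P < ⊤ := by
    rw [lt_top_iff_ne_top]
    intro h
    exact hne (le_antisymm hle (Subgroup.subgroupOf_eq_top.1 h))
  have h1 := Group.normalizerCondition_of_isNilpotent (T.subgroupOf P) hlt
  obtain ⟨y, hy, hyT⟩ := Set.exists_of_ssubset h1
  refine ⟨y, y.2, fun h => hyT h, fun g hg => ?_⟩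
  exact (Subgroup.mem_normalizer_iff.1 hy ⟨g, hle hg⟩).1 hg

/-- The final configuration. -/
structure FCfg (V A0 Ap W R1 T : Subgroup G) (x r z s t : G) : Prop extends
    SCfg V A0 Ap W x x r z s where
  s_nV : s * s ∉ V
  t_sq : t * t = 1
  t_x : t * x = x * t
  t_A0 : ∀ g ∈ A0, t * g * t⁻¹ ∈ A0
  t_W : ∀ w ∈ W, t * w * t⁻¹ ∈ W
  t_z : t * z * t⁻¹ = z
  t_rz : t * (r * z * r⁻¹) * t⁻¹ = r * (r * z * r⁻¹) * r⁻¹
  W_le : W ≤ R1
  t_mem : t ∈ R1
  R1_mem : ∀ g ∈ R1, g ∈ W ∨ g * t ∈ W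
  R1_p : IsPGroup 2 R1
  T_le : T ≤ R1
  T_x : ∀ g ∈ T, g * x = x * g
  T_syl : ∀ P : Subgroup G, IsPGroup 2 P → (∀ g ∈ P, g * x = x * g) → T ≤ P → P ≤ T
  zx : ∀ g : G, g * x * g⁻¹ ≠ z
  star : ∀ α ∈ A0, α * t * (α * t) = 1 → ∃ k : G, k * (α * t) * k⁻¹ = z
  starV : ∀ v ∈ V, v ≠ 1 → ∃ k : G, k * v * k⁻¹ = z

namespace FCfg

variable {V A0 Ap W R1 T : Subgroup G} {x r z s t : G} (C : FCfg V A0 Ap W R1 T x r z s t)

include C

theorem A0_W : A0 ≤ W := C.A0_le.trans C.Ap_le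

theorem x_W : x ∈ W := C.Ap_le C.x_mem

/-- no conjugate of `x` is conjugate to `z`. -/
theorem not_conj {y g k : G} (h : g * x * g⁻¹ = y) (hk : k * y * k⁻¹ = z) : False := by
  apply C.zx (k * g)
  rw [← hk, ← h]
  group

theorem z1_ne_one : r * z * r⁻¹ ≠ 1 := by
  intro h
  apply C.z_ne
  have : z = r⁻¹ * (r * z * r⁻¹) * r := by group
  rw [this, h]
  group

/-- `z₁ ≠ z₂` -/
theorem z1_ne_z2 : r * z * r⁻¹ ≠ r * (r * z * r⁻¹) * r⁻¹ := fun h =>
  C.z1_ne_one (C.r_fix _ (C.r_V C.z_mem) h.symm)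

/-- elements of `Ap`. -/
theorem mem_Ap {g : G} (hg : g ∈ Ap) : g ∈ A0 ∨ ∃ a ∈ A0, g = a * x := by
  obtain ⟨a, ha, i, rfl⟩ := C.Ap_mem g hg
  have hxx : x ^ 2 = 1 := by rw [pow_two]; exact C.x_sq
  rcases Nat.even_or_odd i with ⟨m, rfl⟩ | ⟨m, rfl⟩
  · left
    rw [← two_mul, pow_mul, hxx, one_pow, mul_one]
    exact ha
  · right
    refine ⟨a, ha, ?_⟩
    rw [pow_add, pow_mul, hxx, one_pow, one_mul, pow_one]

section U

/-- The homocyclic group `U`. -/
def U (A0 : Subgroup G) (r s : G) : Subgroup G := _root_.Subgroup.closure ((A0 : Set G) ∪ {s, r * s * r⁻¹})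

omit C in
theorem A0_le_U : A0 ≤ U A0 r s := fun _ hg => _root_.Subgroup.subset_closure (Or.inl hg)

omit C in
theorem s_mem_U : s ∈ U A0 r s := _root_.Subgroup.subset_closure (Or.inr (by simp))

omit C in
theorem w_mem_U : r * s * r⁻¹ ∈ U A0 r s := _root_.Subgroup.subset_closure (Or.inr (by simp))

theorem U_le_W : U A0 r s ≤ W := by
  unfold U
  rw [closure_le]
  rintro g (hg | hg)
  · exact C.A0_W hg
  · rcases hg with rfl | rfl
    · exact C.s_mem
    · exact C.w_mem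

theorem U_comm [Finite G] : ∀ g ∈ U A0 r s, ∀ h ∈ U A0 r s, g * h = h * g := by
  have hgen : ∀ g ∈ (A0 : Set G) ∪ {s, r * s * r⁻¹}, ∀ h ∈ (A0 : Set G) ∪ {s, r * s * r⁻¹},
      g * h = h * g := by
    have hs := fun (g : G) (hg : g ∈ A0) => C.s_A0 C.s_nV hg
    have hw := fun (g : G) (hg : g ∈ A0) => C.w_A0 C.s_nV hg
    have hsw := C.s_w C.s_nV
    rintro g (hg | hg) h (hh | hh)
    · exact C.A0_comm g hg h hh
    · rcases hh with rfl | rfl
      · exact (hs g hg).symm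
      · exact (hw g hg).symm
    · rcases hg with rfl | rfl
      · exact hs h hh
      · exact hw h hh
    · rcases hg with rfl | rfl <;> rcases hh with rfl | rfl
      · rfl
      · exact hsw
      · exact hsw.symm
      · rfl
  intro g hg h hh
  induction hg, hh using closure_induction₂ with
  | mem g h hg hh => exact hgen g hg h hh
  | one_left => simp
  | one_right => simp
  | mul_left a b c _ _ _ h1 h2 =>
    exact (Commute.mul_left (show Commute a c from h1) (show Commute b c from h2))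
  | mul_right a b c _ _ _ h1 h2 =>
    exact (Commute.mul_right (show Commute c a from h1) (show Commute c b from h2))
  | inv_left a b _ _ h1 => exact (show Commute a b from h1).inv_left
  | inv_right a b _ _ h1 => exact (show Commute a b from h1).inv_right

theorem x_notin_U [Finite G] : x ∉ U A0 r s := by
  intro h
  have h1 := C.U_comm x h s s_mem_U
  have h2 := C.s_x
  rw [← h1, mul_inv_cancel_right] at h2
  exact C.z_ne (mul_left_cancel ((mul_one x).trans h2)).symm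

/-- elements of `U` commuting with `x` are in `A0`. -/
theorem U_cent [Finite G] {u : G} (hu : u ∈ U A0 r s) (h : u * x = x * u) : u ∈ A0 := by
  have h1 := C.W_cent u (C.U_le_W hu) h
  rcases C.mem_Ap h1 with h2 | ⟨a, ha, h2⟩
  · exact h2
  · exfalso
    apply C.x_notin_U
    have : x = a⁻¹ * u := by rw [h2]; group
    rw [this]
    exact mul_mem (inv_mem (A0_le_U ha)) hu

theorem sw_x : s * (r * s * r⁻¹) * x * (s * (r * s * r⁻¹))⁻¹ = x * (r * (r * z * r⁻¹) * r⁻¹) := by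
  have hrzV := C.r_V C.z_mem
  calc s * (r * s * r⁻¹) * x * (s * (r * s * r⁻¹))⁻¹
      = s * ((r * s * r⁻¹) * x * (r * s * r⁻¹)⁻¹) * s⁻¹ := by group
    _ = s * (x * (r * z * r⁻¹)) * s⁻¹ := by rw [C.w_x]
    _ = s * x * ((r * z * r⁻¹) * s⁻¹) := by group
    _ = s * x * (s⁻¹ * (r * z * r⁻¹)) := by rw [C.V_comm _ hrzV s⁻¹ (W.inv_mem C.s_mem)]
    _ = s * x * s⁻¹ * (r * z * r⁻¹) := by group
    _ = x * (z * (r * z * r⁻¹)) := by rw [C.s_x]; group
    _ = _ := by rw [C.r_prodV C.z_mem]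

/-- representatives: an element of `U` moving `x` in a given way. -/
theorem exists_rep {v : G} (hv : v ∈ V) : ∃ u ∈ U A0 r s, u * x * u⁻¹ = x * v ∧
    (v ≠ 1 → u * u ∉ V) := by
  rcases C.V_eq v hv with rfl | rfl | rfl | rfl
  · exact ⟨1, one_mem _, by group, fun h => absurd rfl h⟩
  · exact ⟨s, s_mem_U, C.s_x, fun _ => C.s_nV⟩
  · refine ⟨_, w_mem_U, C.w_x, fun _ h => C.s_nV ?_⟩
    refine C.A0_inv _ C.s_sq ?_
    have h1 := C.V_sq _ h
    have h2 : r * (s * s * (s * s)) * r⁻¹ = 1 := by rw [← h1]; group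
    have : s * s * (s * s) = r⁻¹ * (r * (s * s * (s * s)) * r⁻¹) * r := by group
    rw [this, h2]
    group
  · refine ⟨_, mul_mem s_mem_U w_mem_U, C.sw_x, fun _ h => C.s_nV ?_⟩
    -- `w2² = (sw)⁻² a² …`
    set w := r * s * r⁻¹ with hw
    set! w2 := r * w * r⁻¹ with hw2
    have ha : s * w * w2 ∈ A0 := C.s_prod
    set a := s * w * w2 with hadef
    have hswW : s * w ∈ W := W.mul_mem C.s_mem C.w_mem
    have hsw2 : s * w * (s * w) ∈ V := h
    have haa : a * a ∈ V := C.A0_sq a ha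
    have hkV := C.K_mem hswW ha
    have e6 : w2 * w2 = (s * w * (s * w))⁻¹ * (SCfg.K (s * w) a * (a * a)) := by
      have h1 : a * (s * w)⁻¹ = (s * w)⁻¹ * (a * SCfg.K (s * w) a) := by
        rw [← SCfg.K_eq]; group
      calc w2 * w2 = (s * w)⁻¹ * (a * (s * w)⁻¹) * a := by rw [hadef]; group
        _ = (s * w)⁻¹ * (s * w)⁻¹ * (a * (SCfg.K (s * w) a * a)) := by rw [h1]; group
        _ = (s * w)⁻¹ * (s * w)⁻¹ * (a * (a * SCfg.K (s * w) a)) := by
          rw [C.A0_comm _ (C.V_le hkV) a ha]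
        _ = (s * w)⁻¹ * (s * w)⁻¹ * (a * a * SCfg.K (s * w) a) := by group
        _ = (s * w)⁻¹ * (s * w)⁻¹ * (SCfg.K (s * w) a * (a * a)) := by
          rw [C.A0_comm _ (C.V_le hkV) _ (A0.mul_mem ha ha)]
        _ = _ := by group
    have hw2V : w2 * w2 ∈ V := by
      rw [e6]
      exact V.mul_mem (V.inv_mem hsw2) (V.mul_mem hkV haa)
    refine C.A0_inv _ C.s_sq ?_
    have h1 := C.V_sq _ hw2V
    have h2 : r * (r * (s * s * (s * s)) * r⁻¹) * r⁻¹ = 1 := by
      rw [← h1, hw2, hw]; group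
    have : s * s * (s * s) = r⁻¹ * (r⁻¹ * (r * (r * (s * s * (s * s)) * r⁻¹) * r⁻¹) * r) * r := by group
    rw [this, h2]
    group

/-- `u² ∈ V` forces `u ∈ A0`. -/
theorem U_sq [Finite G] {u : G} (hu : u ∈ U A0 r s) (h : u * u ∈ V) : u ∈ A0 := by
  obtain ⟨v, hv, hux⟩ := C.W_x u (C.U_le_W hu)
  by_cases hv1 : v = 1
  · refine C.U_cent hu ?_
    rw [hv1, mul_one, mul_inv_eq_iff_eq_mul] at hux
    exact hux
  · exfalso
    obtain ⟨u0, hu0, hu0x, hu0V⟩ := C.exists_rep hv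
    apply hu0V hv1
    have h1 : u0⁻¹ * u ∈ A0 := by
      refine C.U_cent (mul_mem (inv_mem hu0) hu) ?_
      have h2 : u0⁻¹ * u * x * (u0⁻¹ * u)⁻¹ = x := by
        calc u0⁻¹ * u * x * (u0⁻¹ * u)⁻¹ = u0⁻¹ * (u * x * u⁻¹) * u0 := by group
          _ = u0⁻¹ * (u0 * x * u0⁻¹) * u0 := by rw [hux, hu0x]
          _ = x := by group
      rw [mul_inv_eq_iff_eq_mul] at h2
      exact h2
    have h2 := C.A0_sq _ h1
    have h3 : u0⁻¹ * u * (u0⁻¹ * u) = (u0 * u0)⁻¹ * (u * u) := by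
      have := C.U_comm u hu _ (inv_mem hu0)
      calc u0⁻¹ * u * (u0⁻¹ * u) = u0⁻¹ * (u * u0⁻¹) * u := by group
        _ = _ := by rw [this]; group
    rw [h3] at h2
    have h4 : u0 * u0 = u * u * ((u0 * u0)⁻¹ * (u * u))⁻¹ := by
      rw [mul_inv_rev, inv_inv, mul_inv_cancel_left]
    rw [h4]
    exact V.mul_mem h (V.inv_mem h2)

theorem U_inv [Finite G] {u : G} (hu : u ∈ U A0 r s) (h : u * u = 1) : u ∈ V :=
  C.A0_inv u (C.U_sq hu (by rw [h]; exact V.one_mem)) h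

/-- `x` normalises `U`. -/
theorem x_U {u : G} (hu : u ∈ U A0 r s) : ∃ v ∈ V, x * u * x⁻¹ = u * v := by
  obtain ⟨v, hv, h⟩ := C.W_x u (C.U_le_W hu)
  refine ⟨v, hv, ?_⟩
  have h1 : u * x = x * v * u := by rw [← h]; group
  have h2 : x * u = u * (x * v) := by
    have h3 : x * (v * u) = u * x := by rw [h1]; group
    calc x * u = x * (v * u) * v * (v⁻¹ * (u⁻¹ * (v⁻¹ * u))) := by group
      _ = x * (v * u) * v * (v⁻¹ * (u⁻¹ * (u * v⁻¹))) := by
        rw [C.V_comm _ (V.inv_mem hv) u (C.U_le_W hu)]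
      _ = u * x * (v * (v⁻¹ * v⁻¹)) := by rw [h3]; group
      _ = u * x * v := by rw [C.V_inv hv, C.V_sq v hv, mul_one]
      _ = _ := by group
  rw [h2, C.x_comm v (C.V_le hv)]
  group

/-- `W = U ∪ Ux`. -/
theorem W_eq [Finite G] {g : G} (hg : g ∈ W) : g ∈ U A0 r s ∨ g * x ∈ U A0 r s := by
  obtain ⟨v, hv, hgx⟩ := C.W_x g hg
  obtain ⟨u0, hu0, hu0x, -⟩ := C.exists_rep hv
  have h1 : u0⁻¹ * g ∈ Ap := by
    refine C.W_cent _ (W.mul_mem (W.inv_mem (C.U_le_W hu0)) hg) ?_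
    have h2 : u0⁻¹ * g * x * (u0⁻¹ * g)⁻¹ = x := by
      calc u0⁻¹ * g * x * (u0⁻¹ * g)⁻¹ = u0⁻¹ * (g * x * g⁻¹) * u0 := by group
        _ = u0⁻¹ * (u0 * x * u0⁻¹) * u0 := by rw [hgx, hu0x]
        _ = x := by group
    rw [mul_inv_eq_iff_eq_mul] at h2
    exact h2
  rcases C.mem_Ap h1 with h2 | ⟨a, ha, h2⟩
  · left
    have : g = u0 * (u0⁻¹ * g) := by group
    rw [this]
    exact mul_mem hu0 (A0_le_U h2)
  · right
    have : g * x = u0 * a := by
      calc g * x = u0 * (u0⁻¹ * g) * x := by group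
        _ = u0 * a * (x * x) := by rw [h2]; group
        _ = u0 * a := by rw [C.x_sq, mul_one]
    rw [this]
    exact mul_mem hu0 (A0_le_U ha)

/-- `t` normalises `U`. -/
theorem t_U [Finite G] : ∀ u ∈ U A0 r s, t * u * t⁻¹ ∈ U A0 r s := by
  -- two elements, one of them moved out of `U`
  have key : ∀ u0 ∈ U A0 r s, ∀ u1 ∈ U A0 r s, t * u0 * t⁻¹ ∉ U A0 r s → t * u1 * t⁻¹ ∈ U A0 r s →
      u1 ∈ A0 := by
    intro u0 hu0 u1 hu1 h0 h1
    have h0W := C.t_W u0 (C.U_le_W hu0)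
    have h2 := (C.W_eq h0W).resolve_left h0
    have h3 : (t * u1 * t⁻¹) * (t * u0 * t⁻¹) = (t * u0 * t⁻¹) * (t * u1 * t⁻¹) := by
      calc (t * u1 * t⁻¹) * (t * u0 * t⁻¹) = t * (u1 * u0) * t⁻¹ := by group
        _ = t * (u0 * u1) * t⁻¹ := by rw [C.U_comm u1 hu1 u0 hu0]
        _ = _ := by group
    have h4 := C.U_comm _ h1 _ h2
    have c1 : Commute (t * u1 * t⁻¹) (t * u0 * t⁻¹) := h3
    have c2 : Commute (t * u1 * t⁻¹) (t * u0 * t⁻¹ * x) := h4
    have c3 : Commute (t * u1 * t⁻¹) x := by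
      have := c1.inv_right.mul_right c2
      rwa [inv_mul_cancel_left] at this
    have h5 := C.U_cent h1 c3
    have h6 := C.t_A0 _ h5
    have h7 : t * (t * u1 * t⁻¹) * t⁻¹ = u1 := by
      calc t * (t * u1 * t⁻¹) * t⁻¹ = (t * t) * u1 * (t * t)⁻¹ := by group
        _ = u1 := by rw [C.t_sq]; group
    rwa [h7] at h6
  have hsA0 : s ∉ A0 := fun h => C.s_nV (C.A0_sq s h)
  have hwA0 : r * s * r⁻¹ ∉ A0 := by
    intro h
    have h1 := C.w_x
    rw [← C.x_comm _ h, mul_inv_cancel_right] at h1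
    exact C.z1_ne_one (mul_left_cancel ((mul_one x).trans h1)).symm
  have hswA0 : s * (r * s * r⁻¹) ∉ A0 := by
    intro h
    have h1 := C.sw_x
    rw [← C.x_comm _ h, mul_inv_cancel_right] at h1
    have h2 : r * (r * z * r⁻¹) * r⁻¹ = 1 := (mul_left_cancel ((mul_one x).trans h1)).symm
    apply C.z1_ne_one
    have : r * z * r⁻¹ = r⁻¹ * (r * (r * z * r⁻¹) * r⁻¹) * r := by group
    rw [this, h2]
    group
  intro u0 hu0
  by_contra h0
  have k1 : t * s * t⁻¹ ∉ U A0 r s := fun h => hsA0 (key u0 hu0 s s_mem_U h0 h)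
  have k2 : t * (r * s * r⁻¹) * t⁻¹ ∉ U A0 r s := fun h => hwA0 (key u0 hu0 _ w_mem_U h0 h)
  apply hswA0
  refine key u0 hu0 _ (mul_mem s_mem_U w_mem_U) h0 ?_
  have h1 := (C.W_eq (C.t_W s C.s_mem)).resolve_left k1
  have h2 := (C.W_eq (C.t_W _ C.w_mem)).resolve_left k2
  obtain ⟨v, hv, hxv⟩ := C.x_U h2
  have h3 : t * (s * (r * s * r⁻¹)) * t⁻¹ =
      (t * s * t⁻¹ * x) * (x * (t * (r * s * r⁻¹) * t⁻¹ * x) * x⁻¹) := by
    calc t * (s * (r * s * r⁻¹)) * t⁻¹ = t * s * t⁻¹ * 1 * (t * (r * s * r⁻¹) * t⁻¹) := by group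
      _ = t * s * t⁻¹ * (x * x) * (t * (r * s * r⁻¹) * t⁻¹) := by rw [C.x_sq]
      _ = _ := by group
  rw [h3, hxv]
  exact mul_mem h1 (mul_mem h2 (A0_le_U (C.V_le hv)))

/-- The squares of elements of `R1` lie in `U`. -/
theorem R1_sq [Finite G] {g : G} (hg : g ∈ R1) : g * g ∈ U A0 r s := by
  have hW : ∀ g ∈ W, g * g ∈ U A0 r s := by
    intro g hg
    rcases C.W_eq hg with h | h
    · exact mul_mem h h
    · obtain ⟨v, hv, hxv⟩ := C.x_U h
      have : g * g = (g * x) * (x * (g * x) * x⁻¹) := by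
        calc g * g = g * 1 * g := by group
          _ = g * (x * x) * g := by rw [C.x_sq]
          _ = _ := by group
      rw [this, hxv]
      exact mul_mem h (mul_mem h (A0_le_U (C.V_le hv)))
  rcases C.R1_mem g hg with h | h
  · exact hW g h
  · -- `g = w t`
    have e1 : g * g = (g * t) * (t * (g * t) * t⁻¹) := by
      calc g * g = g * 1 * g := by group
        _ = g * (t * t) * g := by rw [C.t_sq]
        _ = _ := by group
    rcases C.W_eq h with h1 | h1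
    · rw [e1]
      exact mul_mem h1 (C.t_U _ h1)
    · -- `g t = u x`
      have h2 := C.t_U _ h1
      obtain ⟨v, hv, hxv⟩ := C.x_U h2
      have htx : t * x * t⁻¹ = x := by rw [C.t_x, mul_inv_cancel_right]
      have e2 : t * (g * t) * t⁻¹ = (t * (g * t * x) * t⁻¹) * x := by
        calc t * (g * t) * t⁻¹ = t * (g * t) * 1 * t⁻¹ := by group
          _ = t * (g * t) * (x * x) * t⁻¹ := by rw [C.x_sq]
          _ = (t * (g * t * x) * t⁻¹) * (t * x * t⁻¹) := by group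
          _ = _ := by rw [htx]
      have e3 : (g * t) * (t * (g * t) * t⁻¹) = (g * t * x) * (x * (t * (g * t * x) * t⁻¹) * x⁻¹) := by
        calc (g * t) * (t * (g * t) * t⁻¹) = (g * t) * 1 * (t * (g * t) * t⁻¹) := by group
          _ = (g * t) * (x * x) * ((t * (g * t * x) * t⁻¹) * x) := by rw [← e2, C.x_sq]
          _ = (g * t * x) * (x * (t * (g * t * x) * t⁻¹) * x) := by group
          _ = _ := by rw [C.x_inv]
      rw [e1, e3, hxv]
      exact mul_mem h1 (mul_mem h2 (A0_le_U (C.V_le hv)))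

/-- elements of `R1` centralising `V` are in `W`. -/
theorem mem_W_of_cent {g : G} (hg : g ∈ R1) (h : g * (r * z * r⁻¹) * g⁻¹ = r * z * r⁻¹) : g ∈ W := by
  refine (C.R1_mem g hg).resolve_right ?_
  intro h1
  have hz1 := C.r_V C.z_mem
  have h2 := C.V_comm _ hz1 _ h1
  have h3 : g * (t * (r * z * r⁻¹) * t⁻¹) * g⁻¹ = r * z * r⁻¹ := by
    calc g * (t * (r * z * r⁻¹) * t⁻¹) * g⁻¹ = (g * t) * (r * z * r⁻¹) * (g * t)⁻¹ := by group
      _ = _ := by rw [h2, mul_inv_cancel_right]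
  rw [C.t_rz] at h3
  exact C.z1_ne_z2 (mul_left_cancel (mul_right_cancel (h.trans h3.symm)))

/-- an involution of `W` outside `U` is `x v`. -/
theorem W_inv [Finite G] {y : G} (hy : y ∈ W) (hyy : y * y = 1) : y ∈ V ∨ ∃ v ∈ V, y = x * v := by
  rcases C.W_eq hy with h | h
  · exact Or.inl (C.U_inv h hyy)
  · right
    obtain ⟨v, hv, hxv⟩ := C.x_U h
    have h1 : (y * x) * (x * (y * x) * x⁻¹) = 1 := by
      calc (y * x) * (x * (y * x) * x⁻¹) = y * (x * x) * y * (x * x⁻¹) := by group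
        _ = 1 := by rw [C.x_sq, mul_one, mul_inv_cancel, mul_one, hyy]
    rw [hxv, ← mul_assoc] at h1
    have h2 : y * x * (y * x) ∈ V := by
      rw [eq_inv_of_mul_eq_one_left h1]
      exact V.inv_mem hv
    have h3 := C.U_sq h h2
    have h4 : y = (y * x) * x := by rw [mul_assoc, C.x_sq, mul_one]
    have h5 : (y * x) * (y * x) = 1 := by
      have h6 := C.x_comm _ h3
      calc (y * x) * (y * x) = (y * x) * ((y * x) * (x * x)) := by rw [C.x_sq, mul_one]
        _ = (y * x) * ((y * x) * x) * x := by group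
        _ = (y * x) * (x * (y * x)) * x := by rw [h6]
        _ = ((y * x) * x) * ((y * x) * x) := by group
        _ = 1 := by rw [← h4, hyy]
    exact ⟨y * x, C.A0_inv _ h3 h5, by rw [C.x_comm _ h3, ← h4]⟩

/-- `x^{N(R1)} = xV`. -/
theorem norm_x [Finite G] {y : G} (hy : ∀ g ∈ R1, y * g * y⁻¹ ∈ R1) : ∃ v ∈ V, y * x * y⁻¹ = x * v := by
  have hyN : y ∈ normalizer (R1 : Set G) := mem_normalizer_fintype (S := (R1 : Set G)) hy
  have hV : ∀ y : G, (∀ g ∈ R1, y * g * y⁻¹ ∈ R1) → ∀ v ∈ V, y * v * y⁻¹ ∈ V := by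
    intro y hy v hv
    obtain ⟨g, hg, rfl⟩ := C.A0_surj v hv
    have h1 := C.R1_sq (hy g (C.W_le (C.A0_W hg)))
    have h2 : y * g * y⁻¹ * (y * g * y⁻¹) = y * (g * g) * y⁻¹ := by group
    rw [h2] at h1
    refine C.U_inv h1 ?_
    calc y * (g * g) * y⁻¹ * (y * (g * g) * y⁻¹) = y * (g * g * (g * g)) * y⁻¹ := by group
      _ = 1 := by rw [C.V_sq _ (C.A0_sq g hg)]; group
  have hy' : ∀ g ∈ R1, y⁻¹ * g * y⁻¹⁻¹ ∈ R1 := by
    intro g hg
    rw [inv_inv]
    exact ((mem_normalizer_iff'' (g := y)).1 hyN g).1 hg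
  have hxR : x ∈ R1 := C.W_le C.x_W
  have hW : y * x * y⁻¹ ∈ W := by
    refine C.mem_W_of_cent (hy x hxR) ?_
    have h1 := hV y⁻¹ hy' _ (C.r_V C.z_mem)
    rw [inv_inv] at h1
    have h2 := C.x_comm _ (C.V_le h1)
    calc y * x * y⁻¹ * (r * z * r⁻¹) * (y * x * y⁻¹)⁻¹
        = y * (x * (y⁻¹ * (r * z * r⁻¹) * y)) * x⁻¹ * y⁻¹ := by group
      _ = r * z * r⁻¹ := by rw [h2]; group
  have hinv : y * x * y⁻¹ * (y * x * y⁻¹) = 1 := by
    calc y * x * y⁻¹ * (y * x * y⁻¹) = y * (x * x) * y⁻¹ := by group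
      _ = 1 := by rw [C.x_sq]; group
  rcases C.W_inv hW hinv with h | h
  · exfalso
    obtain ⟨k, hk⟩ := C.starV _ h (by
      intro h1
      apply C.x_ne
      have : x = y⁻¹ * (y * x * y⁻¹) * y := by group
      rw [this, h1]
      group)
    exact C.not_conj rfl hk
  · exact h

/-- `R1` is a Sylow 2-subgroup. -/
theorem R1_syl [Finite G] {P : Subgroup G} (hP : IsPGroup 2 P) (hle : R1 ≤ P) : R1 = P := by
  by_contra hne
  obtain ⟨y, hyP, hyR, hy⟩ := exists_mem_normalizer hP hle hne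
  obtain ⟨v, hv, h1⟩ := C.norm_x hy
  obtain ⟨w0, hw0, h2⟩ := C.W_surj v hv
  apply hyR
  have h3 : w0⁻¹ * y * x = x * (w0⁻¹ * y) := by
    have h4 : w0⁻¹ * y * x * (w0⁻¹ * y)⁻¹ = x := by
      calc w0⁻¹ * y * x * (w0⁻¹ * y)⁻¹ = w0⁻¹ * (y * x * y⁻¹) * w0 := by group
        _ = w0⁻¹ * (w0 * x * w0⁻¹) * w0 := by rw [h1, h2]
        _ = x := by group
    rw [mul_inv_eq_iff_eq_mul] at h4
    exact h4
  let Q : Subgroup G := P ⊓ centralizer ({x} : Set G)
  have hQT : Q ≤ T := by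
    refine C.T_syl Q (hP.to_le inf_le_left) ?_ ?_
    · intro g hg
      exact mem_centralizer_singleton_iff.1 hg.2
    · intro g hg
      exact ⟨hle (C.T_le hg), mem_centralizer_singleton_iff.2 (C.T_x g hg)⟩
  have h5 : w0⁻¹ * y ∈ T :=
    hQT ⟨P.mul_mem (P.inv_mem (hle (C.W_le hw0))) hyP, mem_centralizer_singleton_iff.2 h3⟩
  have h6 : y = w0 * (w0⁻¹ * y) := by group
  rw [h6]
  exact R1.mul_mem (C.W_le hw0) (C.T_le h5)

/-- The subgroup `U⟨t⟩`. -/
def S0 [Finite G] : Subgroup G where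
  carrier := {g | g ∈ U A0 r s ∨ g * t ∈ U A0 r s}
  one_mem' := Or.inl (one_mem _)
  mul_mem' := by
    have hti : t⁻¹ = t := inv_eq_iff_mul_eq_one.mpr C.t_sq
    rintro a b (ha | ha) (hb | hb)
    · exact Or.inl (mul_mem ha hb)
    · right
      rw [mul_assoc]
      exact mul_mem ha hb
    · right
      have h1 : a * b * t = (a * t) * (t * b * t⁻¹) := by
        calc a * b * t = a * 1 * b * t := by group
          _ = a * (t * t) * b * t := by rw [C.t_sq]
          _ = (a * t) * (t * b * t) := by group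
          _ = _ := by rw [hti]
      show a * b * t ∈ U A0 r s
      rw [h1]
      exact mul_mem ha (C.t_U b hb)
    · left
      have h1 : a * b = (a * t) * (t * (b * t) * t⁻¹) := by
        calc a * b = a * 1 * b := by group
          _ = a * (t * t) * b := by rw [C.t_sq]
          _ = _ := by group
      rw [h1]
      exact mul_mem ha (C.t_U _ hb)
  inv_mem' := by
    have hti : t⁻¹ = t := inv_eq_iff_mul_eq_one.mpr C.t_sq
    rintro a (ha | ha)
    · exact Or.inl (inv_mem ha)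
    · right
      have h1 : a⁻¹ * t = t * (a * t)⁻¹ * t⁻¹ := by
        rw [mul_inv_rev, mul_inv_cancel_left, hti]
      show a⁻¹ * t ∈ U A0 r s
      rw [h1]
      exact C.t_U _ (inv_mem ha)

theorem mem_S0 [Finite G] {g : G} : g ∈ C.S0 ↔ g ∈ U A0 r s ∨ g * t ∈ U A0 r s := Iff.rfl

/-- no conjugate of `x` lies in `U⟨t⟩`. -/
theorem conj_notin_S0 [Finite G] (g : G) : g * x * g⁻¹ ∉ C.S0 := by
  intro hmem
  have hne : g * x * g⁻¹ ≠ 1 := by
    intro h1
    apply C.x_ne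
    have : x = g⁻¹ * (g * x * g⁻¹) * g := by group
    rw [this, h1]
    group
  have hinv : g * x * g⁻¹ * (g * x * g⁻¹) = 1 := by
    calc g * x * g⁻¹ * (g * x * g⁻¹) = g * (x * x) * g⁻¹ := by group
      _ = 1 := by rw [C.x_sq]; group
  set y := g * x * g⁻¹ with hy
  have hti : t⁻¹ = t := inv_eq_iff_mul_eq_one.mpr C.t_sq
  rcases C.mem_S0.1 hmem with h | h
  · obtain ⟨k, hk⟩ := C.starV y (C.U_inv h hinv) hne
    exact C.not_conj hy.symm hk
  · -- `y = u t`
    set u := y * t with hu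
    have hyu : y = u * t := by rw [hu, mul_assoc, C.t_sq, mul_one]
    have h1 : t * u * t⁻¹ = u⁻¹ := by
      have h2 : u * t * (u * t) = 1 := by rw [← hyu]; exact hinv
      have h3 : u * (t * u * t) = 1 := by
        rw [← h2]; group
      rw [hti]
      exact eq_inv_of_mul_eq_one_right h3
    -- the action of `u` on `x`
    obtain ⟨v, hv, hux⟩ := C.W_x u (C.U_le_W h)
    have htx : t * x * t⁻¹ = x := by rw [C.t_x, mul_inv_cancel_right]
    have hux' : u⁻¹ * x * u⁻¹⁻¹ = x * v := by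
      have h4 : u⁻¹ * (x * v) * u = x := by rw [← hux]; group
      have h5 : u⁻¹ * x * u * v = x := by
        calc u⁻¹ * x * u * v = u⁻¹ * x * (u * v) := by group
          _ = u⁻¹ * x * (v * u) := by rw [C.V_comm v hv u (C.U_le_W h)]
          _ = u⁻¹ * (x * v) * u := by group
          _ = x := h4
      calc u⁻¹ * x * u⁻¹⁻¹ = u⁻¹ * x * u * v * v⁻¹ := by group
        _ = x * v := by rw [h5, C.V_inv hv]
    have htv : t * v * t⁻¹ = v := by
      have h4 : (t * u * t⁻¹) * x * (t * u * t⁻¹)⁻¹ = x * (t * v * t⁻¹) := by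
        have htx' : t⁻¹ * x * t = x := by rw [mul_assoc, ← C.t_x, inv_mul_cancel_left]
        calc (t * u * t⁻¹) * x * (t * u * t⁻¹)⁻¹ = t * (u * (t⁻¹ * x * t) * u⁻¹) * t⁻¹ := by group
          _ = t * x * t⁻¹ * (t * v * t⁻¹) := by rw [htx', hux]; group
          _ = _ := by rw [htx]
      rw [h1, hux'] at h4
      exact (mul_left_cancel h4).symm
    have htz2 : t * (r * (r * z * r⁻¹) * r⁻¹) * t⁻¹ = r * z * r⁻¹ := by
      rw [← C.t_rz]
      calc t * (t * (r * z * r⁻¹) * t⁻¹) * t⁻¹ = (t * t) * (r * z * r⁻¹) * (t * t)⁻¹ := by group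
        _ = _ := by rw [C.t_sq]; group
    have fin : ∀ u' : G, u' ∈ U A0 r s → u' * x = x * u' → ∀ k : G, k * y * k⁻¹ = u' * t → False := by
      intro u' hu' hc k hk
      have hA := C.U_cent hu' hc
      have hsq : u' * t * (u' * t) = 1 := by
        rw [← hk]
        calc k * y * k⁻¹ * (k * y * k⁻¹) = k * (y * y) * k⁻¹ := by group
          _ = 1 := by rw [hinv]; group
      obtain ⟨k', hk'⟩ := C.star u' hA hsq
      refine C.not_conj (y := y) (k := k' * k) hy.symm ?_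
      rw [← hk', ← hk]
      group
    rcases C.V_eq v hv with rfl | rfl | rfl | rfl
    · refine fin u h ?_ 1 (by rw [← hyu]; group)
      rw [mul_one, mul_inv_eq_iff_eq_mul] at hux
      exact hux
    · -- conjugate by `w`
      set! w := r * s * r⁻¹ with hw
      have hwU : w ∈ U A0 r s := w_mem_U
      have htw : t * w⁻¹ * t⁻¹ ∈ U A0 r s := C.t_U _ (inv_mem hwU)
      refine fin (u * (w * (t * w⁻¹ * t⁻¹))) (mul_mem h (mul_mem hwU htw)) ?_ w ?_
      · have hz1 := C.r_V C.z_mem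
        have hz2 := C.r_V hz1
        have hwx := C.w_x
        rw [← hw] at hwx
        have hwx' : w⁻¹ * x * w⁻¹⁻¹ = x * (r * v * r⁻¹) := by
          have h4 : w⁻¹ * (x * (r * v * r⁻¹)) * w = x := by rw [← hwx]; group
          have h5 : w⁻¹ * x * w * (r * v * r⁻¹) = x := by
            calc w⁻¹ * x * w * (r * v * r⁻¹) = w⁻¹ * x * (w * (r * v * r⁻¹)) := by group
              _ = w⁻¹ * x * ((r * v * r⁻¹) * w) := by rw [C.V_comm _ hz1 w C.w_mem]
              _ = w⁻¹ * (x * (r * v * r⁻¹)) * w := by group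
              _ = x := h4
          calc w⁻¹ * x * w⁻¹⁻¹ = w⁻¹ * x * w * (r * v * r⁻¹) * (r * v * r⁻¹)⁻¹ := by group
            _ = x * (r * v * r⁻¹) := by rw [h5, C.V_inv hz1]
        have htwx : (t * w⁻¹ * t⁻¹) * x * (t * w⁻¹ * t⁻¹)⁻¹ = x * (r * (r * v * r⁻¹) * r⁻¹) := by
          have htx' : t⁻¹ * x * t = x := by rw [mul_assoc, ← C.t_x, inv_mul_cancel_left]
          calc (t * w⁻¹ * t⁻¹) * x * (t * w⁻¹ * t⁻¹)⁻¹
              = t * (w⁻¹ * (t⁻¹ * x * t) * w⁻¹⁻¹) * t⁻¹ := by group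
            _ = t * x * t⁻¹ * (t * (r * v * r⁻¹) * t⁻¹) := by rw [htx', hwx']; group
            _ = _ := by rw [htx, C.t_rz]
        have mulx : ∀ a b c d : G, a ∈ W → b ∈ W → c ∈ V → d ∈ V → a * x * a⁻¹ = x * c →
            b * x * b⁻¹ = x * d → a * b * x * (a * b)⁻¹ = x * (c * d) := by
          intro a b c d ha _ _ hd h1 h2
          calc a * b * x * (a * b)⁻¹ = a * (b * x * b⁻¹) * a⁻¹ := by group
            _ = a * x * (d * a⁻¹) := by rw [h2]; group
            _ = a * x * (a⁻¹ * d) := by rw [C.V_comm d hd a⁻¹ (W.inv_mem ha)]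
            _ = a * x * a⁻¹ * d := by group
            _ = _ := by rw [h1]; group
        have h6 := mulx w (t * w⁻¹ * t⁻¹) _ _ C.w_mem (C.U_le_W htw) hz1 hz2 hwx htwx
        have h7 := mulx u (w * (t * w⁻¹ * t⁻¹)) _ _ (C.U_le_W h)
          (W.mul_mem C.w_mem (C.U_le_W htw)) hv (V.mul_mem hz1 hz2) hux h6
        have h8 : v * (r * v * r⁻¹ * (r * (r * v * r⁻¹) * r⁻¹)) = 1 := by
          rw [← mul_assoc]; exact C.r_prod
        rw [h8, mul_one, mul_inv_eq_iff_eq_mul] at h7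
        exact h7
      · have h4 := C.U_comm u h w hwU
        calc w * y * w⁻¹ = w * u * (t * w⁻¹) := by rw [hyu]; group
          _ = u * w * (t * w⁻¹) * 1 := by rw [h4]; group
          _ = u * w * (t * w⁻¹) * (t * t) := by rw [C.t_sq]
          _ = u * (w * (t * w⁻¹ * t)) * t := by group
          _ = _ := by rw [hti]
    · exact C.z1_ne_z2 (by rw [← C.t_rz, htv])
    · rw [htz2] at htv
      exact C.z1_ne_z2 htv

theorem false [Finite G] (hf : ∀ f : G →* ℤˣ, f x = 1) : False := by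
  obtain ⟨P, hP⟩ := C.R1_p.exists_le_sylow
  have hR : R1 = (P : Subgroup G) := C.R1_syl P.2 hP
  have hS0 : C.S0 ≤ R1 := by
    intro g hg
    rcases C.mem_S0.1 hg with h | h
    · exact C.W_le (C.U_le_W h)
    · have h1 : g = g * t * t⁻¹ := by group
      rw [h1]
      exact R1.mul_mem (C.W_le (C.U_le_W h)) (R1.inv_mem C.t_mem)
  have hidx : C.S0.relIndex (P : Subgroup G) = 2 := by
    rw [← hR]
    unfold Subgroup.relIndex
    rw [Subgroup.index_eq_two_iff]
    refine ⟨⟨x, C.W_le C.x_W⟩, fun b => ?_⟩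
    obtain ⟨b, hb⟩ := b
    simp only [Subgroup.mem_subgroupOf]
    show Xor (b * x ∈ C.S0) (b ∈ C.S0)
    have hxS : x ∉ C.S0 := by
      have := C.conj_notin_S0 1
      simpa using this
    have hor : b * x ∈ C.S0 ∨ b ∈ C.S0 := by
      rcases C.R1_mem b hb with h | h
      · rcases C.W_eq h with h1 | h1
        · exact Or.inr (C.mem_S0.2 (Or.inl h1))
        · exact Or.inl (C.mem_S0.2 (Or.inl h1))
      · rcases C.W_eq h with h1 | h1
        · exact Or.inr (C.mem_S0.2 (Or.inr h1))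
        · refine Or.inl (C.mem_S0.2 (Or.inr ?_))
          have : b * x * t = b * t * x := by rw [mul_assoc, ← C.t_x, mul_assoc]
          rw [this]
          exact h1
    rcases hor with h | h
    · left
      refine ⟨h, fun h2 => hxS ?_⟩
      have := mul_mem (inv_mem h2) h
      rwa [inv_mul_cancel_left] at this
    · right
      refine ⟨h, fun h2 => hxS ?_⟩
      have := mul_mem (inv_mem h) h2
      rwa [inv_mul_cancel_left] at this
  obtain ⟨m, hm, hm'⟩ := Transfer.ThompsonTransfer.exists_index_eq P C.S0 (hR ▸ hS0) hidx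
  obtain ⟨f, hfx⟩ := Transfer.ThompsonTransfer.exists_hom_eq_neg_one C.S0 hm hm' x
    (by rw [pow_two]; exact C.x_sq) C.conj_notin_S0
  rw [hf f] at hfx
  exact absurd hfx (by decide)

end U

end FCfg

end Cfsg.Agent.GH.WAct
end

-- part: GH/WBase
section
/-!
# Project GH, branch GH-L3 (W): the Sylow 2-subgroup `T` of `C_G(x)`

`T = P0 ⋊ ⟨τ⟩`, `P0 = A0⟨t⟩ = 4 wr 2`, `x` the involution of `⟨τ⟩`.
-/

set_option autoImplicit false

namespace Cfsg.Agent.GH.WAct

open Subgroup Cfsg.Agent.TwoFusion.SectionalRank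

variable {G : Type*} [Group G]

/-- The basic configuration. -/
structure Base (V A0 T : Subgroup G) (x τ t ρ z : G) : Prop where
  V_le : V ≤ A0
  V_sq : ∀ v ∈ V, v * v = 1
  A0_comm : ∀ g ∈ A0, ∀ h ∈ A0, g * h = h * g
  A0_sq : ∀ g ∈ A0, g * g ∈ V
  A0_inv : ∀ g ∈ A0, g * g = 1 → g ∈ V
  A0_surj : ∀ v ∈ V, ∃ g ∈ A0, g * g = v
  τ_A0 : (∀ g ∈ A0, τ * g * τ⁻¹ = g) ∨ (∀ g ∈ A0, τ * g * τ⁻¹ = g⁻¹)
  τ_two : ∃ k : ℕ, τ ^ 2 ^ k = 1
  τ_not : ∀ i : ℕ, τ ^ i ∈ A0 → τ ^ i = 1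
  τ_inv : ∀ i : ℕ, τ ^ i * τ ^ i = 1 → τ ^ i = 1 ∨ τ ^ i = x
  τ_or : τ = x ∨ ∃ m : ℕ, x = (τ * τ) ^ m
  x_sq : x * x = 1
  x_ne : x ≠ 1
  x_comm : ∀ g ∈ A0, x * g = g * x
  t_sq : t * t = 1
  t_τ : t * τ = τ * t
  t_A0 : ∀ g ∈ A0, t * g * t⁻¹ ∈ A0
  T_mem : ∀ g : G, g ∈ T ↔ ∃ α ∈ A0, ∃ j i : ℕ, g = α * t ^ j * τ ^ i
  ρ_A0 : ∀ g ∈ A0, ρ * g * ρ⁻¹ ∈ A0
  ρ_τ : ρ * τ = τ * ρ
  z_mem : z ∈ V
  z_ne : z ≠ 1
  V_eq : ∀ v ∈ V, v = 1 ∨ v = z ∨ v = ρ * z * ρ⁻¹ ∨ v = ρ * (ρ * z * ρ⁻¹) * ρ⁻¹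
  ρ_prod : z * (ρ * z * ρ⁻¹) * (ρ * (ρ * z * ρ⁻¹) * ρ⁻¹) = 1
  ρ_fix : ∀ v ∈ V, ρ * v * ρ⁻¹ = v → v = 1
  t_z : t * z * t⁻¹ = z
  t_rz : t * (ρ * z * ρ⁻¹) * t⁻¹ = ρ * (ρ * z * ρ⁻¹) * ρ⁻¹
  star : ∀ α ∈ A0, α * t * (α * t) = 1 → ∃ k : G, k * x = x * k ∧ k * (α * t) * k⁻¹ = z
  T_p : IsPGroup 2 T
  cent_card : ∀ Q : Subgroup G, IsPGroup 2 Q → (∀ q ∈ Q, q * x = x * q) → Nat.card Q ≤ Nat.card T

namespace Base

variable {V A0 T : Subgroup G} {x τ t ρ z : G} (B : Base V A0 T x τ t ρ z)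

include B

theorem V_inv {v : G} (hv : v ∈ V) : v⁻¹ = v := inv_eq_iff_mul_eq_one.mpr (B.V_sq v hv)

theorem x_inv : x⁻¹ = x := inv_eq_iff_mul_eq_one.mpr B.x_sq

theorem t_inv : t⁻¹ = t := inv_eq_iff_mul_eq_one.mpr B.t_sq

theorem x_pow : ∃ m : ℕ, x = τ ^ m := by
  rcases B.τ_or with h | ⟨m, h⟩
  · exact ⟨1, by rw [pow_one, h]⟩
  · exact ⟨2 * m, by rw [h, pow_mul, pow_two]⟩

theorem x_not : x ∉ A0 := by
  intro h
  obtain ⟨m, hm⟩ := B.x_pow
  rw [hm] at h
  exact B.x_ne (by rw [hm]; exact B.τ_not m h)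

theorem t_x : t * x = x * t := by
  obtain ⟨m, hm⟩ := B.x_pow
  rw [hm]
  exact (Commute.pow_right (show Commute t τ from B.t_τ) m)

theorem ρ_x : ρ * x = x * ρ := by
  obtain ⟨m, hm⟩ := B.x_pow
  rw [hm]
  exact (Commute.pow_right (show Commute ρ τ from B.ρ_τ) m)

theorem τ_x : τ * x = x * τ := by
  obtain ⟨m, hm⟩ := B.x_pow
  rw [hm]
  exact (Commute.pow_right (Commute.refl τ) m)

theorem A0_le : A0 ≤ T := fun g hg => (B.T_mem g).2 ⟨g, hg, 0, 0, by simp⟩

theorem t_mem : t ∈ T := (B.T_mem t).2 ⟨1, A0.one_mem, 1, 0, by simp⟩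

theorem τ_mem : τ ∈ T := (B.T_mem τ).2 ⟨1, A0.one_mem, 0, 1, by simp⟩

theorem x_mem : x ∈ T := by
  obtain ⟨m, hm⟩ := B.x_pow
  rw [hm]
  exact T.pow_mem B.τ_mem m

theorem T_x {g : G} (hg : g ∈ T) : g * x = x * g := by
  obtain ⟨α, hα, j, i, rfl⟩ := (B.T_mem g).1 hg
  have c1 : Commute α x := (B.x_comm α hα).symm
  have c2 : Commute t x := B.t_x
  have c3 : Commute τ x := B.τ_x
  exact (c1.mul_left (c2.pow_left j)).mul_left (c3.pow_left i)

theorem ρ_V {v : G} (hv : v ∈ V) : ρ * v * ρ⁻¹ ∈ V := by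
  refine B.A0_inv _ (B.ρ_A0 v (B.V_le hv)) ?_
  have : ρ * v * ρ⁻¹ * (ρ * v * ρ⁻¹) = ρ * (v * v) * ρ⁻¹ := by group
  rw [this, B.V_sq v hv]
  group

theorem t_V {v : G} (hv : v ∈ V) : t * v * t⁻¹ ∈ V := by
  refine B.A0_inv _ (B.t_A0 v (B.V_le hv)) ?_
  have : t * v * t⁻¹ * (t * v * t⁻¹) = t * (v * v) * t⁻¹ := by group
  rw [this, B.V_sq v hv]
  group

theorem z1_ne_one : ρ * z * ρ⁻¹ ≠ 1 := by
  intro h
  apply B.z_ne
  have : z = ρ⁻¹ * (ρ * z * ρ⁻¹) * ρ := by group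
  rw [this, h]
  group

theorem z1_ne_z2 : ρ * z * ρ⁻¹ ≠ ρ * (ρ * z * ρ⁻¹) * ρ⁻¹ := fun h =>
  B.z1_ne_one (B.ρ_fix _ (B.ρ_V B.z_mem) h.symm)

theorem z1_ne_z : ρ * z * ρ⁻¹ ≠ z := fun h => B.z_ne (B.ρ_fix z B.z_mem h)

theorem z_z1 : z * (ρ * z * ρ⁻¹) = ρ * (ρ * z * ρ⁻¹) * ρ⁻¹ := by
  have h1 := eq_inv_of_mul_eq_one_left B.ρ_prod
  rwa [B.V_inv (B.ρ_V (B.ρ_V B.z_mem))] at h1

theorem z1_z2 : ρ * z * ρ⁻¹ * (ρ * (ρ * z * ρ⁻¹) * ρ⁻¹) = z := by
  have h1 := B.ρ_prod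
  rw [mul_assoc] at h1
  have h2 := eq_inv_of_mul_eq_one_right h1
  rwa [B.V_inv B.z_mem] at h2

theorem t_z2 : t * (ρ * (ρ * z * ρ⁻¹) * ρ⁻¹) * t⁻¹ = ρ * z * ρ⁻¹ := by
  rw [← B.t_rz]
  calc t * (t * (ρ * z * ρ⁻¹) * t⁻¹) * t⁻¹ = (t * t) * (ρ * z * ρ⁻¹) * (t * t)⁻¹ := by group
    _ = _ := by rw [B.t_sq]; group

/-- `v · v^t ∈ {1, z}`. -/
theorem v_vt {v : G} (hv : v ∈ V) : v * (t * v * t⁻¹) = 1 ∨ v * (t * v * t⁻¹) = z := by
  rcases B.V_eq v hv with rfl | rfl | rfl | rfl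
  · left; group
  · left; rw [B.t_z]; exact B.V_sq _ hv
  · right; rw [B.t_rz]; exact B.z1_z2
  · right
    rw [B.t_z2]
    have h1 := B.A0_comm _ (B.V_le hv) _ (B.V_le (B.ρ_V B.z_mem))
    rw [h1]
    exact B.z1_z2

/-- Powers of `τ` act on `A0` trivially or by inversion. -/
theorem τ_pow_A0 (i : ℕ) : (∀ g ∈ A0, τ ^ i * g * (τ ^ i)⁻¹ = g) ∨
    (∀ g ∈ A0, τ ^ i * g * (τ ^ i)⁻¹ = g⁻¹) := by
  induction i with
  | zero => left; intro g _; simp
  | succ i ih =>
    have e : ∀ g : G, τ ^ (i + 1) * g * (τ ^ (i + 1))⁻¹ = τ * (τ ^ i * g * (τ ^ i)⁻¹) * τ⁻¹ := by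
      intro g
      rw [pow_succ']
      group
    rcases ih with ih | ih <;> rcases B.τ_A0 with h | h
    · left; intro g hg; rw [e, ih g hg, h g hg]
    · right; intro g hg; rw [e, ih g hg, h g hg]
    · right; intro g hg; rw [e, ih g hg, h _ (A0.inv_mem hg)]
    · left; intro g hg; rw [e, ih g hg, h _ (A0.inv_mem hg), inv_inv]

theorem τ_pow_mem (i : ℕ) {g : G} (hg : g ∈ A0) : τ ^ i * g * (τ ^ i)⁻¹ ∈ A0 := by
  rcases B.τ_pow_A0 i with h | h
  · rw [h g hg]; exact hg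
  · rw [h g hg]; exact A0.inv_mem hg

theorem τ_pow_V (i : ℕ) {v : G} (hv : v ∈ V) : τ ^ i * v * (τ ^ i)⁻¹ = v := by
  rcases B.τ_pow_A0 i with h | h
  · exact h v (B.V_le hv)
  · rw [h v (B.V_le hv), B.V_inv hv]

theorem t_pow (j : ℕ) : t ^ j = 1 ∨ t ^ j = t := by
  have htt : t ^ 2 = 1 := by rw [pow_two]; exact B.t_sq
  rcases Nat.even_or_odd j with ⟨m, rfl⟩ | ⟨m, rfl⟩
  · left; rw [← two_mul, pow_mul, htt, one_pow]
  · right; rw [pow_add, pow_mul, htt, one_pow, one_mul, pow_one]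

theorem t_pow_mem (j : ℕ) {g : G} (hg : g ∈ A0) : t ^ j * g * (t ^ j)⁻¹ ∈ A0 := by
  rcases B.t_pow j with h | h
  · rw [h]; simpa using hg
  · rw [h]; exact B.t_A0 g hg

/-- action of `t^j τ^i` on `A0`. -/
theorem tτ_mem (j i : ℕ) {g : G} (hg : g ∈ A0) : t ^ j * τ ^ i * g * (t ^ j * τ ^ i)⁻¹ ∈ A0 := by
  have : t ^ j * τ ^ i * g * (t ^ j * τ ^ i)⁻¹ = t ^ j * (τ ^ i * g * (τ ^ i)⁻¹) * (t ^ j)⁻¹ := by group
  rw [this]
  exact B.t_pow_mem j (B.τ_pow_mem i hg)

/-- `T` normalises `A0`. -/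
theorem T_A0 {g y : G} (hy : y ∈ T) (hg : g ∈ A0) : y * g * y⁻¹ ∈ A0 := by
  obtain ⟨α, hα, j, i, rfl⟩ := (B.T_mem y).1 hy
  have : α * t ^ j * τ ^ i * g * (α * t ^ j * τ ^ i)⁻¹ =
      α * (t ^ j * τ ^ i * g * (t ^ j * τ ^ i)⁻¹) * α⁻¹ := by group
  rw [this]
  exact A0.mul_mem (A0.mul_mem hα (B.tτ_mem j i hg)) (A0.inv_mem hα)

theorem T_V {v y : G} (hy : y ∈ T) (hv : v ∈ V) : y * v * y⁻¹ ∈ V := by
  refine B.A0_inv _ (B.T_A0 hy (B.V_le hv)) ?_
  have : y * v * y⁻¹ * (y * v * y⁻¹) = y * (v * v) * y⁻¹ := by group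
  rw [this, B.V_sq v hv]
  group

/-- action of `T` on `V`: through `t`. -/
theorem T_V' {y : G} {α : G} (hα : α ∈ A0) (j i : ℕ) (hy : y = α * t ^ j * τ ^ i) {v : G} (hv : v ∈ V) :
    y * v * y⁻¹ = t ^ j * v * (t ^ j)⁻¹ := by
  have h1 : t ^ j * v * (t ^ j)⁻¹ ∈ A0 := B.t_pow_mem j (B.V_le hv)
  have h2 := B.A0_comm α hα _ h1
  calc y * v * y⁻¹ = α * (t ^ j * (τ ^ i * v * (τ ^ i)⁻¹) * (t ^ j)⁻¹) * α⁻¹ := by rw [hy]; group
    _ = α * (t ^ j * v * (t ^ j)⁻¹) * α⁻¹ := by rw [B.τ_pow_V i hv]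
    _ = _ := by rw [h2, mul_inv_cancel_right]

theorem T_z {y : G} (hy : y ∈ T) : y * z * y⁻¹ = z := by
  obtain ⟨α, hα, j, i, hy'⟩ := (B.T_mem y).1 hy
  rw [B.T_V' hα j i hy' B.z_mem]
  rcases B.t_pow j with h | h
  · rw [h]; group
  · rw [h, B.t_z]

/-- Involutions of `T` lie in `P0 ∪ P0 x`. -/
theorem T_inv {y : G} (hy : y ∈ T) (hyy : y * y = 1) : ∃ p : G, (p ∈ A0 ∨ ∃ α ∈ A0, p = α * t) ∧
    p * p = 1 ∧ (y = p ∨ y = p * x) := by
  obtain ⟨α, hα, j, i, rfl⟩ := (B.T_mem y).1 hy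
  have ct : t ^ j * τ ^ i = τ ^ i * t ^ j :=
    ((show Commute t τ from B.t_τ).pow_pow j i)
  have hτ2 : τ ^ i * τ ^ i ∈ A0 := by
    have h1 : α * t ^ j * τ ^ i * (α * t ^ j * τ ^ i) =
        α * (t ^ j * (τ ^ i * α * (τ ^ i)⁻¹) * (t ^ j)⁻¹) * (t ^ j * t ^ j) * (τ ^ i * τ ^ i) := by
      calc α * t ^ j * τ ^ i * (α * t ^ j * τ ^ i)
          = α * (t ^ j * (τ ^ i * α * (τ ^ i)⁻¹) * (t ^ j)⁻¹) * (t ^ j * (τ ^ i * t ^ j) * τ ^ i) := by group
        _ = α * (t ^ j * (τ ^ i * α * (τ ^ i)⁻¹) * (t ^ j)⁻¹) * (t ^ j * (t ^ j * τ ^ i) * τ ^ i) := by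
          rw [ct]
        _ = _ := by group
    have htt : t ^ j * t ^ j = 1 := by
      rcases B.t_pow j with h | h <;> rw [h]
      · group
      · exact B.t_sq
    rw [hyy, htt, mul_one] at h1
    rw [← inv_eq_of_mul_eq_one_right h1.symm]
    exact A0.inv_mem (A0.mul_mem hα (B.t_pow_mem j (B.τ_pow_mem i hα)))
  have hτ1 : τ ^ i * τ ^ i = 1 := by
    have := B.τ_not (i + i) (by rw [pow_add]; exact hτ2)
    rwa [pow_add] at this
  have hp : ∀ p : G, p = α * t ^ j → (p ∈ A0 ∨ ∃ α ∈ A0, p = α * t) := by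
    rintro p rfl
    rcases B.t_pow j with h | h
    · left; rw [h, mul_one]; exact hα
    · right; exact ⟨α, hα, by rw [h]⟩
  rcases B.τ_inv i hτ1 with h | h
  · refine ⟨α * t ^ j, hp _ rfl, ?_, Or.inl (by rw [h, mul_one])⟩
    rw [h, mul_one] at hyy
    exact hyy
  · refine ⟨α * t ^ j, hp _ rfl, ?_, Or.inr (by rw [h])⟩
    rw [h] at hyy
    have hpT : α * t ^ j ∈ T := (B.T_mem _).2 ⟨α, hα, j, 0, by simp⟩
    have h2 := B.T_x hpT
    calc α * t ^ j * (α * t ^ j) = α * t ^ j * (α * t ^ j) * (x * x) := by rw [B.x_sq, mul_one]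
      _ = α * t ^ j * (α * t ^ j * x) * x := by group
      _ = α * t ^ j * (x * (α * t ^ j)) * x := by rw [h2]
      _ = α * t ^ j * x * (α * t ^ j * x) := by group
      _ = 1 := hyy

theorem starV {v : G} (hv : v ∈ V) (hv1 : v ≠ 1) : ∃ k : G, k * x = x * k ∧ k * v * k⁻¹ = z := by
  have c : Commute ρ x := B.ρ_x
  rcases B.V_eq v hv with rfl | rfl | rfl | rfl
  · exact absurd rfl hv1
  · exact ⟨1, by simp, by simp⟩
  · exact ⟨ρ⁻¹, c.inv_left, by group⟩
  · exact ⟨ρ⁻¹ * ρ⁻¹, c.inv_left.mul_left c.inv_left, by group⟩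

/-- Involutions of `P0` are conjugate to `z` in `C(x)`. -/
theorem star' {p : G} (hp : p ∈ A0 ∨ ∃ α ∈ A0, p = α * t) (hpp : p * p = 1) (hp1 : p ≠ 1) :
    ∃ k : G, k * x = x * k ∧ k * p * k⁻¹ = z := by
  rcases hp with hp | ⟨α, hα, rfl⟩
  · exact B.starV (B.A0_inv p hp hpp) hp1
  · exact B.star α hα hpp

/-- commutators of elements of `T` have square `1` or `z`. -/
theorem comm_sq {p q : G} (hp : p ∈ T) (hq : q ∈ T) :
    (p * q * p⁻¹ * q⁻¹) * (p * q * p⁻¹ * q⁻¹) = 1 ∨ (p * q * p⁻¹ * q⁻¹) * (p * q * p⁻¹ * q⁻¹) = z := by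
  obtain ⟨α, hα, j, i, rfl⟩ := (B.T_mem p).1 hp
  obtain ⟨β, hβ, k, l, rfl⟩ := (B.T_mem q).1 hq
  set! g := t ^ j * τ ^ i with hg
  set! h := t ^ k * τ ^ l with hh
  have c0 : Commute t τ := B.t_τ
  have cgh : Commute g h := by
    rw [hg, hh]
    exact ((Commute.refl t).pow_pow j k |>.mul_right (c0.pow_pow j l)).mul_left
      ((c0.symm.pow_pow i k).mul_right ((Commute.refl τ).pow_pow i l))
  have e1 : α * t ^ j * τ ^ i * (β * t ^ k * τ ^ l) * (α * t ^ j * τ ^ i)⁻¹ * (β * t ^ k * τ ^ l)⁻¹ =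
      α * (g * β * g⁻¹) * (h * α⁻¹ * h⁻¹) * β⁻¹ := by
    calc _ = α * (g * β * g⁻¹) * (g * h) * g⁻¹ * α⁻¹ * h⁻¹ * β⁻¹ := by rw [hg, hh]; group
      _ = α * (g * β * g⁻¹) * (h * g) * g⁻¹ * α⁻¹ * h⁻¹ * β⁻¹ := by rw [cgh.eq]
      _ = _ := by group
  rw [e1]
  have m1 : g * β * g⁻¹ ∈ A0 := B.tτ_mem j i hβ
  have m2 : h * α⁻¹ * h⁻¹ ∈ A0 := B.tτ_mem k l (A0.inv_mem hα)
  have hact : ∀ (y : G) (a b : ℕ), y = t ^ a * τ ^ b → ∀ v ∈ V, v * (y * v * y⁻¹) = 1 ∨
      v * (y * v * y⁻¹) = z := by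
    intro y a b hy v hv
    have h1 : y * v * y⁻¹ = t ^ a * v * (t ^ a)⁻¹ := by
      calc y * v * y⁻¹ = t ^ a * (τ ^ b * v * (τ ^ b)⁻¹) * (t ^ a)⁻¹ := by rw [hy]; group
        _ = _ := by rw [B.τ_pow_V b hv]
    rw [h1]
    rcases B.t_pow a with h | h
    · rw [h]
      left
      simpa only [_root_.one_mul, _root_.inv_one, _root_.mul_one] using B.V_sq v hv
    · rw [h]
      exact B.v_vt hv
  -- the square
  have c1 := B.A0_comm _ hα _ m1
  have e2 : (α * (g * β * g⁻¹) * (h * α⁻¹ * h⁻¹) * β⁻¹) * (α * (g * β * g⁻¹) * (h * α⁻¹ * h⁻¹) * β⁻¹) =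
      (α * α * (h * (α * α) * h⁻¹)⁻¹) * ((g * (β * β) * g⁻¹) * (β * β)⁻¹) := by
    have C1 : Commute α (g * β * g⁻¹) := B.A0_comm _ hα _ m1
    have C2 : Commute α (h * α⁻¹ * h⁻¹) := B.A0_comm _ hα _ m2
    have C3 : Commute α β⁻¹ := B.A0_comm _ hα _ (A0.inv_mem hβ)
    have C4 : Commute (g * β * g⁻¹) (h * α⁻¹ * h⁻¹) := B.A0_comm _ m1 _ m2
    have C5 : Commute (g * β * g⁻¹) β⁻¹ := B.A0_comm _ m1 _ (A0.inv_mem hβ)
    have C6 : Commute (h * α⁻¹ * h⁻¹) β⁻¹ := B.A0_comm _ m2 _ (A0.inv_mem hβ)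
    set b := g * β * g⁻¹ with hb
    set c := h * α⁻¹ * h⁻¹ with hc
    set d := β⁻¹ with hd
    have r1 : (h * (α * α) * h⁻¹)⁻¹ = c * c := by rw [hc]; group
    have r2 : g * (β * β) * g⁻¹ = b * b := by rw [hb]; group
    have r3 : (β * β)⁻¹ = d * d := by rw [hd]; group
    rw [r1, r2, r3]
    calc α * b * c * d * (α * b * c * d) = α * b * c * (d * α) * b * c * d := by group
      _ = α * b * (c * α) * (d * b) * c * d := by rw [← C3.eq]; group
      _ = α * (b * α) * (c * b) * (d * c) * d := by rw [← C2.eq, ← C5.eq]; group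
      _ = α * (α * b) * (b * c) * (c * d) * d := by rw [← C1.eq, ← C4.eq, ← C6.eq]
      _ = α * α * (b * b * (c * c)) * (d * d) := by group
      _ = α * α * (c * c * (b * b)) * (d * d) := by
        rw [((C4.mul_right C4).mul_left (C4.mul_right C4)).eq]
      _ = _ := by group
  rw [e2]
  have hα2 := B.A0_sq α hα
  have hβ2 := B.A0_sq β hβ
  have hhV : h * (α * α) * h⁻¹ ∈ V := by
    have hmT : h ∈ T := (B.T_mem h).2 ⟨1, A0.one_mem, k, l, by rw [hh]; group⟩
    exact B.T_V hmT hα2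
  have hgV : g * (β * β) * g⁻¹ ∈ V := by
    have hmT : g ∈ T := (B.T_mem g).2 ⟨1, A0.one_mem, j, i, by rw [hg]; group⟩
    exact B.T_V hmT hβ2
  rw [B.V_inv hhV, B.V_inv hβ2]
  have k1 := hact h k l hh _ hα2
  have k2 := hact g j i hg _ hβ2
  rw [B.A0_comm _ (B.V_le hβ2) _ (B.V_le hgV)] at k2
  rcases k1 with k1 | k1 <;> rcases k2 with k2 | k2 <;> rw [k1, k2]
  · left; group
  · right; group
  · right; group
  · left; exact B.V_sq z B.z_mem

/-- An element of `A0` with square `z₁`. -/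
theorem exists_a : ∃ a ∈ A0, a * a = ρ * z * ρ⁻¹ ∧
    (a * t * a⁻¹ * t⁻¹) * (a * t * a⁻¹ * t⁻¹) = z := by
  obtain ⟨a, ha, haa⟩ := B.A0_surj _ (B.ρ_V B.z_mem)
  refine ⟨a, ha, haa, ?_⟩
  have h1 : t * a⁻¹ * t⁻¹ ∈ A0 := B.t_A0 _ (A0.inv_mem ha)
  have h2 := B.A0_comm a ha _ h1
  calc (a * t * a⁻¹ * t⁻¹) * (a * t * a⁻¹ * t⁻¹) = a * ((t * a⁻¹ * t⁻¹) * a) * (t * a⁻¹ * t⁻¹) := by group
    _ = a * (a * (t * a⁻¹ * t⁻¹)) * (t * a⁻¹ * t⁻¹) := by rw [h2]
    _ = (a * a) * (t * (a * a)⁻¹ * t⁻¹) := by group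
    _ = z := by rw [haa, B.V_inv (B.ρ_V B.z_mem), B.t_rz, B.z1_z2]

/-- `N(T)` centralises `z`. -/
theorem norm_z {n : G} (hn : ∀ g ∈ T, n * g * n⁻¹ ∈ T) : n * z * n⁻¹ = z := by
  obtain ⟨a, ha, -, hz⟩ := B.exists_a
  have h1 := B.comm_sq (hn a (B.A0_le ha)) (hn t B.t_mem)
  have e : (n * a * n⁻¹) * (n * t * n⁻¹) * (n * a * n⁻¹)⁻¹ * (n * t * n⁻¹)⁻¹ =
      n * (a * t * a⁻¹ * t⁻¹) * n⁻¹ := by group
  have e2 : n * (a * t * a⁻¹ * t⁻¹) * n⁻¹ * (n * (a * t * a⁻¹ * t⁻¹) * n⁻¹) = n * z * n⁻¹ := by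
    rw [← hz]; group
  rw [e, e2] at h1
  rcases h1 with h | h
  · exfalso
    apply B.z_ne
    have : z = n⁻¹ * (n * z * n⁻¹) * n := by group
    rw [this, h]
    group
  · exact h

/-- elements `α t` do not commute with `a`. -/
theorem αt_comm {α a : G} (hα : α ∈ A0) (ha : a ∈ A0) (haa : a * a = ρ * z * ρ⁻¹)
    (h : α * t * a = a * (α * t)) : False := by
  have h1 : t * a * t⁻¹ = a := by
    have h2 := B.A0_comm α hα _ (B.t_A0 a ha)
    have h3 : α * (t * a * t⁻¹) = α * a := by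
      calc α * (t * a * t⁻¹) = α * t * a * t⁻¹ := by group
        _ = a * α := by rw [h]; group
        _ = α * a := B.A0_comm a ha α hα
    exact mul_left_cancel h3
  have h2 : t * (a * a) * t⁻¹ = a * a := by
    calc t * (a * a) * t⁻¹ = (t * a * t⁻¹) * (t * a * t⁻¹) := by group
      _ = a * a := by rw [h1]
  rw [haa, B.t_rz] at h2
  exact B.z1_ne_z2 h2.symm

/-- `x^{N(T)} ⊆ {x, xz}`. -/
theorem norm_x {n : G} (hn : ∀ g ∈ T, n * g * n⁻¹ ∈ T) (hn' : ∀ g ∈ T, n⁻¹ * g * n ∈ T) :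
    n * x * n⁻¹ = x ∨ n * x * n⁻¹ = x * z := by
  have hy := hn x B.x_mem
  have hyy : n * x * n⁻¹ * (n * x * n⁻¹) = 1 := by
    calc n * x * n⁻¹ * (n * x * n⁻¹) = n * (x * x) * n⁻¹ := by group
      _ = 1 := by rw [B.x_sq]; group
  have hc : ∀ g ∈ T, (n * x * n⁻¹) * g = g * (n * x * n⁻¹) := by
    intro g hg
    have h1 := B.T_x (hn' g hg)
    calc (n * x * n⁻¹) * g = n * (x * (n⁻¹ * g * n)) * n⁻¹ := by group
      _ = _ := by rw [← h1]; group
  obtain ⟨p, hp, hpp, hyp⟩ := B.T_inv hy hyy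
  have hpc : ∀ g ∈ T, p * g = g * p := by
    intro g hg
    rcases hyp with h | h
    · rw [← h]; exact hc g hg
    · have h1 := hc g hg
      rw [h] at h1
      have h2 := B.T_x hg
      have h3 : p * g * x = g * p * x := by
        calc p * g * x = p * (g * x) := by group
          _ = p * x * g := by rw [h2]; group
          _ = _ := by rw [h1]; group
      exact mul_right_cancel h3
  have hpA : p ∈ A0 := by
    rcases hp with hp | ⟨α, hα, rfl⟩
    · exact hp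
    · exfalso
      obtain ⟨a, ha, haa, -⟩ := B.exists_a
      exact B.αt_comm hα ha haa (hpc a (B.A0_le ha))
  have hpV := B.A0_inv p hpA hpp
  have htp : t * p * t⁻¹ = p := by rw [← hpc t B.t_mem, mul_inv_cancel_right]
  have hp1 : p = 1 ∨ p = z := by
    rcases B.V_eq p hpV with h | h | h | h
    · exact Or.inl h
    · exact Or.inr h
    · exfalso
      rw [h, B.t_rz] at htp
      exact B.z1_ne_z2 htp.symm
    · exfalso
      rw [h, B.t_z2] at htp
      exact B.z1_ne_z2 htp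
  have hback : ∀ y : G, n * x * n⁻¹ = y → x = n⁻¹ * y * n := by
    intro y h
    rw [← h]; group
  rcases hyp with h | h
  · exfalso
    rcases hp1 with rfl | rfl
    · apply B.x_ne
      rw [hback _ h]; group
    · have h1 := hback _ h
      have h2 := B.norm_z hn
      have h3 : n⁻¹ * p * n = p := by
        calc n⁻¹ * p * n = n⁻¹ * (n * p * n⁻¹) * n := by rw [h2]
          _ = p := by group
      rw [h3] at h1
      exact B.x_not (h1 ▸ hpA)
  · rcases hp1 with rfl | rfl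
    · left; rw [h, one_mul]
    · right; rw [h, B.x_comm p hpA]

end Base

end Cfsg.Agent.GH.WAct
end

-- part: GH/WStep
section
/-!
# Project GH, branch GH-L3 (W): `x` is isolated, or `N_G(T)` moves `x` to `xz`
-/

set_option autoImplicit false

namespace Cfsg.Agent.GH.WAct

open Subgroup Cfsg.Agent.TwoFusion.SectionalRank

variable {G : Type*} [Group G]

/-- Sylow's theorem in a subgroup `N`. -/
theorem conj_into [Finite G] {N T Y : Subgroup G} (hT : IsPGroup 2 T) (hTN : T ≤ N)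
    (hmax : ∀ Q : Subgroup G, IsPGroup 2 Q → Q ≤ N → T ≤ Q → Q ≤ T) (hY : IsPGroup 2 Y)
    (hYN : Y ≤ N) : ∃ c ∈ N, ∀ y ∈ Y, c * y * c⁻¹ ∈ T := by
  have : Fact (Nat.Prime 2) := ⟨Nat.prime_two⟩
  have hTp : IsPGroup 2 (T.subgroupOf N) := hT.comap_of_injective N.subtype N.subtype_injective
  have hYp : IsPGroup 2 (Y.subgroupOf N) := hY.comap_of_injective N.subtype N.subtype_injective
  obtain ⟨P, hP⟩ := hTp.exists_le_sylow
  obtain ⟨Q, hQ⟩ := hYp.exists_le_sylow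
  have hP2 : (P : Subgroup N).map N.subtype ≤ T := by
    refine hmax _ (P.2.map _) ?_ ?_
    · rintro _ ⟨q, -, rfl⟩
      exact q.2
    · intro g hg
      exact ⟨⟨g, hTN hg⟩, hP hg, rfl⟩
  obtain ⟨c, hc⟩ := MulAction.exists_smul_eq N Q P
  refine ⟨c, c.2, fun y hy => ?_⟩
  apply hP2
  refine ⟨c * ⟨y, hYN hy⟩ * c⁻¹, ?_, rfl⟩
  have h1 : (⟨y, hYN hy⟩ : N) ∈ Q := hQ hy
  rw [← hc]
  have h2 : c * ⟨y, hYN hy⟩ * c⁻¹ ∈ ((c • Q : Sylow 2 N) : Subgroup N) := by
    rw [Sylow.coe_subgroup_smul]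
    exact Subgroup.smul_mem_pointwise_smul _ (MulAut.conj c) _ h1
  exact h2

theorem isPGroup_zpowers {y : G} {n : ℕ} (hn : y ^ 2 ^ n = 1) : IsPGroup 2 (zpowers y) := by
  rintro ⟨_, k, rfl⟩
  refine ⟨n, Subtype.ext ?_⟩
  show (y ^ k) ^ 2 ^ n = 1
  rw [← zpow_natCast, ← zpow_mul, mul_comm, zpow_mul, zpow_natCast, hn, one_zpow]

namespace Base

variable {V A0 T : Subgroup G} {x τ t ρ z : G} (B : Base V A0 T x τ t ρ z)

include B

theorem max [Finite G] {Q : Subgroup G} (hQ : IsPGroup 2 Q) (hQx : ∀ q ∈ Q, q * x = x * q)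
    (hTQ : T ≤ Q) : Q ≤ T := by
  have h1 := B.cent_card Q hQ hQx
  exact (Subgroup.eq_of_le_of_card_ge hTQ h1).ge

theorem T_le_cent : T ≤ centralizer ({x} : Set G) := fun _ hg =>
  mem_centralizer_singleton_iff.2 (B.T_x hg)

/-- The case `N_G(T) ≤ C_G(x)`. -/
theorem isolated_of_norm [Finite G] (hfix : ∀ n : G, (∀ g ∈ T, n * g * n⁻¹ ∈ T) → n * x * n⁻¹ = x) :
    E.Isolated x := by
  have : Fact (Nat.Prime 2) := ⟨Nat.prime_two⟩
  -- `T` is a Sylow subgroup
  obtain ⟨P, hP⟩ := B.T_p.exists_le_sylow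
  have hPT : T = (P : Subgroup G) := by
    by_contra hne
    obtain ⟨y, hyP, hyT, hy⟩ := exists_mem_normalizer P.2 hP hne
    have h1 : y * x = x * y := by
      have h2 := hfix y hy
      rwa [mul_inv_eq_iff_eq_mul] at h2
    have h3 : (P : Subgroup G) ⊓ centralizer ({x} : Set G) ≤ T := by
      refine B.max (P.2.to_le inf_le_left) ?_ ?_
      · intro q hq
        exact mem_centralizer_singleton_iff.1 hq.2
      · intro g hg
        exact ⟨hP hg, B.T_le_cent hg⟩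
    exact hyT (h3 ⟨hyP, mem_centralizer_singleton_iff.2 h1⟩)
  intro g hg
  set y := g * x * g⁻¹ with hy
  have hyy : y * y = 1 := by
    rw [hy, show g * x * g⁻¹ * (g * x * g⁻¹) = g * (x * x) * g⁻¹ by group, B.x_sq, mul_one,
      mul_inv_cancel]
  have hy1 : y ≠ 1 := by
    intro h
    apply B.x_ne
    have : x = g⁻¹ * (g * x * g⁻¹) * g := by group
    rw [this, ← hy, h]
    group
  obtain ⟨c, hc, hcy⟩ := conj_into (N := centralizer ({x} : Set G)) (Y := zpowers y) B.T_p B.T_le_cent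
    (fun Q hQ hQN hTQ => B.max hQ (fun q hq => mem_centralizer_singleton_iff.1 (hQN hq)) hTQ)
    (isPGroup_zpowers (n := 1) (by rw [pow_one, pow_two, hyy]))
    (by rw [zpowers_le, mem_centralizer_singleton_iff]; exact hg.symm)
  have hcx := mem_centralizer_singleton_iff.1 hc
  have hcT := hcy y (mem_zpowers y)
  have h1 : c * y * c⁻¹ * (c * y * c⁻¹) = 1 := by
    rw [show c * y * c⁻¹ * (c * y * c⁻¹) = c * (y * y) * c⁻¹ by group, hyy, mul_one, mul_inv_cancel]
  obtain ⟨p, hp, hpp, hyp⟩ := B.T_inv hcT h1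
  have hz : z ∈ T := B.A0_le (B.V_le B.z_mem)
  have hcz : ∀ g ∈ T, g * z = z * g := by
    intro g hg
    have := B.T_z hg
    rwa [mul_inv_eq_iff_eq_mul] at this
  have cx : x ∈ centralizer (P : Set G) := by
    rw [mem_centralizer_iff]
    intro k hk
    exact B.T_x (hPT ▸ hk)
  have cz : z ∈ centralizer (P : Set G) := by
    rw [mem_centralizer_iff]
    intro k hk
    exact hcz k (hPT ▸ hk)
  -- central involutions other than `x` are not conjugate to `x`
  have key : ∀ (u k : G), u ∈ centralizer (P : Set G) → k * x * k⁻¹ = u → u = x := by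
    intro u k hu hk
    obtain ⟨n, hn, hnx⟩ := P.conj_eq_normalizer_conj_of_mem_centralizer x k⁻¹ cx
      (by rw [inv_inv, hk]; exact hu)
    rw [inv_inv, hk] at hnx
    have hn' : n⁻¹ ∈ normalizer (P : Set G) := inv_mem hn
    have h3 := hfix n⁻¹ (fun g hg => by
      rw [hPT] at hg ⊢
      exact (mem_normalizer_iff.1 hn' g).1 hg)
    rw [inv_inv] at h3
    rw [hnx, h3]
  by_cases hp1 : p = 1
  · have h2 : c * y * c⁻¹ = x := by
      rcases hyp with h | h
      · exfalso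
        apply hy1
        have : y = c⁻¹ * (c * y * c⁻¹) * c := by group
        rw [this, h, hp1]
        group
      · rw [h, hp1, one_mul]
    have h4 : y = c⁻¹ * x * c := by rw [← h2]; group
    rw [h4, mul_assoc, ← hcx, inv_mul_cancel_left]
  · exfalso
    obtain ⟨k, hkx, hkp⟩ := B.star' hp hpp hp1
    rcases hyp with h | h
    · -- `x ~ z`
      have h2 := key z (k * c * g) cz (by
        rw [← hkp, ← h, hy]; group)
      exact B.x_not (h2 ▸ B.V_le B.z_mem)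
    · have h3 : k * (c * y * c⁻¹) * k⁻¹ = z * x := by
        rw [h, ← hkp]
        have h4 : k * (p * x) * k⁻¹ = k * p * (x * k⁻¹) := by group
        have h5 : x * k⁻¹ = k⁻¹ * x := ((show Commute k x from hkx).inv_left).eq.symm
        rw [h4, h5]
        group
      have h2 := key (z * x) (k * c * g) (mul_mem cz cx) (by
        rw [← h3, hy]; group)
      exact B.z_ne (mul_eq_right.1 h2)

/-- fusion of involutions of `T`, when `x` is conjugate to `xz` and not to `z`. -/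
theorem mem_P0 (hzx : ∀ g : G, g * x * g⁻¹ ≠ z) (hxz : ∃ g : G, g * x * g⁻¹ = x * z) {y : G}
    (hy : y ∈ T) (hyy : y * y = 1) (hyz : ∃ k : G, k * y * k⁻¹ = z) : y ∈ A0 ∨ ∃ α ∈ A0, y = α * t := by
  obtain ⟨p, hp, hpp, hyp⟩ := B.T_inv hy hyy
  rcases hyp with h | h
  · rw [h]; exact hp
  · exfalso
    obtain ⟨k0, hk0⟩ := hyz
    by_cases hp1 : p = 1
    · rw [hp1, one_mul] at h
      exact hzx k0 (h ▸ hk0)
    · obtain ⟨k, hkx, hkp⟩ := B.star' hp hpp hp1
      obtain ⟨g, hg⟩ := hxz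
      have h3 : k * y * k⁻¹ = x * z := by
        have h4 : k * (p * x) * k⁻¹ = k * p * (x * k⁻¹) := by group
        have h5 : x * k⁻¹ = k⁻¹ * x := ((show Commute k x from hkx).inv_left).eq.symm
        rw [h, h4, h5, B.x_comm z (B.V_le B.z_mem), ← hkp]
        group
      have h6 : y = (k⁻¹ * g) * x * (k⁻¹ * g)⁻¹ := by
        have : y = k⁻¹ * (k * y * k⁻¹) * k := by group
        rw [this, h3, ← hg]
        group
      apply hzx (k0 * (k⁻¹ * g))
      rw [← hk0, h6]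
      group

/-- `N_G(T)` normalises `V`. -/
theorem norm_V (hzx : ∀ g : G, g * x * g⁻¹ ≠ z) (hxz : ∃ g : G, g * x * g⁻¹ = x * z) {n : G}
    (hn : ∀ g ∈ T, n * g * n⁻¹ ∈ T) (hn' : ∀ g ∈ T, n⁻¹ * g * n ∈ T) {v : G} (hv : v ∈ V) :
    n * v * n⁻¹ ∈ V := by
  by_cases hv1 : v = 1
  · rw [hv1, mul_one, mul_inv_cancel]
    exact V.one_mem
  set y := n * v * n⁻¹ with hy
  have hyT : y ∈ T := hn v (B.A0_le (B.V_le hv))
  have hyy : y * y = 1 := by
    calc y * y = n * (v * v) * n⁻¹ := by rw [hy]; group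
      _ = 1 := by rw [B.V_sq v hv]; group
  obtain ⟨k, -, hk⟩ := B.starV hv hv1
  rcases B.mem_P0 hzx hxz hyT hyy ⟨k * n⁻¹, by rw [← hk, hy]; group⟩ with h | ⟨α, hα, h⟩
  · exact B.A0_inv _ h hyy
  · exfalso
    obtain ⟨a, ha, haa, hz⟩ := B.exists_a
    have haT := B.A0_le ha
    -- `[a, y]` has order `4`, but lies in `n V n⁻¹`
    have h1 : n⁻¹ * a * n ∈ T := hn' a haT
    have h2 := B.T_V h1 hv
    have h3 : (n⁻¹ * a * n) * v * (n⁻¹ * a * n)⁻¹ * v⁻¹ ∈ V := V.mul_mem h2 (V.inv_mem hv)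
    have h4 : a * y * a⁻¹ * y⁻¹ = n * ((n⁻¹ * a * n) * v * (n⁻¹ * a * n)⁻¹ * v⁻¹) * n⁻¹ := by
      rw [hy]; group
    have h5 : (a * y * a⁻¹ * y⁻¹) * (a * y * a⁻¹ * y⁻¹) = 1 := by
      rw [h4]
      calc _ = n * (((n⁻¹ * a * n) * v * (n⁻¹ * a * n)⁻¹ * v⁻¹) *
            ((n⁻¹ * a * n) * v * (n⁻¹ * a * n)⁻¹ * v⁻¹)) * n⁻¹ := by group
        _ = 1 := by rw [B.V_sq _ h3]; group
    have h6 : a * y * a⁻¹ * y⁻¹ = a * t * a⁻¹ * t⁻¹ := by
      have h7 := B.A0_comm α hα _ (B.t_A0 _ (A0.inv_mem ha))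
      calc a * y * a⁻¹ * y⁻¹ = a * (α * (t * a⁻¹ * t⁻¹)) * α⁻¹ := by rw [h]; group
        _ = a * (t * a⁻¹ * t⁻¹) := by rw [h7]; group
        _ = _ := by group
    rw [h6, hz] at h5
    exact B.z_ne h5

end Base

/-- The situation after Step 1. -/
structure Base2 (V A0 T : Subgroup G) (x τ t ρ z s : G) : Prop extends Base V A0 T x τ t ρ z where
  s_T : ∀ g ∈ T, s * g * s⁻¹ ∈ T
  s_T' : ∀ g ∈ T, s⁻¹ * g * s ∈ T
  R_p : IsPGroup 2 (T ⊔ zpowers s : Subgroup G)
  s_x : s * x * s⁻¹ = x * z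
  s_V : ∀ v ∈ V, s * v = v * s
  zx : ∀ g : G, g * x * g⁻¹ ≠ z

theorem Base.exists_base2 [Finite G] {V A0 T : Subgroup G} {x τ t ρ z : G}
    (B : Base V A0 T x τ t ρ z) (h : ¬ E.Isolated x) : ∃ s : G, Base2 V A0 T x τ t ρ z s := by
  have h1 : ∃ n : G, (∀ g ∈ T, n * g * n⁻¹ ∈ T) ∧ n * x * n⁻¹ ≠ x := by
    by_contra hcon
    push Not at hcon
    exact h (B.isolated_of_norm hcon)
  obtain ⟨n, hn, hnx⟩ := h1
  have hnN : n ∈ normalizer (T : Set G) := mem_normalizer_fintype (S := (T : Set G)) hn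
  have inN : ∀ n ∈ normalizer (T : Set G), (∀ g ∈ T, n * g * n⁻¹ ∈ T) ∧ (∀ g ∈ T, n⁻¹ * g * n ∈ T) := by
    intro n hn
    exact ⟨fun g hg => (mem_normalizer_iff.1 hn g).1 hg, fun g hg => (mem_normalizer_iff''.1 hn g).1 hg⟩
  have hxz := (B.norm_x (inN n hnN).1 (inN n hnN).2).resolve_left hnx
  -- the 2-part of `n`
  obtain ⟨k, m, hm, hkm⟩ := Nat.exists_eq_two_pow_mul_odd (n := orderOf n) (orderOf_pos n).ne'
  obtain ⟨l, rfl⟩ := hm
  set! s0 := n ^ (2 * l + 1) with hs0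
  have hs0N : s0 ∈ normalizer (T : Set G) := pow_mem hnN _
  have hnz := B.norm_z hn
  have hn2 : Commute (n * n) x := by
    have h2 : n * n * x * (n * n)⁻¹ = x := by
      calc n * n * x * (n * n)⁻¹ = n * (n * x * n⁻¹) * n⁻¹ := by group
        _ = n * (x * z) * n⁻¹ := by rw [hxz]
        _ = (n * x * n⁻¹) * (n * z * n⁻¹) := by group
        _ = x * (z * z) := by rw [hxz, hnz]; group
        _ = x := by rw [B.V_sq z B.z_mem, mul_one]
    rw [mul_inv_eq_iff_eq_mul] at h2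
    exact h2
  have hs0x : s0 * x * s0⁻¹ = x * z := by
    have e : s0 = n * (n * n) ^ l := by rw [hs0, pow_succ', pow_mul, pow_two]
    have c := (hn2.pow_left l).eq
    calc s0 * x * s0⁻¹ = n * ((n * n) ^ l * x) * ((n * n) ^ l)⁻¹ * n⁻¹ := by rw [e]; group
      _ = n * (x * (n * n) ^ l) * ((n * n) ^ l)⁻¹ * n⁻¹ := by rw [c]
      _ = n * x * n⁻¹ := by group
      _ = x * z := hxz
  have hs0p : IsPGroup 2 (zpowers s0) := by
    refine isPGroup_zpowers (n := k) ?_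
    rw [hs0, ← pow_mul, mul_comm, ← hkm, pow_orderOf_eq_one]
  have hs0z := B.norm_z (inN s0 hs0N).1
  have hR : IsPGroup 2 (T ⊔ zpowers s0 : Subgroup G) := by
    refine IsPGroup.to_sup_of_normal_left' B.T_p hs0p ?_
    rw [zpowers_le]
    exact hs0N
  have hs0T : s0 ∉ T := by
    intro h2
    have h3 := B.T_x h2
    rw [h3, mul_inv_cancel_right] at hs0x
    exact B.z_ne (mul_left_cancel ((mul_one x).trans hs0x)).symm
  have hzx : ∀ g : G, g * x * g⁻¹ ≠ z := by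
    intro g hg
    let Q : Subgroup G := (T ⊔ zpowers s0 : Subgroup G).map (MulAut.conj g⁻¹).toMonoidHom
    have hRz : T ⊔ zpowers s0 ≤ centralizer ({z} : Set G) := by
      refine sup_le ?_ ?_
      · intro y hy
        rw [mem_centralizer_singleton_iff]
        have := B.T_z hy
        rwa [mul_inv_eq_iff_eq_mul] at this
      · rw [zpowers_le, mem_centralizer_singleton_iff]
        rwa [mul_inv_eq_iff_eq_mul] at hs0z
    have hc : Nat.card Q = Nat.card (T ⊔ zpowers s0 : Subgroup G) :=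
      (Nat.card_congr ((T ⊔ zpowers s0 : Subgroup G).equivMapOfInjective _
        (MulAut.conj g⁻¹).injective).toEquiv).symm
    have h2 := B.cent_card Q (hR.map _) (by
      rintro _ ⟨y, hy, rfl⟩
      have h3 := mem_centralizer_singleton_iff.1 (hRz hy)
      show g⁻¹ * y * g⁻¹⁻¹ * x = x * (g⁻¹ * y * g⁻¹⁻¹)
      have hx : x = g⁻¹ * z * g := by rw [← hg]; group
      rw [hx]
      calc g⁻¹ * y * g⁻¹⁻¹ * (g⁻¹ * z * g) = g⁻¹ * (y * z) * g := by group
        _ = g⁻¹ * (z * y) * g := by rw [h3]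
        _ = _ := by group)
    have h4 := two_mul_card_le (H := T) (K := T ⊔ zpowers s0) le_sup_left
      (mem_sup_right (mem_zpowers s0)) hs0T
    have h5 : 0 < Nat.card T := Nat.card_pos
    omega
  have hV := fun (v : G) (hv : v ∈ V) => B.norm_V hzx ⟨n, hxz⟩ (inN s0 hs0N).1 (inN s0 hs0N).2 hv
  -- action on `z₁`
  have hcent : ∀ s1 : G, (∀ v ∈ V, s1 * v * s1⁻¹ ∈ V) → s1 * z * s1⁻¹ = z →
      s1 * (ρ * z * ρ⁻¹) * s1⁻¹ = ρ * z * ρ⁻¹ → ∀ v ∈ V, s1 * v = v * s1 := by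
    intro s1 _ h2 h3 v hv
    rw [mul_inv_eq_iff_eq_mul] at h2 h3
    rcases B.V_eq v hv with rfl | rfl | rfl | rfl
    · simp
    · exact h2
    · exact h3
    · rw [← B.z_z1]
      exact ((show Commute s1 z from h2).mul_right (show Commute s1 _ from h3))
  have hz1 := hV _ (B.ρ_V B.z_mem)
  have back : ∀ y w : G, s0 * y * s0⁻¹ = w → y = s0⁻¹ * w * s0 := by
    intro y w h2; rw [← h2]; group
  rcases B.V_eq _ hz1 with h2 | h2 | h2 | h2
  · exfalso
    apply B.z1_ne_one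
    rw [back _ _ h2]; group
  · exfalso
    have h3 : s0⁻¹ * z * s0 = z := by rw [← back z z hs0z]
    exact B.z1_ne_z ((back _ _ h2).trans h3)
  · exact ⟨s0, B, (inN s0 hs0N).1, (inN s0 hs0N).2, hR, hs0x, hcent s0 hV hs0z h2, hzx⟩
  · have htN : t ∈ normalizer (T : Set G) := le_normalizer B.t_mem
    have hs1N : s0 * t ∈ normalizer (T : Set G) := mul_mem hs0N htN
    refine ⟨s0 * t, B, (inN _ hs1N).1, (inN _ hs1N).2, ?_, ?_, ?_, hzx⟩
    · refine hR.to_le (sup_le le_sup_left ?_)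
      rw [zpowers_le]
      exact mul_mem (mem_sup_right (mem_zpowers s0)) (mem_sup_left B.t_mem)
    · calc s0 * t * x * (s0 * t)⁻¹ = s0 * (t * x) * t⁻¹ * s0⁻¹ := by group
        _ = s0 * x * s0⁻¹ := by rw [B.t_x]; group
        _ = x * z := hs0x
    · refine hcent _ ?_ ?_ ?_
      · intro v hv
        have := hV _ (B.t_V hv)
        have e : s0 * t * v * (s0 * t)⁻¹ = s0 * (t * v * t⁻¹) * s0⁻¹ := by group
        rw [e]
        exact this
      · have e : s0 * t * z * (s0 * t)⁻¹ = s0 * (t * z * t⁻¹) * s0⁻¹ := by group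
        rw [e, B.t_z, hs0z]
      · have e : s0 * t * (ρ * z * ρ⁻¹) * (s0 * t)⁻¹ = s0 * (t * (ρ * z * ρ⁻¹) * t⁻¹) * s0⁻¹ := by group
        rw [e, B.t_rz, ← B.z_z1]
        calc s0 * (z * (ρ * z * ρ⁻¹)) * s0⁻¹ = (s0 * z * s0⁻¹) * (s0 * (ρ * z * ρ⁻¹) * s0⁻¹) := by group
          _ = z * (z * (ρ * z * ρ⁻¹)) := by rw [hs0z, h2, B.z_z1]
          _ = ρ * z * ρ⁻¹ := by rw [← mul_assoc, B.V_sq z B.z_mem, one_mul]

end Cfsg.Agent.GH.WAct
end

-- part: GH/WMain
section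
/-!
# Project GH, branch GH-L3 (W): main theorem

`Base.isolated`: `T = P0 ⋊ ⟨τ⟩` a Sylow 2-subgroup of `C_G(x)`, `P0 = 4 wr 2`, no elementary abelian section of
order `32`, `x` in the kernel of every homomorphism `G → {±1}`: then `x` is isolated.
-/

set_option autoImplicit false

namespace Cfsg.Agent.GH.WAct

open Subgroup Cfsg.Agent.TwoFusion.SectionalRank

variable {G : Type*} [Group G]

theorem exists_max [Finite G] {N R : Subgroup G} (hR : IsPGroup 2 R) (hRN : R ≤ N) :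
    ∃ R1 : Subgroup G, R ≤ R1 ∧ R1 ≤ N ∧ IsPGroup 2 R1 ∧
      ∀ Q : Subgroup G, IsPGroup 2 Q → Q ≤ N → R1 ≤ Q → Q ≤ R1 := by
  have hRp : IsPGroup 2 (R.subgroupOf N) := hR.comap_of_injective N.subtype N.subtype_injective
  obtain ⟨P, hP⟩ := hRp.exists_le_sylow
  refine ⟨(P : Subgroup N).map N.subtype, ?_, ?_, P.2.map _, ?_⟩
  · intro g hg
    exact ⟨⟨g, hRN hg⟩, hP hg, rfl⟩
  · rintro _ ⟨q, -, rfl⟩
    exact q.2
  · intro Q hQ hQN hPQ g hg
    have hQp : IsPGroup 2 (Q.subgroupOf N) := hQ.comap_of_injective N.subtype N.subtype_injective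
    have h1 : (P : Subgroup N) ≤ Q.subgroupOf N := by
      intro p hp
      exact hPQ ⟨p, hp, rfl⟩
    have h2 := P.3 hQp h1
    have h3 : (⟨g, hQN hg⟩ : N) ∈ Q.subgroupOf N := hg
    rw [h2] at h3
    exact ⟨_, h3, rfl⟩

/-- splitting of an element into its 2-part and its odd part. -/
theorem exists_parts [Finite G] (c : G) : ∃ (u o : G) (k m : ℕ), u * o = c ∧ u ∈ zpowers c ∧
    o ∈ zpowers c ∧ u ^ 2 ^ k = 1 ∧ o ^ m = 1 ∧ Odd m := by
  obtain ⟨k, m, hm, hkm⟩ := Nat.exists_eq_two_pow_mul_odd (n := orderOf c) (orderOf_pos c).ne'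
  have hcop : Nat.Coprime (2 ^ k) m := Nat.Coprime.pow_left k (Nat.coprime_two_left.2 hm)
  have hb := Nat.gcd_eq_gcd_ab (2 ^ k) m
  rw [hcop.gcd_eq_one] at hb
  set a := Nat.gcdA (2 ^ k) m
  set b := Nat.gcdB (2 ^ k) m
  refine ⟨(c ^ m) ^ b, (c ^ 2 ^ k) ^ a, k, m, ?_, ?_, ?_, ?_, ?_, hm⟩
  · rw [← zpow_natCast, ← zpow_natCast, ← zpow_mul, ← zpow_mul, ← zpow_add, add_comm]
    rw [← hb]
    simp
  · exact zpow_mem (pow_mem (mem_zpowers c) _) _
  · exact zpow_mem (pow_mem (mem_zpowers c) _) _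
  · rw [← zpow_natCast, ← zpow_mul, mul_comm, zpow_mul, zpow_natCast, ← pow_mul, mul_comm m, ← hkm,
      pow_orderOf_eq_one, one_zpow]
  · rw [← zpow_natCast, ← zpow_mul, mul_comm, zpow_mul, zpow_natCast, ← pow_mul, ← hkm,
      pow_orderOf_eq_one, one_zpow]

theorem pow4 (a : G) : a ^ 2 ^ 2 = a * a * (a * a) := by
  rw [pow_mul a 2 2 |> fun h => (show a ^ 2 ^ 2 = a ^ (2 * 2) by norm_num).trans h, pow_two, pow_two]

theorem eq_one_of_pow {e : G} {k m : ℕ} (h1 : e ^ 2 ^ k = 1) (h2 : e ^ m = 1) (hm : Odd m) : e = 1 := by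
  have h3 := orderOf_dvd_of_pow_eq_one h1
  have h4 := orderOf_dvd_of_pow_eq_one h2
  have hcop : Nat.Coprime (2 ^ k) m := Nat.Coprime.pow_left k (Nat.coprime_two_left.2 hm)
  exact orderOf_eq_one_iff.1 (Nat.eq_one_of_dvd_coprimes hcop h3 h4)

namespace Base

variable {V A0 T : Subgroup G} {x τ t ρ z : G} (B : Base V A0 T x τ t ρ z)

include B

/-- The form of the elements of `Ap = C_T(V)`. -/
theorem Ap_form {g : G} (hg : g ∈ T ⊓ centralizer (V : Set G)) : ∃ a ∈ A0, ∃ i : ℕ, g = a * τ ^ i := by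
  obtain ⟨α, hα, j, i, hgf⟩ := (B.T_mem g).1 hg.1
  rcases B.t_pow j with h | h
  · exact ⟨α, hα, i, by rw [hgf, h, mul_one]⟩
  · exfalso
    have h1 := B.T_V' hα j i hgf (B.ρ_V B.z_mem)
    rw [h, B.t_rz] at h1
    have h2 := mem_centralizer_iff.1 hg.2 _ (B.ρ_V B.z_mem)
    rw [← h2, mul_inv_cancel_right] at h1
    exact B.z1_ne_z2 h1

theorem A0_le_Ap : A0 ≤ T ⊓ centralizer (V : Set G) := by
  intro g hg
  refine ⟨B.A0_le hg, mem_centralizer_iff.2 fun v hv => ?_⟩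
  exact B.A0_comm v (B.V_le hv) g hg

theorem τ_mem_Ap : τ ∈ T ⊓ centralizer (V : Set G) := by
  refine ⟨B.τ_mem, mem_centralizer_iff.2 fun v hv => ?_⟩
  have := B.τ_pow_V 1 hv
  rw [pow_one, mul_inv_eq_iff_eq_mul] at this
  exact this.symm

theorem x_mem_Ap : x ∈ T ⊓ centralizer (V : Set G) := by
  obtain ⟨m, hm⟩ := B.x_pow
  rw [hm]
  exact pow_mem B.τ_mem_Ap m

/-- Elements of `Ap` with square in `V` are in `A0 ∪ A0 x`. -/
theorem mem_of_sq {a : G} {i : ℕ} (ha : a ∈ A0) (h2 : a * τ ^ i * (a * τ ^ i) ∈ A0) :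
    τ ^ i = 1 ∨ τ ^ i = x := by
  have h4 := B.τ_pow_mem i ha
  have e : τ ^ i * τ ^ i = (a * (τ ^ i * a * (τ ^ i)⁻¹))⁻¹ * (a * τ ^ i * (a * τ ^ i)) := by group
  have h5 : τ ^ i * τ ^ i ∈ A0 := by
    rw [e]
    exact A0.mul_mem (A0.inv_mem (A0.mul_mem ha h4)) h2
  refine B.τ_inv i ?_
  have := B.τ_not (i + i) (by rw [pow_add]; exact h5)
  rwa [pow_add] at this

/-- involutions of `Ap`. -/
theorem Ap_inv {y : G} (hy : y ∈ T ⊓ centralizer (V : Set G)) (hyy : y * y = 1) :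
    y ∈ V ∨ ∃ v ∈ V, y = x * v := by
  obtain ⟨a, ha, i, rfl⟩ := B.Ap_form hy
  rcases B.mem_of_sq ha (by rw [hyy]; exact A0.one_mem) with h | h
  · left
    rw [h, mul_one] at hyy ⊢
    exact B.A0_inv a ha hyy
  · right
    rw [h] at hyy ⊢
    have h1 := B.x_comm a ha
    refine ⟨a, B.A0_inv a ha ?_, h1.symm⟩
    calc a * a = a * a * (x * x) := by rw [B.x_sq, mul_one]
      _ = a * (a * x) * x := by group
      _ = a * (x * a) * x := by rw [h1]
      _ = a * x * (a * x) := by group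
      _ = 1 := hyy

/-- an element of odd order centralising `x` and `V` and normalising `Ap` centralises `Ap`. -/
theorem odd_cent {o : G} {m : ℕ} (hom : o ^ m = 1) (hm : Odd m) (hox : o * x = x * o)
    (hoV : ∀ v ∈ V, o * v = v * o)
    (hoA : ∀ g ∈ T ⊓ centralizer (V : Set G), o * g * o⁻¹ ∈ T ⊓ centralizer (V : Set G)) :
    ∀ g ∈ T ⊓ centralizer (V : Set G), o * g = g * o := by
  -- iteration
  have iter : ∀ (g y : G), o * g * o⁻¹ = y * g → o * y = y * o → ∀ n : ℕ,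
      o ^ n * g * (o ^ n)⁻¹ = y ^ n * g := by
    intro g y h1 h2 n
    induction n with
    | zero => simp
    | succ n ih =>
      have h3 : o * y ^ n = y ^ n * o := (show Commute o y from h2).pow_right n
      calc o ^ (n + 1) * g * (o ^ (n + 1))⁻¹ = o * (o ^ n * g * (o ^ n)⁻¹) * o⁻¹ := by
            rw [pow_succ']; group
        _ = (o * y ^ n) * g * o⁻¹ := by rw [ih]; group
        _ = y ^ n * (o * g * o⁻¹) := by rw [h3]; group
        _ = y ^ (n + 1) * g := by rw [h1, pow_succ]; group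
  have conc : ∀ (g y : G) (k : ℕ), o * g * o⁻¹ = y * g → o * y = y * o → y ^ 2 ^ k = 1 →
      o * g = g * o := by
    intro g y k h1 h2 h3
    have h4 := iter g y h1 h2 m
    rw [hom] at h4
    have h5 : y ^ m = 1 := by
      have : 1 * g * 1⁻¹ = g := by group
      rw [this] at h4
      exact (mul_eq_right.1 h4.symm)
    rw [eq_one_of_pow h3 h5 hm, one_mul, mul_inv_eq_iff_eq_mul] at h1
    exact h1
  -- `A0`
  have hA0 : ∀ g ∈ A0, o * g = g * o := by
    intro g hg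
    have h1 := hoA g (B.A0_le_Ap hg)
    obtain ⟨a, ha, i, hai⟩ := B.Ap_form h1
    have h2 : o * g * o⁻¹ * (o * g * o⁻¹) = g * g := by
      calc o * g * o⁻¹ * (o * g * o⁻¹) = o * (g * g) * o⁻¹ := by group
        _ = g * g := by rw [hoV _ (B.A0_sq g hg), mul_inv_cancel_right]
    have h3 : a * τ ^ i * (a * τ ^ i) = g * g := by rw [← hai]; exact h2
    rcases B.mem_of_sq ha (by rw [h3]; exact A0.mul_mem hg hg) with h | h
    · rw [h, mul_one] at h3 hai
      have hV : a * g⁻¹ ∈ V := by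
        refine B.A0_inv _ (A0.mul_mem ha (A0.inv_mem hg)) ?_
        have c := B.A0_comm _ (A0.inv_mem hg) _ ha
        calc a * g⁻¹ * (a * g⁻¹) = a * (g⁻¹ * a) * g⁻¹ := by group
          _ = (a * a) * (g * g)⁻¹ := by rw [c]; group
          _ = 1 := by rw [h3, mul_inv_cancel]
      refine conc g (a * g⁻¹) 1 (by rw [hai]; group) (hoV _ hV) ?_
      rw [pow_one, pow_two]
      exact B.V_sq _ hV
    · rw [h] at h3 hai
      have hV : a * g⁻¹ ∈ V := by
        refine B.A0_inv _ (A0.mul_mem ha (A0.inv_mem hg)) ?_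
        have c := B.A0_comm _ (A0.inv_mem hg) _ ha
        have h4 : a * a = g * g := by
          have h5 := B.x_comm a ha
          calc a * a = a * a * (x * x) := by rw [B.x_sq, mul_one]
            _ = a * (a * x) * x := by group
            _ = a * (x * a) * x := by rw [h5]
            _ = a * x * (a * x) := by group
            _ = g * g := h3
        calc a * g⁻¹ * (a * g⁻¹) = a * (g⁻¹ * a) * g⁻¹ := by group
          _ = (a * a) * (g * g)⁻¹ := by rw [c]; group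
          _ = 1 := by rw [h4, mul_inv_cancel]
      have hx1 := B.x_comm _ (A0.inv_mem hg)
      have hx2 := B.x_comm _ (B.V_le hV)
      refine conc g (x * (a * g⁻¹)) 1 ?_ ?_ ?_
      · rw [hai, hx2]
        calc a * x = a * x * g⁻¹ * g := by group
          _ = a * (x * g⁻¹) * g := by group
          _ = a * (g⁻¹ * x) * g := by rw [hx1]
          _ = _ := by group
      · exact (show Commute o x from hox).mul_right (show Commute o _ from hoV _ hV)
      · rw [pow_one, pow_two]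
        calc x * (a * g⁻¹) * (x * (a * g⁻¹)) = x * ((a * g⁻¹) * x) * (a * g⁻¹) := by group
          _ = (x * x) * ((a * g⁻¹) * (a * g⁻¹)) := by rw [← hx2]; group
          _ = 1 := by rw [B.x_sq, B.V_sq _ hV, one_mul]
  -- powers of `τ`
  obtain ⟨k, hk⟩ := B.τ_two
  have hτ : ∀ i : ℕ, o * (τ ^ i * τ ^ i) = (τ ^ i * τ ^ i) * o → o * τ ^ i = τ ^ i * o := by
    intro i hi
    have h1 := hoA _ (pow_mem B.τ_mem_Ap i)
    obtain ⟨a, ha, j, hai⟩ := B.Ap_form h1
    have h2 : a * τ ^ j * (a * τ ^ j) = τ ^ i * τ ^ i := by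
      rw [← hai]
      calc o * τ ^ i * o⁻¹ * (o * τ ^ i * o⁻¹) = o * (τ ^ i * τ ^ i) * o⁻¹ := by group
        _ = _ := by rw [hi, mul_inv_cancel_right]
    -- `τ ^ l = τ ^ i τ ^ (-j)`
    set! l := i + j * (2 ^ k - 1) with hl
    have hkpos : 0 < 2 ^ k := by positivity
    have hτl : τ ^ l * τ ^ j = τ ^ i := by
      rw [← pow_add, hl]
      have : i + j * (2 ^ k - 1) + j = i + 2 ^ k * j := by
        have h3 : 2 ^ k - 1 + 1 = 2 ^ k := Nat.sub_add_cancel hkpos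
        calc i + j * (2 ^ k - 1) + j = i + j * (2 ^ k - 1 + 1) := by ring
          _ = i + 2 ^ k * j := by rw [h3]; ring
      rw [this, pow_add, pow_mul, hk, one_pow, mul_one]
    have hcomm : τ ^ l * τ ^ j = τ ^ j * τ ^ l := (Commute.refl τ).pow_pow l j
    have h4 := B.τ_pow_mem j ha
    have h5 : τ ^ l * τ ^ l = a * (τ ^ j * a * (τ ^ j)⁻¹) := by
      have h6 : a * (τ ^ j * a * (τ ^ j)⁻¹) * (τ ^ j * τ ^ j) = τ ^ i * τ ^ i := by
        rw [← h2]; group
      have h7 : τ ^ i * τ ^ i = τ ^ l * τ ^ l * (τ ^ j * τ ^ j) := by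
        rw [← hτl]
        calc τ ^ l * τ ^ j * (τ ^ l * τ ^ j) = τ ^ l * (τ ^ j * τ ^ l) * τ ^ j := by group
          _ = τ ^ l * (τ ^ l * τ ^ j) * τ ^ j := by rw [hcomm]
          _ = _ := by group
      rw [h7] at h6
      exact (mul_right_cancel h6).symm
    have h6 : τ ^ l * τ ^ l = 1 := by
      have := B.τ_not (l + l) (by rw [pow_add, h5]; exact A0.mul_mem ha h4)
      rwa [pow_add] at this
    have h7 : τ ^ l = 1 ∨ τ ^ l = x := B.τ_inv l h6
    have ha4 : a ^ 2 ^ 2 = 1 := by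
      rw [pow4, B.V_sq _ (B.A0_sq a ha)]
    rcases h7 with h7 | h7
    · rw [h7, one_mul] at hτl
      refine conc (τ ^ i) a 2 ?_ (hA0 a ha) ha4
      rw [hai, hτl]
    · rw [h7] at hτl
      have hxa := B.x_comm a ha
      have h8 : τ ^ j = x * τ ^ i := by rw [← hτl, ← mul_assoc, B.x_sq, one_mul]
      refine conc (τ ^ i) (a * x) 2 ?_ ?_ ?_
      · rw [hai, h8]; group
      · exact (show Commute o a from hA0 a ha).mul_right (show Commute o x from hox)
      · have hx4 : x ^ 2 ^ 2 = 1 := by rw [pow4, B.x_sq, one_mul]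
        rw [((show Commute a x from hxa.symm).mul_pow), ha4, hx4, one_mul]
  have hτ2 : ∀ n : ℕ, n ≤ k → o * τ ^ 2 ^ (k - n) = τ ^ 2 ^ (k - n) * o := by
    intro n
    induction n with
    | zero => intro _; rw [Nat.sub_zero, hk]; simp
    | succ n ih =>
      intro hn
      apply hτ
      rw [← pow_add, ← two_mul, ← pow_succ']
      have : k - (n + 1) + 1 = k - n := by omega
      rw [this]
      exact ih (by omega)
  have hτ1 : o * τ = τ * o := by
    have := hτ2 k le_rfl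
    rwa [Nat.sub_self, pow_zero, pow_one] at this
  intro g hg
  obtain ⟨a, ha, i, rfl⟩ := B.Ap_form hg
  exact (show Commute o a from hA0 a ha).mul_right ((show Commute o τ from hτ1).pow_right i)

end Base

end Cfsg.Agent.GH.WAct
end

-- part: GH/WThm
section
/-!
# Project GH, branch GH-L3 (W): the theorem

`Base.isolated`: if `T = P0 ⋊ ⟨τ⟩`, `P0 = 4 wr 2`, is a Sylow 2-subgroup of `C_G(x)` (structure `Base`), `G` has
no elementary abelian section of order `32` and `x` lies in the kernel of every homomorphism `G → {±1}`, then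
`x` is isolated.
-/

set_option autoImplicit false

namespace Cfsg.Agent.GH.WAct

open Subgroup Cfsg.Agent.TwoFusion.SectionalRank

variable {G : Type*} [Group G]

namespace Base2

variable {V A0 T : Subgroup G} {x τ t ρ z s : G} (B : Base2 V A0 T x τ t ρ z s)

include B

/-- elements normalising `Ap` normalise `V`. -/
theorem NAp_V {n : G} (hn : ∀ g ∈ T ⊓ centralizer (V : Set G), n * g * n⁻¹ ∈ T ⊓ centralizer (V : Set G))
    {v : G} (hv : v ∈ V) : n * v * n⁻¹ ∈ V := by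
  by_cases hv1 : v = 1
  · rw [hv1, mul_one, mul_inv_cancel]
    exact V.one_mem
  have h1 := hn v (B.A0_le_Ap (B.V_le hv))
  have h2 : n * v * n⁻¹ * (n * v * n⁻¹) = 1 := by
    calc n * v * n⁻¹ * (n * v * n⁻¹) = n * (v * v) * n⁻¹ := by group
      _ = 1 := by rw [B.V_sq v hv]; group
  obtain ⟨k, -, hk⟩ := B.starV hv hv1
  rcases B.mem_P0 B.zx ⟨s, B.s_x⟩ h1.1 h2 ⟨k * n⁻¹, by rw [← hk]; group⟩ with h | ⟨α, hα, h⟩
  · exact B.A0_inv _ h h2
  · rcases B.Ap_inv h1 h2 with h3 | ⟨v', hv', h3⟩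
    · exact h3
    · exfalso
      obtain ⟨m, hm⟩ := B.x_pow
      -- `x v' = α t`, but `x v'` centralises `A0`
      obtain ⟨a, ha, haa, -⟩ := B.exists_a
      refine B.αt_comm hα ha haa ?_
      rw [← h, h3]
      have c1 := B.x_comm a ha
      have c2 := B.A0_comm v' (B.V_le hv') a ha
      calc x * v' * a = x * (v' * a) := by group
        _ = x * a * v' := by rw [c2]; group
        _ = _ := by rw [c1]; group

/-- elements normalising `Ap` move `x` inside `xV`. -/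
theorem NAp_x {n : G} (hn : ∀ g ∈ T ⊓ centralizer (V : Set G), n * g * n⁻¹ ∈ T ⊓ centralizer (V : Set G)) :
    ∃ v ∈ V, n * x * n⁻¹ = x * v := by
  have h1 := hn x B.x_mem_Ap
  have h2 : n * x * n⁻¹ * (n * x * n⁻¹) = 1 := by
    calc n * x * n⁻¹ * (n * x * n⁻¹) = n * (x * x) * n⁻¹ := by group
      _ = 1 := by rw [B.x_sq]; group
  rcases B.Ap_inv h1 h2 with h | h
  · exfalso
    have h3 : n * x * n⁻¹ ≠ 1 := by
      intro h3
      apply B.x_ne
      have : x = n⁻¹ * (n * x * n⁻¹) * n := by group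
      rw [this, h3]
      group
    obtain ⟨k, -, hk⟩ := B.starV h h3
    apply B.zx (k * n)
    rw [← hk]
    group
  · exact h

theorem T_NAp {n : G} (hn : n ∈ T) : ∀ g ∈ T ⊓ centralizer (V : Set G),
    n * g * n⁻¹ ∈ T ⊓ centralizer (V : Set G) := by
  intro g hg
  refine ⟨T.mul_mem (T.mul_mem hn hg.1) (T.inv_mem hn), mem_centralizer_iff.2 fun v hv => ?_⟩
  have h1 := B.T_V (T.inv_mem hn) hv
  rw [inv_inv] at h1
  have h2 := mem_centralizer_iff.1 hg.2 _ h1
  calc v * (n * g * n⁻¹) = n * ((n⁻¹ * v * n) * g) * n⁻¹ := by group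
    _ = _ := by rw [h2]; group

theorem s_NAp : ∀ g ∈ T ⊓ centralizer (V : Set G), s * g * s⁻¹ ∈ T ⊓ centralizer (V : Set G) := by
  intro g hg
  refine ⟨B.s_T g hg.1, mem_centralizer_iff.2 fun v hv => ?_⟩
  have h2 : Commute g v := (mem_centralizer_iff.1 hg.2 v hv).symm
  have h3 : Commute s v := B.s_V v hv
  exact ((h3.mul_left h2).mul_left h3.inv_left).symm

theorem ρ_NAp : ∀ g ∈ T ⊓ centralizer (V : Set G), ρ * g * ρ⁻¹ ∈ T ⊓ centralizer (V : Set G) := by
  intro g hg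
  obtain ⟨a, ha, i, rfl⟩ := B.Ap_form hg
  have h1 : ρ * (a * τ ^ i) * ρ⁻¹ = (ρ * a * ρ⁻¹) * τ ^ i := by
    have c := (show Commute ρ τ from B.ρ_τ).pow_right i
    calc ρ * (a * τ ^ i) * ρ⁻¹ = (ρ * a * ρ⁻¹) * (ρ * τ ^ i) * ρ⁻¹ := by group
      _ = _ := by rw [c.eq]; group
  rw [h1]
  exact mul_mem (B.A0_le_Ap (B.ρ_A0 a ha)) (pow_mem B.τ_mem_Ap i)

omit B in
/-- the action on `x` composes. -/
theorem mulx {a b c d : G} (ha : ∀ v ∈ V, a * v = v * a) (hd : d ∈ V) (h1 : a * x * a⁻¹ = x * c)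
    (h2 : b * x * b⁻¹ = x * d) : a * b * x * (a * b)⁻¹ = x * (c * d) := by
  calc a * b * x * (a * b)⁻¹ = a * (b * x * b⁻¹) * a⁻¹ := by group
    _ = a * x * (d * a⁻¹) := by rw [h2]; group
    _ = a * x * (a⁻¹ * d) := by rw [((show Commute a d from ha d hd).inv_left).eq]
    _ = a * x * a⁻¹ * d := by group
    _ = _ := by rw [h1]; group

/-- elements centralising `x` and `V` and normalising `Ap` are in `Ap C(Ap)`. -/
theorem C1_form [Finite G] {c : G} (hcx : c * x = x * c) (hcV : ∀ v ∈ V, c * v = v * c)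
    (hcA : ∀ g ∈ T ⊓ centralizer (V : Set G), c * g * c⁻¹ ∈ T ⊓ centralizer (V : Set G)) :
    ∃ α ∈ T ⊓ centralizer (V : Set G), ∃ c' : G, c = α * c' ∧
      ∀ g ∈ T ⊓ centralizer (V : Set G), c' * g = g * c' := by
  set Ap : Subgroup G := T ⊓ centralizer (V : Set G) with hAp
  obtain ⟨u, o, k, m, huo, hu, ho, huk, hom, hm⟩ := exists_parts c
  let C1 : Subgroup G := centralizer ({x} : Set G) ⊓ centralizer (V : Set G) ⊓ normalizer (Ap : Set G)
  have hcC1 : c ∈ C1 := ⟨⟨mem_centralizer_singleton_iff.2 hcx,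
    mem_centralizer_iff.2 fun v hv => (hcV v hv).symm⟩, mem_normalizer_fintype (S := (Ap : Set G)) hcA⟩
  have huC1 : u ∈ C1 := (zpowers_le.2 hcC1) hu
  have hoC1 : o ∈ C1 := (zpowers_le.2 hcC1) ho
  have unC1 : ∀ y ∈ C1, y * x = x * y ∧ (∀ v ∈ V, y * v = v * y) ∧ ∀ g ∈ Ap, y * g * y⁻¹ ∈ Ap := by
    intro y hy
    exact ⟨mem_centralizer_singleton_iff.1 hy.1.1, fun v hv => (mem_centralizer_iff.1 hy.1.2 v hv).symm,
      fun g hg => (mem_normalizer_iff.1 hy.2 g).1 hg⟩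
  refine ⟨u, ?_, o, huo.symm, ?_⟩
  · -- the 2-part
    let N2 : Subgroup G := centralizer ({x} : Set G) ⊓ normalizer (V : Set G)
    let Q : Subgroup G := Ap ⊔ zpowers u
    have hQ2 : IsPGroup 2 Q := by
      refine IsPGroup.to_sup_of_normal_left' (B.T_p.to_le inf_le_left) (isPGroup_zpowers huk) ?_
      rw [zpowers_le]
      exact huC1.2
    have hQx : Q ≤ centralizer ({x} : Set G) :=
      sup_le (inf_le_left.trans B.T_le_cent) (zpowers_le.2 huC1.1.1)
    have hQV : Q ≤ centralizer (V : Set G) := sup_le inf_le_right (zpowers_le.2 huC1.1.2)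
    have hQN : Q ≤ N2 := le_inf hQx (hQV.trans (centralizer_le_normalizer _))
    have hTN : T ≤ N2 := by
      refine le_inf B.T_le_cent ?_
      intro y hy
      exact mem_normalizer_fintype (S := (V : Set G)) fun v hv => B.T_V hy hv
    obtain ⟨c1, hc1, hc1Q⟩ := conj_into B.T_p hTN
      (fun Q hQ hQN hTQ => B.max hQ (fun q hq => mem_centralizer_singleton_iff.1 (hQN hq).1) hTQ) hQ2 hQN
    have hle : Q.map (MulAut.conj c1).toMonoidHom ≤ Ap := by
      rintro _ ⟨q, hq, rfl⟩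
      refine ⟨hc1Q q hq, mem_centralizer_iff.2 fun v hv => ?_⟩
      show v * (c1 * q * c1⁻¹) = c1 * q * c1⁻¹ * v
      have h1 : c1⁻¹ * v * c1 ∈ V := (mem_normalizer_iff''.1 hc1.2 v).1 hv
      have h2 := mem_centralizer_iff.1 (hQV hq) _ h1
      calc v * (c1 * q * c1⁻¹) = c1 * ((c1⁻¹ * v * c1) * q) * c1⁻¹ := by group
        _ = _ := by rw [h2]; group
    have hcard : Nat.card Q ≤ Nat.card Ap := by
      have h1 : Nat.card (Q.map (MulAut.conj c1).toMonoidHom) = Nat.card Q :=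
        (Nat.card_congr (Q.equivMapOfInjective _ (MulAut.conj c1).injective).toEquiv).symm
      rw [← h1]
      exact Subgroup.card_le_of_le hle
    have heq : Ap = Q := Subgroup.eq_of_le_of_card_ge le_sup_left hcard
    rw [heq]
    exact mem_sup_right (mem_zpowers u)
  · obtain ⟨h1, h2, h3⟩ := unC1 o hoC1
    exact B.odd_cent hom hm h1 h2 h3

/-- The configuration is impossible. -/
theorem false [Finite G]
    (hrank : ∀ X Y : Subgroup G, ElemSection 2 X Y → Nat.card X ≤ 2 ^ 4 * Nat.card Y)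
    (hf : ∀ f : G →* ℤˣ, f x = 1) : False := by
  set! Ap : Subgroup G := T ⊓ centralizer (V : Set G) with hAp
  let N1 : Subgroup G := normalizer (Ap : Set G) ⊓ centralizer ({z} : Set G)
  have unN1 : ∀ y ∈ N1, (∀ g ∈ Ap, y * g * y⁻¹ ∈ Ap) ∧ y * z = z * y := by
    intro y hy
    exact ⟨fun g hg => (mem_normalizer_iff.1 hy.1 g).1 hg, mem_centralizer_singleton_iff.1 hy.2⟩
  have toN1 : ∀ y : G, (∀ g ∈ Ap, y * g * y⁻¹ ∈ Ap) → y * z = z * y → y ∈ N1 := by
    intro y h1 h2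
    exact ⟨mem_normalizer_fintype (S := (Ap : Set G)) h1, mem_centralizer_singleton_iff.2 h2⟩
  have hTN1 : T ≤ N1 := by
    intro y hy
    refine toN1 y (B.T_NAp hy) ?_
    have := B.T_z hy
    rwa [mul_inv_eq_iff_eq_mul] at this
  have hRN1 : T ⊔ zpowers s ≤ N1 := by
    refine sup_le hTN1 ?_
    rw [zpowers_le]
    exact toN1 s B.s_NAp (B.s_V z B.z_mem)
  obtain ⟨R1, hRR1, hR1N1, hR1p, hR1max⟩ := exists_max B.R_p hRN1
  have hTR1 : T ≤ R1 := le_sup_left.trans hRR1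
  have hsR1 : s ∈ R1 := hRR1 (mem_sup_right (mem_zpowers s))
  let W : Subgroup G := R1 ⊓ centralizer (V : Set G)
  have hWV : ∀ w ∈ W, ∀ v ∈ V, w * v = v * w := fun w hw v hv => (mem_centralizer_iff.1 hw.2 v hv).symm
  have hWR1 : W ≤ R1 := inf_le_left
  have hsW : s ∈ W := ⟨hsR1, mem_centralizer_iff.2 fun v hv => (B.s_V v hv).symm⟩
  have hApW : Ap ≤ W := le_inf (inf_le_left.trans hTR1) inf_le_right
  have hWAp : ∀ w ∈ W, ∀ g ∈ Ap, w * g * w⁻¹ ∈ Ap := fun w hw => (unN1 w (hR1N1 hw.1)).1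
  have hWx : ∀ w ∈ W, ∃ v ∈ V, w * x * w⁻¹ = x * v := fun w hw => B.NAp_x (hWAp w hw)
  have hR1x : ∀ w ∈ R1, w * x = x * w → w ∈ T := by
    intro w hw hwx
    have h1 : R1 ⊓ centralizer ({x} : Set G) ≤ T := by
      refine B.max (hR1p.to_le inf_le_left) ?_ (le_inf hTR1 B.T_le_cent)
      intro q hq
      exact mem_centralizer_singleton_iff.1 hq.2
    exact h1 ⟨hw, mem_centralizer_singleton_iff.2 hwx⟩
  have hWcent : ∀ w ∈ W, w * x = x * w → w ∈ Ap := fun w hw hwx => ⟨hR1x w hw.1 hwx, hw.2⟩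
  have hz1V := B.ρ_V B.z_mem
  have hz2V := B.ρ_V hz1V
  -- an element of `N1` fixes `z₁` or moves it to `z₂`
  have act1 : ∀ c ∈ N1, c * (ρ * z * ρ⁻¹) * c⁻¹ = ρ * z * ρ⁻¹ ∨
      c * (ρ * z * ρ⁻¹) * c⁻¹ = ρ * (ρ * z * ρ⁻¹) * ρ⁻¹ := by
    intro c hc
    obtain ⟨h1, h2⟩ := unN1 c hc
    have h3 := B.NAp_V h1 hz1V
    have back : ∀ w : G, c * (ρ * z * ρ⁻¹) * c⁻¹ = w → ρ * z * ρ⁻¹ = c⁻¹ * w * c := by
      intro w h4; rw [← h4]; group
    rcases B.V_eq _ h3 with h | h | h | h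
    · exfalso
      apply B.z1_ne_one
      rw [back _ h]; group
    · exfalso
      apply B.z1_ne_z
      rw [back _ h, mul_assoc, ← h2, inv_mul_cancel_left]
    · exact Or.inl h
    · exact Or.inr h
  have cent_of : ∀ c : G, c * z = z * c → c * (ρ * z * ρ⁻¹) * c⁻¹ = ρ * z * ρ⁻¹ →
      ∀ v ∈ V, c * v = v * c := by
    intro c h1 h2 v hv
    rw [mul_inv_eq_iff_eq_mul] at h2
    rcases B.V_eq v hv with rfl | rfl | rfl | rfl
    · simp
    · exact h1
    · exact h2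
    · rw [← B.z_z1]
      exact ((show Commute c z from h1).mul_right (show Commute c _ from h2))
  have htN1 : t ∈ N1 := hTN1 B.t_mem
  have htR1 : t ∈ R1 := hTR1 B.t_mem
  -- correction by `t`
  have fix_t : ∀ c ∈ N1, (∀ v ∈ V, c * v = v * c) ∨ (∀ v ∈ V, (c * t) * v = v * (c * t)) := by
    intro c hc
    have hcz := (unN1 c hc).2
    rcases act1 c hc with h | h
    · exact Or.inl (cent_of c hcz h)
    · right
      have hctz : c * t * z = z * (c * t) := (unN1 _ (N1.mul_mem hc htN1)).2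
      refine cent_of _ hctz ?_
      have h2 : c * t * (ρ * z * ρ⁻¹) * (c * t)⁻¹ = c * (t * (ρ * z * ρ⁻¹) * t⁻¹) * c⁻¹ := by group
      rw [h2, B.t_rz, ← B.z_z1]
      have h3 : c * (z * (ρ * z * ρ⁻¹)) * c⁻¹ = (c * z * c⁻¹) * (c * (ρ * z * ρ⁻¹) * c⁻¹) := by group
      rw [h3, h, hcz, mul_inv_cancel_right, ← B.z_z1, ← mul_assoc, B.V_sq z B.z_mem, one_mul]
  have htW : ∀ w ∈ W, t * w * t⁻¹ ∈ W := by
    intro w hw
    refine ⟨R1.mul_mem (R1.mul_mem htR1 hw.1) (R1.inv_mem htR1), mem_centralizer_iff.2 fun v hv => ?_⟩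
    have h1 := B.t_V hv
    rw [B.t_inv] at h1 ⊢
    have h2 := hWV w hw _ h1
    have h3 : t * (t * v * t) * t = v := by
      calc t * (t * v * t) * t = (t * t) * v * (t * t) := by group
        _ = v := by rw [B.t_sq]; group
    calc v * (t * w * t) = t * (t * v * t) * t * (t * w * t) := by rw [h3]
      _ = t * (t * v * t) * (t * t) * w * t := by group
      _ = t * ((t * v * t) * w) * t := by rw [B.t_sq]; group
      _ = t * (w * (t * v * t)) * t := by rw [h2]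
      _ = t * w * t * (v * (t * t)) := by group
      _ = t * w * t * v := by rw [B.t_sq, mul_one]
  have hR1W : ∀ g ∈ R1, g ∈ W ∨ g * t ∈ W := by
    intro g hg
    rcases fix_t g (hR1N1 hg) with h | h
    · exact Or.inl ⟨hg, mem_centralizer_iff.2 fun v hv => (h v hv).symm⟩
    · exact Or.inr ⟨R1.mul_mem hg htR1, mem_centralizer_iff.2 fun v hv => (h v hv).symm⟩
  -- surjectivity of `w ↦ [x, w]`
  have hsp : IsPGroup 2 (zpowers s) := B.R_p.to_le le_sup_right
  have hρV' : ∀ v ∈ V, ρ⁻¹ * v * ρ ∈ V := by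
    have h1 : ρ ∈ normalizer (V : Set G) := mem_normalizer_fintype (S := (V : Set G)) fun v hv => B.ρ_V hv
    intro v hv
    exact (mem_normalizer_iff''.1 h1 v).1 hv
  have hρx' : ρ⁻¹ * x * ρ = x := by rw [mul_assoc, ← B.ρ_x, inv_mul_cancel_left]
  have hρx : ρ * x * ρ⁻¹ = x := by rw [B.ρ_x, mul_inv_cancel_right]
  have hρAp' : ∀ g ∈ Ap, ρ⁻¹ * g * ρ ∈ Ap := by
    have h1 : ρ ∈ normalizer (Ap : Set G) := mem_normalizer_fintype (S := (Ap : Set G)) B.ρ_NAp
    intro g hg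
    exact (mem_normalizer_iff''.1 h1 g).1 hg
  -- conjugates by `ρ` of elements centralising `V` and normalising `Ap`
  have ρconj : ∀ y : G, (∀ v ∈ V, y * v = v * y) → (∀ g ∈ Ap, y * g * y⁻¹ ∈ Ap) →
      (∀ v ∈ V, (ρ * y * ρ⁻¹) * v = v * (ρ * y * ρ⁻¹)) ∧
        (∀ g ∈ Ap, (ρ * y * ρ⁻¹) * g * (ρ * y * ρ⁻¹)⁻¹ ∈ Ap) := by
    intro y h1 h2
    constructor
    · intro v hv
      have h3 := h1 _ (hρV' v hv)
      calc (ρ * y * ρ⁻¹) * v = ρ * (y * (ρ⁻¹ * v * ρ)) * ρ⁻¹ := by group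
        _ = _ := by rw [h3]; group
    · intro g hg
      have h3 := B.ρ_NAp _ (h2 _ (hρAp' g hg))
      have e : ρ * (y * (ρ⁻¹ * g * ρ) * y⁻¹) * ρ⁻¹ = (ρ * y * ρ⁻¹) * g * (ρ * y * ρ⁻¹)⁻¹ := by group
      rwa [e] at h3
  have conjN1 : ∀ Y : Subgroup G, IsPGroup 2 Y → Y ≤ N1 → ∃ c ∈ N1, ∀ y ∈ Y, c * y * c⁻¹ ∈ R1 :=
    fun Y hY hYN => conj_into hR1p hR1N1 hR1max hY hYN
  have hWsurj : ∀ v ∈ V, ∃ w ∈ W, w * x * w⁻¹ = x * v := by
    -- an element moving `x` to `x z₁` or `x z₂`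
    have h1 : ∃ w ∈ W, w * x * w⁻¹ = x * (ρ * z * ρ⁻¹) ∨ w * x * w⁻¹ = x * (ρ * (ρ * z * ρ⁻¹) * ρ⁻¹) := by
      set! y := ρ * s * ρ⁻¹ with hy
      obtain ⟨hyV, hyAp⟩ := ρconj s B.s_V B.s_NAp
      rw [← hy] at hyV hyAp
      have hyx : y * x * y⁻¹ = x * (ρ * z * ρ⁻¹) := by
        calc y * x * y⁻¹ = ρ * (s * (ρ⁻¹ * x * ρ) * s⁻¹) * ρ⁻¹ := by rw [hy]; group
          _ = ρ * x * ρ⁻¹ * (ρ * z * ρ⁻¹) := by rw [hρx', B.s_x]; group
          _ = x * (ρ * z * ρ⁻¹) := by rw [hρx]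
      have hyp : IsPGroup 2 (zpowers y) := by
        have h2 := hsp.map (MulAut.conj ρ).toMonoidHom
        rw [MonoidHom.map_zpowers] at h2
        exact h2
      obtain ⟨c, hc, hcy⟩ := conjN1 (zpowers y) hyp (by
        rw [zpowers_le]
        exact toN1 y hyAp (hyV z B.z_mem))
      have hcyR := hcy y (mem_zpowers y)
      obtain ⟨hcAp, hcz⟩ := unN1 c hc
      have hcV' : ∀ v ∈ V, c⁻¹ * v * c ∈ V := by
        have h1 : c ∈ normalizer (V : Set G) :=
          mem_normalizer_fintype (S := (V : Set G)) fun v hv => B.NAp_V hcAp hv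
        intro v hv
        exact (mem_normalizer_iff''.1 h1 v).1 hv
      have hcyW : c * y * c⁻¹ ∈ W := by
        refine ⟨hcyR, mem_centralizer_iff.2 fun v hv => ?_⟩
        have h3 := hyV _ (hcV' v hv)
        calc v * (c * y * c⁻¹) = c * ((c⁻¹ * v * c) * y) * c⁻¹ := by group
          _ = _ := by rw [← h3]; group
      obtain ⟨vc, hvc, hcx⟩ := B.NAp_x hcAp
      obtain ⟨v', hv', hyx'⟩ := hWx _ hcyW
      have h4 : v' = c * (ρ * z * ρ⁻¹) * c⁻¹ := by
        have h5 : (c * y * c⁻¹) * (x * vc) * (c * y * c⁻¹)⁻¹ = x * (vc * (c * (ρ * z * ρ⁻¹) * c⁻¹)) := by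
          calc (c * y * c⁻¹) * (x * vc) * (c * y * c⁻¹)⁻¹ = c * (y * x * y⁻¹) * c⁻¹ := by
                rw [← hcx]; group
            _ = (c * x * c⁻¹) * (c * (ρ * z * ρ⁻¹) * c⁻¹) := by rw [hyx]; group
            _ = _ := by rw [hcx]; group
        have h6 : (c * y * c⁻¹) * (x * vc) * (c * y * c⁻¹)⁻¹ = x * (v' * vc) := by
          calc (c * y * c⁻¹) * (x * vc) * (c * y * c⁻¹)⁻¹
              = ((c * y * c⁻¹) * x * (c * y * c⁻¹)⁻¹) * ((c * y * c⁻¹) * vc * (c * y * c⁻¹)⁻¹) := by group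
            _ = x * v' * (vc * (c * y * c⁻¹) * (c * y * c⁻¹)⁻¹) := by rw [hyx', hWV _ hcyW vc hvc]
            _ = _ := by group
        rw [h5] at h6
        have h7 := mul_left_cancel h6
        have h8 := B.NAp_V hcAp hz1V
        rw [B.A0_comm vc (B.V_le hvc) _ (B.V_le h8)] at h7
        exact (mul_right_cancel h7).symm
      refine ⟨_, hcyW, ?_⟩
      rw [hyx', h4]
      rcases act1 c hc with h | h
      · left; rw [h]
      · right; rw [h]
    obtain ⟨w, hwW, hw⟩ := h1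
    intro v hv
    have hswW := W.mul_mem hsW hwW
    rcases hw with hw | hw
    · have h2 := mulx (B.s_V) hz1V B.s_x hw
      rw [B.z_z1] at h2
      rcases B.V_eq v hv with rfl | rfl | rfl | rfl
      · exact ⟨1, W.one_mem, by group⟩
      · exact ⟨s, hsW, B.s_x⟩
      · exact ⟨w, hwW, hw⟩
      · exact ⟨s * w, hswW, h2⟩
    · have h2 := mulx (B.s_V) hz2V B.s_x hw
      have h3 : z * (ρ * (ρ * z * ρ⁻¹) * ρ⁻¹) = ρ * z * ρ⁻¹ := by
        rw [← B.z_z1, ← mul_assoc, B.V_sq z B.z_mem, one_mul]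
      rw [h3] at h2
      rcases B.V_eq v hv with rfl | rfl | rfl | rfl
      · exact ⟨1, W.one_mem, by group⟩
      · exact ⟨s, hsW, B.s_x⟩
      · exact ⟨s * w, hswW, h2⟩
      · exact ⟨w, hwW, hw⟩
  -- the element `r`
  have hr : ∃ c' : G, (∀ g ∈ Ap, c' * g = g * c') ∧ ∀ w ∈ W, (c' * ρ) * w * (c' * ρ)⁻¹ ∈ W := by
    have hYN : W.map (MulAut.conj ρ).toMonoidHom ≤ N1 := by
      rintro _ ⟨w, hw, rfl⟩
      obtain ⟨h1, h2⟩ := ρconj w (hWV w hw) (hWAp w hw)
      exact toN1 _ h2 (h1 z B.z_mem)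
    obtain ⟨c0, hc0, hc0R⟩ := conjN1 _ ((hR1p.to_le inf_le_left : IsPGroup 2 W).map _) hYN
    -- we may assume that `c` centralises `V`
    obtain ⟨c, hcN, hcR, hcV⟩ : ∃ c ∈ N1, (∀ w ∈ W, c * (ρ * w * ρ⁻¹) * c⁻¹ ∈ R1) ∧
        ∀ v ∈ V, c * v = v * c := by
      have h1 : ∀ w ∈ W, c0 * (ρ * w * ρ⁻¹) * c0⁻¹ ∈ R1 := fun w hw => hc0R _ ⟨w, hw, rfl⟩
      rcases fix_t c0⁻¹ (N1.inv_mem hc0) with h | h
      · refine ⟨c0, hc0, h1, fun v hv => ?_⟩
        have := (show Commute c0⁻¹ v from h v hv).inv_left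
        rwa [inv_inv] at this
      · refine ⟨t * c0, N1.mul_mem htN1 hc0, ?_, fun v hv => ?_⟩
        · intro w hw
          have h2 := R1.mul_mem (R1.mul_mem htR1 (h1 w hw)) (R1.inv_mem htR1)
          have e : t * (c0 * (ρ * w * ρ⁻¹) * c0⁻¹) * t⁻¹ = t * c0 * (ρ * w * ρ⁻¹) * (t * c0)⁻¹ := by group
          rwa [e] at h2
        · have h2 := (show Commute (c0⁻¹ * t) v from h v hv).inv_left
          rw [mul_inv_rev, inv_inv, B.t_inv] at h2
          exact h2
    obtain ⟨hcAp, -⟩ := unN1 c hcN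
    obtain ⟨v, hv, hcx⟩ := B.NAp_x hcAp
    obtain ⟨w0, hw0, hw0x⟩ := hWsurj v hv
    -- `w0⁻¹ c` centralises `x`
    have h1 : w0⁻¹ * c * x = x * (w0⁻¹ * c) := by
      have h2 : w0⁻¹ * c * x * (w0⁻¹ * c)⁻¹ = x := by
        calc w0⁻¹ * c * x * (w0⁻¹ * c)⁻¹ = w0⁻¹ * (c * x * c⁻¹) * w0 := by group
          _ = w0⁻¹ * (w0 * x * w0⁻¹) * w0 := by rw [hcx, hw0x]
          _ = x := by group
      rw [mul_inv_eq_iff_eq_mul] at h2
      exact h2
    have h2 : ∀ v ∈ V, w0⁻¹ * c * v = v * (w0⁻¹ * c) := by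
      intro v hv
      exact (show Commute w0 v from hWV w0 hw0 v hv).inv_left.mul_left (show Commute c v from hcV v hv)
    have h3 : ∀ g ∈ Ap, w0⁻¹ * c * g * (w0⁻¹ * c)⁻¹ ∈ Ap := by
      intro g hg
      have h4 := hWAp w0⁻¹ (W.inv_mem hw0) _ (hcAp g hg)
      have e : w0⁻¹ * (c * g * c⁻¹) * w0⁻¹⁻¹ = w0⁻¹ * c * g * (w0⁻¹ * c)⁻¹ := by group
      rwa [e] at h4
    obtain ⟨α, hα, c', hc', hc'A⟩ := B.C1_form h1 h2 h3
    refine ⟨c', hc'A, fun w hw => ?_⟩
    have h5 : c * (ρ * w * ρ⁻¹) * c⁻¹ ∈ W := by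
      refine ⟨hcR w hw, mem_centralizer_iff.2 fun v hv => ?_⟩
      obtain ⟨h6, -⟩ := ρconj w (hWV w hw) (hWAp w hw)
      have C1 : Commute c v := hcV v hv
      have C2 : Commute (ρ * w * ρ⁻¹) v := h6 v hv
      exact ((C1.mul_left C2).mul_left C1.inv_left).symm
    have hw0α : w0 * α ∈ W := W.mul_mem hw0 (hApW hα)
    have hc'' : c' = (w0 * α)⁻¹ * c := by
      rw [mul_inv_rev, mul_assoc, hc']
      group
    have h6 := W.mul_mem (W.mul_mem (W.inv_mem hw0α) h5) hw0α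
    have e : (w0 * α)⁻¹ * (c * (ρ * w * ρ⁻¹) * c⁻¹) * (w0 * α) = (c' * ρ) * w * (c' * ρ)⁻¹ := by
      rw [hc'']; group
    rwa [e] at h6
  obtain ⟨c', hc'A, hc'W⟩ := hr
  set r := c' * ρ with hrdef
  -- `r` acts on `Ap` as `ρ`
  have hrAp : ∀ g ∈ Ap, r * g * r⁻¹ = ρ * g * ρ⁻¹ := by
    intro g hg
    have h1 := hc'A _ (B.ρ_NAp g hg)
    calc r * g * r⁻¹ = c' * (ρ * g * ρ⁻¹) * c'⁻¹ := by rw [hrdef]; group
      _ = _ := by rw [h1, mul_inv_cancel_right]
  have hVAp : ∀ v ∈ V, v ∈ Ap := fun v hv => B.A0_le_Ap (B.V_le hv)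
  have hrz : r * z * r⁻¹ = ρ * z * ρ⁻¹ := hrAp z (hVAp z B.z_mem)
  have hrz1 : r * (r * z * r⁻¹) * r⁻¹ = ρ * (ρ * z * ρ⁻¹) * ρ⁻¹ := by
    rw [hrz]; exact hrAp _ (hVAp _ hz1V)
  have hrτ : r * τ = τ * r := by
    have h1 := hrAp τ B.τ_mem_Ap
    rw [B.ρ_τ, mul_inv_cancel_right, mul_inv_eq_iff_eq_mul] at h1
    exact h1
  have hts : s⁻¹ * (t * s * t) ∈ A0 := by
    -- `y = s⁻¹ t s` lies in `P0`
    have hyT := B.s_T' t B.t_mem
    have hyy : s⁻¹ * t * s * (s⁻¹ * t * s) = 1 := by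
      calc s⁻¹ * t * s * (s⁻¹ * t * s) = s⁻¹ * (t * t) * s := by group
        _ = 1 := by rw [B.t_sq]; group
    obtain ⟨k, -, hk⟩ := B.star 1 A0.one_mem (by rw [one_mul, B.t_sq])
    rw [one_mul] at hk
    have e : s⁻¹ * (t * s * t) = s⁻¹ * t * s * t := by group
    rw [e]
    rcases B.mem_P0 B.zx ⟨s, B.s_x⟩ hyT hyy ⟨k * s, by rw [← hk]; group⟩ with h | ⟨α, hα, h⟩
    · exfalso
      -- then `t = s y s⁻¹` centralises `V`
      have hyV := B.A0_inv _ h hyy
      have h1 : t = s * (s⁻¹ * t * s) * s⁻¹ := by group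
      have h2 := B.s_V _ hyV
      rw [h2, mul_inv_cancel_right] at h1
      have h3 : t ∈ V := by rw [h1]; exact hyV
      have h4 := B.t_rz
      rw [B.A0_comm t (B.V_le h3) _ (B.V_le hz1V), mul_inv_cancel_right] at h4
      exact B.z1_ne_z2 h4
    · rw [h, mul_assoc, B.t_sq, mul_one]
      exact hα
  have hC : TCfg V A0 Ap W x τ r z t s :=
    { V_le := B.V_le
      A0_le := B.A0_le_Ap
      Ap_le := hApW
      V_sq := B.V_sq
      V_comm := fun v hv w hw => hWV w hw v hv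
      A0_comm := B.A0_comm
      A0_sq := B.A0_sq
      A0_inv := B.A0_inv
      A0_surj := B.A0_surj
      Ap_mem := fun g hg => B.Ap_form hg
      τ_mem := B.τ_mem_Ap
      τ_A0 := B.τ_A0
      x_pow := B.x_pow
      x_sq := B.x_sq
      x_not := B.x_not
      x_comm := B.x_comm
      τ_sq := fun i hi => B.τ_inv i (by
        have := B.τ_not (i + i) (by rw [pow_add]; exact hi)
        rwa [pow_add] at this)
      W_Ap := hWAp
      W_x := hWx
      W_cent := hWcent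
      W_surj := hWsurj
      r_W := hc'W
      r_A0 := fun g hg => by rw [hrAp g (B.A0_le_Ap hg)]; exact B.ρ_A0 g hg
      r_τ := hrτ
      z_mem := B.z_mem
      z_ne := B.z_ne
      V_eq := fun v hv => by rw [hrz1, hrz]; exact B.V_eq v hv
      r_prod := by rw [hrz1, hrz]; exact B.ρ_prod
      r_fix := fun v hv h => B.ρ_fix v hv (by rw [← hrAp v (hVAp v hv)]; exact h)
      t_sq := B.t_sq
      t_τ := B.t_τ
      t_A0 := B.t_A0
      t_W := htW
      t_rz := by rw [hrz1, hrz]; exact B.t_rz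
      s_mem := hsW
      s_x := B.s_x
      t_s := hts }
  obtain ⟨s', hs'W, hs'x, hs'sq, hs'c, hs'p⟩ := hC.exists_s
  have hS : SCfg V A0 Ap W x τ r z s' :=
    { hC.toCfg with
      s_mem := hs'W
      s_x := hs'x
      s_sq := hs'sq
      s_comm := hs'c
      s_prod := hs'p }
  have hnV := hS.sq_not_mem hrank
  rcases B.τ_or with h | h
  · subst h
    have hF : FCfg V A0 Ap W R1 T τ r z s' t :=
      { hS with
        s_nV := hnV
        t_sq := B.t_sq
        t_x := B.t_x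
        t_A0 := B.t_A0
        t_W := htW
        t_z := B.t_z
        t_rz := by rw [hrz1, hrz]; exact B.t_rz
        W_le := hWR1
        t_mem := htR1
        R1_mem := hR1W
        R1_p := hR1p
        T_le := hTR1
        T_x := fun g hg => B.T_x hg
        T_syl := fun P hP hPx hTP => B.max hP hPx hTP
        zx := B.zx
        star := fun α hα h => by
          obtain ⟨k, -, hk⟩ := B.star α hα h
          exact ⟨k, hk⟩
        starV := fun v hv h => by
          obtain ⟨k, -, hk⟩ := B.starV hv h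
          exact ⟨k, hk⟩ }
    exact hF.false hf
  · exact hS.false_of_pow hnV h

end Base2

/-- **Main theorem of branch (W).** -/
theorem Base.isolated [Finite G] {V A0 T : Subgroup G} {x τ t ρ z : G} (B : Base V A0 T x τ t ρ z)
    (hrank : ∀ X Y : Subgroup G, ElemSection 2 X Y → Nat.card X ≤ 2 ^ 4 * Nat.card Y)
    (hf : ∀ f : G →* ℤˣ, f x = 1) : E.Isolated x := by
  by_contra h
  obtain ⟨s, hs⟩ := B.exists_base2 h
  exact hs.false hrank hf

end Cfsg.Agent.GH.WAct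
end

-- part: GH/WConv
section
/-!
# Project GH, branch GH-L3 (W): from the frame to a contradiction

`false_of_frame`: the frame `Frame x T a b t τ ρ` is impossible in a simple nonabelian group of sectional
2-rank at most 4.
-/

set_option autoImplicit false

namespace Cfsg.Agent.GH.WConv

open Subgroup Cfsg.Agent.GH.WDefs Cfsg.Agent.TwoFusion.SectionalRank

variable {G : Type*} [Group G]

section wr

variable {a b t : G}

theorem comm_A0 (ab : a * b = b * a) : ∀ g ∈ A0 a b, ∀ h ∈ A0 a b, g * h = h * g := by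
  intro g hg h hh
  have hc : ∀ u ∈ ({a, b} : Set G), ∀ v ∈ ({a, b} : Set G), u * v = v * u := by
    rintro u (rfl | rfl) v (rfl | rfl)
    · rfl
    · exact ab
    · exact ab.symm
    · rfl
  have := Subgroup.isMulCommutative_closure (k := ({a, b} : Set G)) hc
  exact congrArg Subtype.val (this.is_comm.comm ⟨g, hg⟩ ⟨h, hh⟩)

/-- Elements of `A₀`. -/
theorem mem_A0_iff (a4 : a ^ 4 = 1) (b4 : b ^ 4 = 1) (ab : a * b = b * a) {g : G} :
    g ∈ A0 a b ↔ ∃ i j : ℕ, g = a ^ i * b ^ j := by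
  have hcp : ∀ i j : ℕ, b ^ i * a ^ j = a ^ j * b ^ i := fun i j =>
    (Commute.pow_pow (show Commute b a from ab.symm) i j)
  constructor
  · intro hg
    refine Subgroup.closure_induction (p := fun x _ => ∃ i j : ℕ, x = a ^ i * b ^ j) ?_ ?_ ?_ ?_ hg
    · rintro x (rfl | rfl)
      · exact ⟨1, 0, by rw [pow_one, pow_zero, mul_one]⟩
      · exact ⟨0, 1, by rw [pow_one, pow_zero, one_mul]⟩
    · exact ⟨0, 0, by rw [pow_zero, pow_zero, one_mul]⟩
    · rintro x y _ _ ⟨i, j, rfl⟩ ⟨k, l, rfl⟩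
      refine ⟨i + k, j + l, ?_⟩
      calc a ^ i * b ^ j * (a ^ k * b ^ l) = a ^ i * (b ^ j * a ^ k) * b ^ l := by group
        _ = a ^ i * (a ^ k * b ^ j) * b ^ l := by rw [hcp]
        _ = a ^ i * a ^ k * (b ^ j * b ^ l) := by simp only [mul_assoc]
        _ = a ^ (i + k) * b ^ (j + l) := by rw [← pow_add, ← pow_add]
    · rintro x _ ⟨i, j, rfl⟩
      refine ⟨3 * i, 3 * j, ?_⟩
      have h1 : (a ^ i * b ^ j) * (a ^ (3 * i) * b ^ (3 * j)) = 1 := by
        calc a ^ i * b ^ j * (a ^ (3 * i) * b ^ (3 * j))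
            = a ^ i * (b ^ j * a ^ (3 * i)) * b ^ (3 * j) := by group
          _ = a ^ i * (a ^ (3 * i) * b ^ j) * b ^ (3 * j) := by rw [hcp]
          _ = a ^ i * a ^ (3 * i) * (b ^ j * b ^ (3 * j)) := by simp only [mul_assoc]
          _ = a ^ (4 * i) * b ^ (4 * j) := by
            rw [← pow_add, ← pow_add]
            congr 2 <;> ring
          _ = 1 := by rw [pow_mul, pow_mul, a4, b4, one_pow, one_pow, one_mul]
      exact inv_eq_of_mul_eq_one_right h1
  · rintro ⟨i, j, rfl⟩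
    exact mul_mem (pow_mem (_root_.Subgroup.subset_closure (by simp)) i) (pow_mem (_root_.Subgroup.subset_closure (by simp)) j)

/-- `V = Ω₁(A₀)`. -/
def V (a b : G) (ab : a * b = b * a) : Subgroup G where
  carrier := {g | g ∈ A0 a b ∧ g * g = 1}
  one_mem' := ⟨one_mem _, one_mul 1⟩
  mul_mem' := by
    rintro g h ⟨hg, hg2⟩ ⟨hh, hh2⟩
    refine ⟨mul_mem hg hh, ?_⟩
    have hc := comm_A0 ab g hg h hh
    calc g * h * (g * h) = g * (h * g) * h := by group
      _ = g * (g * h) * h := by rw [hc]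
      _ = (g * g) * (h * h) := by group
      _ = 1 := by rw [hg2, hh2, one_mul]
  inv_mem' := by
    rintro g ⟨hg, hg2⟩
    refine ⟨inv_mem hg, ?_⟩
    rw [← mul_inv_rev, hg2, inv_one]

theorem mem_V {ab : a * b = b * a} {g : G} : g ∈ V a b ab ↔ g ∈ A0 a b ∧ g * g = 1 := Iff.rfl

end wr

section cyc

/-- In a cyclic 2-group. -/
theorem cyc_facts {τ x : G} {k n : ℕ} (hk : τ ^ 2 ^ k = 1) (hx : x = τ ^ n) (hx1 : x ≠ 1) (hxx : x * x = 1) :
    (∀ i : ℕ, τ ^ i * τ ^ i = 1 → τ ^ i = 1 ∨ τ ^ i = x) ∧ (τ = x ∨ ∃ m : ℕ, x = (τ * τ) ^ m) := by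
  obtain ⟨r, hr, hor⟩ := (Nat.dvd_prime_pow Nat.prime_two).1 (orderOf_dvd_of_pow_eq_one hk)
  have hr0 : r ≠ 0 := by
    rintro rfl
    rw [pow_zero, orderOf_eq_one_iff] at hor
    apply hx1
    rw [hx, hor, one_pow]
  obtain ⟨s, rfl⟩ := Nat.exists_eq_succ_of_ne_zero hr0
  -- the involution
  have key : ∀ i : ℕ, τ ^ i * τ ^ i = 1 → τ ^ i = 1 ∨ (τ ^ i = τ ^ 2 ^ s ∧ 2 ^ s ∣ i) := by
    intro i hi
    rw [← pow_add] at hi
    have h1 := orderOf_dvd_of_pow_eq_one hi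
    rw [hor, pow_succ, ← two_mul, mul_comm] at h1
    have h2 : 2 ^ s ∣ i := Nat.dvd_of_mul_dvd_mul_left (by norm_num) h1
    obtain ⟨c, rfl⟩ := h2
    have h3 : τ ^ (2 * 2 ^ s) = 1 := by
      rw [mul_comm, ← pow_succ, ← hor, pow_orderOf_eq_one]
    rcases Nat.even_or_odd c with ⟨d, rfl⟩ | ⟨d, rfl⟩
    · left
      have e : 2 ^ s * (d + d) = 2 * 2 ^ s * d := by ring
      rw [e, pow_mul, h3, one_pow]
    · right
      refine ⟨?_, dvd_mul_right _ _⟩
      have e : 2 ^ s * (2 * d + 1) = 2 * 2 ^ s * d + 2 ^ s := by ring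
      rw [e, pow_add, pow_mul, h3, one_pow, one_mul]
  have hxk := key n (by rw [← hx]; exact hxx)
  rw [← hx] at hxk
  rcases hxk with h | ⟨hxs, hdvd⟩
  · exact absurd h hx1
  · constructor
    · intro i hi
      rcases key i hi with h | ⟨h, -⟩
      · exact Or.inl h
      · right
        rw [h, hxs]
    · rcases Nat.eq_zero_or_pos s with rfl | hs
      · left
        rw [hxs, pow_zero, pow_one]
      · right
        obtain ⟨s', rfl⟩ := Nat.exists_eq_succ_of_ne_zero hs.ne'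
        refine ⟨2 ^ s', ?_⟩
        rw [hxs, ← pow_two, ← pow_mul, Nat.succ_eq_add_one, pow_succ, mul_comm]

end cyc

section conv

variable {x a b t τ ρ : G} {T : Subgroup G}

theorem t_inv (F : Frame x T a b t τ ρ) : t⁻¹ = t := inv_eq_of_mul_eq_one_left F.tt

theorem tb (F : Frame x T a b t τ ρ) : t * b * t⁻¹ = a := by
  rw [← F.ta, t_inv F]
  calc t * (t * a * t) * t = (t * t) * a * (t * t) := by group
    _ = a := by rw [F.tt]; group

theorem b4 (F : Frame x T a b t τ ρ) : b ^ 4 = 1 := by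
  rw [← F.ta, conj_pow, F.a4, mul_one, mul_inv_cancel]

theorem mem_A0 (F : Frame x T a b t τ ρ) {g : G} : g ∈ A0 a b ↔ ∃ i j : ℕ, g = a ^ i * b ^ j :=
  mem_A0_iff F.a4 (b4 F) F.ab

theorem conj_A0 (F : Frame x T a b t τ ρ) (w a' b' : G) (ha : w * a * w⁻¹ = a') (hb : w * b * w⁻¹ = b')
    (ha' : a' ∈ A0 a b) (hb' : b' ∈ A0 a b) : ∀ g ∈ A0 a b, w * g * w⁻¹ ∈ A0 a b := by
  intro g hg
  obtain ⟨i, j, rfl⟩ := (mem_A0 F).1 hg
  have : w * (a ^ i * b ^ j) * w⁻¹ = (w * a * w⁻¹) ^ i * (w * b * w⁻¹) ^ j := by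
    rw [conj_pow, conj_pow]; group
  rw [this, ha, hb]
  exact mul_mem (pow_mem ha' i) (pow_mem hb' j)

theorem a_mem : a ∈ A0 a b := _root_.Subgroup.subset_closure (by simp)
theorem b_mem : b ∈ A0 a b := _root_.Subgroup.subset_closure (by simp)

theorem t_A0 (F : Frame x T a b t τ ρ) : ∀ g ∈ A0 a b, t * g * t⁻¹ ∈ A0 a b :=
  conj_A0 F t b a F.ta (tb F) b_mem a_mem

theorem ρ_A0 (F : Frame x T a b t τ ρ) : ∀ g ∈ A0 a b, ρ * g * ρ⁻¹ ∈ A0 a b :=
  conj_A0 F ρ b _ F.ρa F.ρb b_mem (inv_mem (mul_mem a_mem b_mem))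

theorem mem_P0 (F : Frame x T a b t τ ρ) {p : G} : p ∈ P0 a b t ↔ ∃ α ∈ A0 a b, ∃ j : ℕ, p = α * t ^ j := by
  have htj : ∀ (j : ℕ), ∀ g ∈ A0 a b, t ^ j * g * (t ^ j)⁻¹ ∈ A0 a b := by
    intro j
    induction j with
    | zero => intro g hg; simpa using hg
    | succ j ih =>
      intro g hg
      have h1 := ih _ (t_A0 F g hg)
      have e : t ^ (j + 1) * g * (t ^ (j + 1))⁻¹ = t ^ j * (t * g * t⁻¹) * (t ^ j)⁻¹ := by
        rw [pow_succ, mul_inv_rev]; group
      rw [e]; exact h1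
  constructor
  · intro hp
    refine Subgroup.closure_induction (p := fun x _ => ∃ α ∈ A0 a b, ∃ j : ℕ, x = α * t ^ j) ?_ ?_ ?_ ?_ hp
    · rintro y (rfl | rfl | rfl)
      · exact ⟨_, a_mem, 0, by rw [pow_zero, mul_one]⟩
      · exact ⟨_, b_mem, 0, by rw [pow_zero, mul_one]⟩
      · exact ⟨1, one_mem _, 1, by rw [pow_one, one_mul]⟩
    · exact ⟨1, one_mem _, 0, by rw [pow_zero, mul_one]⟩
    · rintro u v _ _ ⟨α, hα, i, rfl⟩ ⟨β, hβ, j, rfl⟩
      refine ⟨α * (t ^ i * β * (t ^ i)⁻¹), mul_mem hα (htj i β hβ), i + j, ?_⟩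
      rw [pow_add]
      group
    · rintro u _ ⟨α, hα, i, rfl⟩
      refine ⟨t ^ i * α⁻¹ * (t ^ i)⁻¹, htj i _ (inv_mem hα), i, ?_⟩
      have h2 : t ^ i * t ^ i = 1 := by
        rw [← Commute.mul_pow rfl, F.tt, one_pow]
      have h3 : (t ^ i)⁻¹ = t ^ i := inv_eq_of_mul_eq_one_left h2
      rw [mul_inv_rev, h3]
      calc t ^ i * α⁻¹ = t ^ i * α⁻¹ * 1 := by rw [mul_one]
        _ = t ^ i * α⁻¹ * (t ^ i * t ^ i) := by rw [h2]
        _ = _ := by group
  · rintro ⟨α, hα, j, rfl⟩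
    have h1 : A0 a b ≤ P0 a b t := _root_.Subgroup.closure_mono (by
      rintro y (rfl | rfl)
      · simp
      · simp)
    exact mul_mem (h1 hα) (pow_mem (_root_.Subgroup.subset_closure (by simp)) j)

theorem sq_eq (F : Frame x T a b t τ ρ) (i j : ℕ) :
    a ^ i * b ^ j * (a ^ i * b ^ j) = a ^ (2 * i) * b ^ (2 * j) := by
  have hcp : b ^ j * a ^ i = a ^ i * b ^ j := (Commute.pow_pow (show Commute b a from F.ab.symm) j i)
  calc a ^ i * b ^ j * (a ^ i * b ^ j) = a ^ i * (b ^ j * a ^ i) * b ^ j := by group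
    _ = a ^ i * (a ^ i * b ^ j) * b ^ j := by rw [hcp]
    _ = (a ^ i * a ^ i) * (b ^ j * b ^ j) := by simp only [mul_assoc]
    _ = _ := by rw [← pow_add, ← pow_add, two_mul, two_mul]

/-- The elements of `V`. -/
theorem V_cases (F : Frame x T a b t τ ρ) {v : G} (hv : v ∈ V a b F.ab) :
    v = 1 ∨ v = a ^ 2 * b ^ 2 ∨ v = a ^ 2 ∨ v = b ^ 2 := by
  obtain ⟨h1, h2⟩ := hv
  obtain ⟨i, j, rfl⟩ := (mem_A0 F).1 h1
  rw [sq_eq F] at h2
  obtain ⟨hi, hj⟩ := F.indep _ _ h2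
  obtain ⟨i', rfl⟩ : 2 ∣ i := by omega
  obtain ⟨j', rfl⟩ : 2 ∣ j := by omega
  have hpow : ∀ {c : G}, c ^ 4 = 1 → ∀ n : ℕ, c ^ (2 * n) = 1 ∨ c ^ (2 * n) = c ^ 2 := by
    intro c hc n
    rcases Nat.even_or_odd n with ⟨d, rfl⟩ | ⟨d, rfl⟩
    · left
      have e : 2 * (d + d) = 4 * d := by ring
      rw [e, pow_mul, hc, one_pow]
    · right
      have e : 2 * (2 * d + 1) = 4 * d + 2 := by ring
      rw [e, pow_add, pow_mul, hc, one_pow, one_mul]
  rcases hpow F.a4 i' with h | h <;> rcases hpow (b4 F) j' with h' | h' <;> rw [h, h']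
  · left; rw [one_mul]
  · right; right; right; rw [one_mul]
  · right; right; left; rw [mul_one]
  · right; left; rfl

theorem a2_ne (F : Frame x T a b t τ ρ) : a ^ 2 ≠ 1 := by
  intro h
  have := F.indep 2 0 (by rw [h, pow_zero, one_mul])
  omega

theorem b2_ne (F : Frame x T a b t τ ρ) : b ^ 2 ≠ 1 := by
  intro h
  have := F.indep 0 2 (by rw [h, pow_zero, one_mul])
  omega

theorem z_ne (F : Frame x T a b t τ ρ) : a ^ 2 * b ^ 2 ≠ 1 := by
  intro h
  have := F.indep 2 2 h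
  omega

theorem ρz (F : Frame x T a b t τ ρ) : ρ * (a ^ 2 * b ^ 2) * ρ⁻¹ = a ^ 2 := by
  have h1 : ρ * (a ^ 2 * b ^ 2) * ρ⁻¹ = (ρ * a * ρ⁻¹) ^ 2 * (ρ * b * ρ⁻¹) ^ 2 := by
    rw [conj_pow, conj_pow]; group
  rw [h1, F.ρa, F.ρb]
  have h2 : (a * b) ^ 2 = a ^ 2 * b ^ 2 := Commute.mul_pow (show Commute a b from F.ab) 2
  have h3 : (a ^ 2)⁻¹ = a ^ 2 := inv_eq_of_mul_eq_one_left (by rw [← pow_add]; exact F.a4)
  rw [inv_pow, h2, mul_inv_rev, h3]
  group

theorem ρa2 (F : Frame x T a b t τ ρ) : ρ * a ^ 2 * ρ⁻¹ = b ^ 2 := by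
  rw [← conj_pow, F.ρa]

theorem ρb2 (F : Frame x T a b t τ ρ) : ρ * b ^ 2 * ρ⁻¹ = a ^ 2 * b ^ 2 := by
  rw [← conj_pow, F.ρb]
  have h2 : (a * b) ^ 2 = a ^ 2 * b ^ 2 := Commute.mul_pow (show Commute a b from F.ab) 2
  have h3 : (a ^ 2)⁻¹ = a ^ 2 := inv_eq_of_mul_eq_one_left (by rw [← pow_add]; exact F.a4)
  have h4 : (b ^ 2)⁻¹ = b ^ 2 := inv_eq_of_mul_eq_one_left (by rw [← pow_add]; exact b4 F)
  have h5 : b ^ 2 * a ^ 2 = a ^ 2 * b ^ 2 := Commute.pow_pow (show Commute b a from F.ab.symm) 2 2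
  rw [inv_pow, h2, mul_inv_rev, h3, h4, h5]

/-- **The frame gives the basic configuration.** -/
theorem base (F : Frame x T a b t τ ρ) :
    WAct.Base (V a b F.ab) (A0 a b) T x τ t ρ (a ^ 2 * b ^ 2) := by
  obtain ⟨n, hn⟩ := F.xτ
  have hτT : τ ∈ T := (F.memT τ).2 ⟨1, one_mem _, 1, by rw [pow_one, one_mul]⟩
  obtain ⟨k, hk⟩ := F.pT ⟨τ, hτT⟩
  have hk' : τ ^ 2 ^ k = 1 := congrArg Subtype.val hk
  have hcyc := cyc_facts hk' hn F.x1 F.xx
  have hA0P0 : A0 a b ≤ P0 a b t := _root_.Subgroup.closure_mono (by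
    rintro y (rfl | rfl)
    · simp
    · simp)
  have hcp : b ^ 2 * a ^ 2 = a ^ 2 * b ^ 2 := Commute.pow_pow (show Commute b a from F.ab.symm) 2 2
  have ha22 : a ^ 2 * a ^ 2 = 1 := by rw [← pow_add]; exact F.a4
  have hb22 : b ^ 2 * b ^ 2 = 1 := by rw [← pow_add]; exact b4 F
  have hconj : ∀ g ∈ A0 a b, ∃ i j : ℕ, g = a ^ i * b ^ j := fun g hg => (mem_A0 F).1 hg
  refine
    { V_le := fun v hv => hv.1
      V_sq := fun v hv => hv.2
      A0_comm := comm_A0 F.ab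
      A0_sq := ?_
      A0_inv := fun g hg h => ⟨hg, h⟩
      A0_surj := ?_
      τ_A0 := ?_
      τ_two := ⟨k, hk'⟩
      τ_not := fun i hi => F.triv i (hA0P0 hi)
      τ_inv := hcyc.1
      τ_or := hcyc.2
      x_sq := F.xx
      x_ne := F.x1
      x_comm := ?_
      t_sq := F.tt
      t_τ := F.τt.symm
      t_A0 := t_A0 F
      T_mem := ?_
      ρ_A0 := ρ_A0 F
      ρ_τ := F.ρτ
      z_mem := ?_
      z_ne := z_ne F
      V_eq := ?_
      ρ_prod := ?_
      ρ_fix := ?_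
      t_z := ?_
      t_rz := ?_
      star := ?_
      T_p := F.pT
      cent_card := F.syl }
  · intro g hg
    refine ⟨mul_mem hg hg, ?_⟩
    obtain ⟨i, j, rfl⟩ := hconj g hg
    rw [sq_eq F, sq_eq F]
    have e1 : 2 * (2 * i) = 4 * i := by ring
    have e2 : 2 * (2 * j) = 4 * j := by ring
    rw [e1, e2, pow_mul, pow_mul, F.a4, b4 F, one_pow, one_pow, one_mul]
  · rintro v ⟨h1, h2⟩
    obtain ⟨i, j, rfl⟩ := hconj v h1
    rw [sq_eq F] at h2
    obtain ⟨hi, hj⟩ := F.indep _ _ h2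
    obtain ⟨i', rfl⟩ : 2 ∣ i := by omega
    obtain ⟨j', rfl⟩ : 2 ∣ j := by omega
    exact ⟨a ^ i' * b ^ j', (mem_A0 F).2 ⟨i', j', rfl⟩, sq_eq F i' j'⟩
  · rcases F.τa with ⟨h1, h2⟩ | ⟨h1, h2⟩
    · left
      intro g hg
      obtain ⟨i, j, rfl⟩ := hconj g hg
      have : τ * (a ^ i * b ^ j) * τ⁻¹ = (τ * a * τ⁻¹) ^ i * (τ * b * τ⁻¹) ^ j := by
        rw [conj_pow, conj_pow]; group
      rw [this, h1, h2]
    · right
      intro g hg
      obtain ⟨i, j, rfl⟩ := hconj g hg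
      have : τ * (a ^ i * b ^ j) * τ⁻¹ = (τ * a * τ⁻¹) ^ i * (τ * b * τ⁻¹) ^ j := by
        rw [conj_pow, conj_pow]; group
      rw [this, h1, h2, mul_inv_rev, inv_pow, inv_pow]
      have := (Commute.pow_pow (show Commute a b from F.ab) i j).inv_inv
      exact this
  · intro g hg
    have : g ∈ T := (F.memT g).2 ⟨g, hA0P0 hg, 0, by rw [pow_zero, mul_one]⟩
    exact (F.Tx g this).symm
  · intro g
    rw [F.memT g]
    constructor
    · rintro ⟨p, hp, i, rfl⟩
      obtain ⟨α, hα, j, rfl⟩ := (mem_P0 F).1 hp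
      exact ⟨α, hα, j, i, rfl⟩
    · rintro ⟨α, hα, j, i, rfl⟩
      exact ⟨α * t ^ j, (mem_P0 F).2 ⟨α, hα, j, rfl⟩, i, rfl⟩
  · refine ⟨mul_mem (pow_mem a_mem 2) (pow_mem b_mem 2), ?_⟩
    rw [sq_eq F]
    have e1 : 2 * 2 = 4 := rfl
    rw [e1, F.a4, b4 F, one_mul]
  · intro v hv
    rw [ρz F, ρa2 F]
    exact V_cases F hv
  · rw [ρz F, ρa2 F]
    calc a ^ 2 * b ^ 2 * a ^ 2 * b ^ 2 = a ^ 2 * (b ^ 2 * a ^ 2) * b ^ 2 := by group
      _ = a ^ 2 * (a ^ 2 * b ^ 2) * b ^ 2 := by rw [hcp]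
      _ = (a ^ 2 * a ^ 2) * (b ^ 2 * b ^ 2) := by group
      _ = 1 := by rw [ha22, hb22, one_mul]
  · intro v hv hfix
    rcases V_cases F hv with rfl | rfl | rfl | rfl
    · rfl
    · exfalso
      rw [ρz F] at hfix
      exact b2_ne F (mul_left_cancel (a := a ^ 2) (by rw [mul_one]; exact hfix.symm))
    · exfalso
      rw [ρa2 F] at hfix
      apply z_ne F
      rw [hfix, ha22]
    · exfalso
      rw [ρb2 F] at hfix
      exact a2_ne F (mul_right_cancel (b := b ^ 2) (by rw [one_mul]; exact hfix))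
  · have : t * (a ^ 2 * b ^ 2) * t⁻¹ = (t * a * t⁻¹) ^ 2 * (t * b * t⁻¹) ^ 2 := by
      rw [conj_pow, conj_pow]; group
    rw [this, F.ta, tb F, hcp]
  · rw [ρz F, ρa2 F, ← conj_pow, F.ta]
  · intro α hα h
    refine F.fus _ ((mem_P0 F).2 ⟨α, hα, 1, by rw [pow_one]⟩) h ?_
    intro h1
    apply F.tA
    have : t = α⁻¹ := by
      calc t = α⁻¹ * (α * t) := by group
        _ = α⁻¹ := by rw [h1, mul_one]
    rw [this]
    exact inv_mem hα

end conv

/-- A homomorphism of a simple nonabelian group to `ℤˣ` is trivial. -/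
theorem hom_units_trivial [IsSimpleGroup G] (hG : ¬ IsMulCommutative G) (f : G →* ℤˣ) (g : G) : f g = 1 := by
  rcases (inferInstance : f.ker.Normal).eq_bot_or_eq_top with h | h
  · exfalso
    apply hG
    refine ⟨⟨fun a b => ?_⟩⟩
    have hinj : Function.Injective f := (MonoidHom.ker_eq_bot_iff f).1 h
    apply hinj
    rw [map_mul, map_mul, mul_comm]
  · have : g ∈ f.ker := by rw [h]; exact mem_top g
    exact this

/-- **GH-L3 (W), steps 1-7**: the frame is impossible. -/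
theorem false_of_frame [Finite G] (hs : IsSimpleGroup G) (hG : ¬ IsMulCommutative G)
    (hr : Cfsg.SectionalPRankLE 2 4 G) {x a b t τ ρ : G} {T : Subgroup G} (F : Frame x T a b t τ ρ) : False := by
  have hiso := (base F).isolated (fun X Y h => (sectionalPRankLE_iff.1 hr) X Y h)
    (fun f => hom_units_trivial hG f x)
  obtain ⟨g, h1, h2⟩ := QA.not_isolated hs hG F.xx F.x1
  exact h2 (hiso g h1)

/-- The same from `Hyp G`. -/
theorem false_of_hyp [Finite G] (H : Defs.Hyp G) {x a b t τ ρ : G} {T : Subgroup G}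
    (F : Frame x T a b t τ ρ) : False :=
  false_of_frame H.simple H.nonComm H.rank4 F

end Cfsg.Agent.GH.WConv
end

-- part: GH/WLift
section
/-!
# Lifting 2-subgroups and their normalisers through a normal subgroup of odd order
-/

set_option autoImplicit false

namespace Cfsg.Agent.GH.WLift

open Subgroup Cfsg.Agent.SignalizersComponents.CoprimeBasic

variable {C : Type*} [Group C] [Finite C] {N : Subgroup C} [N.Normal]

omit [Finite C] in
/-- The quotient map is injective on 2-subgroups. -/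
theorem injOn (hN : Odd (Nat.card N)) {T : Subgroup C} (hT : IsPGroup 2 T) {x y : C} (hx : x ∈ T)
    (hy : y ∈ T) (h : QuotientGroup.mk' N x = QuotientGroup.mk' N y) : x = y := by
  obtain ⟨n, hn⟩ := hT ⟨x⁻¹ * y, T.mul_mem (T.inv_mem hx) hy⟩
  have h1 : (x⁻¹ * y) ^ 2 ^ n = 1 := congrArg Subtype.val hn
  have h2 := Intrinsic.OddQuot.eq_one_of_mk_eq_one hN h1 (by rw [map_mul, map_inv, h, inv_mul_cancel])
  exact inv_mul_eq_one.mp h2

omit [Finite C] in
theorem card_map (hN : Odd (Nat.card N)) {T : Subgroup C} (hT : IsPGroup 2 T) :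
    Nat.card (T.map (QuotientGroup.mk' N)) = Nat.card T := by
  refine (Nat.card_congr (Equiv.ofBijective
    (fun x : T => (⟨QuotientGroup.mk' N x, x, x.2, rfl⟩ : T.map (QuotientGroup.mk' N))) ?_)).symm
  constructor
  · intro x y hxy
    exact Subtype.ext (injOn hN hT x.2 y.2 (congrArg Subtype.val hxy))
  · rintro ⟨_, x, hx, rfl⟩
    exact ⟨⟨x, hx⟩, rfl⟩

/-- A 2-subgroup of the quotient is the image of a 2-subgroup. -/
theorem exists_lift (hN : Odd (Nat.card N)) {T' : Subgroup (C ⧸ N)} (hT' : IsPGroup 2 T') :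
    ∃ T : Subgroup C, IsPGroup 2 T ∧ T.map (QuotientGroup.mk' N) = T' := by
  have hp : Fact (Nat.Prime 2) := ⟨Nat.prime_two⟩
  let M := T'.comap (QuotientGroup.mk' N)
  obtain ⟨P⟩ : Nonempty (Sylow 2 M) := inferInstance
  have h2 : IsPGroup 2 ((P : Subgroup M).map M.subtype) := P.2.map _
  refine ⟨(P : Subgroup M).map M.subtype, h2, ?_⟩
  have hle : ((P : Subgroup M).map M.subtype).map (QuotientGroup.mk' N) ≤ T' := by
    rintro _ ⟨_, ⟨x, -, rfl⟩, rfl⟩
    exact x.2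
  apply eq_of_le_of_card_ge hle
  rw [card_map hN h2, Nat.card_congr ((P : Subgroup M).equivMapOfInjective M.subtype
    M.subtype_injective).symm.toEquiv]
  -- `|M| = |N| |T'|`
  have hM : Nat.card M = Nat.card N * Nat.card T' := by
    have h3 := Rank.card_comap_of_surjective (QuotientGroup.mk' N) (QuotientGroup.mk'_surjective N) T'
    rwa [QuotientGroup.ker_mk'] at h3
  obtain ⟨n, hn⟩ := hT'.exists_card_eq
  obtain ⟨m, hm⟩ := P.2.exists_card_eq
  have h4 := (P : Subgroup M).card_mul_index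
  have h5 : ¬ 2 ∣ (P : Subgroup M).index := P.not_dvd_index
  rw [hM, hm, hn] at h4
  rw [hm, hn]
  have h6 : 2 ^ n ∣ 2 ^ m * (P : Subgroup M).index := by
    rw [h4]
    exact dvd_mul_left _ _
  have h7 : Nat.Coprime (2 ^ n) (P : Subgroup M).index := by
    refine Nat.Coprime.pow_left _ ?_
    rw [Nat.coprime_comm]
    exact Nat.coprime_two_right.mpr (Nat.not_even_iff_odd.mp fun h => h5 (even_iff_two_dvd.mp h))
  exact Nat.le_of_dvd (by positivity) (h7.dvd_of_dvd_mul_right h6)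

/-- Lifting of elements normalising a 2-subgroup. -/
theorem exists_normalizer_lift (hN : Odd (Nat.card N)) {U : Subgroup C} (hU : IsPGroup 2 U)
    {q : C ⧸ N} (hq : ∀ u ∈ U, ∃ v ∈ U, q * QuotientGroup.mk' N u * q⁻¹ = QuotientGroup.mk' N v) :
    ∃ r : C, QuotientGroup.mk' N r = q ∧ ∀ u ∈ U, r * u * r⁻¹ ∈ U := by
  have hp : Fact (Nat.Prime 2) := ⟨Nat.prime_two⟩
  obtain ⟨r, rfl⟩ := QuotientGroup.mk'_surjective N q
  let M := N ⊔ U
  have hUM : U ≤ M := le_sup_right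
  have hNU : U ≤ normalizer (N : Set C) := by
    rw [normalizer_eq_top]
    exact le_top
  let V := U.map (MulAut.conj r).toMonoidHom
  have hVM : V ≤ M := by
    rintro _ ⟨u, hu, rfl⟩
    obtain ⟨v, hv, h1⟩ := hq u hu
    rw [← map_inv, ← map_mul, ← map_mul] at h1
    have h2 : r * u * r⁻¹ * v⁻¹ ∈ N := by
      rw [← QuotientGroup.eq_one_iff]
      change QuotientGroup.mk' N (r * u * r⁻¹ * v⁻¹) = 1
      rw [map_mul, map_inv, h1, mul_inv_cancel]
    have h3 : r * u * r⁻¹ = (r * u * r⁻¹ * v⁻¹) * v := by group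
    change r * u * r⁻¹ ∈ M
    rw [h3]
    exact mul_mem (mem_sup_left h2) (mem_sup_right hv)
  have hcardV : Nat.card V = Nat.card U :=
    Nat.card_congr (U.equivMapOfInjective _ (MulAut.conj r).injective).symm.toEquiv
  have hdvd : Nat.card M ∣ Nat.card N * Nat.card U := card_sup_dvd hNU
  have key : ∀ W : Subgroup C, W ≤ M → Nat.card W = Nat.card U → ¬ 2 ∣ (W.subgroupOf M).index := by
    intro W hW hc h2
    have h3 : Nat.card (W.subgroupOf M) = Nat.card W :=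
      Nat.card_congr (subgroupOfEquivOfLe hW).toEquiv
    have h4 := (W.subgroupOf M).card_mul_index
    rw [h3, hc] at h4
    rw [← h4, mul_comm (Nat.card N)] at hdvd
    have h5 := Nat.dvd_of_mul_dvd_mul_left Nat.card_pos hdvd
    exact (Nat.not_even_iff_odd.mpr hN) (even_iff_two_dvd.mpr (h2.trans h5))
  have hV : IsPGroup 2 V := hU.map _
  let P : Sylow 2 M := (hU.comap_subtype (K := M)).toSylow (key U hUM rfl)
  let Q : Sylow 2 M := (hV.comap_subtype (K := M)).toSylow (key V hVM hcardV)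
  obtain ⟨m, hm⟩ := MulAction.exists_smul_eq M Q P
  obtain ⟨o, ho, u0, hu0, h1⟩ := (mem_sup_iff hNU _).mp m.2
  -- `m = o * u0`
  have hconj : ∀ u ∈ U, (m : C) * (r * u * r⁻¹) * (m : C)⁻¹ ∈ U := by
    intro u hu
    have h2 : (⟨r * u * r⁻¹, hVM ⟨u, hu, rfl⟩⟩ : M) ∈ (Q : Subgroup M) :=
      (show r * u * r⁻¹ ∈ V from ⟨u, hu, rfl⟩)
    have h3 : m * ⟨r * u * r⁻¹, hVM ⟨u, hu, rfl⟩⟩ * m⁻¹ ∈ (P : Subgroup M) := by
      rw [← hm]
      exact Subgroup.smul_mem_pointwise_smul _ (MulAut.conj m) _ h2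
    exact h3
  refine ⟨u0⁻¹ * (m : C) * r, ?_, ?_⟩
  · rw [← h1, map_mul, map_mul, map_mul, map_inv]
    have h2 : QuotientGroup.mk' N o = 1 := (QuotientGroup.eq_one_iff o).mpr ho
    rw [h2, one_mul, inv_mul_cancel, one_mul]
  · intro u hu
    have h2 : u0⁻¹ * (m : C) * r * u * (u0⁻¹ * (m : C) * r)⁻¹ =
        u0⁻¹ * ((m : C) * (r * u * r⁻¹) * (m : C)⁻¹) * u0 := by group
    rw [h2]
    exact mul_mem (mul_mem (inv_mem hu0) (hconj u hu)) hu0

end Cfsg.Agent.GH.WLift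
end

-- part: GH/WFrame
section
/-!
# From the configuration in `C(x) / O(C(x))` to the frame in `C(x)`
-/

set_option autoImplicit false

namespace Cfsg.Agent.GH.WFrame

open Subgroup Cfsg.Agent.GH.WDefs Cfsg.Agent.GH.WNorm Cfsg.Agent.GH.WQuot Cfsg.Agent.GH.WRank
open Cfsg.Agent.GH.WLift

/-! ### the quotient -/

section quot

variable {X : Type*} [Group X] {K T : Subgroup X} {a b t ρ : X}

theorem E_two : E a b 2 2 = a ^ 2 * b ^ 2 := rfl

/-- All involutions of `P₀` are conjugate. -/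
theorem fusX (h : WrIn K a b t ρ) {u : X} (hu : u ∈ P0 a b t) (huu : u * u = 1) (hu1 : u ≠ 1) :
    ∃ k : X, k * u * k⁻¹ = a ^ 2 * b ^ 2 := by
  have hr := h.rel
  rw [← E_two]
  obtain ⟨i, j, rfl | rfl⟩ := hr.mem_P0.mp hu
  · rw [hr.E_mul] at huu
    have h1 := hr.E_inj (huu.trans E_zero.symm)
    have h2 : ¬ (i = 0 ∧ j = 0) := by
      rintro ⟨rfl, rfl⟩
      exact hu1 E_zero
    have key : ∀ i j : ZMod 4, (i + i = 0 ∧ j + j = 0) → ¬ (i = 0 ∧ j = 0) →
        (i = 2 ∧ j = 0) ∨ (i = 0 ∧ j = 2) ∨ (i = 2 ∧ j = 2) := by decide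
    rcases key i j h1 h2 with ⟨rfl, rfl⟩ | ⟨rfl, rfl⟩ | ⟨rfl, rfl⟩
    · refine ⟨ρ * ρ, ?_⟩
      have e : ρ * ρ * E a b 2 0 * (ρ * ρ)⁻¹ = ρ * (ρ * E a b 2 0 * ρ⁻¹) * ρ⁻¹ := by group
      rw [e, ρ_E h, ρ_E h]
      rfl
    · refine ⟨ρ, ?_⟩
      rw [ρ_E h]
      rfl
    · exact ⟨1, by group⟩
  · rw [hr.Et_sq] at huu
    have h1 := (hr.E_inj (huu.trans E_zero.symm)).1
    obtain ⟨k, -, hk⟩ := h.fus
    refine ⟨k * (E a b i 0)⁻¹, ?_⟩
    have h2 : E a b i j * t = E a b i 0 * t * (E a b i 0)⁻¹ := by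
      rw [hr.E_inv, mul_assoc, hr.tE, ← mul_assoc, hr.E_mul]
      congr 2
      · ring
      · rw [zero_add]
        exact eq_neg_of_add_eq_zero_right h1
    rw [h2]
    have e : k * (E a b i 0)⁻¹ * (E a b i 0 * t * (E a b i 0)⁻¹) * (k * (E a b i 0)⁻¹)⁻¹ =
        k * t * k⁻¹ := by group
    rw [e, hk]
    rfl

/-- The generator `τ`. -/
theorem exists_τ [Finite X] (q : QHyp K T a b t ρ) (hX : SectionalPRankLE 2 4 X) :
    ∃ τ ∈ Y T t ρ, (∀ y ∈ Y T t ρ, ∃ n : ℕ, y = τ ^ n) ∧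
      (∀ g : X, g ∈ T → ∃ p ∈ P0 a b t, ∃ n : ℕ, g = p * τ ^ n) ∧
      (∀ n : ℕ, τ ^ n ∈ P0 a b t → τ ^ n = 1) := by
  obtain ⟨⟨τ, hτ⟩, hgen⟩ := isCyclic_Y q hX
  have h1 : ∀ y ∈ Y T t ρ, ∃ n : ℕ, y = τ ^ n := by
    intro y hy
    have h2 := mem_powers_iff_mem_zpowers.mpr (hgen ⟨y, hy⟩)
    obtain ⟨n, hn⟩ := h2
    exact ⟨n, (congrArg Subtype.val hn).symm⟩
  refine ⟨τ, hτ, h1, ?_, ?_⟩
  · intro g hg
    obtain ⟨p, hp, y, hy, rfl⟩ := decomp q hg
    obtain ⟨n, rfl⟩ := h1 y hy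
    exact ⟨p, hp, n, rfl⟩
  · intro n hn
    exact inf_Y q hn (pow_mem hτ n)

end quot

/-! ### lifting -/

theorem frame_of_quot {C : Type*} [Group C] [Finite C] {N : Subgroup C} [N.Normal]
    (hN : Odd (Nat.card N)) {x : C} (hx1 : x ≠ 1) (hxx : x * x = 1) (hxc : ∀ g : C, g * x = x * g)
    {K' T' : Subgroup (C ⧸ N)} {a' b' t' ρ' : C ⧸ N} (q : QHyp K' T' a' b' t' ρ')
    (hsyl : ∀ Q : Subgroup (C ⧸ N), IsPGroup 2 Q → Nat.card Q ≤ Nat.card T')
    (hC : SectionalPRankLE 2 4 C) :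
    ∃ (T : Subgroup C) (a b t τ ρ : C), Frame x T a b t τ ρ := by
  let mk := QuotientGroup.mk' N
  have w := q.wr
  obtain ⟨τ', hτ', hY, hdec, htriv⟩ := exists_τ q (Rank.of_quotient hC N)
  obtain ⟨T, hT, hTm⟩ := exists_lift hN q.pT
  have inj : ∀ {y z : C}, y ∈ T → z ∈ T → mk y = mk z → y = z := fun hy hz h =>
    injOn hN hT hy hz h
  have lift : ∀ y' ∈ T', ∃ y ∈ T, mk y = y' := by
    intro y' hy'
    rw [← hTm] at hy'
    obtain ⟨y, hy, h⟩ := hy'
    exact ⟨y, hy, h⟩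
  have hsylC : ∀ Q : Subgroup C, IsPGroup 2 Q → Nat.card Q ≤ Nat.card T := by
    intro Q hQ
    rw [← card_map hN hQ, ← card_map hN hT, hTm]
    exact hsyl _ (hQ.map _)
  obtain ⟨a, haT, ha⟩ := lift a' q.aT
  obtain ⟨t, htT, ht⟩ := lift t' q.tT
  obtain ⟨τ, hτT, hτ⟩ := lift τ' (mem_Y.mp hτ').1
  have hbT' : b' ∈ T' := by
    rw [← w.ta]
    exact mul_mem (mul_mem q.tT q.aT) (inv_mem q.tT)
  obtain ⟨b, hbT, hb⟩ := lift b' hbT'
  -- the centre
  have hxT : x ∈ T := by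
    have hz : (zpowers x).Normal := by
      constructor
      rintro _ ⟨n, rfl⟩ g
      have h1 : g * x ^ n * g⁻¹ = x ^ n := by
        have h2 : Commute g (x ^ n) := (show Commute g x from hxc g).zpow_right n
        rw [h2.eq, mul_inv_cancel_right]
      change g * x ^ n * g⁻¹ ∈ zpowers x
      rw [h1]
      exact zpow_mem (mem_zpowers x) n
    have hz2 : IsPGroup 2 (zpowers x) := by
      rintro ⟨_, n, rfl⟩
      refine ⟨1, Subtype.ext ?_⟩
      change (x ^ n) ^ 2 ^ 1 = 1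
      rw [pow_one, ← zpow_natCast, ← zpow_mul, mul_comm, zpow_mul]
      have h3 : x ^ ((2 : ℕ) : ℤ) = 1 := by rw [zpow_natCast, pow_two, hxx]
      rw [h3, one_zpow]
    have h1 : IsPGroup 2 (T ⊔ zpowers x : Subgroup C) := hT.to_sup_of_normal_right hz2
    have h2 : T = T ⊔ zpowers x := eq_of_le_of_card_ge le_sup_left (hsylC _ h1)
    rw [h2]
    exact mem_sup_right (mem_zpowers x)
  -- the relations
  have e_ab : a * b = b * a := inj (mul_mem haT hbT) (mul_mem hbT haT) (by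
    rw [map_mul, map_mul, ha, hb, w.ab])
  have e_a4 : a ^ 4 = 1 := inj (pow_mem haT 4) (one_mem _) (by rw [map_pow, ha, w.a4, map_one])
  have e_tt : t * t = 1 := inj (mul_mem htT htT) (one_mem _) (by rw [map_mul, ht, w.tt, map_one])
  have e_ta : t * a * t⁻¹ = b := inj (mul_mem (mul_mem htT haT) (inv_mem htT)) hbT (by
    rw [map_mul, map_mul, map_inv, ht, ha, hb, w.ta])
  have e_indep : ∀ i j : ℕ, a ^ i * b ^ j = 1 → 4 ∣ i ∧ 4 ∣ j := by
    intro i j hij
    apply w.indep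
    rw [← ha, ← hb, ← map_pow, ← map_pow, ← map_mul, hij, map_one]
  have hr : _root_.Cfsg.Agent.GH.WNorm.Rel a b t := ⟨e_a4, e_ab, e_indep, e_tt, e_ta⟩
  have e_τt : τ * t = t * τ := inj (mul_mem hτT htT) (mul_mem htT hτT) (by
    rw [map_mul, map_mul, hτ, ht, (mem_Y.mp hτ').2.1])
  have hP : (P0 a b t).map mk = P0 a' b' t' := by
    unfold P0
    rw [MonoidHom.map_closure, Set.image_insert_eq, Set.image_insert_eq, Set.image_singleton, ha,
      hb, ht]
  have hPT : P0 a b t ≤ T := by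
    unfold P0
    rw [closure_le]
    rintro y (rfl | rfl | rfl)
    · exact haT
    · exact hbT
    · exact htT
  -- the element `ρ`
  let U : Subgroup C := _root_.Subgroup.closure {a, b, τ}
  have hUT : U ≤ T := by
    rw [closure_le]
    rintro y (rfl | rfl | rfl)
    · exact haT
    · exact hbT
    · exact hτT
  have hU2 : IsPGroup 2 U := hT.to_le hUT
  have haU : a ∈ U := _root_.Subgroup.subset_closure (by simp)
  have hbU : b ∈ U := _root_.Subgroup.subset_closure (by simp)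
  have hτU : τ ∈ U := _root_.Subgroup.subset_closure (by simp)
  have hUS : U ≤ ((U.map mk).comap ((MulAut.conj ρ').toMonoidHom.comp mk)) := by
    rw [closure_le]
    rintro y (rfl | rfl | rfl)
    · refine ⟨b, hbU, ?_⟩
      change mk b = ρ' * mk y * ρ'⁻¹
      rw [ha, hb, w.ρa]
    · refine ⟨(a * y)⁻¹, inv_mem (mul_mem haU hbU), ?_⟩
      change mk (a * y)⁻¹ = ρ' * mk y * ρ'⁻¹
      rw [map_inv, map_mul, ha, hb, w.ρb]
    · refine ⟨y, hτU, ?_⟩
      change mk y = ρ' * mk y * ρ'⁻¹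
      rw [hτ, ← (mem_Y.mp hτ').2.2, mul_inv_cancel_right]
  obtain ⟨ρ, hρ, hρU⟩ := exists_normalizer_lift hN hU2 (q := ρ') (by
    intro u hu
    obtain ⟨v, hv, h1⟩ := hUS hu
    exact ⟨v, hv, h1.symm⟩)
  have hρ' : mk ρ = ρ' := hρ
  have e_ρa : ρ * a * ρ⁻¹ = b := inj (hUT (hρU a haU)) hbT (by
    rw [map_mul, map_mul, map_inv, hρ', ha, hb, w.ρa])
  have e_ρb : ρ * b * ρ⁻¹ = (a * b)⁻¹ := inj (hUT (hρU b hbU)) (inv_mem (mul_mem haT hbT)) (by
    rw [map_mul, map_mul, map_inv, map_inv, map_mul, hρ', ha, hb, w.ρb])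
  have e_ρτ : ρ * τ = τ * ρ := by
    have h1 : ρ * τ * ρ⁻¹ = τ := inj (hUT (hρU τ hτU)) hτT (by
      rw [map_mul, map_mul, map_inv, hρ', hτ, ← (mem_Y.mp hτ').2.2, mul_inv_cancel_right])
    exact mul_inv_eq_iff_eq_mul.mp h1
  refine ⟨T, a, b, t, τ, ρ, ?_⟩
  exact
    { x1 := hx1
      xx := hxx
      pT := hT
      Tx := fun g _ => hxc g
      syl := fun Q hQ _ => hsylC Q hQ
      a4 := e_a4
      ab := e_ab
      indep := e_indep
      tt := e_tt
      ta := e_ta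
      tA := hr.t_not_mem
      τt := e_τt
      τa := by
        rcases act_Y q hτ' with ⟨h1, h2⟩ | ⟨h1, h2⟩
        · left
          exact ⟨inj (mul_mem (mul_mem hτT haT) (inv_mem hτT)) haT (by
              rw [map_mul, map_mul, map_inv, hτ, ha, h1]),
            inj (mul_mem (mul_mem hτT hbT) (inv_mem hτT)) hbT (by
              rw [map_mul, map_mul, map_inv, hτ, hb, h2])⟩
        · right
          exact ⟨inj (mul_mem (mul_mem hτT haT) (inv_mem hτT)) (inv_mem haT) (by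
              rw [map_mul, map_mul, map_inv, map_inv, hτ, ha, h1]),
            inj (mul_mem (mul_mem hτT hbT) (inv_mem hτT)) (inv_mem hbT) (by
              rw [map_mul, map_mul, map_inv, map_inv, hτ, hb, h2])⟩
      memT := by
        intro g
        constructor
        · intro hg
          obtain ⟨p', hp', n, h1⟩ := hdec (mk g) (by rw [← hTm]; exact ⟨g, hg, rfl⟩)
          rw [← hP] at hp'
          obtain ⟨p, hp, rfl⟩ := hp'
          refine ⟨p, hp, n, ?_⟩
          exact inj hg (mul_mem (hPT hp) (pow_mem hτT n)) (by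
            rw [h1, map_mul, map_pow, hτ])
        · rintro ⟨p, hp, n, rfl⟩
          exact mul_mem (hPT hp) (pow_mem hτT n)
      triv := by
        intro n hn
        have h1 : mk (τ ^ n) ∈ P0 a' b' t' := by
          rw [← hP]
          exact ⟨_, hn, rfl⟩
        rw [map_pow, hτ] at h1
        have h2 := htriv n h1
        exact inj (pow_mem hτT n) (one_mem _) (by rw [map_pow, hτ, h2, map_one])
      xτ := by
        have h1 : mk x ∈ Y T' t' ρ' := by
          rw [mem_Y]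
          have h2 : ∀ y : C ⧸ N, mk x * y = y * mk x := by
            intro y
            obtain ⟨y, rfl⟩ := QuotientGroup.mk'_surjective N y
            change mk x * mk y = mk y * mk x
            rw [← map_mul, ← map_mul, hxc]
          refine ⟨?_, h2 _, h2 _⟩
          rw [← hTm]
          exact ⟨x, hxT, rfl⟩
        obtain ⟨n, hn⟩ := hY _ h1
        exact ⟨n, inj hxT (pow_mem hτT n) (by rw [hn, map_pow, hτ])⟩
      ρx := hxc ρ
      ρτ := e_ρτ
      ρa := e_ρa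
      ρb := e_ρb
      fus := by
        intro u hu huu hu1
        have h1 : mk u ∈ P0 a' b' t' := by
          rw [← hP]
          exact ⟨_, hu, rfl⟩
        have h2 : mk u * mk u = 1 := by rw [← map_mul, huu, map_one]
        have h3 : mk u ≠ 1 := by
          intro h
          exact hu1 (inj (hPT hu) (one_mem _) (by rw [h, map_one]))
        obtain ⟨k', hk'⟩ := fusX w h1 h2 h3
        obtain ⟨k, rfl⟩ := QuotientGroup.mk'_surjective N k'
        have h4 : (a ^ 2 * b ^ 2) * (a ^ 2 * b ^ 2) = 1 := by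
          have := zz_sq hr
          exact this
        have h5 : (k * u * k⁻¹) * (k * u * k⁻¹) = 1 := by
          calc (k * u * k⁻¹) * (k * u * k⁻¹) = k * (u * u) * k⁻¹ := by group
            _ = 1 := by rw [huu]; group
        obtain ⟨o, ho, h6⟩ := Intrinsic.OddQuot.conj_of_mk_eq hN h5 h4 (by
          change mk (k * u * k⁻¹) = mk (a ^ 2 * b ^ 2)
          rw [map_mul, map_mul, map_inv, map_mul, map_pow, map_pow, ha, hb]
          exact hk')
        refine ⟨o * k, hxc _, ?_⟩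
        rw [← h6]
        group }

/-- From the centralizer to the group. -/
theorem frame_of_centralizer {G : Type*} [Group G] {x : G} {H : Subgroup G}
    (hH : ∀ g : G, g ∈ H ↔ g * x = x * g) {T : Subgroup H} {x' a b t τ ρ : H}
    (hx : (x' : G) = x) (f : Frame x' T a b t τ ρ) :
    Frame x (T.map H.subtype) (a : G) b t τ ρ := by
  have hxc : ∀ g : H, (g : G) * x = x * g := fun g => (hH g).mp g.2
  have hP : (P0 a b t).map H.subtype = P0 (a : G) b t := by
    unfold P0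
    rw [MonoidHom.map_closure, Set.image_insert_eq, Set.image_insert_eq, Set.image_singleton]
    rfl
  have hA : (A0 a b).map H.subtype = A0 (a : G) b := by
    unfold A0
    rw [MonoidHom.map_closure, Set.image_insert_eq, Set.image_singleton]
    rfl
  have mP : ∀ g : H, (g : G) ∈ P0 (a : G) b t ↔ g ∈ P0 a b t := by
    intro g
    rw [← hP]
    constructor
    · rintro ⟨y, hy, h⟩
      rwa [← Subtype.ext (show (y : G) = g from h)]
    · intro hg
      exact ⟨g, hg, rfl⟩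
  have mA : ∀ g : H, (g : G) ∈ A0 (a : G) b ↔ g ∈ A0 a b := by
    intro g
    rw [← hA]
    constructor
    · rintro ⟨y, hy, h⟩
      rwa [← Subtype.ext (show (y : G) = g from h)]
    · intro hg
      exact ⟨g, hg, rfl⟩
  have cv : ∀ {g g' : H}, g = g' → (g : G) = g' := fun h => congrArg Subtype.val h
  exact
    { x1 := by
        intro h
        exact f.x1 (Subtype.ext (hx.trans h))
      xx := by
        rw [← hx]
        exact cv f.xx
      pT := f.pT.map _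
      Tx := by
        rintro _ ⟨g, -, rfl⟩
        exact hxc g
      syl := by
        intro Q hQ hQx
        have hle : Q ≤ H := fun g hg => (hH g).mpr (hQx g hg)
        have h1 : Nat.card (Q.subgroupOf H) = Nat.card Q :=
          Nat.card_congr (subgroupOfEquivOfLe hle).toEquiv
        have h2 : Nat.card (T.map H.subtype) = Nat.card T :=
          Nat.card_congr (T.equivMapOfInjective H.subtype H.subtype_injective).symm.toEquiv
        rw [← h1, h2]
        refine f.syl _ (hQ.comap_subtype) ?_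
        intro g _
        apply Subtype.ext
        change (g : G) * x' = x' * g
        rw [hx]
        exact hxc g
      a4 := cv f.a4
      ab := cv f.ab
      indep := fun i j hij => f.indep i j (Subtype.ext hij)
      tt := cv f.tt
      ta := cv f.ta
      tA := fun h => f.tA ((mA t).mp h)
      τt := cv f.τt
      τa := by
        rcases f.τa with ⟨h1, h2⟩ | ⟨h1, h2⟩
        · exact Or.inl ⟨cv h1, cv h2⟩
        · exact Or.inr ⟨cv h1, cv h2⟩
      memT := by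
        intro g
        constructor
        · rintro ⟨g, hg, rfl⟩
          obtain ⟨p, hp, n, rfl⟩ := (f.memT g).mp hg
          exact ⟨p, (mP p).mpr hp, n, rfl⟩
        · rintro ⟨p, hp, n, rfl⟩
          rw [← hP] at hp
          obtain ⟨p, hp, rfl⟩ := hp
          exact ⟨p * τ ^ n, (f.memT _).mpr ⟨p, hp, n, rfl⟩, rfl⟩
      triv := by
        intro n hn
        exact cv (f.triv n ((mP (τ ^ n)).mp hn))
      xτ := by
        obtain ⟨n, hn⟩ := f.xτ
        exact ⟨n, by rw [← hx]; exact cv hn⟩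
      ρx := hxc ρ
      ρτ := cv f.ρτ
      ρa := cv f.ρa
      ρb := cv f.ρb
      fus := by
        intro u hu huu hu1
        rw [← hP] at hu
        obtain ⟨u, hu, rfl⟩ := hu
        obtain ⟨k, -, hk⟩ := f.fus u hu (Subtype.ext huu) (fun h => hu1 (cv h))
        exact ⟨k, hxc k, cv hk⟩ }

end Cfsg.Agent.GH.WFrame
end

-- part: GH/WModel
section
/-!
# The data `WrIn` in `SU₃(3)`
-/

set_option autoImplicit false

namespace Cfsg.Agent.GH.WModel

open Subgroup Cfsg.Agent.GH.WDefs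
open Cfsg.Agent.Classification.RTwo.UThreeThree

/-- `diag(-1, i, i)` -/
def mA : Matrix (Fin 3) (Fin 3) K9 := !![⟨2, 0⟩, ⟨0, 0⟩, ⟨0, 0⟩; ⟨0, 0⟩, ⟨0, 1⟩, ⟨0, 0⟩; ⟨0, 0⟩, ⟨0, 0⟩, ⟨0, 1⟩]
/-- `diag(i, -1, i)` -/
def mB : Matrix (Fin 3) (Fin 3) K9 := !![⟨0, 1⟩, ⟨0, 0⟩, ⟨0, 0⟩; ⟨0, 0⟩, ⟨2, 0⟩, ⟨0, 0⟩; ⟨0, 0⟩, ⟨0, 0⟩, ⟨0, 1⟩]
/-- minus the transposition -/
def mT : Matrix (Fin 3) (Fin 3) K9 := !![⟨0, 0⟩, ⟨2, 0⟩, ⟨0, 0⟩; ⟨2, 0⟩, ⟨0, 0⟩, ⟨0, 0⟩; ⟨0, 0⟩, ⟨0, 0⟩, ⟨2, 0⟩]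
/-- the cyclic shift -/
def mR : Matrix (Fin 3) (Fin 3) K9 := !![⟨0, 0⟩, ⟨0, 0⟩, ⟨1, 0⟩; ⟨1, 0⟩, ⟨0, 0⟩, ⟨0, 0⟩; ⟨0, 0⟩, ⟨1, 0⟩, ⟨0, 0⟩]
/-- an element conjugating `t` to `z` -/
def mK : Matrix (Fin 3) (Fin 3) K9 := !![⟨1, 1⟩, ⟨1, 1⟩, ⟨0, 0⟩; ⟨0, 0⟩, ⟨0, 0⟩, ⟨0, 2⟩; ⟨1, 1⟩, ⟨2, 2⟩, ⟨0, 0⟩]

theorem gA : IsGood mA := by decide +kernel
theorem gB : IsGood mB := by decide +kernel
theorem gT : IsGood mT := by decide +kernel
theorem gR : IsGood mR := by decide +kernel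
theorem gK : IsGood mK := by decide +kernel

/-- `a` -/
def a : Cfsg.SU 3 K9 3 := gA.su
/-- `b` -/
def b : Cfsg.SU 3 K9 3 := gB.su
/-- `t` -/
def t : Cfsg.SU 3 K9 3 := gT.su
/-- `ρ` -/
def ρ : Cfsg.SU 3 K9 3 := gR.su
/-- `k` -/
def k : Cfsg.SU 3 K9 3 := gK.su

theorem a4 : a ^ 4 = 1 := by
  apply su_ext
  change mA ^ 4 = 1
  decide +kernel

theorem ab : a * b = b * a := by
  apply su_ext
  change mA * mB = mB * mA
  decide +kernel

theorem tt : t * t = 1 := by
  apply su_ext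
  change mT * mT = 1
  decide +kernel

theorem ta : t * a * t⁻¹ = b := by
  rw [mul_inv_eq_iff_eq_mul]
  apply su_ext
  change mT * mA = mB * mT
  decide +kernel

theorem ρa : ρ * a * ρ⁻¹ = b := by
  rw [mul_inv_eq_iff_eq_mul]
  apply su_ext
  change mR * mA = mB * mR
  decide +kernel

theorem ρb : ρ * b * ρ⁻¹ = (a * b)⁻¹ := by
  rw [mul_inv_eq_iff_eq_mul, eq_inv_mul_iff_mul_eq]
  apply su_ext
  change (mA * mB) * (mR * mB) = mR
  decide +kernel

theorem tρ : t * ρ * t⁻¹ = ρ⁻¹ := by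
  rw [eq_inv_iff_mul_eq_one, inv_eq_of_mul_eq_one_right (tt :)]
  apply su_ext
  change mT * mR * mT * mR = 1
  decide +kernel

theorem fus : k * t * k⁻¹ = a ^ 2 * b ^ 2 := by
  rw [mul_inv_eq_iff_eq_mul]
  apply su_ext
  change mK * mT = mA ^ 2 * mB ^ 2 * mK
  decide +kernel

theorem indep_aux : ∀ i j : Fin 4, mA ^ (i : ℕ) * mB ^ (j : ℕ) = 1 → i = 0 ∧ j = 0 := by
  decide +kernel

theorem b4 : b ^ 4 = 1 := by
  apply su_ext
  change mB ^ 4 = 1
  decide +kernel

theorem indep (i j : ℕ) (h : a ^ i * b ^ j = 1) : 4 ∣ i ∧ 4 ∣ j := by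
  have h1 : a ^ (i % 4) * b ^ (j % 4) = 1 := by
    rw [← h]
    nth_rewrite 2 [← Nat.div_add_mod i 4]
    nth_rewrite 2 [← Nat.div_add_mod j 4]
    simp only [pow_add, pow_add, pow_mul, pow_mul, a4, b4, one_pow, one_pow, one_mul, one_mul]
  have h2 : mA ^ (i % 4) * mB ^ (j % 4) = 1 := congrArg (fun x : Cfsg.SU 3 K9 3 => _root_.Cfsg.Agent.Classification.RTwo.UThreeThree.mt x) h1
  have h3 := indep_aux ⟨i % 4, Nat.mod_lt _ (by norm_num)⟩ ⟨j % 4, Nat.mod_lt _ (by norm_num)⟩ h2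
  have h4 : i % 4 = 0 := congrArg Fin.val h3.1
  have h5 : j % 4 = 0 := congrArg Fin.val h3.2
  exact ⟨Nat.dvd_of_mod_eq_zero h4, Nat.dvd_of_mod_eq_zero h5⟩

/-- membership in `⟨a, b⟩` -/
theorem mem_A0 {X : Type*} [Group X] {a b : X} (i j : ℕ) : a ^ i * b ^ j ∈ A0 a b :=
  mul_mem (pow_mem (_root_.Subgroup.subset_closure (by simp)) _) (pow_mem (_root_.Subgroup.subset_closure (by simp)) _)

theorem quart : ∀ r s : ZMod 3, (⟨r, s⟩ : K9) * (⟨r, s⟩ * ⟨r, s⟩ * ⟨r, s⟩) = 1 →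
    (r = 1 ∧ s = 0) ∨ (r = 2 ∧ s = 0) ∨ (r = 0 ∧ s = 1) ∨ (r = 0 ∧ s = 2) := by
  decide +kernel

/-- diagonal matrix -/
def dg (x y z : K9) : Matrix (Fin 3) (Fin 3) K9 := !![x, 0, 0; 0, y, 0; 0, 0, z]

/-- fourth roots of unity -/
def rt : Fin 4 → K9
  | 0 => ⟨1, 0⟩
  | 1 => ⟨0, 1⟩
  | 2 => ⟨2, 0⟩
  | 3 => ⟨0, 2⟩

theorem exists_rt {x : K9} (h : x * (x * x * x) = 1) : ∃ m, x = rt m := by
  obtain ⟨r, s⟩ := x
  rcases quart r s h with ⟨rfl, rfl⟩ | ⟨rfl, rfl⟩ | ⟨rfl, rfl⟩ | ⟨rfl, rfl⟩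
  · exact ⟨0, rfl⟩
  · exact ⟨2, rfl⟩
  · exact ⟨1, rfl⟩
  · exact ⟨3, rfl⟩

theorem diag_aux : ∀ m n p : Fin 4, rt m * rt n * rt p = 1 →
    ∃ i j : Fin 4, dg (rt m) (rt n) (rt p) = mA ^ (i : ℕ) * mB ^ (j : ℕ) := by
  decide +kernel

/-- a diagonal element of `SU₃(3)` is in `⟨a, b⟩` -/
theorem mem_of_diag {g : Cfsg.SU 3 K9 3} (h : ∀ i j, i ≠ j → _root_.Cfsg.Agent.Classification.RTwo.UThreeThree.mt g i j = 0) : g ∈ A0 a b := by
  have hg : (_root_.Cfsg.Agent.Classification.RTwo.UThreeThree.mt g).transpose * (_root_.Cfsg.Agent.Classification.RTwo.UThreeThree.mt g).map (LieClassical.GUOrder.frob card_k9') = 1 :=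
    (LieClassical.GUOrder.mul_map_eq_one_iff card_k9' (_root_.Cfsg.Agent.Classification.RTwo.UThreeThree.mt g)).1 g.2
  have h1 : ∀ i, _root_.Cfsg.Agent.Classification.RTwo.UThreeThree.mt g i i * (_root_.Cfsg.Agent.Classification.RTwo.UThreeThree.mt g i i * _root_.Cfsg.Agent.Classification.RTwo.UThreeThree.mt g i i * _root_.Cfsg.Agent.Classification.RTwo.UThreeThree.mt g i i) = 1 := by
    intro i
    have h2 := congrFun (congrFun hg i) i
    rw [Matrix.mul_apply, Matrix.one_apply_eq, Finset.sum_eq_single i] at h2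
    · simpa only [Matrix.transpose_apply, Matrix.map_apply, LieClassical.GUOrder.frob_apply,
        pow_succ, pow_zero, one_mul] using h2
    · intro j _ hj
      rw [Matrix.transpose_apply, h j i hj, zero_mul]
    · intro hi
      exact absurd (Finset.mem_univ i) hi
  have hd : _root_.Cfsg.Agent.Classification.RTwo.UThreeThree.mt g 0 0 * _root_.Cfsg.Agent.Classification.RTwo.UThreeThree.mt g 1 1 * _root_.Cfsg.Agent.Classification.RTwo.UThreeThree.mt g 2 2 = 1 := by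
    have h3 : (_root_.Cfsg.Agent.Classification.RTwo.UThreeThree.mt g).det = 1 := g.1.2
    rw [Matrix.det_fin_three, h 0 1 (by decide), h 0 2 (by decide), h 1 2 (by decide)] at h3
    simpa only [_root_.Fin.isValue, _root_.MulZeroClass.mul_zero, _root_.MulZeroClass.zero_mul, _root_.sub_zero, _root_.add_zero] using h3
  obtain ⟨m, hm⟩ := exists_rt (h1 0)
  obtain ⟨n, hn⟩ := exists_rt (h1 1)
  obtain ⟨p, hp⟩ := exists_rt (h1 2)
  rw [hm, hn, hp] at hd
  obtain ⟨i, j, hij⟩ := diag_aux m n p hd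
  have h4 : g = a ^ (i : ℕ) * b ^ (j : ℕ) := by
    apply su_ext
    change _root_.Cfsg.Agent.Classification.RTwo.UThreeThree.mt g = mA ^ (i : ℕ) * mB ^ (j : ℕ)
    rw [← hij, ← hm, ← hn, ← hp]
    refine Matrix.ext fun r s => ?_
    fin_cases r <;> fin_cases s <;> first | rfl | exact h _ _ (by decide)
  rw [h4]
  exact mem_A0 _ _

theorem mt_mul_a (g : Cfsg.SU 3 K9 3) (i j : Fin 3) :
    (_root_.Cfsg.Agent.Classification.RTwo.UThreeThree.mt g * mA) i j = _root_.Cfsg.Agent.Classification.RTwo.UThreeThree.mt g i j * mA j j ∧ (_root_.Cfsg.Agent.Classification.RTwo.UThreeThree.mt g * mB) i j = _root_.Cfsg.Agent.Classification.RTwo.UThreeThree.mt g i j * mB j j := by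
  have h0 : (⟨0, 0⟩ : K9) = 0 := rfl
  constructor <;> rw [Matrix.mul_apply, Fin.sum_univ_three] <;> (revert j; simp only [mA, mB, h0, _root_.Fin.forall_fin_succ, Fin.isValue, _root_.Matrix.of_apply, _root_.Matrix.cons_val', _root_.Matrix.cons_val_fin_one, _root_.Matrix.cons_val_zero, _root_.Matrix.cons_val_one, _root_.Matrix.cons_val, _root_.MulZeroClass.mul_zero, _root_.add_zero, _root_.Matrix.cons_val_succ, _root_.zero_add, _root_.Fin.succ_zero_eq_one, _root_.mul_eq_mul_right_iff, _root_.Fin.succ_one_eq_two, _root_.true_or, _root_.IsEmpty.forall_iff, _root_.and_self])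

theorem mul_diag {M D : Matrix (Fin 3) (Fin 3) K9} (hD : ∀ i j, i ≠ j → D i j = 0) (i j : Fin 3) :
    (D * M) i j = D i i * M i j := by
  rw [Matrix.mul_apply, Finset.sum_eq_single i]
  · intro k _ hk
    rw [hD i k hk.symm, zero_mul]
  · intro hi
    exact absurd (Finset.mem_univ i) hi

theorem diag_A (i j : Fin 3) (h : i ≠ j) : mA i j = 0 := by
  fin_cases i <;> fin_cases j <;> first | exact absurd rfl h | rfl
theorem diag_B (i j : Fin 3) (h : i ≠ j) : mB i j = 0 := by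
  fin_cases i <;> fin_cases j <;> first | exact absurd rfl h | rfl

theorem pair_ne : ∀ i j : Fin 3, i ≠ j → mA i i ≠ mA j j ∨ mB i i ≠ mB j j := by decide +kernel

theorem cent {g : Cfsg.SU 3 K9 3} (ha : g * a = a * g) (hb : g * b = b * g) : g ∈ A0 a b := by
  apply mem_of_diag
  intro i j hij
  have h1 : _root_.Cfsg.Agent.Classification.RTwo.UThreeThree.mt g * mA = mA * _root_.Cfsg.Agent.Classification.RTwo.UThreeThree.mt g := congrArg (fun x : Cfsg.SU 3 K9 3 => _root_.Cfsg.Agent.Classification.RTwo.UThreeThree.mt x) ha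
  have h2 : _root_.Cfsg.Agent.Classification.RTwo.UThreeThree.mt g * mB = mB * _root_.Cfsg.Agent.Classification.RTwo.UThreeThree.mt g := congrArg (fun x : Cfsg.SU 3 K9 3 => _root_.Cfsg.Agent.Classification.RTwo.UThreeThree.mt x) hb
  have h3 := congrFun (congrFun h1 i) j
  have h4 := congrFun (congrFun h2 i) j
  rw [(mt_mul_a g i j).1, mul_diag diag_A] at h3
  rw [(mt_mul_a g i j).2, mul_diag diag_B] at h4
  by_contra hne
  rcases pair_ne i j hij with h | h
  · apply h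
    rw [mul_comm] at h3
    exact (mul_right_cancel₀ hne h3).symm
  · apply h
    rw [mul_comm] at h4
    exact (mul_right_cancel₀ hne h4).symm

/-- elements of `⟨a, b⟩` are diagonal -/
def dsub : Subgroup (Cfsg.SU 3 K9 3) where
  carrier := {g | (∀ i j, i ≠ j → _root_.Cfsg.Agent.Classification.RTwo.UThreeThree.mt g i j = 0) ∧ ∀ i j, i ≠ j → _root_.Cfsg.Agent.Classification.RTwo.UThreeThree.mt g⁻¹ i j = 0}
  mul_mem' := by
    rintro x y ⟨hx, hx'⟩ ⟨hy, hy'⟩
    refine ⟨fun i j hij => ?_, fun i j hij => ?_⟩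
    · change (_root_.Cfsg.Agent.Classification.RTwo.UThreeThree.mt x * _root_.Cfsg.Agent.Classification.RTwo.UThreeThree.mt y) i j = 0
      rw [mul_diag hx, hy i j hij, mul_zero]
    · rw [_root_.mul_inv_rev]
      change (_root_.Cfsg.Agent.Classification.RTwo.UThreeThree.mt y⁻¹ * _root_.Cfsg.Agent.Classification.RTwo.UThreeThree.mt x⁻¹) i j = 0
      rw [mul_diag hy', hx' i j hij, mul_zero]
  one_mem' := by
    have h : ∀ i j : Fin 3, i ≠ j → (1 : Matrix (Fin 3) (Fin 3) K9) i j = 0 := fun i j hij =>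
      Matrix.one_apply_ne hij
    refine ⟨h, ?_⟩
    rw [inv_one]
    exact h
  inv_mem' := by
    rintro x ⟨hx, hx'⟩
    exact ⟨hx', by rw [inv_inv]; exact hx⟩

theorem a_mem : a ∈ dsub := by
  refine ⟨diag_A, ?_⟩
  have h : a⁻¹ = a * a * a := by
    rw [inv_eq_iff_mul_eq_one, ← a4]
    simp only [pow_succ, pow_zero, one_mul, mul_assoc]
  rw [h]
  change ∀ i j : Fin 3, i ≠ j → (mA * mA * mA) i j = 0
  decide +kernel

theorem b_mem : b ∈ dsub := by
  refine ⟨diag_B, ?_⟩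
  have h : b⁻¹ = b * b * b := by
    rw [inv_eq_iff_mul_eq_one, ← b4]
    simp only [pow_succ, pow_zero, one_mul, mul_assoc]
  rw [h]
  change ∀ i j : Fin 3, i ≠ j → (mB * mB * mB) i j = 0
  decide +kernel

theorem diag_of_mem {g : Cfsg.SU 3 K9 3} (hg : g ∈ A0 a b) : ∀ i j, i ≠ j → _root_.Cfsg.Agent.Classification.RTwo.UThreeThree.mt g i j = 0 := by
  have h : A0 a b ≤ dsub := by
    unfold A0
    rw [closure_le]
    rintro x (rfl | rfl)
    · exact a_mem
    · exact b_mem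
  exact (h hg).1

theorem prod_ne (M : Matrix (Fin 3) (Fin 3) K9) (h : M.det ≠ 0) :
    (M 0 0 ≠ 0 ∧ M 1 1 ≠ 0 ∧ M 2 2 ≠ 0) ∨ (M 0 0 ≠ 0 ∧ M 1 2 ≠ 0 ∧ M 2 1 ≠ 0) ∨
    (M 0 1 ≠ 0 ∧ M 1 0 ≠ 0 ∧ M 2 2 ≠ 0) ∨ (M 0 1 ≠ 0 ∧ M 1 2 ≠ 0 ∧ M 2 0 ≠ 0) ∨
    (M 0 2 ≠ 0 ∧ M 1 0 ≠ 0 ∧ M 2 1 ≠ 0) ∨ (M 0 2 ≠ 0 ∧ M 1 1 ≠ 0 ∧ M 2 0 ≠ 0) := by
  by_contra hcon
  apply h
  simp only [← mul_ne_zero_iff, not_or, not_not] at hcon
  obtain ⟨h1, h2, h3, h4, h5, h6⟩ := hcon
  rw [Matrix.det_fin_three]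
  linear_combination h1 - h2 - h3 + h4 + h5 - h6

/-- the diagonal entries of the conjugates -/
theorem conj_diag {g u v : Cfsg.SU 3 K9 3} (hu : g * a = u * g) (hv : g * b = v * g)
    (hu' : ∀ i j, i ≠ j → _root_.Cfsg.Agent.Classification.RTwo.UThreeThree.mt u i j = 0) (hv' : ∀ i j, i ≠ j → _root_.Cfsg.Agent.Classification.RTwo.UThreeThree.mt v i j = 0)
    {i j : Fin 3} (hij : _root_.Cfsg.Agent.Classification.RTwo.UThreeThree.mt g i j ≠ 0) : _root_.Cfsg.Agent.Classification.RTwo.UThreeThree.mt u i i = mA j j ∧ _root_.Cfsg.Agent.Classification.RTwo.UThreeThree.mt v i i = mB j j := by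
  have h1 : _root_.Cfsg.Agent.Classification.RTwo.UThreeThree.mt g * mA = _root_.Cfsg.Agent.Classification.RTwo.UThreeThree.mt u * _root_.Cfsg.Agent.Classification.RTwo.UThreeThree.mt g := congrArg (fun x : Cfsg.SU 3 K9 3 => _root_.Cfsg.Agent.Classification.RTwo.UThreeThree.mt x) hu
  have h2 : _root_.Cfsg.Agent.Classification.RTwo.UThreeThree.mt g * mB = _root_.Cfsg.Agent.Classification.RTwo.UThreeThree.mt v * _root_.Cfsg.Agent.Classification.RTwo.UThreeThree.mt g := congrArg (fun x : Cfsg.SU 3 K9 3 => _root_.Cfsg.Agent.Classification.RTwo.UThreeThree.mt x) hv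
  have h3 := congrFun (congrFun h1 i) j
  have h4 := congrFun (congrFun h2 i) j
  rw [(mt_mul_a g i j).1, mul_diag hu'] at h3
  rw [(mt_mul_a g i j).2, mul_diag hv'] at h4
  rw [mul_comm] at h3 h4
  exact ⟨(mul_right_cancel₀ hij h3).symm, (mul_right_cancel₀ hij h4).symm⟩

theorem diag_ext {u v : Cfsg.SU 3 K9 3} (hu : ∀ i j, i ≠ j → _root_.Cfsg.Agent.Classification.RTwo.UThreeThree.mt u i j = 0)
    (hv : ∀ i j, i ≠ j → _root_.Cfsg.Agent.Classification.RTwo.UThreeThree.mt v i j = 0) (h0 : _root_.Cfsg.Agent.Classification.RTwo.UThreeThree.mt u 0 0 = _root_.Cfsg.Agent.Classification.RTwo.UThreeThree.mt v 0 0) (h1 : _root_.Cfsg.Agent.Classification.RTwo.UThreeThree.mt u 1 1 = _root_.Cfsg.Agent.Classification.RTwo.UThreeThree.mt v 1 1)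
    (h2 : _root_.Cfsg.Agent.Classification.RTwo.UThreeThree.mt u 2 2 = _root_.Cfsg.Agent.Classification.RTwo.UThreeThree.mt v 2 2) : u = v := by
  apply su_ext
  refine Matrix.ext fun i j => ?_
  by_cases hij : i = j
  · subst hij
    fin_cases i
    · exact h0
    · exact h1
    · exact h2
  · exact (hu i j hij).trans (hv i j hij).symm

/-- `(ab)⁻¹` -/
def mC : Matrix (Fin 3) (Fin 3) K9 := !![⟨0, 1⟩, ⟨0, 0⟩, ⟨0, 0⟩; ⟨0, 0⟩, ⟨0, 1⟩, ⟨0, 0⟩; ⟨0, 0⟩, ⟨0, 0⟩, ⟨2, 0⟩]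

theorem gC : IsGood mC := by decide +kernel

theorem C_eq : (a * b)⁻¹ = gC.su := by
  apply inv_eq_of_mul_eq_one_right
  apply su_ext
  change mA * mB * mC = 1
  decide +kernel

theorem diag_C (i j : Fin 3) (h : i ≠ j) : mC i j = 0 := by
  fin_cases i <;> fin_cases j <;> first | exact absurd rfl h | rfl

theorem mt_a : _root_.Cfsg.Agent.Classification.RTwo.UThreeThree.mt a = mA := rfl
theorem mt_b : _root_.Cfsg.Agent.Classification.RTwo.UThreeThree.mt b = mB := rfl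
theorem mt_c : _root_.Cfsg.Agent.Classification.RTwo.UThreeThree.mt gC.su = mC := rfl

theorem ents : (mA 1 1 = mA 2 2 ∧ mB 0 0 = mB 2 2 ∧ mC 0 0 = mC 1 1) ∧
    (mA 0 0 = mB 1 1 ∧ mA 0 0 = mC 2 2 ∧ mA 1 1 = mB 0 0 ∧ mA 1 1 = mC 0 0) := by
  decide +kernel

/-- The pair of conjugates of `(a, b)`. -/
theorem pair_cases {g : Cfsg.SU 3 K9 3} (ha : g * a * g⁻¹ ∈ A0 a b) (hb : g * b * g⁻¹ ∈ A0 a b) :
    (g * a * g⁻¹ = a ∧ g * b * g⁻¹ = b) ∨ (g * a * g⁻¹ = a ∧ g * b * g⁻¹ = (a * b)⁻¹) ∨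
    (g * a * g⁻¹ = b ∧ g * b * g⁻¹ = a) ∨ (g * a * g⁻¹ = b ∧ g * b * g⁻¹ = (a * b)⁻¹) ∨
    (g * a * g⁻¹ = (a * b)⁻¹ ∧ g * b * g⁻¹ = a) ∨
    (g * a * g⁻¹ = (a * b)⁻¹ ∧ g * b * g⁻¹ = b) := by
  have hu' := diag_of_mem ha
  have hv' := diag_of_mem hb
  have hdet : (_root_.Cfsg.Agent.Classification.RTwo.UThreeThree.mt g).det ≠ 0 := by
    rw [show (_root_.Cfsg.Agent.Classification.RTwo.UThreeThree.mt g).det = 1 from g.1.2]
    exact one_ne_zero
  have key : ∀ {i j : Fin 3}, _root_.Cfsg.Agent.Classification.RTwo.UThreeThree.mt g i j ≠ 0 →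
      _root_.Cfsg.Agent.Classification.RTwo.UThreeThree.mt (g * a * g⁻¹) i i = mA j j ∧ _root_.Cfsg.Agent.Classification.RTwo.UThreeThree.mt (g * b * g⁻¹) i i = mB j j := fun {i j} hij =>
    conj_diag (by group) (by group) hu' hv' hij
  rw [C_eq]
  generalize g * a * g⁻¹ = u at *
  generalize g * b * g⁻¹ = v at *
  have da : ∀ i j, i ≠ j → _root_.Cfsg.Agent.Classification.RTwo.UThreeThree.mt a i j = 0 := by rw [mt_a]; exact diag_A
  have db : ∀ i j, i ≠ j → _root_.Cfsg.Agent.Classification.RTwo.UThreeThree.mt b i j = 0 := by rw [mt_b]; exact diag_B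
  have dc : ∀ i j, i ≠ j → _root_.Cfsg.Agent.Classification.RTwo.UThreeThree.mt gC.su i j = 0 := by rw [mt_c]; exact diag_C
  obtain ⟨⟨e1, e2, e3⟩, e4, e5, e6, e7⟩ := ents
  rcases prod_ne _ hdet with ⟨h0, h1, h2⟩ | ⟨h0, h1, h2⟩ | ⟨h0, h1, h2⟩ | ⟨h0, h1, h2⟩ |
    ⟨h0, h1, h2⟩ | ⟨h0, h1, h2⟩
  · left
    constructor
    · apply diag_ext hu' da
      · rw [(key h0).1, mt_a]
      · rw [(key h1).1, mt_a]
      · rw [(key h2).1, mt_a]
    · apply diag_ext hv' db
      · rw [(key h0).2, mt_b]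
      · rw [(key h1).2, mt_b]
      · rw [(key h2).2, mt_b]
  · right; left
    constructor
    · apply diag_ext hu' da
      · rw [(key h0).1, mt_a]
      · rw [(key h1).1, mt_a, e1]
      · rw [(key h2).1, mt_a, e1]
    · apply diag_ext hv' dc
      · rw [(key h0).2, mt_c, ← e6, e7]
      · rw [(key h1).2, mt_c, ← e3, ← e2, ← e6, e7]
      · rw [(key h2).2, mt_c, ← e4, e5]
  · right; right; left
    constructor
    · apply diag_ext hu' db
      · rw [(key h0).1, mt_b, e6]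
      · rw [(key h1).1, mt_b, e4]
      · rw [(key h2).1, mt_b, ← e1, e6, e2]
    · apply diag_ext hv' da
      · rw [(key h0).2, mt_a, e4]
      · rw [(key h1).2, mt_a, e6]
      · rw [(key h2).2, mt_a, ← e1, e6, e2]
  · right; right; right; right; left
    constructor
    · apply diag_ext hu' dc
      · rw [(key h0).1, mt_c, e7]
      · rw [(key h1).1, mt_c, ← e1, e7, e3]
      · rw [(key h2).1, mt_c, e5]
    · apply diag_ext hv' da
      · rw [(key h0).2, mt_a, e4]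
      · rw [(key h1).2, mt_a, ← e2, e6]
      · rw [(key h2).2, mt_a, ← e1, e6]
  · right; right; right; left
    constructor
    · apply diag_ext hu' db
      · rw [(key h0).1, mt_b, ← e1, e6]
      · rw [(key h1).1, mt_b, e4]
      · rw [(key h2).1, mt_b, e6, e2]
    · apply diag_ext hv' dc
      · rw [(key h0).2, mt_c, ← e2, ← e6, e7]
      · rw [(key h1).2, mt_c, ← e3, ← e6, e7]
      · rw [(key h2).2, mt_c, ← e4, e5]
  · right; right; right; right; right
    constructor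
    · apply diag_ext hu' dc
      · rw [(key h0).1, mt_c, ← e1, e7]
      · rw [(key h1).1, mt_c, ← e3, e7]
      · rw [(key h2).1, mt_c, e5]
    · apply diag_ext hv' db
      · rw [(key h0).2, mt_b, e2]
      · rw [(key h1).2, mt_b]
      · rw [(key h2).2, mt_b, e2]

section norm

variable {X : Type*} [Group X] {a b : X}

theorem a_mem_A0 : a ∈ A0 a b := _root_.Subgroup.subset_closure (by simp)
theorem b_mem_A0 : b ∈ A0 a b := _root_.Subgroup.subset_closure (by simp)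

theorem conj_mem_A0 {s w : X} (ha : s * a * s⁻¹ ∈ A0 a b) (hb : s * b * s⁻¹ ∈ A0 a b)
    (hw : w ∈ A0 a b) : s * w * s⁻¹ ∈ A0 a b := by
  have h : A0 a b ≤ (A0 a b).comap (MulAut.conj s).toMonoidHom := by
    conv_lhs => unfold A0
    rw [closure_le]
    rintro x (rfl | rfl)
    · exact ha
    · exact hb
  exact h hw

theorem exists_of_conj_eq (hc : ∀ g : X, g * a = a * g → g * b = b * g → g ∈ A0 a b) {g s : X}
    (ha : g * a * g⁻¹ = s * a * s⁻¹) (hb : g * b * g⁻¹ = s * b * s⁻¹)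
    (ha' : s * a * s⁻¹ ∈ A0 a b) (hb' : s * b * s⁻¹ ∈ A0 a b) : ∃ u ∈ A0 a b, g = u * s := by
  have key : ∀ y : X, g * y * g⁻¹ = s * y * s⁻¹ → s⁻¹ * g * y = y * (s⁻¹ * g) := by
    intro y hy
    have h1 : g * y = s * y * s⁻¹ * g := by
      rw [← hy]
      group
    calc s⁻¹ * g * y = s⁻¹ * (g * y) := by group
      _ = s⁻¹ * (s * y * s⁻¹ * g) := by rw [h1]
      _ = y * (s⁻¹ * g) := by group
  refine ⟨s * (s⁻¹ * g) * s⁻¹, conj_mem_A0 ha' hb' (hc _ (key a ha) (key b hb)), ?_⟩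
  group

end norm

theorem norm {g : Cfsg.SU 3 K9 3} (hga : g * a * g⁻¹ ∈ A0 a b) (hgb : g * b * g⁻¹ ∈ A0 a b) :
    ∃ u ∈ A0 a b, g = u ∨ g = u * ρ ∨ g = u * ρ⁻¹ ∨ g = u * t ∨ g = u * ρ * t ∨
      g = u * ρ⁻¹ * t := by
  have hc : ∀ g : Cfsg.SU 3 K9 3, g * a = a * g → g * b = b * g → g ∈ A0 a b := fun g => cent
  have r1 := ρa
  have r2 := ρb
  have ti : t⁻¹ = t := (inv_eq_of_mul_eq_one_right tt :)
  have t1 := ta
  have t2 : t * b * t⁻¹ = a := by
    rw [← t1, ti]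
    calc t * (t * a * t) * t = (t * t) * a * (t * t) := by group
      _ = a := by rw [tt]; group
  have r3 : ρ⁻¹ * b * ρ⁻¹⁻¹ = a := by
    rw [← r1]
    group
  have r4 : ρ⁻¹ * a * ρ⁻¹⁻¹ = (a * b)⁻¹ := by
    have h1 : ρ⁻¹ * (a * b)⁻¹ * ρ = b := by
      rw [← r2]
      group
    have h2 : ρ⁻¹ * b * ρ = a := by
      rw [inv_inv] at r3
      exact r3
    rw [inv_inv]
    have h3 : (ρ⁻¹ * (a * b)⁻¹ * ρ) * (ρ⁻¹ * (b * a) * ρ) = 1 := by
      rw [← ab]
      group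
    have h4 : ρ⁻¹ * (b * a) * ρ = (ρ⁻¹ * b * ρ) * (ρ⁻¹ * a * ρ) := by group
    rw [h4, h1, h2] at h3
    rw [ab]
    rw [← mul_assoc] at h3
    exact (eq_inv_of_mul_eq_one_right h3 :)
  have rt1 : (ρ * t) * a * (ρ * t)⁻¹ = (a * b)⁻¹ := by
    rw [← r2, ← t1]
    group
  have rt2 : (ρ * t) * b * (ρ * t)⁻¹ = b := by
    have : (ρ * t) * b * (ρ * t)⁻¹ = ρ * (t * b * t⁻¹) * ρ⁻¹ := by group
    rw [this, t2, r1]
  have st1 : (ρ⁻¹ * t) * a * (ρ⁻¹ * t)⁻¹ = a := by
    have : (ρ⁻¹ * t) * a * (ρ⁻¹ * t)⁻¹ = ρ⁻¹ * (t * a * t⁻¹) * ρ⁻¹⁻¹ := by group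
    rw [this, t1, r3]
  have st2 : (ρ⁻¹ * t) * b * (ρ⁻¹ * t)⁻¹ = (a * b)⁻¹ := by
    have : (ρ⁻¹ * t) * b * (ρ⁻¹ * t)⁻¹ = ρ⁻¹ * (t * b * t⁻¹) * ρ⁻¹⁻¹ := by group
    rw [this, t2, r4]
  have mc : (a * b)⁻¹ ∈ A0 a b := inv_mem (mul_mem a_mem_A0 b_mem_A0)
  have ma : a ∈ A0 a b := a_mem_A0
  have mb : b ∈ A0 a b := b_mem_A0
  rcases pair_cases hga hgb with ⟨h1, h2⟩ | ⟨h1, h2⟩ | ⟨h1, h2⟩ | ⟨h1, h2⟩ | ⟨h1, h2⟩ | ⟨h1, h2⟩
  · refine ⟨g, hc g ?_ ?_, Or.inl rfl⟩
    · rw [mul_inv_eq_iff_eq_mul] at h1; exact h1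
    · rw [mul_inv_eq_iff_eq_mul] at h2; exact h2
  · obtain ⟨u, hu, h3⟩ := exists_of_conj_eq hc (h1.trans st1.symm) (h2.trans st2.symm)
      (by rw [st1]; exact ma) (by rw [st2]; exact mc)
    exact ⟨u, hu, Or.inr (Or.inr (Or.inr (Or.inr (Or.inr (by rw [h3, mul_assoc])))))⟩
  · obtain ⟨u, hu, h3⟩ := exists_of_conj_eq hc (h1.trans t1.symm) (h2.trans t2.symm)
      (by rw [t1]; exact mb) (by rw [t2]; exact ma)
    exact ⟨u, hu, Or.inr (Or.inr (Or.inr (Or.inl h3)))⟩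
  · obtain ⟨u, hu, h3⟩ := exists_of_conj_eq hc (h1.trans r1.symm) (h2.trans r2.symm)
      (by rw [r1]; exact mb) (by rw [r2]; exact mc)
    exact ⟨u, hu, Or.inr (Or.inl h3)⟩
  · obtain ⟨u, hu, h3⟩ := exists_of_conj_eq hc (h1.trans r4.symm) (h2.trans r3.symm)
      (by rw [r4]; exact mc) (by rw [r3]; exact ma)
    exact ⟨u, hu, Or.inr (Or.inr (Or.inl h3))⟩
  · obtain ⟨u, hu, h3⟩ := exists_of_conj_eq hc (h1.trans rt1.symm) (h2.trans rt2.symm)
      (by rw [rt1]; exact mc) (by rw [rt2]; exact mb)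
    exact ⟨u, hu, Or.inr (Or.inr (Or.inr (Or.inr (Or.inl (by rw [h3, mul_assoc])))))⟩

theorem card_SU : Nat.card (Cfsg.SU 3 K9 3) = 6048 := by
  have h := Cfsg.Agent.S0278.result (F := K9) (q := 3) card_k9' 3 (by norm_num)
  have h2 : (∏ i ∈ Finset.range 3, (if Even i then 3 ^ (i + 1) + 1 else 3 ^ (i + 1) - 1)) =
      4 * 8 * 28 := by
    decide
  rw [h2] at h
  norm_num only [] at h
  omega

theorem syl (Q : Subgroup (Cfsg.SU 3 K9 3)) (hQ : IsPGroup 2 Q) : Nat.card Q ≤ 32 := by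
  have hfin : Finite (Cfsg.SU 3 K9 3) := Nat.finite_of_card_ne_zero (by rw [card_SU]; norm_num)
  obtain ⟨n, hn⟩ := hQ.exists_card_eq
  have h1 : Nat.card Q ∣ 6048 := card_SU ▸ card_subgroup_dvd_card Q
  rw [hn] at h1 ⊢
  have h2 : n ≤ 5 := by
    by_contra h3
    have h4 : 2 ^ 6 ∣ 6048 := (pow_dvd_pow 2 (by omega)).trans h1
    norm_num at h4
  calc 2 ^ n ≤ 2 ^ 5 := Nat.pow_le_pow_right (by norm_num) h2
    _ = 32 := by norm_num

/-- The data in `SU₃(3)`. -/
theorem wr : WrIn (⊤ : Subgroup (Cfsg.SU 3 K9 3)) a b t ρ where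
  aK := mem_top _
  bK := mem_top _
  tK := mem_top _
  ρK := mem_top _
  a4 := a4
  ab := ab
  indep := indep
  tt := tt
  ta := ta
  ρa := ρa
  ρb := ρb
  tρ := tρ
  cent := fun _ _ => cent
  norm := fun _ _ => norm
  syl := fun Q _ => syl Q
  fus := ⟨k, mem_top _, fus⟩

/-- Transport by an isomorphism onto a subgroup. -/
theorem wr_map {L X : Type*} [Group L] [Group X] (f : L →* X) (hf : Function.Injective f)
    {a b t ρ : L} (h : WrIn (⊤ : Subgroup L) a b t ρ) : WrIn f.range (f a) (f b) (f t) (f ρ) := by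
  have hA : (A0 a b).map f = A0 (f a) (f b) := by
    unfold A0
    rw [MonoidHom.map_closure, Set.image_pair]
  have hA' : ∀ g : L, f g ∈ A0 (f a) (f b) ↔ g ∈ A0 a b := by
    intro g
    rw [← hA]
    constructor
    · rintro ⟨y, hy, hyg⟩
      rwa [hf hyg] at hy
    · intro hg
      exact ⟨g, hg, rfl⟩
  refine ⟨⟨a, rfl⟩, ⟨b, rfl⟩, ⟨t, rfl⟩, ⟨ρ, rfl⟩, ?_, ?_, ?_, ?_, ?_, ?_, ?_, ?_, ?_, ?_, ?_, ?_⟩
  · rw [← map_pow, h.a4, map_one]
  · rw [← map_mul, h.ab, map_mul]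
  · intro i j hij
    rw [← map_pow, ← map_pow, ← map_mul, ← map_one f] at hij
    exact h.indep i j (hf hij)
  · rw [← map_mul, h.tt, map_one]
  · rw [← map_inv, ← map_mul, ← map_mul, h.ta]
  · rw [← map_inv, ← map_mul, ← map_mul, h.ρa]
  · rw [← map_inv, ← map_mul, ← map_mul, h.ρb, map_inv, map_mul]
  · rw [← map_inv, ← map_mul, ← map_mul, h.tρ, map_inv]
  · rintro _ ⟨g, rfl⟩ h1 h2
    rw [hA']
    rw [← map_mul, ← map_mul] at h1 h2
    exact h.cent g (mem_top _) (hf h1) (hf h2)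
  · rintro _ ⟨g, rfl⟩ h1 h2
    rw [← map_inv, ← map_mul, ← map_mul, hA'] at h1 h2
    obtain ⟨u, hu, h3⟩ := h.norm g (mem_top _) h1 h2
    refine ⟨f u, (hA' u).mpr hu, ?_⟩
    simp only [← map_inv, ← map_mul]
    rcases h3 with h3 | h3 | h3 | h3 | h3 | h3 <;> rw [h3] <;> simp only [_root_.map_mul, _root_.left_eq_mul, _root_.map_inv, _root_.inv_eq_one, _root_.or_self_left, _root_.true_or, _root_.mul_eq_left, _root_.mul_right_inj, _root_.or_true, _root_.mul_left_inj, _root_.or_self]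
  · intro Q hQ hp
    have h1 : Nat.card Q = Nat.card (Q.comap f) := by
      rw [← Subgroup.card_map_of_injective hf, Subgroup.map_comap_eq_self hQ]
    rw [h1]
    refine h.syl _ le_top ?_
    exact hp.comap_of_injective f hf
  · obtain ⟨k, -, hk⟩ := h.fus
    refine ⟨f k, ⟨k, rfl⟩, ?_⟩
    rw [← map_inv, ← map_mul, ← map_mul, hk, map_mul, map_pow, map_pow]

end Cfsg.Agent.GH.WModel
end

-- part: GH/WComp
section
/-!
# GH-L3 (W): the frame from a 2-component `K`, `K / O(K) = PSU₃(3)`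
-/

set_option autoImplicit false

namespace Cfsg.Agent.GH.WComp

open Subgroup Cfsg.Agent.GH.WDefs Cfsg.Agent.GH.WNorm Cfsg.Agent.GH.WQuot Cfsg.Agent.GH.WRank
open Cfsg.Agent.GH.WFrame Cfsg.Agent.GH.Defs Cfsg.Agent.GH.Comp Cfsg.Agent.GH.Rank
open Cfsg.Agent.Intrinsic.Basic Cfsg.Agent.TwoFusion.SectionalRank
open Cfsg.Agent.SignalizersComponents.IntrinsicBasic (cj)

/-! ### the rank of `4 wr 2` -/

theorem three_le {X : Type*} [Group X] [Finite X] {a b t : X} (h : WNorm.Rel a b t) :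
    3 ≤ srank 2 X := by
  by_contra hlt
  have h2 : SectionalPRankLE 2 2 X := (srank_le_iff (by norm_num)).mp (by omega)
  rw [sectionalPRankLE_iff] at h2
  have hz2 : zz a b * zz a b = 1 := zz_sq h
  have hz : ∀ c, c ∈ zpowers (zz a b) ↔ c = 1 ∨ c = zz a b := by
    intro c
    constructor
    · rintro ⟨n, rfl⟩
      rcases Int.even_or_odd' n with ⟨m, rfl | rfl⟩
      · left
        change zz a b ^ (2 * m) = 1
        rw [zpow_mul, show (2 : ℤ) = ((2 : ℕ) : ℤ) by norm_num, zpow_natCast, pow_two, hz2, one_zpow]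
      · right
        change zz a b ^ (2 * m + 1) = zz a b
        rw [zpow_add, zpow_mul, show (2 : ℤ) = ((2 : ℕ) : ℤ) by norm_num, zpow_natCast, pow_two, hz2,
          one_zpow, one_mul, zpow_one]
    · rintro (rfl | rfl)
      · exact one_mem _
      · exact mem_zpowers _
  have h3 := h2 (D h) (zpowers (zz a b))
    { le := by
        rw [zpowers_le]
        exact ⟨2, 2, Or.inl (by decide), Or.inl rfl⟩
      comm := fun g hg g' hg' => (hz _).mpr (D_comm h hg hg')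
      pow := fun g hg => by
        rw [pow_two]
        exact (hz _).mpr (D_sq h hg) }
  have h4 := card_D h
  have h5 : Nat.card (zpowers (zz a b)) ≤ 2 := by
    rw [Nat.card_zpowers]
    exact Nat.le_of_dvd (by norm_num) (orderOf_dvd_of_pow_eq_one (by rw [pow_two, hz2]))
  omega

/-! ### the 2-component -/

section comp

variable {G : Type*} [Group G] [Finite G]

theorem center_bar_eq_bot {K : Subgroup G} (hodd : ¬ EvenCenter K) : center (Bar K) = ⊥ := by
  have h1 : Odd (Nat.card (center (Bar K))) := Nat.not_even_iff_odd.mp hodd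
  have h2 : center (Bar K) ≤ oddCore (Bar K) :=
    Lib.Cores.le_pPrimeCore inferInstance (Nat.coprime_two_right.mpr h1)
  rw [eq_bot_iff]
  refine h2.trans ?_
  exact (Lib.Cores.pPrimeCore_quotient_pPrimeCore (G := K) 2).le

/-- `K/O(K) → K/O(K)/Z` is an isomorphism. -/
noncomputable def barEquivTop {K : Subgroup G} (hodd : ¬ EvenCenter K) : Bar K ≃* STop K :=
  ((QuotientGroup.quotientMulEquivOfEq (center_bar_eq_bot hodd)).trans
    QuotientGroup.quotientBot).symm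

theorem three_le_srank {K : Subgroup G} (hodd : ¬ EvenCenter K) {L : Type*} [Group L]
    (e : L ≃* Bar K) {a b t : L} (h : WNorm.Rel a b t) : 3 ≤ srank 2 K := by
  have : Finite L := Finite.of_equiv _ e.symm.toEquiv
  have h1 := three_le h
  rwa [srank_congr (by norm_num) (e.trans (barEquivTop hodd)), srank_top hodd] at h1

/-- `K` is normal in `C(x)`. -/
theorem normal_of_three_le (h : Hyp G) {x : G} {K : Subgroup G} (c : Comp2 x K)
    (hodd : ¬ EvenCenter K) (h3 : 3 ≤ srank 2 K) {g : G} (hg : g ∈ centralizer ({x} : Set G)) :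
    g ∈ normalizer (K : Set G) := by
  rw [SignalizersComponents.IntrinsicBasic.mem_normalizer_iff_cj]
  by_contra hne
  have hcj := c.comp.cj g
  have hH : cj g (centralizer ({x} : Set G)) = centralizer ({x} : Set G) := by
    rw [← SignalizersComponents.IntrinsicBasic.mem_normalizer_iff_cj]
    exact le_normalizer hg
  rw [hH] at hcj
  have h4 := srank_add_le c.comp hodd hcj.le (fun d hd => c.comp.fixes_of_mem hcj (Ne.symm hne) hd)
  have h5 : srank 2 (cj g K) = srank 2 K :=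
    (srank_congr (by norm_num) (K.equivMapOfInjective (MulAut.conj g).toMonoidHom
      (MulAut.conj g).injective)).symm
  have h6 : srank 2 (centralizer ({x} : Set G)) ≤ 4 :=
    (srank_subgroup_le (by norm_num) _).trans ((srank_le_iff (by norm_num)).2 h.rank4)
  omega

/-- The map `K / O(K) → C(x) / O(C(x))`. -/
theorem exists_hom {x : G} {K : Subgroup G} (c : Comp2 x K) :
    ∃ f : Bar K →* (↥(centralizer ({x} : Set G)) ⧸ oddCore ↥(centralizer ({x} : Set G))),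
      Function.Injective f ∧ ∀ k : K, f (QuotientGroup.mk' (oddCore K) k) =
        QuotientGroup.mk' (oddCore ↥(centralizer ({x} : Set G))) ⟨k, c.comp.le k.2⟩ := by
  set! H := centralizer ({x} : Set G) with hH
  let f0 : K →* H ⧸ oddCore H := (QuotientGroup.mk' (oddCore H)).comp (inclusion c.comp.le)
  have hker : ∀ k : K, f0 k = 1 ↔ k ∈ oddCore K := by
    intro k
    have h1 : f0 k = 1 ↔ (k : G) ∈ core H := by
      rw [mem_core_iff (c.comp.le k.2)]
      exact QuotientGroup.eq_one_iff _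
    rw [h1]
    have h2 : (k : G) ∈ core K ↔ k ∈ oddCore K := mem_core_iff k.2
    rw [← h2, c.comp.core_eq]
    exact ⟨fun h => ⟨k.2, h⟩, fun h => h.2⟩
  refine ⟨QuotientGroup.lift (oddCore K) f0 (fun k hk => (hker k).mpr hk), ?_, fun k => rfl⟩
  rw [injective_iff_map_eq_one]
  intro y hy
  obtain ⟨k, rfl⟩ := QuotientGroup.mk_surjective y
  exact (QuotientGroup.eq_one_iff k).mpr ((hker k).mp hy)

/-- `P₀` is a 2-group. -/
theorem isPGroup_P0 {X : Type*} [Group X] {a b t : X} (h : WNorm.Rel a b t) :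
    IsPGroup 2 (P0 a b t) := by
  rintro ⟨g, hg⟩
  refine ⟨3, Subtype.ext ?_⟩
  change g ^ 2 ^ 3 = 1
  have key : ∀ i j : ZMod 4, E a b i j ^ 4 = 1 := by
    intro i j
    rw [h.E_pow]
    have h4 : ((4 : ℕ) : ZMod 4) = 0 := by decide
    rw [h4, zero_mul, zero_mul, E_zero]
  obtain ⟨i, j, rfl | rfl⟩ := h.mem_P0.mp hg
  · rw [show 2 ^ 3 = 4 * 2 by norm_num, pow_mul, key, one_pow]
  · rw [show 2 ^ 3 = 2 * 4 by norm_num, pow_mul, pow_two, h.Et_sq, key]

/-- **The frame.** -/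
theorem exists_frame_of_equiv (h : Hyp G) {x : G} {K : Subgroup G} (c : Comp2 x K)
    (hodd : ¬ EvenCenter K) {L : Type*} [Group L] (e : L ≃* Bar K) {a b t ρ : L}
    (w : WrIn (⊤ : Subgroup L) a b t ρ) :
    ∃ (T : Subgroup G) (a b t τ ρ : G), Frame x T a b t τ ρ := by
  have h3 := three_le_srank hodd e w.rel
  set! H := centralizer ({x} : Set G) with hH
  have hN : Odd (Nat.card (oddCore H)) := Nat.coprime_two_right.mp (Lib.Cores.pPrimeCore_coprime 2)
  obtain ⟨f, hf, hfk⟩ := exists_hom c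
  let φ : L →* H ⧸ oddCore H := f.comp e.toMonoidHom
  have hφ : Function.Injective φ := hf.comp e.injective
  have w' := WModel.wr_map φ hφ w
  -- the image is normal
  have hnorm : φ.range.Normal := by
    constructor
    rintro _ ⟨l, rfl⟩ y
    obtain ⟨k, hk⟩ := QuotientGroup.mk'_surjective (oddCore K) (e l)
    obtain ⟨g, rfl⟩ := QuotientGroup.mk'_surjective (oddCore H) y
    have hg := normal_of_three_le h c hodd h3 g.2
    have hkg : (g : G) * k * (g : G)⁻¹ ∈ K := (mem_normalizer_iff.mp hg _).mp k.2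
    refine ⟨e.symm (QuotientGroup.mk' (oddCore K) ⟨_, hkg⟩), ?_⟩
    change f (e (e.symm (QuotientGroup.mk' (oddCore K) ⟨_, hkg⟩))) = _ * f (e l) * _
    rw [e.apply_symm_apply, hfk, ← hk, hfk, ← map_inv, ← map_mul, ← map_mul]
    rfl
  obtain ⟨T', hT'⟩ := (isPGroup_P0 w'.rel).exists_le_sylow
  have q : (QHyp φ.range (T' : Subgroup (H ⧸ oddCore H)) (φ a) (φ b) (φ t) (φ ρ) :) :=
    ⟨w', hnorm, T'.2, hT' (A0_le_P0 a_mem_A0), hT' t_mem_P0⟩
  have hx : x ∈ H := mem_centralizer_singleton_iff.mpr rfl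
  have hx2 : x * x = 1 := by
    rw [← pow_two, ← c.inv, pow_orderOf_eq_one]
  have hx1 : x ≠ 1 := by
    rintro rfl
    have := c.inv
    simp at this
  have hmem : ∀ g : G, g ∈ H ↔ g * x = x * g := fun g => mem_centralizer_singleton_iff
  obtain ⟨T, a1, b1, t1, τ, ρ1, fr⟩ := frame_of_quot hN (x := (⟨x, hx⟩ : H))
    (fun he => hx1 (congrArg Subtype.val he)) (Subtype.ext hx2)
    (fun g => Subtype.ext ((hmem g).mp g.2)) q (by
      intro Q hQ
      obtain ⟨Q', hQ'⟩ := hQ.exists_le_sylow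
      have hp : Fact (Nat.Prime 2) := ⟨Nat.prime_two⟩
      calc Nat.card Q ≤ Nat.card Q' := Nat.card_le_card_of_injective _ (inclusion_injective hQ')
        _ = Nat.card T' := by rw [Q'.card_eq_multiplicity, T'.card_eq_multiplicity])
    (Rank.of_subgroup h.rank4 H)
  exact ⟨_, _, _, _, _, _, frame_of_centralizer hmem rfl fr⟩

open Cfsg.Agent.Classification.RTwo.UThreeThree in
/-- **GH-L3 (W), step 0.** -/
theorem exists_frame (h : Hyp G) {x : G} {K : Subgroup G} (c : Comp2 x K) (hodd : ¬ EvenCenter K)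
    {F : Type*} [Field F] [Fintype F] (hF : Fintype.card F = 9) (e : STop K ≃* Cfsg.PSU 3 F 3) :
    ∃ (T : Subgroup G) (a b t τ ρ : G), Frame x T a b t τ ρ := by
  have hcard : Fintype.card F = Fintype.card K9 := by rw [hF, card_k9]
  let e1 : F ≃+* K9 := FiniteField.ringEquivOfCardEq hcard
  let e2 : STop K ≃* Cfsg.SU 3 K9 3 :=
    (e.trans (psuEquiv hF)).trans (LieClassical.FieldTransfer.suCongr 3 3 e1)
  exact exists_frame_of_equiv h c hodd ((barEquivTop hodd).trans e2).symm WModel.wr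

end comp

end Cfsg.Agent.GH.WComp
end

-- part: GH/WFinal
section
/-!
# Project GH, branch GH-L3 (W): `K / O(K) = PSU₃(3)` is impossible
-/

set_option autoImplicit false

namespace Cfsg.Agent.GH.WFinal

open Cfsg.Agent.GH.Defs

/-- **GH-L3 (W)**: no involution centraliser has a 2-component `K` with odd centre and `K / O(K) = PSU₃(3)`. -/
theorem false_of_u33 {G : Type*} [Group G] [Finite G] (h : Hyp G) {x : G} {K : Subgroup G} (c : Comp2 x K)
    (hodd : ¬ EvenCenter K) {F : Type*} [Field F] [Fintype F] (hF : Fintype.card F = 9)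
    (e : STop K ≃* Cfsg.PSU 3 F 3) : False := by
  obtain ⟨T, a, b, t, τ, ρ, fr⟩ := WComp.exists_frame h c hodd hF e
  exact WConv.false_of_hyp h fr

end Cfsg.Agent.GH.WFinal
end

-- part: GH/L3S/WorldOf
section
/-!
# GH-L3, SD case: existence of a `World`

`Hyp G`, `AllOdd G`, all tops of 2-components are `PSL₂(q)`, `A₇`, `PSL₃(3)`, `PSU₃(3)`, `M₁₁`.  Then for a top `L` of
maximal order among the tops `PSL₃(3)`, `M₁₁` the set of the involutions `y` with `STop (KK y) ≃* L` gives a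
`World`.
-/

set_option autoImplicit false

open Cfsg Subgroup
open Cfsg.Agent.SignalizersComponents
open Cfsg.Agent.SignalizersComponents.IntrinsicBasic (cj)
open Cfsg.Agent.Intrinsic.Basic Cfsg.Agent.Intrinsic.Cen
open Cfsg.Agent.GH.Defs Cfsg.Agent.GH.Comp Cfsg.Agent.GH.XSet Cfsg.Agent.GH.Branches
open Cfsg.Agent.GH.L2Frame (fix mem_fix)
open Cfsg.Agent.GH.L3S.Defs
open Cfsg.Agent.Walter.SylowIn

namespace Cfsg.Agent.GH.L3S.WorldOf

/-! ### groups with semidihedral and with dihedral Sylow 2-subgroups -/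

/-- A quasi-dihedral group of order 16 has two elements of order 4 not commuting. -/
theorem sd_pair {S : Type*} [Group S] [Finite S] (h : IsQuasiDihedral S) (hc : Nat.card S = 16) :
    ∃ a b : S, a * a ≠ 1 ∧ b * b ≠ 1 ∧ a * b ≠ b * a := by
  obtain ⟨u, y, H⟩ := TwoFusion.QDBasic.exists_qdcoord' h 3 (by rw [hc]; norm_num)
  refine ⟨u 2, u 1 * y, ?_, ?_, ?_⟩
  · rw [H.u_mul, ← H.u_zero]
    intro h1
    exact absurd (H.u_inj _ _ h1) (by decide)
  · rw [H.uy_mul_uy, ← H.u_zero]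
    intro h1
    exact absurd (H.u_inj _ _ h1) (by decide)
  · rw [H.u_mul_uy, H.uy_mul_u]
    intro h1
    exact absurd (H.u_inj _ _ (mul_right_cancel h1)) (by decide)

/-- In a group with dihedral Sylow 2-subgroups: elements of a 2-subgroup whose squares are not `1` commute. -/
theorem comm_of_good {M : Type*} [Group M] [Finite M] (h : L2AutPlus.Good M) {P : Subgroup M}
    (hP : IsPGroup 2 P) {a b : M} (ha : a ∈ P) (hb : b ∈ P) (haa : a * a ≠ 1) (hbb : b * b ≠ 1) :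
    a * b = b * a := by
  obtain ⟨A, _, d, p1, p2, -, h2⟩ := h
  obtain ⟨S, hS⟩ := hP.exists_le_sylow
  obtain ⟨r, c, F⟩ := h2 S
  have key : ∀ {g : M}, g ∈ P → g * g ≠ 1 → ∃ k : ℤ, g = r ^ k := by
    intro g hg hgg
    obtain ⟨k, h3 | h3⟩ := F.S_form g (hS hg)
    · exact ⟨k, h3⟩
    · exfalso
      apply hgg
      have h4 : c * r ^ k * c⁻¹ = (r ^ k)⁻¹ := by
        rw [← conj_zpow, F.crc, inv_zpow]
      have h5 : r ^ k * c * (r ^ k * c) = r ^ k * (c * r ^ k * c⁻¹) * (c * c) := by group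
      rw [h3, h5, h4, F.cc, mul_one, mul_inv_cancel]
  obtain ⟨k, rfl⟩ := key ha haa
  obtain ⟨m, rfl⟩ := key hb hbb
  exact ((Commute.refl r).zpow_zpow k m).eq

universe u

variable {G : Type u} [Group G] [Finite G]

/-- `P = T ⊓ K` is quasi-dihedral of order 16. -/
theorem P_facts {H K T : Subgroup G} (F : L2Frame.Frame H K T) (hs : SDF (STop K)) :
    IsQuasiDihedral ↥(T ⊓ K : Subgroup G) ∧ Nat.card ↥(T ⊓ K : Subgroup G) = 16 := by
  have : Fact (Nat.Prime 2) := ⟨Nat.prime_two⟩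
  obtain ⟨S, hS⟩ := F.exists_sylow
  obtain ⟨h1, h2⟩ := SylL.sylow hs (exists_prime_orderOf_dvd_card' 2 (Tops.even_top F.comp)) S
  let e : ↥(T ⊓ K : Subgroup G) ≃* ↥(S : Subgroup (STop K)) :=
    (MonoidHom.ofInjective F.dTop_injective).trans (MulEquiv.subgroupCongr hS.symm)
  exact ⟨TwoFusion.SylowTypeTransfer.isQuasiDihedral_of_mulEquiv e.symm h1, by
    rw [← h2]; exact Nat.card_congr e.toEquiv⟩

/-- `L' ≥ C_K(u)` where `u` fixes `K`: the top of `L'` has no dihedral Sylow 2-subgroups. -/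
theorem not_good (h : Hyp G) (ho : AllOdd G) {y u : G} {K L' : Subgroup G} (hK : Comp2 y K)
    (hs : SDF (STop K)) (hu : orderOf u = 2) (huy : u * y = y * u) (hf : Fixes u K)
    (hL' : Comp2 u L') (hle : cen K u ≤ L') : ¬ L2AutPlus.Good (STop L') := by
  intro hgood
  have : Fact (Nat.Prime 2) := ⟨Nat.prime_two⟩
  -- a frame with `u ∈ T`
  have huu : u * u = 1 := by rw [← pow_two, ← hu, pow_orderOf_eq_one]
  obtain ⟨T, huT, F⟩ := L2Frame.exists_frame (P := zpowers u) hK.comp (ho y K hK)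
    (L2FourOC.centralizer_le_normalizer h ho hK)
    (IsPGroup.of_card (n := 1) (by rw [Nat.card_zpowers, hu, pow_one]))
    (by rw [zpowers_le]; exact mem_centralizer_singleton_iff.2 huy)
  rw [zpowers_le] at huT
  obtain ⟨h1, h2⟩ := P_facts F hs
  obtain ⟨a, b, haa, hbb, hab⟩ := sd_pair h1 h2
  -- `P ≤ cen K u`
  have hP : T ⊓ K ≤ L' := by
    intro p hp
    obtain ⟨n, hn⟩ := F.exists_pow hp.1
    exact hle (mem_cen hp.2 (F.comm ⟨huT, mem_fix.2 hf⟩ hp).symm hn)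
  let f : ↥(T ⊓ K : Subgroup G) →* STop L' := (topMap L').comp (inclusion hP)
  have hinj : Function.Injective f := by
    rw [← MonoidHom.ker_eq_bot_iff, eq_bot_iff]
    intro p hp
    have h3 : (inclusion hP p) ∈ (topMap L').ker := hp
    obtain ⟨n, hn⟩ := F.exists_pow p.2.1
    have h4 : Odd (orderOf (inclusion hP p)) :=
      (L2Frame.odd_card_ker (ho u L' hL')).of_dvd_nat (Subgroup.orderOf_dvd_natCard _ h3)
    have h5 : orderOf (inclusion hP p) ∣ 2 ^ n := by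
      apply orderOf_dvd_of_pow_eq_one
      apply Subtype.ext
      exact hn
    have h6 : orderOf (inclusion hP p) = 1 :=
      Nat.Coprime.eq_one_of_dvd (Nat.Coprime.pow_right n (Nat.coprime_two_right.2 h4)) h5
    rw [orderOf_eq_one_iff] at h6
    rw [mem_bot]
    have h7 := congrArg (fun x : ↥L' => (x : G)) h6
    exact Subtype.ext h7
  have hPf : IsPGroup 2 f.range := by
    have h3 : IsPGroup 2 ↥(T ⊓ K : Subgroup G) := F.two.to_le inf_le_left
    exact h3.of_surjective f.rangeRestrict f.rangeRestrict_surjective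
  have h3 := comm_of_good hgood hPf (a := f a) (b := f b) ⟨a, rfl⟩ ⟨b, rfl⟩
    (by rw [← map_mul]; exact fun h4 => haa (hinj (h4.trans (map_one f).symm)))
    (by rw [← map_mul]; exact fun h4 => hbb (hinj (h4.trans (map_one f).symm)))
  rw [← map_mul, ← map_mul] at h3
  exact hab (hinj h3)

theorem not_good_of_top {M : Type*} [Group M] (h : ¬ L2AutPlus.Good M) : ¬ Top2 M := by
  rintro (h1 | h1)
  · exact h (L2AutPlus.good_of_isL2odd h1)
  · exact h (L2AutPlus.good_of_isAlt h1)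

theorem card_top {K : Subgroup G} (hodd : ¬ EvenCenter K) :
    Nat.card (STop K) = Nat.card (Bar K) := Nat.card_congr (L2FourOC.topEquiv hodd).toEquiv

omit [Finite G] in
/-- Tops of isomorphic groups. -/
theorem top_congr {J K : Subgroup G} (e : Bar J ≃* Bar K) : Nonempty (STop J ≃* STop K) := by
  refine ⟨QuotientGroup.congr _ _ e ?_⟩
  ext y
  constructor
  · rintro ⟨a, ha, rfl⟩
    rw [mem_center_iff]
    intro g
    obtain ⟨b, rfl⟩ := e.surjective g
    have := mem_center_iff.mp ha b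
    change e b * e a = e a * e b
    rw [← map_mul, ← map_mul, this]
  · intro hy
    obtain ⟨a, rfl⟩ := e.surjective y
    refine ⟨a, ?_, rfl⟩
    rw [SetLike.mem_coe, mem_center_iff]
    intro g
    apply e.injective
    rw [map_mul, map_mul]
    exact mem_center_iff.mp hy (e g)

/-- The involutions `y` such that `C(y)` has a 2-component with top `L`. -/
def topSet (G : Type*) [Group G] (L : Type*) [Group L] : Set G :=
  {y | ∃ K : Subgroup G, Comp2 y K ∧ Nonempty (STop K ≃* L)}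

/-- **The world of the tops `L`.** -/
theorem world (h : Hyp G) (ho : AllOdd G)
    (htop : ∀ (x : G) (K : Subgroup G), Comp2 x K → Top2 (STop K) ∨ Top3 (STop K))
    {L : Type*} [Group L]
    (hsdf : ∀ (x : G) (K : Subgroup G), Comp2 x K → Nonempty (STop K ≃* L) → SDF (STop K))
    (hmax : ∀ (x : G) (K : Subgroup G), Comp2 x K → Top3 (STop K) → Nat.card (STop K) ≤ Nat.card L) :
    World (topSet G L) (Nat.card L) where
  inv := by
    rintro y ⟨K, hK, -⟩
    exact hK.inv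
  comp := by
    rintro y ⟨K, hK, -⟩
    rw [L2Pair.KK_eq h ho hK]
    exact hK.comp
  conj := by
    rintro y ⟨K, hK, ⟨e⟩⟩ g
    obtain ⟨f⟩ := top_congr (cjQuot g K)
    exact ⟨cj g K, L2FourOC.Comp2.cj hK g, ⟨f.symm.trans e⟩⟩
  closed := by
    rintro y ⟨K, hK, ⟨e⟩⟩ u hu hc hf
    rw [L2Pair.KK_eq h ho hK] at hf
    obtain ⟨L', hL', hle⟩ := L2FourOC.exists_pump h ho hK hu hc.eq hf
    have h1 := not_good h ho hK (hsdf y K hK ⟨e⟩) hu hc.eq hf hL' hle
    have h2 : Top3 (STop L') := (htop u L' hL').resolve_left (not_good_of_top h1)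
    have hcomp := isComp_cen hK.comp (mem_centralizer_singleton_iff.mpr hc.eq)
      (L2FourOC.Comp2.sq hL') hf
    obtain ⟨e1, -⟩ := exists_quotEquiv hcomp.2
    have h3 : Nat.card (Bar L') ≤ Nat.card (Bar (cen K u)) := by
      have h4 := hmax u L' hL' h2
      rw [card_top (ho u L' hL'), ← Nat.card_congr e.toEquiv, card_top (ho y K hK),
        ← Nat.card_congr e1.toEquiv] at h4
      exact h4
    obtain ⟨e2, -⟩ := exists_quotEquiv ((L2FourOC.card_bar_le hle).2 h3)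
    obtain ⟨f⟩ := top_congr (e2.symm.trans e1)
    exact ⟨L', hL', ⟨f.trans e⟩⟩
  card := by
    rintro y ⟨K, hK, ⟨e⟩⟩
    rw [L2Pair.KK_eq h ho hK, ← card_top (ho y K hK)]
    exact Nat.card_congr e.toEquiv
  odd := by
    rintro y ⟨K, hK, -⟩
    rw [L2Pair.KK_eq h ho hK]
    exact ho y K hK
  sdf := by
    rintro y ⟨K, hK, e⟩
    rw [L2Pair.KK_eq h ho hK]
    exact hsdf y K hK e
  rank := h.rank4

/-- `|PSL₃(3)| = 5616` -/
theorem card_of_isL33 {M : Type*} [Group M] (h : IsL33 M) : Nat.card M = 5616 := by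
  obtain ⟨F, _, _, hF, ⟨e⟩⟩ := h
  rw [Nat.card_congr e.toEquiv]
  exact SmallSimple.PSLFacts.card_psl_three_three hF

/-- `|M₁₁| = 7920` -/
theorem card_of_isoM11 {M : Type*} [Group M] (h : Spor.IsoM11 M) : Nat.card M = 7920 := by
  obtain ⟨e⟩ := h
  rw [Nat.card_congr e.toEquiv]
  exact HNType.Alt.card_M11

theorem isL33_congr {M M' : Type*} [Group M] [Group M'] (e : M ≃* M') (h : IsL33 M) : IsL33 M' := by
  obtain ⟨F, i, j, hF, ⟨f⟩⟩ := h
  exact ⟨F, i, j, hF, ⟨e.symm.trans f⟩⟩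

theorem isoM11_congr {M M' : Type*} [Group M] [Group M'] (e : M ≃* M') (h : Spor.IsoM11 M) :
    Spor.IsoM11 M' := by
  obtain ⟨f⟩ := h
  exact ⟨e.symm.trans f⟩

/-- No top is `PSU₃(3)`. -/
theorem not_u33 (h : Hyp G) (ho : AllOdd G) {x : G} {K : Subgroup G} (hK : Comp2 x K) :
    ¬ IsU33 (STop K) := by
  rintro ⟨F, _, _, hF, ⟨e⟩⟩
  exact WFinal.false_of_u33 h hK (ho x K hK) hF e

/-- **Existence of a world.** -/
theorem exists_world (hm11 : ∀ (M : Type u) [Group M] [Finite M], Spor.IsoM11 M → SDF M)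
    (hl33 : ∀ (M : Type u) [Group M] [Finite M], IsL33 M → SDF M)
    (h : Hyp G) (ho : AllOdd G)
    (htop : ∀ (x : G) (K : Subgroup G), Comp2 x K → Top2 (STop K) ∨ Top3 (STop K))
    (hex : ∃ (x : G) (K : Subgroup G), Comp2 x K ∧ Top3 (STop K)) :
    ∃ (X : Set G) (N : ℕ), World X N ∧ X.Nonempty := by
  have hcases : ∀ (x : G) (K : Subgroup G), Comp2 x K → Top3 (STop K) →
      IsL33 (STop K) ∨ Spor.IsoM11 (STop K) := by
    rintro x K hK (h1 | h1 | h1)
    · exact Or.inl h1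
    · exact absurd h1 (not_u33 h ho hK)
    · exact Or.inr h1
  by_cases hM : ∃ (x : G) (K : Subgroup G), Comp2 x K ∧ Spor.IsoM11 (STop K)
  · obtain ⟨x, K, hK, h1⟩ := hM
    refine ⟨topSet G (STop K), _, world h ho htop ?_ ?_, ⟨x, K, hK, ⟨MulEquiv.refl _⟩⟩⟩
    · rintro y M hM ⟨e⟩
      exact hm11 _ (isoM11_congr e.symm h1)
    · intro y M hM h2
      rw [card_of_isoM11 h1]
      rcases hcases y M hM h2 with h3 | h3
      · rw [card_of_isL33 h3]; norm_num
      · rw [card_of_isoM11 h3]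
  · obtain ⟨x, K, hK, h1⟩ := hex
    have h2 : IsL33 (STop K) := (hcases x K hK h1).resolve_right fun h2 => hM ⟨x, K, hK, h2⟩
    refine ⟨topSet G (STop K), _, world h ho htop ?_ ?_, ⟨x, K, hK, ⟨MulEquiv.refl _⟩⟩⟩
    · rintro y M - ⟨e⟩
      exact hl33 _ (isL33_congr e.symm h2)
    · intro y M hM' h3
      rw [card_of_isL33 h2]
      rcases hcases y M hM' h3 with h4 | h4
      · rw [card_of_isL33 h4]
      · exact absurd ⟨y, M, hM', h4⟩ hM

end Cfsg.Agent.GH.L3S.WorldOf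
end

private theorem dce_87abc4c31e36 : _root_.True := by
  try have : _root_.True := by simp only [_root_.Cfsg.Agent.GH.WModel.mB.eq_1]
  try have : _root_.True := by simp only [_root_.Cfsg.Agent.GH.WAct.FCfg.S0.congr_simp]
  try have : _root_.True := by simp only [_root_.Cfsg.Agent.GH.WModel.mA.eq_1]
  exact _root_.True.intro
end

-- part: GH/C2L3Coh_mg
section
prune_inst 0x400200000412200000000001020001e4282000000000b000140400502048c0c4000020e20c8200100002080040030002812080000000000000000000041180481002212029048a00020000000b002000000000000000000000000000000000000200000000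
set_option linter.all false
open scoped Cfsg.Agent.FastGrp

-- part: GH/C2L3Defs
section
/-!
# GH-C2, `X / V = L₃(2)`: the hypotheses (interface) for the Sylow 2-subgroups
-/

set_option autoImplicit false

namespace Cfsg.Agent.GH.C2L3

open Subgroup Cfsg.Agent.GH.Pc Cfsg.Agent.GH.PcTypes Cfsg.Agent.GH.C2Syl

variable {X : Type*} [Group X]

/-- `V` is elementary of order 8, self-centralising, `|X / V| = 168`. -/
structure Mod3 (V : Subgroup X) : Prop where
  el : El V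
  card : Nat.card V = 8
  cent : ∀ g : X, (∀ v ∈ V, g * v * g⁻¹ = v) → g ∈ V
  index : V.index = 168

/-- `V` is elementary of order 16 with an invariant subgroup `W` of order 8 on which `X / V` is faithful,
and no fixed vector outside `W`. -/
structure Mod31 (V W : Subgroup X) : Prop where
  el : El V
  card : Nat.card V = 16
  Wn : W.Normal
  WV : W ≤ V
  cardW : Nat.card W = 8
  cent : ∀ g : X, (∀ w ∈ W, g * w * g⁻¹ = w) → g ∈ V
  index : V.index = 168
  nofix : ∀ v ∈ V, (∀ g : X, g * v * g⁻¹ = v) → v ∈ W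

/-- `V` is elementary of order 16 with a fixed vector `v₀ ≠ 1`, `X / V` is faithful on `V / ⟨v₀⟩`, and
there is no invariant complement. -/
structure Mod13 (V : Subgroup X) (v₀ : X) : Prop where
  el : El V
  card : Nat.card V = 16
  mem : v₀ ∈ V
  ne : v₀ ≠ 1
  fix : ∀ g : X, g * v₀ * g⁻¹ = v₀
  cent : ∀ g : X, (∀ v ∈ V, g * v * g⁻¹ = v ∨ g * v * g⁻¹ = v * v₀) → g ∈ V
  index : V.index = 168
  nocomp : ∀ W : Subgroup X, W.Normal → W ≤ V → Nat.card W = 8 → v₀ ∈ W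

/-- The exceptional nonsplit situation. -/
structure IsX1 (T V W : Subgroup X) : Prop where
  uniq : ∀ A : Subgroup X, A ≤ T → Nat.card A = 16 → (∀ g ∈ A, g * g = 1) → A = V
  exists_T0 : ∃ T₀ : Subgroup X, T₀ ≤ T ∧ Nat.card T₀ = 64 ∧ T₀ ⊓ V = W

end Cfsg.Agent.GH.C2L3
end

-- part: GH/C2L3Act
section
/-!
# GH-C2, `X / V = L₃(2)`: charts of elementary groups and actions in coordinates
-/

set_option autoImplicit false

namespace Cfsg.Agent.GH.C2L3

open Subgroup Cfsg.Agent.GH.Pc Cfsg.Agent.GH.PcTypes Cfsg.Agent.GH.C2Syl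

variable {X : Type*} [Group X]

abbrev A3 := ZMod 2 × ZMod 2 × ZMod 2
abbrev A4 := ZMod 2 × A3

theorem z2 : ∀ x : ZMod 2, x = 0 ∨ x = 1 := by decide

/-- `g ^ x` -/
def pw (g : X) (x : ZMod 2) : X := if x = 0 then 1 else g

@[simp] theorem pw_zero (g : X) : pw g 0 = 1 := by simp [pw]

@[simp] theorem pw_one (g : X) : pw g 1 = g := by simp only [pw, _root_.one_ne_zero, ↓ _root_.reduceIte]

theorem pw_add {g : X} (hg : g * g = 1) (x y : ZMod 2) : pw g (x + y) = pw g x * pw g y := by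
  have h11 : (1 : ZMod 2) + 1 = 0 := by decide
  rcases z2 x with rfl | rfl <;> rcases z2 y with rfl | rfl <;> simp [hg, h11]

/-- A chart of an elementary abelian group. -/
structure Ch {A : Type} [AddCommGroup A] (t : A → X) : Prop where
  add : ∀ u v, t (u + v) = t u * t v
  inj : ∀ u, t u = 1 → u = 0

namespace Ch

variable {A : Type} [AddCommGroup A] {t : A → X} (h : Ch t)

include h in
theorem zero : t 0 = 1 := by
  have h1 := h.add 0 0
  rw [add_zero] at h1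
  exact left_eq_mul.mp h1

include h in
theorem neg (u : A) : t (-u) = (t u)⁻¹ := by
  rw [eq_inv_iff_mul_eq_one, ← h.add, neg_add_cancel, h.zero]

include h in
theorem injective : Function.Injective t := by
  intro u v huv
  have h1 : u - v = 0 := h.inj _ (by rw [sub_eq_add_neg, h.add, h.neg, huv, mul_inv_cancel])
  exact sub_eq_zero.mp h1

include h in
theorem comm (u v : A) : t u * t v = t v * t u := by rw [← h.add, add_comm, h.add]

include h in
theorem ext {e : X} (he : e * e = 1) (hc : ∀ u, e * t u = t u * e) (hne : ∀ u, t u ≠ e) :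
    Ch (fun u : ZMod 2 × A => pw e u.1 * t u.2) where
  add u v := by
    have h1 : ∀ x : ZMod 2, ∀ u, pw e x * t u = t u * pw e x := by
      intro x u
      rcases z2 x with rfl | rfl
      · simp
      · simpa only [_root_.Cfsg.Agent.GH.C2L3.pw_one] using hc u
    show pw e (u.1 + v.1) * t (u.2 + v.2) = pw e u.1 * t u.2 * (pw e v.1 * t v.2)
    rw [pw_add he, h.add, mul_assoc, ← mul_assoc (pw e v.1), h1, mul_assoc, mul_assoc]
  inj u hu := by
    obtain ⟨x, u⟩ := u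
    simp only at hu
    rcases z2 x with rfl | rfl
    · rw [pw_zero, one_mul] at hu
      rw [h.inj u hu]
      rfl
    · exfalso
      rw [pw_one] at hu
      apply hne (-u)
      rw [h.neg]
      exact (eq_inv_of_mul_eq_one_left hu).symm

end Ch

theorem ch_pw {e : X} (he : e * e = 1) (h1 : e ≠ 1) : Ch (fun x : ZMod 2 => pw e x) where
  add := pw_add he
  inj x hx := by
    rcases z2 x with rfl | rfl
    · rfl
    · rw [pw_one] at hx
      exact absurd hx h1

/-- `t` is a chart of `V`. -/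
structure Cht {A : Type} [AddCommGroup A] (t : A → X) (V : Subgroup X) : Prop extends Ch t where
  mem : ∀ v, v ∈ V ↔ ∃ u, t u = v

theorem Cht.of_card {A : Type} [AddCommGroup A] [Finite A] {t : A → X} {V : Subgroup X} (h : Ch t)
    (hm : ∀ u, t u ∈ V) (hc : Nat.card V = Nat.card A) : Cht t V where
  toCh := h
  mem v := by
    constructor
    · intro hv
      have hf : Finite V := Nat.finite_of_card_ne_zero (by rw [hc]; exact Nat.card_pos.ne')
      let f : A → V := fun u => ⟨t u, hm u⟩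
      have hi : Function.Injective f := fun u v huv => h.injective (congrArg Subtype.val huv)
      have hb : Function.Bijective f := (Nat.bijective_iff_injective_and_card f).2 ⟨hi, hc.symm⟩
      obtain ⟨u, hu⟩ := hb.2 ⟨v, hv⟩
      exact ⟨u, congrArg Subtype.val hu⟩
    · rintro ⟨u, rfl⟩
      exact hm u

theorem exists_notMem_range {A : Type} [Finite A] {t : A → X} {V : Subgroup X}
    (hc : Nat.card A < Nat.card V) : ∃ e ∈ V, ∀ u, t u ≠ e := by
  have hf : Finite V := Nat.finite_of_card_ne_zero (by omega)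
  by_contra hcon
  push Not at hcon
  let g : V → A := fun v => (hcon v v.2).choose
  have hg : ∀ v : V, t (g v) = v := fun v => (hcon v v.2).choose_spec
  have hi : Function.Injective g := fun v w hvw => Subtype.ext (by rw [← hg v, ← hg w, hvw])
  have := Nat.card_le_card_of_injective g hi
  omega

theorem comm_of_sq {V : Subgroup X} (hsq : ∀ v ∈ V, v * v = 1) {v w : X} (hv : v ∈ V) (hw : w ∈ V) :
    v * w = w * v := by
  have h1 := hsq _ (V.mul_mem hv hw)
  have h2 : v * w = (v * w)⁻¹ := (inv_eq_of_mul_eq_one_left h1).symm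
  rw [mul_inv_rev, inv_eq_of_mul_eq_one_left (hsq _ hv), inv_eq_of_mul_eq_one_left (hsq _ hw)] at h2
  exact h2

theorem exists_cht3 {V : Subgroup X} (hsq : ∀ v ∈ V, v * v = 1) (h8 : Nat.card V = 8) :
    ∃ t : A3 → X, Cht t V := by
  have cZ : Nat.card (ZMod 2) = 2 := by simp
  have cU : Nat.card Unit = 1 := by simp
  obtain ⟨e1, m1, n1⟩ := exists_notMem_range (A := Unit) (t := fun _ => (1 : X)) (V := V)
    (by rw [h8, cU]; norm_num)
  have t1 := ch_pw (hsq _ m1) (Ne.symm (n1 ()))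
  have mm1 : ∀ x : ZMod 2, pw e1 x ∈ V := by
    intro x
    rcases z2 x with rfl | rfl
    · rw [pw_zero]; exact V.one_mem
    · rw [pw_one]; exact m1
  obtain ⟨e2, m2, n2⟩ := exists_notMem_range (A := ZMod 2) (t := fun x => pw e1 x) (V := V)
    (by rw [h8, cZ]; norm_num)
  have t2 := t1.ext (hsq _ m2) (fun u => comm_of_sq hsq m2 (mm1 u)) n2
  have mm2 : ∀ u : ZMod 2 × ZMod 2, pw e2 u.1 * pw e1 u.2 ∈ V := by
    intro u
    refine V.mul_mem ?_ (mm1 _)
    rcases z2 u.1 with h | h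
    · rw [h, pw_zero]; exact V.one_mem
    · rw [h, pw_one]; exact m2
  obtain ⟨e3, m3, n3⟩ := exists_notMem_range (A := ZMod 2 × ZMod 2)
    (t := fun u => pw e2 u.1 * pw e1 u.2) (V := V) (by rw [h8, Nat.card_prod, cZ]; norm_num)
  have t3 := t2.ext (hsq _ m3) (fun u => comm_of_sq hsq m3 (mm2 u)) n3
  refine ⟨_, Cht.of_card t3 ?_ (by rw [h8, Nat.card_prod, Nat.card_prod, cZ])⟩
  intro u
  refine V.mul_mem ?_ (mm2 _)
  rcases z2 u.1 with h | h
  · rw [h, pw_zero]; exact V.one_mem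
  · rw [h, pw_one]; exact m3

/-- Extension of a chart of `W` to `V` of twice the order. -/
theorem Cht.ext {A : Type} [AddCommGroup A] [Finite A] {t : A → X} {V W : Subgroup X} (h : Cht t W)
    (hWV : W ≤ V) (hsq : ∀ v ∈ V, v * v = 1) (hc : Nat.card V = 2 * Nat.card A) {e : X}
    (he : e ∈ V) (heW : e ∉ W) : Cht (fun u : ZMod 2 × A => pw e u.1 * t u.2) V := by
  have hm : ∀ u, t u ∈ V := fun u => hWV ((h.mem _).mpr ⟨u, rfl⟩)
  refine Cht.of_card (h.toCh.ext (hsq _ he) (fun u => comm_of_sq hsq he (hm u))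
    (fun u hu => heW ((h.mem _).mpr ⟨u, hu⟩))) ?_ ?_
  · intro u
    refine V.mul_mem ?_ (hm _)
    rcases z2 u.1 with h | h
    · rw [h, pw_zero]; exact V.one_mem
    · rw [h, pw_one]; exact he
  · rw [hc, Nat.card_prod]
    simp

/-- The element `g` acts as `F` in the chart `t`. -/
def Act {A : Type} (t : A → X) (g : X) (F : A → A) : Prop := ∀ u, g * t u * g⁻¹ = t (F u)

namespace Act

variable {A : Type} {t : A → X}

theorem mul {g h : X} {F K : A → A} (hg : Act t g F) (hh : Act t h K) :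
    Act t (g * h) (fun u => F (K u)) := fun u => by
  rw [← hg, ← hh]; group

theorem inv {g : X} {F K : A → A} (hg : Act t g F) (hK : ∀ u, F (K u) = u) : Act t g⁻¹ K := fun u => by
  have h1 := hg (K u)
  rw [hK] at h1
  rw [← h1]; group

theorem congr {g : X} {F K : A → A} (hg : Act t g F) (hK : ∀ u, F u = K u) : Act t g K := fun u => by
  rw [hg, hK]

theorem one : Act t 1 (fun u => u) := fun u => by group

theorem uniq [AddCommGroup A] (ht : Ch t) {g : X} {F K : A → A} (hg : Act t g F) (hg' : Act t g K)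
    (u : A) : F u = K u := by
  apply ht.injective
  rw [← hg, ← hg']

theorem additive [AddCommGroup A] (ht : Ch t) {g : X} {F : A → A} (hg : Act t g F) (u v : A) :
    F (u + v) = F u + F v := by
  apply ht.injective
  rw [← hg, ht.add, ht.add, ← hg, ← hg]; group

end Act

theorem exists_F {A : Type} [AddCommGroup A] {t : A → X} {V : Subgroup X} (h : Cht t V)
    (hn : V.Normal) (g : X) : ∃ F : A → A, Act t g F := by
  have h1 : ∀ u, ∃ w, t w = g * t u * g⁻¹ := fun u =>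
    (h.mem _).mp (hn.conj_mem _ ((h.mem _).mpr ⟨u, rfl⟩) g)
  choose F hF using h1
  exact ⟨F, fun u => (hF u).symm⟩

/-! ### every automorphism of a group of order 8 is induced -/

def dot3 (r : A3 × A3 × A3) (u : A3) : A3 :=
  (u.1 * r.1.1 + u.2.1 * r.2.1.1 + u.2.2 * r.2.2.1,
   u.1 * r.1.2.1 + u.2.1 * r.2.1.2.1 + u.2.2 * r.2.2.2.1,
   u.1 * r.1.2.2 + u.2.1 * r.2.1.2.2 + u.2.2 * r.2.2.2.2)

theorem additive3 {F : A3 → A3} (hF : ∀ u v, F (u + v) = F u + F v) (u : A3) :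
    F u = dot3 (F (1, 0, 0), F (0, 1, 0), F (0, 0, 1)) u := by
  have h0 : F (0, 0, 0) = (0, 0, 0) := by
    have h1 := hF 0 0
    rw [add_zero] at h1
    exact left_eq_add.mp h1
  obtain ⟨x, y, z⟩ := u
  have h11 : ((1, 1, 0) : A3) = (1, 0, 0) + (0, 1, 0) := by decide
  have h12 : ((1, 0, 1) : A3) = (1, 0, 0) + (0, 0, 1) := by decide
  have h13 : ((0, 1, 1) : A3) = (0, 1, 0) + (0, 0, 1) := by decide
  have h14 : ((1, 1, 1) : A3) = (1, 0, 0) + (0, 1, 0) + (0, 0, 1) := by decide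
  rcases z2 x with rfl | rfl <;> rcases z2 y with rfl | rfl <;> rcases z2 z with rfl | rfl
  · rw [h0]; simp [dot3]
  · simp [dot3]
  · simp [dot3]
  · rw [h13, hF]; simp only [dot3, _root_.Prod.mk_add_mk, _root_.add_zero, _root_.zero_add, _root_.MulZeroClass.zero_mul, _root_.one_mul]; rfl
  · simp [dot3]
  · rw [h12, hF]; simp only [dot3, _root_.Prod.mk_add_mk, _root_.add_zero, _root_.zero_add, _root_.one_mul, _root_.MulZeroClass.zero_mul]; rfl
  · rw [h11, hF]; simp only [dot3, _root_.Prod.mk_add_mk, _root_.add_zero, _root_.zero_add, _root_.one_mul, _root_.MulZeroClass.zero_mul]; rfl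
  · rw [h14, hF, hF]; simp only [dot3, _root_.Prod.mk_add_mk, _root_.add_zero, _root_.zero_add, _root_.one_mul]; rfl

def Indep (r : A3 × A3 × A3) : Prop := ∀ u : A3, dot3 r u = 0 → u = 0

instance (r : A3 × A3 × A3) : Decidable (Indep r) := by unfold Indep; infer_instance

theorem card_indep : Fintype.card {r : A3 × A3 × A3 // Indep r} = 168 := by (delta Cfsg.Agent.GH.C2L3.Indep Cfsg.Agent.GH.C2L3.dot3; set_option synthInstance.maxSize 100000 in exact Cfsg.Agent.Lib.Refl.of (by decide +kernel))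

theorem exists_act [Finite X] {V W : Subgroup X} {t : A3 → X} (ht : Cht t W) (hn : W.Normal)
    (hcent : ∀ g : X, (∀ w ∈ W, g * w * g⁻¹ = w) → g ∈ V) (hidx : V.index = 168) {F : A3 → A3}
    (hF : ∀ u v, F (u + v) = F u + F v) (hinj : ∀ u, F u = 0 → u = 0) : ∃ g : X, Act t g F := by
  choose K hK using fun q : X ⧸ V => exists_F ht hn q.out
  let f : X ⧸ V → {r : A3 × A3 × A3 // Indep r} := fun q =>
    ⟨(K q (1, 0, 0), K q (0, 1, 0), K q (0, 0, 1)), fun u hu => by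
      have h1 := additive3 ((hK q).additive ht.toCh) u
      rw [hu] at h1
      have h2 := hK q u
      rw [h1, ht.zero] at h2
      apply ht.inj
      have h3 : t u = q.out⁻¹ * (q.out * t u * q.out⁻¹) * q.out := by group
      rw [h3, h2]; group⟩
  have hfi : Function.Injective f := by
    intro p q hpq
    have h0 := congrArg Subtype.val hpq
    have h1 : ∀ u, K p u = K q u := fun u => by
      rw [additive3 ((hK p).additive ht.toCh) u, additive3 ((hK q).additive ht.toCh) u]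
      exact congrArg (fun r => dot3 r u) h0
    have h2 : p.out⁻¹ * q.out ∈ V := by
      apply hcent
      intro w hw
      obtain ⟨u, rfl⟩ := (ht.mem _).mp hw
      have h3 : p.out⁻¹ * q.out * t u * (p.out⁻¹ * q.out)⁻¹ = p.out⁻¹ * (q.out * t u * q.out⁻¹) * p.out := by
        group
      rw [h3, hK q, ← h1, ← hK p]; group
    rw [← p.out_eq', ← q.out_eq']
    exact QuotientGroup.eq.mpr h2
  have hb : Function.Bijective f := by
    refine (Nat.bijective_iff_injective_and_card f).2 ⟨hfi, ?_⟩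
    rw [Nat.card_eq_fintype_card (α := {r : A3 × A3 × A3 // Indep r}), card_indep]
    exact hidx
  have hr : Indep (F (1, 0, 0), F (0, 1, 0), F (0, 0, 1)) := fun u hu => by
    rw [← additive3 hF] at hu
    exact hinj u hu
  obtain ⟨q, hq⟩ := hb.2 ⟨_, hr⟩
  refine ⟨q.out, (hK q).congr fun u => ?_⟩
  rw [additive3 ((hK q).additive ht.toCh) u, additive3 hF u]
  exact congrArg (fun r => dot3 r u) (congrArg Subtype.val hq)

end Cfsg.Agent.GH.C2L3
end

-- part: GH/C2L3Std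
section
/-!
# GH-C2, `X / V = L₃(2)`: standard generators of a Sylow 2-subgroup
-/

set_option autoImplicit false
set_option linter.unusedSectionVars false

namespace Cfsg.Agent.GH.C2L3

open Subgroup Cfsg.Agent.GH.Pc Cfsg.Agent.GH.PcTypes Cfsg.Agent.GH.C2Syl
open Cfsg.Agent.TwoFusion.SectionalRank

variable {X : Type*} [Group X]

/-- Doubling a subgroup. -/
theorem exists_double [Finite X] {Y : Subgroup X} {b : X} (hbb : b * b ∈ Y)
    (hb : ∀ y ∈ Y, b * y * b⁻¹ ∈ Y) (hbY : b ∉ Y) :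
    ∃ Z : Subgroup X, Y ≤ Z ∧ b ∈ Z ∧ Nat.card Z = 2 * Nat.card Y ∧
      ∀ g ∈ Z, g ∈ Y ∨ b⁻¹ * g ∈ Y := by
  set Z := C2Base.ext Y b hbb hb with hZ
  have hYZ : Y ≤ Z := fun y hy => Or.inl hy
  have hbZ : b ∈ Z := by
    right
    rw [inv_mul_cancel]
    exact Y.one_mem
  refine ⟨Z, hYZ, hbZ, ?_, fun g hg => hg⟩
  have h1 : Nat.card Z = Y.relIndex Z * Nat.card Y := card_eq_relIndex_mul Z Y hYZ
  rw [h1]
  congr 1
  show (Y.subgroupOf Z).index = 2
  rw [Subgroup.index_eq_two_iff]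
  refine ⟨⟨b, hbZ⟩, fun g => ?_⟩
  rw [mem_subgroupOf, mem_subgroupOf]
  show Xor (g * b ∈ Y) ((g : X) ∈ Y)
  obtain ⟨g, hg | hg⟩ := g
  · right
    refine ⟨hg, fun h2 => hbY ?_⟩
    have h3 := Y.mul_mem (Y.inv_mem hg) h2
    simpa using h3
  · have h4 : g * b ∈ Y := by
      have h5 : g * b = b * (b⁻¹ * g) * b⁻¹ * (b * b) := by group
      rw [h5]
      exact Y.mul_mem (hb _ hg) hbb
    left
    refine ⟨h4, fun h2 => hbY ?_⟩
    have h3 := Y.mul_mem h2 (Y.inv_mem hg)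
    have h6 : g * (b⁻¹ * g)⁻¹ = b := by group
    rwa [h6] at h3

/-- The group `N⟨a, b, s⟩` with `N⟨a, b, s⟩ / N` dihedral of order 8. -/
theorem exists_T1 [Finite X] {N : Subgroup X} (hN : N.Normal) {a b s : X}
    (haa : a * a ∈ N) (hbb : b * b ∈ N) (hss : s * s ∈ N)
    (hab : b * a * b⁻¹ * a⁻¹ ∈ N) (hsa : s * a * s⁻¹ * a⁻¹ ∈ N) (hsb : s * b * s⁻¹ * (b * a)⁻¹ ∈ N)
    (hk : ∀ α β γ, pw s γ * pw b β * pw a α ∈ N → α = 0 ∧ β = 0 ∧ γ = 0) :
    ∃ T : Subgroup X, Nat.card T = 8 * Nat.card N ∧ N ≤ T ∧ a ∈ T ∧ b ∈ T ∧ s ∈ T ∧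
      ∀ g ∈ T, ∃ α β γ, (pw s γ * pw b β * pw a α)⁻¹ * g ∈ N := by
  have h10 : (1 : ZMod 2) ≠ 0 := by decide
  obtain ⟨Y, y1, y2, y3, y4⟩ := exists_double haa (fun y hy => hN.conj_mem y hy a)
    (fun h => h10 (hk 1 0 0 (by simpa using h)).1)
  have hbaY : b * a * b⁻¹ ∈ Y := by
    have h1 := Y.mul_mem (y1 hab) y2
    simpa only [_root_.inv_mul_cancel_right] using h1
  obtain ⟨Z, w1, w2, w3, w4⟩ := exists_double (Y := Y) (b := b) (y1 hbb) (by
    intro y hy
    rcases y4 y hy with h | h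
    · exact y1 (hN.conj_mem y h b)
    · have h1 : b * y * b⁻¹ = (b * a * b⁻¹) * (b * (a⁻¹ * y) * b⁻¹) := by group
      rw [h1]
      exact Y.mul_mem hbaY (y1 (hN.conj_mem _ h b))) (by
    intro h
    rcases y4 b h with h | h
    · exact h10 (hk 0 1 0 (by simpa using h)).2.1
    · apply h10
      refine (hk 1 1 0 ?_).1
      have h1 : pw s 0 * pw b 1 * pw a 1 = a * (a⁻¹ * b) * a⁻¹ * (a * a) := by
        rw [pw_zero, pw_one, pw_one]; group
      rw [h1]
      exact N.mul_mem (hN.conj_mem _ h a) haa)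
  have hsaZ : s * a * s⁻¹ ∈ Y := by
    have h1 := Y.mul_mem (y1 hsa) y2
    simpa only [_root_.inv_mul_cancel_right] using h1
  have hsbZ : s * b * s⁻¹ ∈ Z := by
    have h1 := Z.mul_mem (w1 (y1 hsb)) (Z.mul_mem w2 (w1 y2))
    rwa [inv_mul_cancel_right] at h1
  obtain ⟨T, t1, t2, t3, t4⟩ := exists_double (Y := Z) (b := s) (w1 (y1 hss)) (by
    have hY : ∀ y ∈ Y, s * y * s⁻¹ ∈ Y := by
      intro y hy
      rcases y4 y hy with h | h
      · exact y1 (hN.conj_mem y h s)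
      · have h1 : s * y * s⁻¹ = (s * a * s⁻¹) * (s * (a⁻¹ * y) * s⁻¹) := by group
        rw [h1]
        exact Y.mul_mem hsaZ (y1 (hN.conj_mem _ h s))
    intro y hy
    rcases w4 y hy with h | h
    · exact w1 (hY y h)
    · have h1 : s * y * s⁻¹ = (s * b * s⁻¹) * (s * (b⁻¹ * y) * s⁻¹) := by group
      rw [h1]
      exact Z.mul_mem hsbZ (w1 (hY _ h))) (by
    intro h
    have key : ∀ β α, (pw b β * pw a α)⁻¹ * s ∈ N → False := by
      intro β α h1
      apply h10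
      -- `s = b^β a^α n`, `s² ∈ N`, so `s b^β a^α ∈ N`
      have h2 : s * (pw b β * pw a α) ∈ N := by
        have h3 : s * (pw b β * pw a α) = (s * s) * ((pw b β * pw a α)⁻¹ * s)⁻¹ := by group
        rw [h3]
        exact N.mul_mem hss (N.inv_mem h1)
      exact (hk α β 1 (by rw [pw_one, mul_assoc]; exact h2)).2.2
    rcases w4 s h with h | h
    · rcases y4 s h with h | h
      · exact key 0 0 (by simpa using h)
      · exact key 0 1 (by simpa using h)
    · rcases y4 _ h with h | h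
      · exact key 1 0 (by simpa using h)
      · exact key 1 1 (by simpa [mul_assoc] using h))
  refine ⟨T, by rw [t3, w3, y3]; ring, y1.trans (w1.trans t1), t1 (w1 y2), t1 w2, t2, ?_⟩
  intro g hg
  have hY : ∀ g ∈ Y, ∃ α, (pw a α)⁻¹ * g ∈ N := fun g hg => by
    rcases y4 g hg with h | h
    · exact ⟨0, by simpa using h⟩
    · exact ⟨1, by simpa using h⟩
  have hZ : ∀ g ∈ Z, ∃ α β, (pw b β * pw a α)⁻¹ * g ∈ N := fun g hg => by
    rcases w4 g hg with h | h
    · obtain ⟨α, h1⟩ := hY _ h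
      exact ⟨α, 0, by simpa using h1⟩
    · obtain ⟨α, h1⟩ := hY _ h
      exact ⟨α, 1, by simpa only [mul_assoc, _root_.Cfsg.Agent.GH.C2L3.pw_one, _root_.mul_inv_rev] using h1⟩
  rcases t4 g hg with h | h
  · obtain ⟨α, β, h1⟩ := hZ _ h
    exact ⟨α, β, 0, by simpa using h1⟩
  · obtain ⟨α, β, h1⟩ := hZ _ h
    exact ⟨α, β, 1, by simpa only [mul_assoc, _root_.Cfsg.Agent.GH.C2L3.pw_one, _root_.mul_inv_rev] using h1⟩

/-! ### standard generators -/

section std

variable {A : Type} [AddCommGroup A] {t : A → X} {V : Subgroup X}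

theorem act_V (h : Cht t V) {v : X} (hv : v ∈ V) : Act t v (fun u => u) := fun u => by
  obtain ⟨w, rfl⟩ := (h.mem v).mp hv
  rw [h.comm]; group

theorem act_t (h : Cht t V) (m : A) : Act t (t m) (fun u => u) := act_V h ((h.mem _).mpr ⟨m, rfl⟩)

/-- Squares of elements `t m * g`. -/
theorem sq_mul (h : Cht t V) {g : X} {F : A → A} (hg : Act t g F) {u : A} (hu : g * g = t u) (m : A) :
    (t m * g) * (t m * g) = t (m + F m + u) := by
  rw [h.add, h.add, ← hg, ← hu]; group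

theorem act_mul_t (h : Cht t V) {g : X} {F : A → A} (hg : Act t g F) (m : A) : Act t (t m * g) F :=
  (act_t h m).mul hg

/-- `hc`: elements acting trivially are in `V`. -/
theorem exists_t (h : Cht t V) (hc : ∀ g, Act t g (fun u => u) → g ∈ V) {g : X} {F : A → A}
    (hg : Act t g F) (hF : ∀ u, F u = u) : ∃ u, t u = g := (h.mem g).mp (hc g (hg.congr hF))

/-- Two elements with the same action. -/
theorem exists_t_of_eq (h : Cht t V) (hc : ∀ g, Act t g (fun u => u) → g ∈ V) {g k : X} {F : A → A}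
    (hg : Act t g F) (hk : Act t k F) : ∃ m, g = t m * k := by
  have h1 : g * k⁻¹ ∈ V := by
    apply hc
    intro u
    have h2 : g * k⁻¹ * t u * (g * k⁻¹)⁻¹ = g * (k⁻¹ * t u * k) * g⁻¹ := by group
    -- `k` acts bijectively
    obtain ⟨w, hw⟩ : ∃ w, t w = k⁻¹ * t u * k := by
      obtain ⟨n, hn⟩ : ∃ n : X, n ∈ V ∧ n = k⁻¹ * t u * k := by
        refine ⟨_, ?_, rfl⟩
        apply hc
        intro y
        have h3 : k⁻¹ * t u * k * t y * (k⁻¹ * t u * k)⁻¹ =
            k⁻¹ * (t u * (k * t y * k⁻¹) * (t u)⁻¹) * k := by group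
        rw [h3, hk, act_t h u, ← hk]; group
      rw [← hn.2]
      exact (h.mem n).mp hn.1
    rw [h2, ← hw, hg, ← hk, hw]; group
  obtain ⟨m, hm⟩ := (h.mem _).mp h1
  exact ⟨m, by rw [hm]; group⟩

structure Std (t : A → X) (Fr Fa Fs : A → A) (r a s : X) : Prop where
  r1 : Act t r Fr
  a1 : Act t a Fa
  s1 : Act t s Fs
  rrr : r * r * r = 1
  aa : a * a = 1
  ss : s * s = 1
  srs : s * r * s⁻¹ = r⁻¹
  sa : s * a * s⁻¹ = a

/-- An element of order 3 with the given action. -/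
theorem exists_order_three (h : Cht t V) (h2 : ∀ u : A, u + u = 0)
    (hc : ∀ g, Act t g (fun u => u) → g ∈ V) {Fr : A → A} (hr3 : ∀ u, Fr (Fr (Fr u)) = u) {r₀ : X}
    (hr₀ : Act t r₀ Fr) : ∃ r, r * r * r = 1 ∧ Act t r Fr := by
  obtain ⟨u, hu⟩ := exists_t h hc (hr₀.mul (hr₀.mul hr₀)) hr3
  refine ⟨t u * r₀, ?_, act_mul_t h hr₀ u⟩
  rw [hu]
  have h3 : (r₀ * (r₀ * r₀)) * (r₀ * (r₀ * r₀)) = 1 := by
    rw [← hu, ← h.add, h2, h.zero]
  have h4 : r₀ * (r₀ * r₀) * r₀ * (r₀ * (r₀ * r₀) * r₀) * (r₀ * (r₀ * r₀) * r₀) =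
      ((r₀ * (r₀ * r₀)) * (r₀ * (r₀ * r₀))) * ((r₀ * (r₀ * r₀)) * (r₀ * (r₀ * r₀))) := by group
  rw [h4, h3, one_mul]

/-- A lift inverting `r`. -/
theorem exists_inverting (h : Cht t V) (h2 : ∀ u : A, u + u = 0)
    (hc : ∀ g, Act t g (fun u => u) → g ∈ V) {Fr Fs : A → A}
    (hr3 : ∀ u, Fr (Fr (Fr u)) = u) (hs2 : ∀ u, Fs (Fs u) = u)
    (hsr : ∀ u, Fs (Fr (Fs u)) = Fr (Fr u)) {r s₀ : X} (hrrr : r * r * r = 1) (hr : Act t r Fr)
    (hs₀ : Act t s₀ Fs) : ∃ s, s * r * s⁻¹ = r⁻¹ ∧ Act t s Fs := by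
  have hri : r⁻¹ = r * r := by
    rw [eq_comm]
    exact eq_inv_of_mul_eq_one_left hrrr
  have hs₀i : Act t s₀⁻¹ Fs := hs₀.inv hs2
  have h1 : Act t (r * (s₀ * (r * s₀⁻¹))) (fun u => Fr (Fs (Fr (Fs u)))) :=
    hr.mul (hs₀.mul (hr.mul hs₀i))
  obtain ⟨m, hm⟩ := exists_t h hc h1 (fun u => by rw [hsr, hr3])
  have h3 : s₀ * r * s₀⁻¹ = r⁻¹ * t m := by rw [hm]; group
  -- `m + Fr m + Fr (Fr m) = 0`
  have h4 : m + Fr m + Fr (Fr m) = 0 := by
    apply h.inj
    rw [h.add, h.add, ← hr, ← hr]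
    have h5 : (s₀ * r * s₀⁻¹) * (s₀ * r * s₀⁻¹) * (s₀ * r * s₀⁻¹) = 1 := by
      have h6 : (s₀ * r * s₀⁻¹) * (s₀ * r * s₀⁻¹) * (s₀ * r * s₀⁻¹) = s₀ * (r * r * r) * s₀⁻¹ := by group
      rw [h6, hrrr]; group
    rw [h3] at h5
    -- conj relation `r⁻¹ m = (r² m r⁻²) r⁻¹`
    have h7 : r⁻¹ * t m * (r⁻¹ * t m) * (r⁻¹ * t m) =
        r⁻¹ * (t m * (r⁻¹ * t m * r) * (r⁻¹ * r⁻¹ * t m * r * r)) * r⁻¹ * r⁻¹ := by group
    have h8 : r⁻¹ * t m * r = t (Fr (Fr m)) := by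
      have h9 := (hr.mul hr) m
      rw [← h9, hri]
      have h10 : r * r * t m * r = r * r * t m * (r * r)⁻¹ * (r * r * r) := by group
      rw [h10, hrrr, mul_one]
    have h9 : r⁻¹ * r⁻¹ * t m * r * r = t (Fr m) := by
      have h10 : r⁻¹ * r⁻¹ * t m * r * r = r⁻¹ * (r⁻¹ * t m * r) * r := by group
      rw [h10, h8]
      have h11 := hr (Fr m)
      rw [← h11]; group
    rw [h7, h8, h9] at h5
    have h12 : t m * t (Fr (Fr m)) * t (Fr m) = r * (r⁻¹ * (t m * t (Fr (Fr m)) * t (Fr m)) * r⁻¹ * r⁻¹) *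
        (r * r) := by group
    rw [hr, hr]
    rw [mul_assoc, h.comm (Fr m), ← mul_assoc, h12, h5, mul_one, ← mul_assoc, hrrr]
  refine ⟨t (Fr m) * s₀, ?_, act_mul_t h hs₀ _⟩
  have h5 : t (Fr m) * s₀ * r * (t (Fr m) * s₀)⁻¹ = t (Fr m) * (s₀ * r * s₀⁻¹) * (t (Fr m))⁻¹ := by group
  rw [h5, h3]
  have h6 : t (Fr m) * (r⁻¹ * t m) * (t (Fr m))⁻¹ = r⁻¹ * ((r * t (Fr m) * r⁻¹) * t m * (t (Fr m))⁻¹) := by
    group
  rw [h6, hr, ← h.neg, ← h.add, ← h.add]
  have h7 : Fr (Fr m) + m + -Fr m = 0 := by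
    have h8 : -Fr m = Fr m := by
      rw [neg_eq_iff_add_eq_zero]
      exact h2 _
    rw [h8, ← h4]; abel
  rw [h7, h.zero, mul_one]

/-- The element `s` as an involution inverting `r`. -/
theorem exists_s (h : Cht t V) {Fr Fs : A → A}
    (hc : ∀ g, Act t g (fun u => u) → g ∈ V) (hs2 : ∀ u, Fs (Fs u) = u)
    {r s : X} (hr : Act t r Fr) (hs : Act t s Fs) (hsr : s * r * s⁻¹ = r⁻¹)
    (HS : ∀ u, s * s = t u → Fr u = u → Fs u = u → ∃ m, Fr m = m ∧ m + Fs m + u = 0) :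
    ∃ s, s * s = 1 ∧ s * r * s⁻¹ = r⁻¹ ∧ Act t s Fs := by
  obtain ⟨u, hu⟩ := exists_t h hc (hs.mul hs) hs2
  have h1 : Fr u = u := by
    apply h.injective
    rw [← hr, hu]
    have h2 : s * s * r * (s * s)⁻¹ = r := by
      have h3 : s * s * r * (s * s)⁻¹ = s * (s * r * s⁻¹) * s⁻¹ := by group
      have h4 : s * r⁻¹ * s⁻¹ = (s * r * s⁻¹)⁻¹ := by group
      rw [h3, hsr, h4, hsr, inv_inv]
    calc r * (s * s) * r⁻¹ = (s * s * r * (s * s)⁻¹) * (s * s) * r⁻¹ := by rw [h2]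
      _ = s * s := by group
  have h3 : Fs u = u := by
    apply h.injective
    rw [← hs, hu]; group
  obtain ⟨m, m1, m2⟩ := HS u hu.symm h1 h3
  refine ⟨t m * s, ?_, ?_, act_mul_t h hs m⟩
  · rw [sq_mul h hs hu.symm, m2, h.zero]
  · have h4 : t m * s * r * (t m * s)⁻¹ = t m * (s * r * s⁻¹) * (t m)⁻¹ := by group
    rw [h4, hsr]
    have h5 : r * t m * r⁻¹ = t m := by rw [hr, m1]
    have h6 : t m * r⁻¹ = r⁻¹ * t m := by
      rw [eq_inv_mul_iff_mul_eq, ← mul_assoc, h5]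
    rw [h6]; group

/-- The involution `a` commuting with `s`. -/
theorem exists_a (h : Cht t V) {Fa Fs : A → A}
    (hc : ∀ g, Act t g (fun u => u) → g ∈ V) (hs2 : ∀ u, Fs (Fs u) = u)
    (hsa : ∀ u, Fs (Fa (Fs u)) = Fa u) {a s : X} (ha : Act t a Fa) (hs : Act t s Fs)
    (haa : a * a = 1) (hss : s * s = 1) (h2 : ∀ u : A, u + u = 0)
    (HC : ∀ u, u + Fa u = 0 → Fs u = u → ∃ m, m + Fa m = 0 ∧ m + Fs m + u = 0) :
    ∃ a, a * a = 1 ∧ s * a * s⁻¹ = a ∧ Act t a Fa := by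
  have h1 : Act t (s * (a * s⁻¹)) Fa := (hs.mul (ha.mul (hs.inv hs2))).congr hsa
  obtain ⟨u, hu⟩ := exists_t_of_eq h hc h1 ha
  have hu' : s * a * s⁻¹ = t u * a := by rw [← hu]; group
  have haa' : a * a = t 0 := by rw [haa, h.zero]
  have e1 : u + Fa u = 0 := by
    apply h.inj
    have h3 := sq_mul h ha haa' u
    rw [add_zero] at h3
    rw [← h3, ← hu']
    have h4 : s * a * s⁻¹ * (s * a * s⁻¹) = s * (a * a) * s⁻¹ := by group
    rw [h4, haa]; group
  have e2 : Fs u = u := by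
    apply h.injective
    rw [← hs]
    have h3 : s * (s * a * s⁻¹) * s⁻¹ = a := by
      have h4 : s * (s * a * s⁻¹) * s⁻¹ = (s * s) * a * (s * s)⁻¹ := by group
      rw [h4, hss]; group
    rw [hu'] at h3
    have h4 : s * t u * s⁻¹ = (s * (t u * a) * s⁻¹) * (s * a * s⁻¹)⁻¹ := by group
    rw [h4, h3, hu']
    have h5 : a * (t u * a)⁻¹ = (t u)⁻¹ := by group
    rw [h5, ← h.neg]
    congr 1
    rw [neg_eq_iff_add_eq_zero]
    exact h2 u
  obtain ⟨m, m1, m2⟩ := HC u e1 e2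
  refine ⟨t m * a, ?_, ?_, act_mul_t h ha m⟩
  · rw [sq_mul h ha haa', add_zero, m1, h.zero]
  · have h3 : s * (t m * a) * s⁻¹ = (s * t m * s⁻¹) * (s * a * s⁻¹) := by group
    rw [h3, hs, hu', ← mul_assoc, ← h.add]
    congr 2
    have h4 : Fs m + u = m + (m + Fs m + u) := by
      calc Fs m + u = (m + m) + (Fs m + u) := by rw [h2, zero_add]
        _ = m + (m + Fs m + u) := by abel
    rw [h4, m2, add_zero]

end std

namespace Std

variable {A : Type} [AddCommGroup A] {t : A → X} {V : Subgroup X} {Fr Fa Fs : A → A} {r a s : X}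
  (h : Std t Fr Fa Fs r a s)

include h

theorem bb : (r * a * r⁻¹) * (r * a * r⁻¹) = 1 := by
  have h1 : (r * a * r⁻¹) * (r * a * r⁻¹) = r * (a * a) * r⁻¹ := by group
  rw [h1, h.aa]; group

theorem rc : r * (r * (r * a * r⁻¹) * r⁻¹) * r⁻¹ = a := by
  have h1 : r * (r * (r * a * r⁻¹) * r⁻¹) * r⁻¹ = (r * r * r) * a * (r * r * r)⁻¹ := by group
  rw [h1, h.rrr]; group

theorem sb : s * (r * a * r⁻¹) * s⁻¹ = r * (r * a * r⁻¹) * r⁻¹ := by
  have h1 : s * (r * a * r⁻¹) * s⁻¹ = (s * r * s⁻¹) * (s * a * s⁻¹) * (s * r * s⁻¹)⁻¹ := by group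
  rw [h1, h.srs, h.sa]
  have h2 : r⁻¹ = r * r := by
    rw [eq_comm]
    exact eq_inv_of_mul_eq_one_left h.rrr
  have h3 : r * (r * a * r⁻¹) * r⁻¹ = (r * r) * a * (r * r)⁻¹ := by group
  rw [h3, ← h2]

theorem sc : s * (r * (r * a * r⁻¹) * r⁻¹) * s⁻¹ = r * a * r⁻¹ := by
  rw [← h.sb]
  have h1 : s * (s * (r * a * r⁻¹) * s⁻¹) * s⁻¹ = (s * s) * (r * a * r⁻¹) * (s * s)⁻¹ := by group
  rw [h1, h.ss]; group

/-- The element `w = a b c`. -/
theorem exists_w (ht : Cht t V) (hc : ∀ g, Act t g (fun u => u) → g ∈ V) (h2 : ∀ u : A, u + u = 0)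
    (har : ∀ u, Fa (Fr (Fa (Fr (Fa (Fr u))))) = u) :
    ∃ u, a * (r * a * r⁻¹) * (r * (r * a * r⁻¹) * r⁻¹) = t u ∧ Fr u = Fa u ∧ Fs u = Fa u := by
  set b := r * a * r⁻¹ with hb
  set c := r * b * r⁻¹ with hcd
  have h1 : a * b * c = a * (r * (a * (r * (a * r)))) * (r * r * r)⁻¹ := by rw [hcd, hb]; group
  have h3 : a * b * c = a * (r * (a * (r * (a * r)))) := by rw [h1, h.rrr]; group
  obtain ⟨u, hu⟩ := exists_t ht hc
    (h.a1.mul (h.r1.mul (h.a1.mul (h.r1.mul (h.a1.mul h.r1))))) har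
  have hw : a * b * c = t u := by rw [h3, hu]
  have hai : a⁻¹ = a := inv_eq_of_mul_eq_one_left h.aa
  have haw : a * (a * b * c) * a⁻¹ = b * c * a := by
    have h4 : a * (a * b * c) * a⁻¹ = (a * a) * (b * c * a⁻¹) := by group
    rw [h4, h.aa, one_mul, hai]
  refine ⟨u, hw, ?_, ?_⟩
  · apply ht.injective
    rw [← h.r1, ← h.a1, ← hw, haw]
    have h4 : r * (a * b * c) * r⁻¹ = (r * a * r⁻¹) * (r * b * r⁻¹) * (r * c * r⁻¹) := by group
    rw [h4, h.rc]
  · apply ht.injective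
    rw [← h.s1, ← h.a1, ← hw, haw]
    have h4 : s * (a * b * c) * s⁻¹ = (s * a * s⁻¹) * (s * b * s⁻¹) * (s * c * s⁻¹) := by group
    rw [h4, h.sa, h.sb, h.sc, ← hb, ← hcd]
    -- `a c b = (b c a)⁻¹ = b c a`
    have h5 : (b * c * a) * (b * c * a) = 1 := by
      rw [← haw, hw, h.a1, ← ht.add, h2, ht.zero]
    have hbi : b⁻¹ = b := inv_eq_of_mul_eq_one_left h.bb
    have hci : c⁻¹ = c := by
      have h6 : c * c = 1 := by
        have h7 : c * c = r * (b * b) * r⁻¹ := by rw [hcd]; group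
        rw [h7, h.bb]; group
      exact inv_eq_of_mul_eq_one_left h6
    have h6 : (b * c * a)⁻¹ = a * c * b := by
      have h7 : (b * c * a)⁻¹ = a⁻¹ * c⁻¹ * b⁻¹ := by group
      rw [h7, hai, hbi, hci]
    rw [← h6]
    exact inv_eq_of_mul_eq_one_left h5

end Std

/-! ### the subgroup `T₁` from the action -/

/-- `F ^ x` -/
def pf {A : Type} (F : A → A) (x : ZMod 2) (u : A) : A := if x = 0 then u else F u

theorem act_pw {A : Type} {t : A → X} {g : X} {F : A → A} (hg : Act t g F) (x : ZMod 2) :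
    Act t (pw g x) (pf F x) := by
  rcases z2 x with rfl | rfl
  · intro u
    simp [pf]
  · intro u
    simpa only [pf, _root_.Cfsg.Agent.GH.C2L3.pw_one, _root_.one_ne_zero, ↓ _root_.reduceIte] using hg u

/-- The conditions on the three maps. -/
structure Good (Fr Fa Fs : A3 → A3) : Prop where
  r3 : ∀ u, Fr (Fr (Fr u)) = u
  a2 : ∀ u, Fa (Fa u) = u
  s2 : ∀ u, Fs (Fs u) = u
  ba : ∀ u, Fr (Fa (Fr (Fr (Fa u)))) = Fa (Fr (Fa (Fr (Fr u))))
  sa : ∀ u, Fs (Fa u) = Fa (Fs u)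
  sb : ∀ u, Fs (Fr (Fa (Fr (Fr (Fs u))))) = Fr (Fa (Fr (Fr (Fa u))))
  free : ∀ α β γ, (∀ u, pf Fs γ (pf (fun u => Fr (Fa (Fr (Fr u)))) β (pf Fa α u)) = u) →
    α = 0 ∧ β = 0 ∧ γ = 0

theorem exists_T1_act [Finite X] {X' : Type*} [Group X'] (π : X →* X') {t : A3 → X'} (ht : Ch t)
    {V : Subgroup X} (hn : V.Normal) (hV : ∀ g, Act t (π g) (fun u => u) ↔ g ∈ V)
    {Fr Fa Fs : A3 → A3} (hF : Good Fr Fa Fs) {r a s : X} (hr : Act t (π r) Fr)
    (ha : Act t (π a) Fa) (hs : Act t (π s) Fs) :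
    (∃ T : Subgroup X, Nat.card T = 8 * Nat.card V ∧ V ≤ T ∧ a ∈ T ∧ r * a * r⁻¹ ∈ T ∧ s ∈ T ∧
      ∀ g ∈ T, ∃ α β γ, (pw s γ * pw (r * a * r⁻¹) β * pw a α)⁻¹ * g ∈ V) ∧
    ∀ α β γ, pw s γ * pw (r * a * r⁻¹) β * pw a α ∈ V → α = 0 ∧ β = 0 ∧ γ = 0 := by
  have hri : Act t (π r)⁻¹ (fun u => Fr (Fr u)) := hr.inv hF.r3
  have hb : Act t (π (r * a * r⁻¹)) (fun u => Fr (Fa (Fr (Fr u)))) := by
    rw [map_mul, map_mul, map_inv]
    exact (hr.mul ha).mul hri
  have hai : Act t (π a)⁻¹ Fa := ha.inv hF.a2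
  have hsi : Act t (π s)⁻¹ Fs := hs.inv hF.s2
  have hb2 : ∀ u, Fr (Fa (Fr (Fr (Fr (Fa (Fr (Fr u))))))) = u := by
    intro u
    rw [hF.r3, hF.a2, hF.r3]
  have hbi : Act t (π (r * a * r⁻¹))⁻¹ (fun u => Fr (Fa (Fr (Fr u)))) := hb.inv hb2
  clear hri hr
  generalize r * a * r⁻¹ = b at hb hbi ⊢
  have hfree : ∀ α β γ, pw s γ * pw b β * pw a α ∈ V → α = 0 ∧ β = 0 ∧ γ = 0 := by
    intro α β γ h
    rw [← hV, map_mul, map_mul] at h
    have hpw : ∀ (g : X) (x : ZMod 2), π (pw g x) = pw (π g) x := by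
      intro g x
      rcases z2 x with rfl | rfl <;> simp
    rw [hpw, hpw, hpw] at h
    apply hF.free
    intro u
    exact (((act_pw hs γ).mul (act_pw hb β)).mul (act_pw ha α)).uniq ht h u
  refine ⟨exists_T1 hn ((hV _).mp ?_) ((hV _).mp ?_) ((hV _).mp ?_) ((hV _).mp ?_) ((hV _).mp ?_)
    ((hV _).mp ?_) hfree, hfree⟩
  · rw [map_mul]
    exact (ha.mul ha).congr hF.a2
  · rw [map_mul]
    exact (hb.mul hb).congr hb2
  · rw [map_mul]
    exact (hs.mul hs).congr hF.s2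
  · rw [map_mul, map_mul, map_mul, map_inv, map_inv]
    refine (((hb.mul ha).mul hbi).mul hai).congr fun u => ?_
    rw [hF.ba, hb2, hF.a2]
  · rw [map_mul, map_mul, map_mul, map_inv, map_inv]
    refine (((hs.mul ha).mul hsi).mul hai).congr fun u => ?_
    rw [hF.sa, hF.s2, hF.a2]
  · rw [map_mul, map_mul, map_mul, map_inv, map_inv, map_mul, mul_inv_rev]
    refine (((hs.mul hb).mul hsi).mul (hai.mul hbi)).congr fun u => ?_
    rw [hF.sb, hF.a2, hb2]

/-- From one Sylow 2-subgroup to all. -/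
theorem isType_sylow [Finite X] {n : ℕ} {P : Pres n} {T₁ : Subgroup X} (h : IsType P T₁)
    (hodd : ¬ 2 ∣ T₁.index) (T : Sylow 2 X) : IsType P T := by
  have hp : IsPGroup 2 T₁ := IsPGroup.of_card h.1
  have : Fact (Nat.Prime 2) := ⟨Nat.prime_two⟩
  let S : Sylow 2 X := hp.toSylow hodd
  exact IsType.congr (Sylow.equiv S T) h

theorem index_of_card [Finite X] {V T : Subgroup X} (hidx : V.index = 168)
    (hT : Nat.card T = 8 * Nat.card V) : T.index = 21 := by
  have h1 := V.card_mul_index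
  have h2 := T.card_mul_index
  rw [hidx] at h1
  rw [hT, ← h1] at h2
  have h3 : 0 < Nat.card V := Nat.card_pos
  have h4 : Nat.card V * (8 * T.index) = Nat.card V * 168 := by rw [← h2]; ring
  have h5 := Nat.eq_of_mul_eq_mul_left h3 h4
  omega

/-! ### averaging -/

theorem avg {M : Type*} [AddCommGroup M] (ρ : X → M → M)
    (hadd : ∀ g m n, ρ g (m + n) = ρ g m + ρ g n) (hmul : ∀ g k m, ρ (g * k) m = ρ g (ρ k m))
    (T : Subgroup X) [Fintype (X ⧸ T)] (m₀ : M) (hT : ∀ g ∈ T, ρ g m₀ = m₀) (g : X) :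
    ρ g (∑ q : X ⧸ T, ρ q.out m₀) = ∑ q : X ⧸ T, ρ q.out m₀ := by
  let φ : M →+ M := AddMonoidHom.mk' (ρ g) (hadd g)
  have h1 : ρ g (∑ q : X ⧸ T, ρ q.out m₀) = ∑ q : X ⧸ T, ρ g (ρ q.out m₀) :=
    map_sum φ _ _
  rw [h1]
  refine Fintype.sum_equiv (MulAction.toPerm g) _ _ fun q => ?_
  rw [← hmul]
  have h2 : (MulAction.toPerm g q).out⁻¹ * (g * q.out) ∈ T := by
    rw [← QuotientGroup.eq, QuotientGroup.out_eq']
    show g • q = _
    conv_lhs => rw [← q.out_eq']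
    rfl
  have h3 : g * q.out = (MulAction.toPerm g q).out * ((MulAction.toPerm g q).out⁻¹ * (g * q.out)) := by
    group
  rw [h3, hmul, hT _ h2]

end Cfsg.Agent.GH.C2L3
end

-- part: GH/C2L3Three
section
/-!
# GH-C2, `X / V = L₃(2)`, `|V| = 8`: the Sylow 2-subgroup is `W24` or `G23`
-/

set_option autoImplicit false
set_option linter.unusedSimpArgs false

namespace Cfsg.Agent.GH.C2L3

open Subgroup Cfsg.Agent.GH.Pc Cfsg.Agent.GH.PcTypes Cfsg.Agent.GH.C2Syl

variable {X : Type*} [Group X]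

namespace Three

def Fr (u : A3) : A3 := (u.1, u.2.2, u.2.1 + u.2.2)
def Fa (u : A3) : A3 := (u.1, u.1 + u.2.1, u.2.2)
def Fs (u : A3) : A3 := (u.1, u.2.1 + u.2.2, u.2.2)
def Fh (u : A3) : A3 := (u.1, u.2.1 + u.2.2, u.1 + u.2.2)
def Fg (u : A3) : A3 := (u.2.2, u.2.1, u.1)
def Fb (u : A3) : A3 := (u.1, u.2.1, u.1 + u.2.2)
def Fc (u : A3) : A3 := (u.1, u.1 + u.2.1, u.1 + u.2.2)

theorem good : Good Fr Fa Fs where
  r3 := by decide
  a2 := by decide
  s2 := by decide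
  ba := by decide
  sa := by decide
  sb := by decide
  free := by decide +kernel

end Three

open Three

theorem char2 : ∀ u : A3, u + u = 0 := by decide

/-- The standard generators in case (3). -/
theorem Mod3.exists_std [Finite X] {V : Subgroup X} (h : Mod3 V) :
    ∃ (t : A3 → X) (r a s : X), Cht t V ∧ Std t Fr Fa Fs r a s := by
  obtain ⟨t, ht⟩ := exists_cht3 h.el.sq h.card
  have hc : ∀ g, Act t g (fun u => u) → g ∈ V := fun g hg => h.cent g fun v hv => by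
    obtain ⟨u, rfl⟩ := (ht.mem v).mp hv
    exact hg u
  have ex : ∀ {F : A3 → A3}, (∀ u v, F (u + v) = F u + F v) → (∀ u, F u = 0 → u = 0) →
      ∃ g : X, Act t g F := fun hF hi => exists_act ht h.el.normal h.cent h.index hF hi
  obtain ⟨r₀, hr₀⟩ := ex (F := Fr) (by decide +kernel) (by decide)
  obtain ⟨s₀, hs₀⟩ := ex (F := Fs) (by decide +kernel) (by decide)
  obtain ⟨h₀, hh₀⟩ := ex (F := Fh) (by decide +kernel) (by decide)
  obtain ⟨g₀, hg₀⟩ := ex (F := Fg) (by decide +kernel) (by decide)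
  obtain ⟨r, hrrr, hr⟩ := exists_order_three ht char2 hc (by decide) hr₀
  -- the involution `a`
  have hx : Act t (h₀ * h₀) Fa := (hh₀.mul hh₀).congr (by decide)
  obtain ⟨u, hu⟩ := exists_t ht hc (hx.mul hx) (by decide)
  have hfix : Fh u = u := by
    apply ht.injective
    rw [← hh₀, hu]; group
  have key1 : ∀ u, Fh u = u → ∃ m, m + Fa m + u = 0 := by decide
  have key2 : ∀ u n, n + Fs n + u = 0 → Fr u = u → u = 0 := by decide +kernel
  obtain ⟨m, hm⟩ := key1 u hfix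
  have ha₁ : (t m * (h₀ * h₀)) * (t m * (h₀ * h₀)) = 1 := by
    rw [sq_mul ht hx hu.symm, hm, ht.zero]
  have ha₂ : Act t (t m * (h₀ * h₀)) Fa := act_mul_t ht hx m
  generalize t m * (h₀ * h₀) = a₁ at ha₁ ha₂
  have hy : Act t (g₀ * (a₁ * g₀⁻¹)) Fs :=
    (hg₀.mul (ha₂.mul (hg₀.inv (K := Fg) (by decide)))).congr (by decide)
  have hyy : (g₀ * (a₁ * g₀⁻¹)) * (g₀ * (a₁ * g₀⁻¹)) = 1 := by
    have h1 : (g₀ * (a₁ * g₀⁻¹)) * (g₀ * (a₁ * g₀⁻¹)) = g₀ * (a₁ * a₁) * g₀⁻¹ := by group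
    rw [h1, ha₁]; group
  obtain ⟨s₁, hs₁, hs₁'⟩ := exists_inverting ht char2 hc (by decide) (by decide) (by decide) hrrr hr
    hs₀
  obtain ⟨s, hss, hsr, hs⟩ := exists_s ht hc (by decide) hr hs₁' hs₁ (by
    intro u h1 h2 h3
    obtain ⟨n, hn⟩ := exists_t_of_eq ht hc hy hs₁'
    have h4 : n + Fs n + u = 0 := by
      apply ht.inj
      rw [← sq_mul ht hs₁' h1, ← hn, hyy]
    have h5 : u = 0 := key2 u n h4 h2
    subst h5
    exact ⟨0, by decide, by decide⟩)
  obtain ⟨a, haa, hsa, ha⟩ := exists_a ht hc (by decide) (by decide) ha₂ hs ha₁ hss char2 (by decide)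
  exact ⟨t, r, a, s, ht, hr, ha, hs, hrrr, haa, hss, hsr, hsa⟩

section ident

variable {t : A3 → X} {V T : Subgroup X} {b c s : X}

theorem closure_V (ht : Cht t V) {K : Subgroup X} (h1 : t (1, 0, 0) ∈ K) (h2 : t (0, 1, 0) ∈ K)
    (h3 : t (0, 0, 1) ∈ K) : V ≤ K := by
  intro v hv
  obtain ⟨⟨x, y, z⟩, rfl⟩ := (ht.mem v).mp hv
  have e : ((x, y, z) : A3) = (x, 0, 0) + (0, y, 0) + (0, 0, z) := by simp
  rw [e, ht.add, ht.add]
  refine K.mul_mem (K.mul_mem ?_ ?_) ?_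
  · rcases z2 x with rfl | rfl
    · have h4 := ht.zero
      rw [show (0 : A3) = (0, 0, 0) from rfl] at h4
      rw [h4]; exact K.one_mem
    · exact h1
  · rcases z2 y with rfl | rfl
    · have h4 := ht.zero
      rw [show (0 : A3) = (0, 0, 0) from rfl] at h4
      rw [h4]; exact K.one_mem
    · exact h2
  · rcases z2 z with rfl | rfl
    · have h4 := ht.zero
      rw [show (0 : A3) = (0, 0, 0) from rfl] at h4
      rw [h4]; exact K.one_mem
    · exact h3

theorem isType_W24_of (ht : Cht t V) (hb : Act t b Fb) (hc : Act t c Fc) (hs : Act t s Fs)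
    (hbb : b * b = 1) (hcc : c * c = 1) (hss : s * s = 1) (hcb : c * b = b * c)
    (hsb : s * b = c * s) (hsc : s * c = b * s) (hT : Nat.card T = 64) (hVT : V ≤ T) (hbT : b ∈ T)
    (hcT : c ∈ T) (hsT : s ∈ T)
    (hcov : ∀ g ∈ T, ∃ k ∈ _root_.Subgroup.closure ({s, b, c} ∪ (V : Set X)), k⁻¹ * g ∈ V) : IsType W24 T := by
  have cj : ∀ {g : X} {F : A3 → A3}, Act t g F → ∀ u, g * t u = t (F u) * g := fun hg u => by
    rw [← hg]; group
  have cj' : ∀ {g : X} {F : A3 → A3}, Act t g F → ∀ u x, g * (t u * x) = t (F u) * (g * x) :=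
    fun hg u x => by rw [← hg]; group
  have tt : ∀ u v, t u * t v = t (u + v) := fun u v => (ht.add u v).symm
  have tt' : ∀ u v x, t u * (t v * x) = t (u + v) * x := fun u v x => by rw [ht.add, mul_assoc]
  have hbb' : ∀ x, b * (b * x) = x := fun x => by rw [← mul_assoc, hbb, one_mul]
  have hcc' : ∀ x, c * (c * x) = x := fun x => by rw [← mul_assoc, hcc, one_mul]
  have hss' : ∀ x, s * (s * x) = x := fun x => by rw [← mul_assoc, hss, one_mul]
  have hcb' : ∀ x, c * (b * x) = b * (c * x) := fun x => by rw [← mul_assoc, hcb, mul_assoc]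
  have hsb' : ∀ x, s * (b * x) = c * (s * x) := fun x => by rw [← mul_assoc, hsb, mul_assoc]
  have hsc' : ∀ x, s * (c * x) = b * (s * x) := fun x => by rw [← mul_assoc, hsc, mul_assoc]
  have z1 : ∀ u, u = 0 → t u = 1 := fun u hu => by rw [hu, ht.zero]
  have z3 : ∀ u x, u = 0 → t u * x = x := fun u x hu => by rw [hu, ht.zero, one_mul]
  have hsat : Sat W24 ![t (1, 0, 0), s, b, t (0, 0, 1) * b, c, t (0, 1, 1) * c] := by
    refine sat_W24 ?_ ?_ ?_ ?_ ?_ ?_ ?_ ?_ ?_ ?_ ?_ ?_ ?_ ?_ ?_ ?_ ?_ ?_ ?_ ?_ ?_ <;>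
      (simp only [mul_assoc, mul_one, one_mul, cj hb, cj' hb, cj hc, cj' hc, cj hs, cj' hs, tt, tt',
        hbb, hbb', hcc, hcc', hss, hss', hcb, hcb', hsb, hsb', hsc, hsc']
       first
        | done
        | exact z1 _ (by decide)
        | exact z3 _ _ (by decide)
        | exact (z3 _ _ (by decide)).symm
        | (refine congrArg₂ (· * ·) (congrArg t ?_) rfl; decide)
        | exact congrArg t (by decide))
  have hmem : ∀ i, (![t (1, 0, 0), s, b, t (0, 0, 1) * b, c, t (0, 1, 1) * c] : Fin 6 → X) i ∈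
      _root_.Subgroup.closure (Set.range ![t (1, 0, 0), s, b, t (0, 0, 1) * b, c, t (0, 1, 1) * c]) :=
    fun i => subset_closure ⟨i, rfl⟩
  refine isType_of_closure hsat T ?_ (by rw [hT]; norm_num)
  set K := _root_.Subgroup.closure (Set.range ![t (1, 0, 0), s, b, t (0, 0, 1) * b, c, t (0, 1, 1) * c]) with hK
  have k0 : t (1, 0, 0) ∈ K := hmem 0
  have k1 : s ∈ K := hmem 1
  have k2 : b ∈ K := hmem 2
  have k3 : t (0, 0, 1) * b ∈ K := hmem 3
  have k4 : c ∈ K := hmem 4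
  have k5 : t (0, 1, 1) * c ∈ K := hmem 5
  have k3' : t (0, 0, 1) ∈ K := by simpa using K.mul_mem k3 (K.inv_mem k2)
  have k5' : t (0, 1, 1) ∈ K := by simpa using K.mul_mem k5 (K.inv_mem k4)
  have k6 : t (0, 1, 0) ∈ K := by
    have h1 := K.mul_mem k3' k5'
    rw [tt] at h1
    exact h1
  have hVK : V ≤ K := closure_V ht k0 k6 k3'
  have mT : ∀ u, t u ∈ T := fun u => hVT ((ht.mem _).mpr ⟨u, rfl⟩)
  apply closure_eq_of_cover (V := V) _ hVK
  · intro g hg
    obtain ⟨k, hk, h1⟩ := hcov g hg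
    refine ⟨k, ?_, h1⟩
    have h2 : closure ({s, b, c} ∪ (V : Set X)) ≤ K := by
      rw [closure_le]
      rintro y ((rfl | rfl | rfl) | hy)
      · exact k1
      · exact k2
      · exact k4
      · exact hVK hy
    exact h2 hk
  · intro i
    fin_cases i
    · exact mT _
    · exact hsT
    · exact hbT
    · exact T.mul_mem (mT _) hbT
    · exact hcT
    · exact T.mul_mem (mT _) hcT

theorem sat_G23 {r s p q P Q : X} (hr : r * r = 1) (hs : s * s = 1) (hp : p * p = P) (hq : q * q = Q)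
    (hP : P * P = 1) (hQ : Q * Q = 1) (h1 : r * s = s * r) (h2 : r * p = q * r) (h3 : r * q = p * r)
    (h4 : r * P = Q * r) (h5 : r * Q = P * r) (h6 : s * p = p * P * s) (h7 : s * q = q * Q * s)
    (h8 : s * P = P * s) (h9 : s * Q = Q * s) (h10 : p * q = q * p) (h11 : p * P = P * p)
    (h12 : p * Q = Q * p) (h13 : q * P = P * q) (h14 : q * Q = Q * q) (h15 : P * Q = Q * P) :
    Sat G23 ![r, s, p, q, P, Q] where
  sq i := by fin_cases i <;> (simp only [G23, _root_.Fin.zero_eta, _root_.Fin.isValue, _root_.Matrix.cons_val_zero, _root_.Fin.coe_ofNat_eq_mod, _root_.Nat.zero_mod, _root_.Cfsg.Agent.GH.Pc.word_nil, _root_.Fin.mk_one, _root_.Matrix.cons_val_one, _root_.Nat.one_mod, _root_.Fin.reduceFinMk, _root_.Matrix.cons_val, _root_.Nat.reduceMod, _root_.Cfsg.Agent.GH.Pc.word_cons, _root_.mul_one, _root_.Nat.mod_succ]; assumption)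
  cj i j hij := by
    fin_cases i <;> fin_cases j <;> first
      | (exfalso; revert hij; decide)
      | (simp only [G23, cjOf, ← mul_assoc, _root_.Fin.zero_eta, _root_.Fin.isValue, _root_.Matrix.cons_val_zero, _root_.Fin.mk_one, _root_.Matrix.cons_val_one, _root_.Fin.coe_ofNat_eq_mod, _root_.Nat.zero_mod, _root_.Nat.one_mod, _root_.Option.getD_none, _root_.Cfsg.Agent.GH.Pc.word_cons, _root_.Cfsg.Agent.GH.Pc.word_nil, _root_.mul_one, _root_.Fin.reduceFinMk, _root_.Matrix.cons_val, _root_.Nat.reduceMod, _root_.Option.getD_some, _root_.Nat.mod_succ]; assumption)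

theorem isType_G23_of (ht : Cht t V) (hb : Act t b Fb) (hc : Act t c Fc) (hs : Act t s Fs)
    (hbb : b * b = 1) (hcc : c * c = 1) (hss : s * s = 1) (hcb : c * b = t (0, 1, 0) * (b * c))
    (hsb : s * b = c * s) (hsc : s * c = b * s) (hT : Nat.card T = 64) (hVT : V ≤ T) (hbT : b ∈ T)
    (hcT : c ∈ T) (hsT : s ∈ T)
    (hcov : ∀ g ∈ T, ∃ k ∈ _root_.Subgroup.closure ({s, b, c} ∪ (V : Set X)), k⁻¹ * g ∈ V) : IsType G23 T := by
  have cj : ∀ {g : X} {F : A3 → A3}, Act t g F → ∀ u, g * t u = t (F u) * g := fun hg u => by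
    rw [← hg]; group
  have cj' : ∀ {g : X} {F : A3 → A3}, Act t g F → ∀ u x, g * (t u * x) = t (F u) * (g * x) :=
    fun hg u x => by rw [← hg]; group
  have tt : ∀ u v, t u * t v = t (u + v) := fun u v => (ht.add u v).symm
  have tt' : ∀ u v x, t u * (t v * x) = t (u + v) * x := fun u v x => by rw [ht.add, mul_assoc]
  have hbb' : ∀ x, b * (b * x) = x := fun x => by rw [← mul_assoc, hbb, one_mul]
  have hcc' : ∀ x, c * (c * x) = x := fun x => by rw [← mul_assoc, hcc, one_mul]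
  have hss' : ∀ x, s * (s * x) = x := fun x => by rw [← mul_assoc, hss, one_mul]
  have hcb' : ∀ x, c * (b * x) = t (0, 1, 0) * (b * (c * x)) := fun x => by
    rw [← mul_assoc, hcb, mul_assoc, mul_assoc]
  have hsb' : ∀ x, s * (b * x) = c * (s * x) := fun x => by rw [← mul_assoc, hsb, mul_assoc]
  have hsc' : ∀ x, s * (c * x) = b * (s * x) := fun x => by rw [← mul_assoc, hsc, mul_assoc]
  have z1 : ∀ u, u = 0 → t u = 1 := fun u hu => by rw [hu, ht.zero]
  have z3 : ∀ u x, u = 0 → t u * x = x := fun u x hu => by rw [hu, ht.zero, one_mul]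
  have hsat : Sat G23 ![s, t (1, 0, 0), t (1, 0, 0) * c, t (1, 0, 0) * b, t (0, 1, 1), t (0, 0, 1)] := by
    refine sat_G23 ?_ ?_ ?_ ?_ ?_ ?_ ?_ ?_ ?_ ?_ ?_ ?_ ?_ ?_ ?_ ?_ ?_ ?_ ?_ ?_ ?_ <;>
      (simp only [mul_assoc, mul_one, one_mul, cj hb, cj' hb, cj hc, cj' hc, cj hs, cj' hs, tt, tt',
        hbb, hbb', hcc, hcc', hss, hss', hcb, hcb', hsb, hsb', hsc, hsc']
       first
        | done
        | exact z1 _ (by decide)
        | exact z3 _ _ (by decide)
        | exact (z3 _ _ (by decide)).symm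
        | (refine congrArg₂ (· * ·) (congrArg t ?_) rfl; decide)
        | exact congrArg t (by decide))
  have hmem : ∀ i, (![s, t (1, 0, 0), t (1, 0, 0) * c, t (1, 0, 0) * b, t (0, 1, 1), t (0, 0, 1)] :
      Fin 6 → X) i ∈
      _root_.Subgroup.closure (Set.range ![s, t (1, 0, 0), t (1, 0, 0) * c, t (1, 0, 0) * b, t (0, 1, 1), t (0, 0, 1)]) :=
    fun i => subset_closure ⟨i, rfl⟩
  refine isType_of_closure hsat T ?_ (by rw [hT]; norm_num)
  set K := _root_.Subgroup.closure (Set.range ![s, t (1, 0, 0), t (1, 0, 0) * c, t (1, 0, 0) * b, t (0, 1, 1),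
    t (0, 0, 1)]) with hK
  have k0 : s ∈ K := hmem 0
  have k1 : t (1, 0, 0) ∈ K := hmem 1
  have k2 : t (1, 0, 0) * c ∈ K := hmem 2
  have k3 : t (1, 0, 0) * b ∈ K := hmem 3
  have k4 : t (0, 1, 1) ∈ K := hmem 4
  have k5 : t (0, 0, 1) ∈ K := hmem 5
  have k2' : c ∈ K := by simpa using K.mul_mem (K.inv_mem k1) k2
  have k3' : b ∈ K := by simpa using K.mul_mem (K.inv_mem k1) k3
  have k6 : t (0, 1, 0) ∈ K := by
    have h1 := K.mul_mem k4 k5
    rw [tt] at h1
    exact h1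
  have hVK : V ≤ K := closure_V ht k1 k6 k5
  have mT : ∀ u, t u ∈ T := fun u => hVT ((ht.mem _).mpr ⟨u, rfl⟩)
  apply closure_eq_of_cover (V := V) _ hVK
  · intro g hg
    obtain ⟨k, hk, h1⟩ := hcov g hg
    refine ⟨k, ?_, h1⟩
    have h2 : closure ({s, b, c} ∪ (V : Set X)) ≤ K := by
      rw [closure_le]
      rintro y ((rfl | rfl | rfl) | hy)
      · exact k0
      · exact k3'
      · exact k2'
      · exact hVK hy
    exact h2 hk
  · intro i
    fin_cases i
    · exact hsT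
    · exact mT _
    · exact T.mul_mem (mT _) hcT
    · exact T.mul_mem (mT _) hbT
    · exact mT _
    · exact mT _

end ident

/-- **Case (3)**: the Sylow 2-subgroup has type `W24` or `G23`. -/
theorem Mod3.isType [Finite X] {V : Subgroup X} (h : Mod3 V) (T : Sylow 2 X) :
    IsType W24 T ∨ IsType G23 T := by
  obtain ⟨t, r, a, s, ht, hS⟩ := h.exists_std
  have hc : ∀ g, Act t g (fun u => u) → g ∈ V := fun g hg => h.cent g fun v hv => by
    obtain ⟨u, rfl⟩ := (ht.mem v).mp hv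
    exact hg u
  have hri : Act t r⁻¹ (fun u => Fr (Fr u)) := hS.r1.inv (by decide)
  have hb : Act t (r * a * r⁻¹) Fb := ((hS.r1.mul hS.a1).mul hri).congr (by decide)
  have hcA : Act t (r * (r * a * r⁻¹) * r⁻¹) Fc := ((hS.r1.mul hb).mul hri).congr (by decide)
  obtain ⟨⟨T₁, t1, t2, t3, t4, t5, t6⟩, -⟩ := exists_T1_act (MonoidHom.id X) ht.toCh h.el.normal
    (fun g => ⟨hc g, fun hg => act_V ht hg⟩) good hS.r1 hS.a1 hS.s1
  have hidx := index_of_card h.index t1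
  have hodd : ¬ 2 ∣ T₁.index := by rw [hidx]; norm_num
  obtain ⟨u, hu, hu1, hu2⟩ := hS.exists_w ht hc char2 (by decide)
  have hsb := hS.sb
  have hsc := hS.sc
  have hbb := hS.bb
  have hcc : (r * (r * a * r⁻¹) * r⁻¹) * (r * (r * a * r⁻¹) * r⁻¹) = 1 := by
    have h6 : (r * (r * a * r⁻¹) * r⁻¹) * (r * (r * a * r⁻¹) * r⁻¹) =
      r * ((r * a * r⁻¹) * (r * a * r⁻¹)) * r⁻¹ := by group
    rw [h6, hbb]; group
  have hss := hS.ss
  have haa := hS.aa
  generalize r * a * r⁻¹ = b at *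
  generalize r * b * r⁻¹ = c at *
  have hsb' : s * b = c * s := by rw [← hsb]; group
  have hsc' : s * c = b * s := by rw [← hsc]; group
  have hai : a⁻¹ = a := inv_eq_of_mul_eq_one_left haa
  have hbi : b⁻¹ = b := inv_eq_of_mul_eq_one_left hbb
  have hci : c⁻¹ = c := inv_eq_of_mul_eq_one_left hcc
  -- `b c = a w`, `a = w c b`
  have e1 : b * c = a * t u := by rw [← hu, ← mul_assoc, ← mul_assoc, haa, one_mul]
  have e2 : a = t u * (c * b) := by
    rw [← hu]
    have h7 : a * b * c * (c * b) = a * b * (c * c) * b := by group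
    rw [h7, hcc, mul_one, mul_assoc, hbb, mul_one]
  have hcT : c ∈ T₁ := by
    rw [← hsb]
    exact T₁.mul_mem (T₁.mul_mem t5 t4) (T₁.inv_mem t5)
  have hcov : ∀ g ∈ T₁, ∃ k ∈ _root_.Subgroup.closure ({s, b, c} ∪ (V : Set X)), k⁻¹ * g ∈ V := by
    intro g hg
    obtain ⟨α, β, γ, h1⟩ := t6 g hg
    refine ⟨_, ?_, h1⟩
    have k1 : s ∈ closure ({s, b, c} ∪ (V : Set X)) := _root_.Subgroup.subset_closure (by simp)
    have k2 : b ∈ _root_.Subgroup.closure ({s, b, c} ∪ (V : Set X)) := _root_.Subgroup.subset_closure (by simp)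
    have k3 : c ∈ closure ({s, b, c} ∪ (V : Set X)) := _root_.Subgroup.subset_closure (by simp)
    have k4 : a ∈ closure ({s, b, c} ∪ (V : Set X)) := by
      rw [e2]
      exact mul_mem (_root_.Subgroup.subset_closure (Or.inr ((ht.mem _).mpr ⟨u, rfl⟩))) (mul_mem k3 k2)
    have hp : ∀ {y : X}, y ∈ closure ({s, b, c} ∪ (V : Set X)) → ∀ x : ZMod 2,
        pw y x ∈ closure ({s, b, c} ∪ (V : Set X)) := by
      intro y hy x
      rcases z2 x with rfl | rfl
      · rw [pw_zero]; exact one_mem _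
      · rw [pw_one]; exact hy
    exact mul_mem (mul_mem (hp k1 _) (hp k2 _)) (hp k4 _)
  have h64 : Nat.card T₁ = 64 := by rw [t1, h.card]
  have key : ∀ u, Fr u = Fa u → Fs u = Fa u → u = 0 ∨ u = (1, 0, 1) := by decide
  rcases key u hu1 hu2 with rfl | rfl
  · left
    have hcb : c * b = b * c := by rw [e1, e2, ht.zero]; group
    exact isType_sylow (isType_W24_of ht hb hcA hS.s1 hbb hcc hss hcb hsb' hsc' h64 t2 t4 hcT t5 hcov)
      hodd T
  · right
    have hcb : c * b = t (0, 1, 0) * (b * c) := by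
      have h1 : a * t (1, 0, 1) = t (1, 1, 1) * a := by
        have h2 := hS.a1 (1, 0, 1)
        have h3 : Fa (1, 0, 1) = (1, 1, 1) := by decide
        rw [h3] at h2
        rw [← h2]; group
      have h2 : b * c = t (1, 1, 1) * t (1, 0, 1) * (c * b) := by
        rw [mul_assoc, ← e2, e1, h1]
      rw [h2, ← ht.add, ← mul_assoc, ← ht.add]
      have h3 : ((0, 1, 0) : A3) + ((1, 1, 1) + (1, 0, 1)) = 0 := by decide
      rw [h3, ht.zero, one_mul]
    exact isType_sylow (isType_G23_of ht hb hcA hS.s1 hbb hcc hss hcb hsb' hsc' h64 t2 t4 hcT t5 hcov)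
      hodd T

end Cfsg.Agent.GH.C2L3
end

-- part: GH/C2L3Coh
section
/-!
# GH-C2, `X / V = L₃(2)`, `|V| = 16`: actions in coordinates, the two cohomology computations
-/

set_option autoImplicit false

namespace Cfsg.Agent.GH.C2L3

open Subgroup Cfsg.Agent.GH.Pc Cfsg.Agent.GH.PcTypes Cfsg.Agent.GH.C2Syl

def sm (x : ZMod 2) (m : A3) : A3 := (x * m.1, x * m.2.1, x * m.2.2)

/-- `v ↦ v m` -/
def E (m : A3) (F : A3 → A3) (u : A4) : A4 := (u.1, sm u.1 m + F u.2)

set_option synthInstance.maxHeartbeats 2000000 in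
set_option synthInstance.maxSize 4096 in
/-- the standard action in case (3/1) -/
theorem coh31 : ∀ mr : A3, E mr Three.Fr (E mr Three.Fr (E mr Three.Fr (1, 0))) = (1, 0) →
    ∀ ma : A3, E ma Three.Fa (E ma Three.Fa (1, 0)) = (1, 0) →
    E ma Three.Fa (E mr Three.Fr (E ma Three.Fa (E mr Three.Fr (E ma Three.Fa
      (E mr Three.Fr (1, 0)))))) = (1, 0) →
    ∀ ms : A3, E ms Three.Fs (E ms Three.Fs (1, 0)) = (1, 0) →
    E ms Three.Fs (E mr Three.Fr (E ms Three.Fs (E mr Three.Fr (1, 0)))) = (1, 0) →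
    E ms Three.Fs (E ma Three.Fa (1, 0)) = E ma Three.Fa (E ms Three.Fs (1, 0)) →
    ∃ n : A3, E mr Three.Fr (1, n) = (1, n) ∧
      ((E ma Three.Fa (1, n) = (1, n) ∧ E ms Three.Fs (1, n) = (1, n)) ∨
       (E ma Three.Fa (1, n) = (1, n + (0, 0, 1)) ∧ E ms Three.Fs (1, n) = (1, n + (1, 0, 0)))) := by
  decide +kernel

/-- the projection -/
def pr (u : A4) : A3 := (u.1, u.2.1, u.2.2.1)

def dt (l u : A3) : ZMod 2 := l.1 * u.1 + (l.2.1 * u.2.1 + l.2.2 * u.2.2)

/-- `F` on the quotient -/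
def D (l : A3) (F : A3 → A3) (u : A4) : A4 :=
  ((F (pr u)).1, (F (pr u)).2.1, (F (pr u)).2.2, u.2.2.2 + dt l (pr u))

/-- change of the chart -/
def M (μ : A3) (u : A4) : A4 := (u.1, u.2.1, u.2.2.1, u.2.2.2 + dt μ (pr u))

namespace One

def Fa (u : A3) : A3 := (u.1 + u.2.2, u.2.1, u.2.2)

theorem good : Good Three.Fr Fa Three.Fs where
  r3 := by decide
  a2 := by decide
  s2 := by decide
  ba := by decide
  sa := by decide
  sb := by decide
  free := by decide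

end One

set_option synthInstance.maxHeartbeats 2000000 in
set_option synthInstance.maxSize 4096 in
/-- the standard action in case (1 \ 3) -/
theorem coh13 : ∀ lr : A3, (∀ u, D lr Three.Fr (D lr Three.Fr (D lr Three.Fr u)) = u) →
    ∀ la : A3, (∀ u, D la One.Fa (D la One.Fa u) = u) →
    (∀ u, D la One.Fa (D lr Three.Fr (D la One.Fa (D lr Three.Fr (D la One.Fa
      (D lr Three.Fr u))))) = u) →
    ∀ ls : A3, (∀ u, D ls Three.Fs (D ls Three.Fs u) = u) →
    (∀ u, D ls Three.Fs (D lr Three.Fr (D ls Three.Fs (D lr Three.Fr u))) = u) →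
    (∀ u, D ls Three.Fs (D la One.Fa u) = D la One.Fa (D ls Three.Fs u)) →
    ∃ μ : A3, (∀ u, D lr Three.Fr (M μ u) = M μ (D 0 Three.Fr u)) ∧
      ((∀ u, D la One.Fa (M μ u) = M μ (D 0 One.Fa u)) ∧
          (∀ u, D ls Three.Fs (M μ u) = M μ (D 0 Three.Fs u)) ∨
       (∀ u, D la One.Fa (M μ u) = M μ (D (0, 1, 0) One.Fa u)) ∧
          (∀ u, D ls Three.Fs (M μ u) = M μ (D (1, 0, 0) Three.Fs u))) := by
  (set_option synthInstance.maxSize 100000 in exact Cfsg.Agent.Lib.Refl.of (by decide +kernel))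

end Cfsg.Agent.GH.C2L3
end

-- part: GH/C2GrowL3V
section
/-!
# GH-C2, growth, `M/V = L₃(2)`: the action of `M = N_G(V)` on `V`
-/

set_option autoImplicit false

namespace Cfsg.Agent.GH.C2GrowL3V

open Subgroup Cfsg.Agent.GH.C2GrowL3Base

variable {G : Type*} [Group G]

theorem conj_mul' (g x y : G) : g * (x * y) * g⁻¹ = (g * x * g⁻¹) * (g * y * g⁻¹) := by group

theorem conj_conj (g k x : G) : (g * k) * x * (g * k)⁻¹ = g * (k * x * k⁻¹) * g⁻¹ := by group

theorem conj_eq_iff (g x y : G) : g * x * g⁻¹ = y ↔ g * x = y * g := by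
  constructor
  · intro h; rw [← h]; group
  · intro h; rw [h]; group

theorem conj_inj {g x y : G} (h : g * x * g⁻¹ = g * y * g⁻¹) : x = y :=
  mul_left_cancel (mul_right_cancel h)

theorem inv_of_sq {a : G} (h : a * a = 1) : a⁻¹ = a := inv_eq_of_mul_eq_one_left h

theorem comm_of_sq {V : Subgroup G} (hV : ∀ v ∈ V, v * v = 1) {a b : G} (ha : a ∈ V) (hb : b ∈ V) :
    a * b = b * a := by
  have h1 : (a * b) * (a * b) = 1 := hV _ (V.mul_mem ha hb)
  have h2 : a * b = (a * b)⁻¹ := eq_inv_of_mul_eq_one_left h1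
  rw [mul_inv_rev, inv_of_sq (hV a ha), inv_of_sq (hV b hb)] at h2
  exact h2

theorem mem_zpowers_two {z g : G} (hz : z * z = 1) : g ∈ zpowers z ↔ g = 1 ∨ g = z := by
  constructor
  · rintro ⟨n, rfl⟩
    rcases Int.even_or_odd' n with ⟨k, rfl | rfl⟩
    · left
      show z ^ (2 * k) = 1
      rw [zpow_mul]
      have : z ^ (2 : ℤ) = 1 := by
        rw [show (2 : ℤ) = ((2 : ℕ) : ℤ) from rfl, zpow_natCast, pow_two, hz]
      rw [this, one_zpow]
    · right
      show z ^ (2 * k + 1) = z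
      rw [zpow_add, zpow_mul]
      have : z ^ (2 : ℤ) = 1 := by
        rw [show (2 : ℤ) = ((2 : ℕ) : ℤ) from rfl, zpow_natCast, pow_two, hz]
      rw [this, one_zpow, one_mul, zpow_one]
  · rintro (rfl | rfl)
    · exact one_mem _
    · exact mem_zpowers _

theorem card_zpowers_two {z : G} (hz : z * z = 1) (hz1 : z ≠ 1) : Nat.card (zpowers z) = 2 := by
  rw [Nat.card_zpowers]
  have : Fact (Nat.Prime 2) := ⟨Nat.prime_two⟩
  exact orderOf_eq_prime (by rw [pow_two]; exact hz) hz1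

/-- The four-group `⟨a, b⟩`. -/
def kl (V : Subgroup G) (hV : ∀ v ∈ V, v * v = 1) (a b : G) (ha : a ∈ V) (hb : b ∈ V) : Subgroup G where
  carrier := {g | g = 1 ∨ g = a ∨ g = b ∨ g = a * b}
  one_mem' := Or.inl rfl
  mul_mem' := by
    have haa := hV a ha
    have hbb := hV b hb
    have hab := comm_of_sq hV ha hb
    have h1 : a * (a * b) = b := by rw [← mul_assoc, haa, one_mul]
    have h2 : b * (a * b) = a := by rw [hab, ← mul_assoc, hbb, one_mul]
    have h3 : a * b * a = b := by rw [hab, mul_assoc, haa, mul_one]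
    have h4 : a * b * b = a := by rw [mul_assoc, hbb, mul_one]
    have h5 : a * b * (a * b) = 1 := hV _ (V.mul_mem ha hb)
    rintro g h (rfl | rfl | rfl | rfl) (rfl | rfl | rfl | rfl) <;>
      simp only [Set.mem_ofPred_eq, one_mul, mul_one, haa, hbb, h1, h2, h3, h4, h5, hab.symm, true_or, or_true]
  inv_mem' := by
    rintro g (rfl | rfl | rfl | rfl)
    · left; exact inv_one
    · right; left; exact inv_of_sq (hV _ ha)
    · right; right; left; exact inv_of_sq (hV _ hb)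
    · right; right; right; exact inv_of_sq (hV _ (V.mul_mem ha hb))

theorem mem_kl {V : Subgroup G} {hV : ∀ v ∈ V, v * v = 1} {a b : G} {ha : a ∈ V} {hb : b ∈ V} {g : G} :
    g ∈ kl V hV a b ha hb ↔ g = 1 ∨ g = a ∨ g = b ∨ g = a * b := Iff.rfl

theorem kl_le {V : Subgroup G} {hV : ∀ v ∈ V, v * v = 1} {a b : G} {ha : a ∈ V} {hb : b ∈ V}
    {K : Subgroup G} (haK : a ∈ K) (hbK : b ∈ K) : kl V hV a b ha hb ≤ K := by
  rintro g (rfl | rfl | rfl | rfl)
  · exact K.one_mem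
  · exact haK
  · exact hbK
  · exact K.mul_mem haK hbK

theorem card_kl [Finite G] {V : Subgroup G} {hV : ∀ v ∈ V, v * v = 1} {a b : G} {ha : a ∈ V} {hb : b ∈ V}
    (ha1 : a ≠ 1) (hb1 : b ≠ 1) (hab : b ≠ a) : Nat.card (kl V hV a b ha hb) = 4 := by
  have h1 : Nat.card (zpowers a) = 2 := card_zpowers_two (hV a ha) ha1
  have hle : zpowers a ≤ kl V hV a b ha hb := by
    rw [zpowers_le]
    exact Or.inr (Or.inl rfl)
  have hbz : b ∉ zpowers a := by
    rw [mem_zpowers_two (hV a ha)]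
    rintro (h | h)
    · exact hb1 h
    · exact hab h
  rw [card_eq_two_mul hle (a := b) (Or.inr (Or.inr (Or.inl rfl))) hbz ?_, h1]
  intro c hc hcz
  rw [mem_zpowers_two (hV a ha)] at hcz ⊢
  push Not at hcz
  rcases hc with h | h | h | h
  · exact absurd h hcz.1
  · exact absurd h hcz.2
  · left; rw [h]; group
  · right
    rw [h, inv_of_sq (hV b hb), comm_of_sq hV ha hb, ← mul_assoc, hV b hb, one_mul]

/-- The hypothesis `M/V = GL₃(2)`. -/
structure Hyp3 (V : Subgroup G) : Prop where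
  card : Nat.card V = 8
  sq : ∀ v ∈ V, v * v = 1
  cent : ∀ g : G, (∀ v ∈ V, g * v = v * g) → g ∈ V
  cardN : Nat.card (normalizer (V : Set G)) = 1344

/-- a basis of `V` -/
structure Bas (V : Subgroup G) (z y x : G) : Prop where
  hz : z ∈ V
  hy : y ∈ V
  hx : x ∈ V
  z1 : z ≠ 1
  y1 : y ≠ 1
  yz : y ≠ z
  x1 : x ≠ 1
  xz : x ≠ z
  xy : x ≠ y
  xzy : x ≠ z * y

theorem mem_norm {V : Subgroup G} {g v : G} (hg : g ∈ normalizer (V : Set G)) (hv : v ∈ V) :
    g * v * g⁻¹ ∈ V := (mem_normalizer_iff.1 hg v).1 hv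

section

variable {V : Subgroup G}

theorem Hyp3.comm (h : Hyp3 V) {a b : G} (ha : a ∈ V) (hb : b ∈ V) : a * b = b * a :=
  comm_of_sq h.sq ha hb

theorem Hyp3.kl_card [Finite G] (h : Hyp3 V) {z y x : G} (b : Bas V z y x) :
    Nat.card V = 2 * Nat.card (kl V h.sq z y b.hz b.hy) := by
  rw [card_kl b.z1 b.y1 b.yz, h.card]

theorem Hyp3.x_not (h : Hyp3 V) {z y x : G} (b : Bas V z y x) : x ∉ kl V h.sq z y b.hz b.hy := by
  rintro (h1 | h1 | h1 | h1)
  · exact b.x1 h1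
  · exact b.xz h1
  · exact b.xy h1
  · exact b.xzy h1

/-- the elements of `V` -/
theorem Hyp3.mem [Finite G] (h : Hyp3 V) {z y x v : G} (b : Bas V z y x) (hv : v ∈ V) :
    v = 1 ∨ v = z ∨ v = y ∨ v = z * y ∨ v = x ∨ v = z * x ∨ v = y * x ∨ v = z * y * x := by
  by_cases hk : v ∈ kl V h.sq z y b.hz b.hy
  · rcases hk with h1 | h1 | h1 | h1 <;> simp only [h1, _root_.true_or, _root_.left_eq_mul, _root_.or_true, _root_.right_eq_mul, _root_.mul_eq_left, _root_.mul_eq_right, _root_.mul_right_inj]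
  · have h1 := inv_mul_mem_of_card (kl_le b.hz b.hy) (h.kl_card b) b.hx hv (h.x_not b) hk
    have h2 : v = x⁻¹ * v * x := by
      rw [inv_of_sq (h.sq x b.hx), h.comm b.hx hv, mul_assoc, h.sq x b.hx, mul_one]
    rcases h1 with h3 | h3 | h3 | h3 <;> rw [h3] at h2 <;> rw [h2] <;> simp only [_root_.one_mul, _root_.right_eq_mul, _root_.true_or, _root_.or_true, _root_.mul_eq_left, _root_.mul_right_inj, _root_.mul_eq_right, _root_.mul_left_inj, _root_.left_eq_mul]

/-- two elements of `N(V)` acting in the same way on a basis act in the same way on `V` -/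
theorem Hyp3.conj_ext [Finite G] (h : Hyp3 V) {z y x g k : G} (b : Bas V z y x)
    (hz : g * z * g⁻¹ = k * z * k⁻¹) (hy : g * y * g⁻¹ = k * y * k⁻¹)
    (hx : g * x * g⁻¹ = k * x * k⁻¹) : ∀ v ∈ V, g * v * g⁻¹ = k * v * k⁻¹ := by
  intro v hv
  rcases h.mem b hv with h1 | h1 | h1 | h1 | h1 | h1 | h1 | h1 <;> subst h1
  · group
  · exact hz
  · exact hy
  · rw [conj_mul', hz, hy, ← conj_mul']
  · exact hx
  · rw [conj_mul', hz, hx, ← conj_mul']
  · rw [conj_mul', hy, hx, ← conj_mul']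
  · rw [conj_mul', conj_mul' g z y, hz, hy, hx, ← conj_mul', ← conj_mul']

theorem Hyp3.mem_of_conj [Finite G] (h : Hyp3 V) {z y x g : G} (b : Bas V z y x)
    (hz : g * z * g⁻¹ = z) (hy : g * y * g⁻¹ = y) (hx : g * x * g⁻¹ = x) : g ∈ V := by
  refine h.cent g fun v hv => ?_
  have h1 := h.conj_ext (k := 1) b (by rw [hz]; group) (by rw [hy]; group) (by rw [hx]; group) v hv
  rw [conj_eq_iff] at h1
  rw [h1]; group

theorem orb_facts [Finite G] {H K : Subgroup G} {y : G} (hKV : K ≤ V)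
    (h : ∀ g ∈ H, g * y * g⁻¹ ∈ V ∧ g * y * g⁻¹ ∉ K) :
    Nat.card {w : G // ∃ g ∈ H, g * y * g⁻¹ = w} + Nat.card K ≤ Nat.card V ∧
      (Nat.card V ≤ Nat.card {w : G // ∃ g ∈ H, g * y * g⁻¹ = w} + Nat.card K →
        ∀ w ∈ V, w ∉ K → ∃ g ∈ H, g * y * g⁻¹ = w) := by
  set O : Set G := {w | ∃ g ∈ H, g * y * g⁻¹ = w} with hO
  have h1 : Nat.card {w : G // ∃ g ∈ H, g * y * g⁻¹ = w} = O.ncard := rfl
  have h2 : Nat.card K = (K : Set G).ncard := rfl
  have h3 : Nat.card V = (V : Set G).ncard := rfl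
  have hsub : O ⊆ (V : Set G) \ K := by
    rintro w ⟨g, hg, rfl⟩
    exact h g hg
  have h4 : ((V : Set G) \ K).ncard = (V : Set G).ncard - (K : Set G).ncard :=
    Set.ncard_sdiff hKV (Set.toFinite _)
  have h5 : (K : Set G).ncard ≤ (V : Set G).ncard := Set.ncard_le_ncard hKV (Set.toFinite _)
  have h6 := Set.ncard_le_ncard hsub (Set.toFinite _)
  rw [h1, h2, h3]
  refine ⟨by omega, fun h7 => ?_⟩
  have h8 := Set.eq_of_subset_of_ncard_le hsub (by omega) (Set.toFinite _)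
  intro w hw hwK
  have h9 : w ∈ O := by rw [h8]; exact ⟨hw, hwK⟩
  exact h9

theorem Hyp3.facts [Finite G] (h : Hyp3 V) {z y x : G} (b : Bas V z y x) :
    (∀ w ∈ V, w ≠ 1 → ∃ g ∈ normalizer (V : Set G), g * z * g⁻¹ = w) ∧
    (∀ w ∈ V, w ≠ 1 → w ≠ z → ∃ g ∈ normalizer (V : Set G), g * z * g⁻¹ = z ∧ g * y * g⁻¹ = w) ∧
    (∀ w ∈ V, w ≠ 1 → w ≠ z → w ≠ y → w ≠ z * y →
      ∃ g ∈ normalizer (V : Set G), g * z * g⁻¹ = z ∧ g * y * g⁻¹ = y ∧ g * x * g⁻¹ = w) ∧
    Nat.card (normalizer (V : Set G) ⊓ centralizer ({z} : Set G) ⊓ centralizer ({y} : Set G) :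
      Subgroup G) = 32 := by
  set N := normalizer (V : Set G) with hN
  set H1 := N ⊓ centralizer ({z} : Set G) with hH1
  set H2 := H1 ⊓ centralizer ({y} : Set G) with hH2
  set H3 := H2 ⊓ centralizer ({x} : Set G) with hH3
  have hc1 : ∀ g ∈ H1, g * z * g⁻¹ = z := fun g hg => by
    rw [conj_eq_iff, (mem_centralizer_singleton_iff.1 (mem_inf.1 hg).2)]
  have hc2 : ∀ g ∈ H2, g * y * g⁻¹ = y := fun g hg => by
    rw [conj_eq_iff, (mem_centralizer_singleton_iff.1 (mem_inf.1 hg).2)]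
  have hc3 : ∀ g ∈ H3, g * x * g⁻¹ = x := fun g hg => by
    rw [conj_eq_iff, (mem_centralizer_singleton_iff.1 (mem_inf.1 hg).2)]
  have l1 : H1 ≤ N := inf_le_left
  have l2 : H2 ≤ H1 := inf_le_left
  have l3 : H3 ≤ H2 := inf_le_left
  have e1 := card_orb N z
  have e2 := card_orb H1 y
  have e3 := card_orb H2 x
  rw [← hH1] at e1
  rw [← hH2] at e2
  rw [← hH3] at e3
  have hzsq := h.sq z b.hz
  have f1 := orb_facts (V := V) (H := N) (K := ⊥) (y := z) bot_le (fun g hg =>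
    ⟨mem_norm hg b.hz, fun hb => b.z1 (by
      rw [Subgroup.mem_bot] at hb
      exact conj_inj (g := g) (by rw [hb]; group))⟩)
  have f2 := orb_facts (V := V) (H := H1) (K := zpowers z) (y := y) (zpowers_le.2 b.hz) (fun g hg =>
    ⟨mem_norm (l1 hg) b.hy, fun hb => by
      rw [mem_zpowers_two hzsq] at hb
      rcases hb with hb | hb
      · exact b.y1 (conj_inj (g := g) (by rw [hb]; group))
      · exact b.yz (conj_inj (g := g) (by rw [hb, hc1 g hg]))⟩)
  have f3 := orb_facts (V := V) (H := H2) (K := kl V h.sq z y b.hz b.hy) (y := x) (kl_le b.hz b.hy)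
    (fun g hg =>
    ⟨mem_norm (l1 (l2 hg)) b.hx, fun hb => by
      rcases hb with hb | hb | hb | hb
      · exact b.x1 (conj_inj (g := g) (by rw [hb]; group))
      · exact b.xz (conj_inj (g := g) (by rw [hb, hc1 g (l2 hg)]))
      · exact b.xy (conj_inj (g := g) (by rw [hb, hc2 g hg]))
      · exact b.xzy (conj_inj (g := g) (by rw [hb, conj_mul', hc1 g (l2 hg), hc2 g hg]))⟩)
  have hH3V : H3 ≤ V := fun g hg =>
    h.mem_of_conj b (hc1 g (l2 (l3 hg))) (hc2 g (l3 hg)) (hc3 g hg)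
  have c3 : Nat.card H3 ≤ 8 := by rw [← h.card]; exact Subgroup.card_le_of_le hH3V
  rw [h.card, Subgroup.card_bot] at f1
  rw [h.card, card_zpowers_two hzsq b.z1] at f2
  rw [h.card, card_kl b.z1 b.y1 b.yz] at f3
  have hcN : Nat.card N = 1344 := h.cardN
  rw [hcN] at e1
  set o1 := Nat.card {w : G // ∃ g ∈ N, g * z * g⁻¹ = w}
  set o2 := Nat.card {w : G // ∃ g ∈ H1, g * y * g⁻¹ = w}
  set o3 := Nat.card {w : G // ∃ g ∈ H2, g * x * g⁻¹ = w}
  set n1 := Nat.card H1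
  set n2 := Nat.card H2
  set n3 := Nat.card H3
  have g1 : o1 ≤ 7 := by omega
  have g2 : o2 ≤ 6 := by omega
  have g3 : o3 ≤ 4 := by omega
  have k2 : n2 ≤ 32 := by rw [e3]; calc n3 * o3 ≤ 8 * 4 := Nat.mul_le_mul c3 g3
      _ = 32 := by norm_num
  have k1 : n1 ≤ 192 := by rw [e2]; calc n2 * o2 ≤ 32 * 6 := Nat.mul_le_mul k2 g2
      _ = 192 := by norm_num
  have q1 : o1 = 7 := by
    by_contra hne
    have : o1 ≤ 6 := by omega
    have := Nat.mul_le_mul k1 this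
    omega
  have r1 : n1 = 192 := by rw [q1] at e1; omega
  have q2 : o2 = 6 := by
    by_contra hne
    have : o2 ≤ 5 := by omega
    have := Nat.mul_le_mul k2 this
    omega
  have r2 : n2 = 32 := by rw [q2] at e2; omega
  have q3 : o3 = 4 := by
    by_contra hne
    have : o3 ≤ 3 := by omega
    have := Nat.mul_le_mul c3 this
    omega
  have s1 := f1.2 (by omega)
  have s2 := f2.2 (by omega)
  have s3 := f3.2 (by omega)
  refine ⟨fun w hw hw1 => s1 w hw (fun hb => hw1 (Subgroup.mem_bot.1 hb)), fun w hw hw1 hwz => ?_,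
    fun w hw hw1 hwz hwy hwzy => ?_, r2⟩
  · obtain ⟨g, hg, hg2⟩ := s2 w hw (by
      rw [mem_zpowers_two hzsq]
      rintro (hb | hb)
      · exact hw1 hb
      · exact hwz hb)
    exact ⟨g, l1 hg, hc1 g hg, hg2⟩
  · obtain ⟨g, hg, hg2⟩ := s3 w hw (by
      rintro (hb | hb | hb | hb)
      · exact hw1 hb
      · exact hwz hb
      · exact hwy hb
      · exact hwzy hb)
    exact ⟨g, l1 (l2 hg), hc1 g (l2 hg), hc2 g hg, hg2⟩

/-- `N(V)` is transitive on the bases of `V`. -/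
theorem Hyp3.trans [Finite G] (h : Hyp3 V) {z y x z' y' x' : G} (b : Bas V z y x)
    (b' : Bas V z' y' x') : ∃ g ∈ normalizer (V : Set G),
      g * z * g⁻¹ = z' ∧ g * y * g⁻¹ = y' ∧ g * x * g⁻¹ = x' := by
  obtain ⟨g1, hg1, h1⟩ := (h.facts b).1 z' b'.hz b'.z1
  have hn : ∀ {g v w : G}, g * v * g⁻¹ = g * w * g⁻¹ → v = w := fun {g v w} hh => conj_inj hh
  have b1 : Bas V z' (g1 * y * g1⁻¹) (g1 * x * g1⁻¹) :=
    { hz := b'.hz
      hy := mem_norm hg1 b.hy
      hx := mem_norm hg1 b.hx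
      z1 := b'.z1
      y1 := fun hh => b.y1 (hn (g := g1) (by rw [hh]; group))
      yz := fun hh => b.yz (hn (g := g1) (by rw [hh, h1]))
      x1 := fun hh => b.x1 (hn (g := g1) (by rw [hh]; group))
      xz := fun hh => b.xz (hn (g := g1) (by rw [hh, h1]))
      xy := fun hh => b.xy (hn (g := g1) hh)
      xzy := fun hh => b.xzy (hn (g := g1) (by rw [hh, conj_mul', h1])) }
  obtain ⟨g2, hg2, h2, h3⟩ := (h.facts b1).2.1 y' b'.hy b'.y1 b'.yz
  have b2 : Bas V z' y' (g2 * (g1 * x * g1⁻¹) * g2⁻¹) :=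
    { hz := b'.hz
      hy := b'.hy
      hx := mem_norm hg2 b1.hx
      z1 := b'.z1
      y1 := b'.y1
      yz := b'.yz
      x1 := fun hh => b1.x1 (hn (g := g2) (by rw [hh]; group))
      xz := fun hh => b1.xz (hn (g := g2) (by rw [hh, h2]))
      xy := fun hh => b1.xy (hn (g := g2) (by rw [hh, h3]))
      xzy := fun hh => b1.xzy (hn (g := g2) (by rw [hh, conj_mul', h2, h3])) }
  obtain ⟨g3, hg3, h4, h5, h6⟩ := (h.facts b2).2.2.1 x' b'.hx b'.x1 b'.xz b'.xy b'.xzy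
  refine ⟨g3 * (g2 * g1), mul_mem hg3 (mul_mem hg2 hg1), ?_, ?_, ?_⟩
  · rw [conj_conj, conj_conj, h1, h2, h4]
  · rw [conj_conj, conj_conj, h3, h5]
  · rw [conj_conj, conj_conj, h6]

/-- an element acting with order 3 on `V` may be chosen of order 3 -/
theorem Hyp3.three (h : Hyp3 V) {g : G} (hg : g ∈ normalizer (V : Set G))
    (h3 : ∀ v ∈ V, g * (g * (g * v * g⁻¹) * g⁻¹) * g⁻¹ = v) :
    ∃ d ∈ normalizer (V : Set G), d ^ 3 = 1 ∧ ∀ v ∈ V, d * v * d⁻¹ = g * v * g⁻¹ := by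
  have h1 : g * g * g ∈ V := by
    refine h.cent _ fun v hv => ?_
    have h2 := h3 v hv
    calc g * g * g * v = g * (g * (g * v * g⁻¹) * g⁻¹) * g⁻¹ * (g * g * g) := by group
      _ = v * (g * g * g) := by rw [h2]
  refine ⟨g * g * g * g, mul_mem (mul_mem (mul_mem hg hg) hg) hg, ?_, fun v hv => ?_⟩
  · have h2 := h.sq _ h1
    have h4 : (g * g * g * g) ^ 3 = (g * g * g * (g * g * g)) * (g * g * g * (g * g * g)) := by
      simp only [pow_succ, pow_zero]
      group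
    rw [h4, h2, one_mul]
  · have h2 := h.comm h1 (mem_norm hg hv)
    calc g * g * g * g * v * (g * g * g * g)⁻¹ = g * g * g * (g * v * g⁻¹) * (g * g * g)⁻¹ := by group
      _ = g * v * g⁻¹ := by rw [h2]; group

end

end Cfsg.Agent.GH.C2GrowL3V
end

-- part: GH/C2GrowL3P
section
/-!
# GH-C2, growth, `M/V = L₃(2)`: `P = O₂(C_M(z))`
-/

set_option autoImplicit false

namespace Cfsg.Agent.GH.C2GrowL3P

open Subgroup Cfsg.Agent.GH.C2GrowL3Base Cfsg.Agent.GH.C2GrowL3V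

variable {G : Type*} [Group G] {V T : Subgroup G} {z y x : G}

theorem card_le [Finite G] (h : Hyp3 V) {Y : Subgroup G} (hY : Y ≤ normalizer (V : Set G))
    (hY2 : IsPGroup 2 Y) : Nat.card Y ≤ 64 := by
  have : Fact (Nat.Prime 2) := ⟨Nat.prime_two⟩
  obtain ⟨n, hn⟩ := IsPGroup.iff_card.1 hY2
  have h1 : Nat.card Y ∣ 1344 := h.cardN ▸ Subgroup.card_dvd_of_le hY
  rw [hn] at h1 ⊢
  by_contra h2
  have h3 : 7 ≤ n := by
    by_contra h4
    have : 2 ^ n ≤ 2 ^ 6 := Nat.pow_le_pow_right (by norm_num) (by omega)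
    omega
  have h4 : 2 ^ 7 ∣ 1344 := (pow_dvd_pow 2 h3).trans h1
  norm_num at h4

theorem isPGroup_of_64 {T : Subgroup G} (h : Nat.card T = 64) : IsPGroup 2 T := by
  have : Fact (Nat.Prime 2) := ⟨Nat.prime_two⟩
  exact IsPGroup.of_card (n := 6) (by rw [h]; norm_num)

theorem isPGroup_of_sq {V : Subgroup G} (h : ∀ v ∈ V, v * v = 1) : IsPGroup 2 V := fun v =>
  ⟨1, Subtype.ext (by
    push_cast
    rw [pow_two]
    exact h v v.2)⟩

theorem le_T [Finite G] (h : Hyp3 V) (hT : T ≤ normalizer (V : Set G)) (hc : Nat.card T = 64)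
    {Y : Subgroup G} (hY : Y ≤ normalizer (V : Set G)) (hY2 : IsPGroup 2 Y)
    (hn : ∀ t ∈ T, ∀ g ∈ Y, t * g * t⁻¹ ∈ Y) : Y ≤ T := by
  have : Fact (Nat.Prime 2) := ⟨Nat.prime_two⟩
  have hTY : T ≤ normalizer (Y : Set G) := by
    intro t ht
    rw [mem_normalizer_iff]
    refine fun g => ⟨hn t ht g, fun hg => ?_⟩
    have h1 := hn t⁻¹ (T.inv_mem ht) _ hg
    have h2 : t⁻¹ * (t * g * t⁻¹) * t⁻¹⁻¹ = g := by group
    rwa [h2] at h1
  have h1 : IsPGroup 2 (T ⊔ Y : Subgroup G) := (isPGroup_of_64 hc).to_sup_of_normal_right' hY2 hTY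
  have h2 := card_le h (sup_le hT hY) h1
  have h3 : T = T ⊔ Y := Subgroup.eq_of_le_of_card_ge le_sup_left (by rw [hc]; exact h2)
  rw [h3]
  exact le_sup_right

/-- `T` and an adapted basis. -/
structure Conf (V T : Subgroup G) (z y x : G) : Prop where
  hyp : Hyp3 V
  bas : Bas V z y x
  TN : T ≤ normalizer (V : Set G)
  cardT : Nat.card T = 64
  Tz : ∀ t ∈ T, t * z * t⁻¹ = z
  Ty : ∀ t ∈ T, t * y * t⁻¹ = y ∨ t * y * t⁻¹ = z * y

theorem exists_conf [Finite G] (h : Hyp3 V) (hT : T ≤ normalizer (V : Set G)) (hc : Nat.card T = 64) :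
    ∃ z y x : G, Conf V T z y x := by
  have hT2 := isPGroup_of_64 hc
  have hV2 := isPGroup_of_sq h.sq
  have hne : (⊥ : Subgroup G) ≠ V := by
    intro h1
    have := h.card
    rw [← h1, Subgroup.card_bot] at this
    omega
  obtain ⟨z, hz, hz1, hzT⟩ := exists_fix hT2 hV2 bot_le hne (fun t ht a ha => mem_norm (hT ht) ha)
    (fun t _ b hb => by rw [Subgroup.mem_bot] at hb ⊢; rw [hb]; group)
  rw [Subgroup.mem_bot] at hz1
  have hzz : ∀ t ∈ T, t * z * t⁻¹ = z := by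
    intro t ht
    have h1 := Subgroup.mem_bot.1 (hzT t ht)
    rw [inv_mul_eq_one] at h1
    exact h1.symm
  have hzsq := h.sq z hz
  have hne2 : zpowers z ≠ V := by
    intro h1
    have h2 := h.card
    rw [← h1, card_zpowers_two hzsq hz1] at h2
    omega
  obtain ⟨y, hy, hy1, hyT⟩ := exists_fix hT2 hV2 (zpowers_le.2 hz) hne2
    (fun t ht a ha => mem_norm (hT ht) ha) (fun t ht b hb => by
      rw [mem_zpowers_two hzsq] at hb ⊢
      rcases hb with rfl | rfl
      · left; group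
      · right; exact hzz t ht)
  rw [mem_zpowers_two hzsq] at hy1
  push Not at hy1
  have hyy : ∀ t ∈ T, t * y * t⁻¹ = y ∨ t * y * t⁻¹ = z * y := by
    intro t ht
    have h1 := hyT t ht
    rw [mem_zpowers_two hzsq] at h1
    rcases h1 with h1 | h1
    · left
      rw [inv_mul_eq_one] at h1
      exact h1.symm
    · right
      rw [inv_mul_eq_iff_eq_mul] at h1
      rw [h1, h.comm hy hz]
  have hne3 : kl V h.sq z y hz hy ≠ V := by
    intro h1
    have h2 := h.card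
    rw [← h1, card_kl hz1 hy1.1 hy1.2] at h2
    omega
  obtain ⟨x, hx, hxk⟩ := SetLike.exists_of_lt (lt_of_le_of_ne (kl_le (hV := h.sq) (ha := hz) (hb := hy) hz hy) hne3)
  rw [mem_kl] at hxk
  push Not at hxk
  exact ⟨z, y, x, ⟨h, ⟨hz, hy, hx, hz1, hy1.1, hy1.2, hxk.1, hxk.2.1, hxk.2.2.1, hxk.2.2.2⟩, hT, hc, hzz, hyy⟩⟩

/-- `P = O₂(C_M(z))` -/
def Pg (V : Subgroup G) (z : G) (h : ∀ v ∈ V, v * v = 1) (hz : z ∈ V) : Subgroup G where
  carrier := {g | g ∈ normalizer (V : Set G) ∧ g * z * g⁻¹ = z ∧ ∀ v ∈ V, g * v * g⁻¹ = v ∨ g * v * g⁻¹ = z * v}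
  one_mem' := ⟨one_mem _, by group, fun v _ => Or.inl (by group)⟩
  mul_mem' := by
    rintro a b ⟨ha, ha1, ha2⟩ ⟨hb, hb1, hb2⟩
    refine ⟨mul_mem ha hb, ?_, fun v hv => ?_⟩
    · rw [conj_conj, hb1, ha1]
    · rw [conj_conj]
      rcases hb2 v hv with h1 | h1
      · rw [h1]; exact ha2 v hv
      · rw [h1, conj_mul', ha1]
        rcases ha2 v hv with h2 | h2
        · right; rw [h2]
        · left; rw [h2, ← mul_assoc, h z hz, one_mul]
  inv_mem' := by
    rintro a ⟨ha, ha1, ha2⟩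
    have hh : ∀ v ∈ V, a⁻¹ * v * a⁻¹⁻¹ ∈ V := fun v hv => mem_norm (inv_mem ha) hv
    refine ⟨inv_mem ha, ?_, fun v hv => ?_⟩
    · have : a⁻¹ * (a * z * a⁻¹) * a = z := by group
      rw [ha1] at this
      rw [inv_inv]; exact this
    · rcases ha2 _ (hh v hv) with h1 | h1
      · left
        have h2 : a * (a⁻¹ * v * a⁻¹⁻¹) * a⁻¹ = v := by group
        rw [h2] at h1
        exact h1.symm
      · right
        have h2 : a * (a⁻¹ * v * a⁻¹⁻¹) * a⁻¹ = v := by group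
        rw [h2] at h1
        have h3 : z * v = z * (z * (a⁻¹ * v * a⁻¹⁻¹)) := congrArg (z * ·) h1
        rw [← mul_assoc, h z hz, one_mul] at h3
        exact h3.symm

namespace Conf

/-- `P` -/
abbrev P (c : Conf V T z y x) : Subgroup G := Pg V z c.hyp.sq c.bas.hz

variable (c : Conf V T z y x)
include c

theorem zz : z * z = 1 := c.hyp.sq z c.bas.hz

theorem mem_P {g : G} : g ∈ c.P ↔ g ∈ normalizer (V : Set G) ∧ g * z * g⁻¹ = z ∧
    ∀ v ∈ V, g * v * g⁻¹ = v ∨ g * v * g⁻¹ = z * v := Iff.rfl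

theorem VP : V ≤ c.P := by
  intro v hv
  refine ⟨le_normalizer hv, ?_, fun w hw => Or.inl ?_⟩
  · rw [conj_eq_iff, c.hyp.comm hv c.bas.hz]
  · rw [conj_eq_iff, c.hyp.comm hv hw]

theorem P_sq {g : G} (hg : g ∈ c.P) : g * g ∈ V := by
  refine c.hyp.cent _ fun v hv => ?_
  rw [← conj_eq_iff, conj_conj]
  rcases hg.2.2 v hv with h1 | h1
  · rw [h1, h1]
  · rw [h1, conj_mul', hg.2.1, h1, ← mul_assoc, c.zz, one_mul]

theorem P_two : IsPGroup 2 c.P := by
  rintro ⟨g, hg⟩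
  refine ⟨2, Subtype.ext ?_⟩
  have h1 := c.hyp.sq _ (c.P_sq hg)
  have h2 : g ^ 2 ^ 2 = g * g * (g * g) := by
    have : (2 : ℕ) ^ 2 = 4 := by norm_num
    rw [this]
    simp only [pow_succ, pow_zero]
    group
  show g ^ 2 ^ 2 = 1
  rw [h2, h1]

/-- `P` is normal in `C_M(z)` -/
theorem P_conj {g p : G} (hg : g ∈ normalizer (V : Set G)) (hgz : g * z * g⁻¹ = z) (hp : p ∈ c.P) :
    g * p * g⁻¹ ∈ c.P := by
  obtain ⟨hp1, hp2, hp3⟩ := hp
  have hginv : g⁻¹ * z * g = z := by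
    have : g⁻¹ * (g * z * g⁻¹) * g = z := by group
    rwa [hgz] at this
  refine ⟨mul_mem (mul_mem hg hp1) (inv_mem hg), ?_, fun v hv => ?_⟩
  · calc g * p * g⁻¹ * z * (g * p * g⁻¹)⁻¹ = g * (p * (g⁻¹ * z * g) * p⁻¹) * g⁻¹ := by group
      _ = z := by rw [hginv, hp2, hgz]
  · have h1 : g⁻¹ * v * g ∈ V := by
      have := mem_norm (inv_mem hg) hv
      rwa [inv_inv] at this
    have h2 : g * p * g⁻¹ * v * (g * p * g⁻¹)⁻¹ = g * (p * (g⁻¹ * v * g) * p⁻¹) * g⁻¹ := by group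
    rcases hp3 _ h1 with h3 | h3
    · left
      rw [h2, h3]; group
    · right
      rw [h2, h3, conj_mul', hgz]
      congr 1
      group

theorem PT [Finite G] : c.P ≤ T :=
  le_T c.hyp c.TN c.cardT (fun _ hg => hg.1) c.P_two fun t ht _ hg => c.P_conj (c.TN ht) (c.Tz t ht) hg

theorem zy_bas : Bas V z (z * y) x := by
  have b := c.bas
  have hzz := c.zz
  refine ⟨b.hz, V.mul_mem b.hz b.hy, b.hx, b.z1, ?_, ?_, b.x1, b.xz, b.xzy, ?_⟩
  · intro h
    exact b.yz (by rw [← inv_of_sq hzz]; exact (inv_eq_of_mul_eq_one_right h).symm)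
  · intro h
    exact b.y1 (by simpa using h)
  · rw [← mul_assoc, hzz, one_mul]
    exact b.xy

theorem zx_bas : Bas V z y (z * x) := by
  have b := c.bas
  have hzz := c.zz
  refine ⟨b.hz, b.hy, V.mul_mem b.hz b.hx, b.z1, b.y1, b.yz, ?_, ?_, ?_, ?_⟩
  · intro h
    exact b.xz (by rw [← inv_of_sq hzz]; exact (inv_eq_of_mul_eq_one_right h).symm)
  · intro h
    exact b.x1 (by simpa using h)
  · intro h
    apply b.xzy
    rw [← h, ← mul_assoc, hzz, one_mul]
  · intro h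
    exact b.xy (mul_left_cancel h)

/-- `y ↦ y z` -/
theorem exists_p1 [Finite G] : ∃ g ∈ c.P, g * y * g⁻¹ = z * y ∧ g * x * g⁻¹ = x := by
  obtain ⟨g, hg, h1, h2, h3⟩ := c.hyp.trans c.bas c.zy_bas
  refine ⟨g, ⟨hg, h1, fun v hv => ?_⟩, h2, h3⟩
  have e := c.zz
  rcases c.hyp.mem c.bas hv with h | h | h | h | h | h | h | h <;> subst h
  · left; group
  · left; exact h1
  · right; exact h2
  · right; rw [conj_mul', h1, h2]
  · left; exact h3
  · left; rw [conj_mul', h1, h3]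
  · right; rw [conj_mul', h2, h3, mul_assoc]
  · right; rw [conj_mul', conj_mul', h1, h2, h3]; group

/-- `x ↦ x z` -/
theorem exists_p2 [Finite G] : ∃ g ∈ c.P, g * y * g⁻¹ = y ∧ g * x * g⁻¹ = z * x := by
  obtain ⟨g, hg, h1, h2, h3⟩ := c.hyp.trans c.bas c.zx_bas
  refine ⟨g, ⟨hg, h1, fun v hv => ?_⟩, h2, h3⟩
  have e := c.zz
  have hyz := c.hyp.comm c.bas.hy c.bas.hz
  rcases c.hyp.mem c.bas hv with h | h | h | h | h | h | h | h <;> subst h
  · left; group
  · left; exact h1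
  · left; exact h2
  · left; rw [conj_mul', h1, h2]
  · right; exact h3
  · right; rw [conj_mul', h1, h3]
  · right; rw [conj_mul', h2, h3, ← mul_assoc, hyz, mul_assoc]
  · right; rw [conj_mul', conj_mul', h1, h2, h3, mul_assoc z y, ← mul_assoc y z x, hyz]

theorem cardP [Finite G] : Nat.card c.P = 32 := by
  obtain ⟨p1, hp1, h11, h12⟩ := c.exists_p1
  obtain ⟨p2, hp2, h21, h22⟩ := c.exists_p2
  set A : Subgroup G := c.P ⊓ centralizer ({y} : Set G) with hA
  have hAy : ∀ g ∈ A, g * y * g⁻¹ = y := fun g hg => by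
    rw [conj_eq_iff, (mem_centralizer_singleton_iff.1 (mem_inf.1 hg).2)]
  have hVA : V ≤ A := by
    intro v hv
    refine mem_inf.2 ⟨c.VP hv, mem_centralizer_singleton_iff.2 ?_⟩
    rw [c.hyp.comm hv c.bas.hy]
  have h1 : Nat.card A = 2 * Nat.card V := by
    refine card_eq_two_mul hVA (a := p2) (mem_inf.2 ⟨hp2, mem_centralizer_singleton_iff.2 ?_⟩) ?_ ?_
    · rw [conj_eq_iff] at h21; rw [h21]
    · intro h
      have h2 := c.hyp.comm h c.bas.hx
      rw [← conj_eq_iff, h22] at h2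
      exact c.bas.z1 (mul_right_cancel (b := x) (by rw [h2, one_mul]))
    · intro b hb hbV
      have hb2 : b * x * b⁻¹ = z * x := by
        rcases (mem_inf.1 hb).1.2.2 x c.bas.hx with h2 | h2
        · exact absurd (c.hyp.mem_of_conj c.bas (mem_inf.1 hb).1.2.1 (hAy b hb) h2) hbV
        · exact h2
      refine c.hyp.cent _ fun v hv => ?_
      have h3 := c.hyp.conj_ext (g := b) (k := p2) c.bas (by rw [(mem_inf.1 hb).1.2.1, hp2.2.1])
        (by rw [hAy b hb, h21]) (by rw [hb2, h22]) v hv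
      calc p2⁻¹ * b * v = p2⁻¹ * (b * v * b⁻¹) * b := by group
        _ = p2⁻¹ * (p2 * v * p2⁻¹) * b := by rw [h3]
        _ = v * (p2⁻¹ * b) := by group
  have h2 : Nat.card c.P = 2 * Nat.card A := by
    refine card_eq_two_mul inf_le_left (a := p1) hp1 ?_ ?_
    · intro h
      have h2 := hAy p1 h
      rw [h11] at h2
      exact c.bas.z1 (mul_right_cancel (b := y) (by rw [h2, one_mul]))
    · intro b hb hbA
      have hb2 : b * y * b⁻¹ = z * y := by
        rcases hb.2.2 y c.bas.hy with h2 | h2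
        · exfalso
          refine hbA (mem_inf.2 ⟨hb, mem_centralizer_singleton_iff.2 ?_⟩)
          rw [conj_eq_iff] at h2; rw [h2]
        · exact h2
      refine mem_inf.2 ⟨c.P.mul_mem (c.P.inv_mem hp1) hb, mem_centralizer_singleton_iff.2 ?_⟩
      calc p1⁻¹ * b * y = p1⁻¹ * (b * y * b⁻¹) * b := by group
        _ = p1⁻¹ * (p1 * y * p1⁻¹) * b := by rw [hb2, h11]
        _ = y * (p1⁻¹ * b) := by group
  rw [h2, h1, c.hyp.card]

/-- the element of order 3 of `C_M(z)` -/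
theorem exists_d [Finite G] : ∃ d ∈ normalizer (V : Set G), d ^ 3 = 1 ∧ d * z * d⁻¹ = z ∧
    d * y * d⁻¹ = x ∧ d * x * d⁻¹ = y * x := by
  have b := c.bas
  have hcomm : ∀ {a b : G}, a ∈ V → b ∈ V → a * b = b * a := fun ha hb => c.hyp.comm ha hb
  have hyy := c.hyp.sq y b.hy
  have hb' : Bas V z x (y * x) := by
    refine ⟨b.hz, b.hx, V.mul_mem b.hy b.hx, b.z1, b.x1, b.xz, ?_, ?_, ?_, ?_⟩
    · intro h
      exact b.xy (by rw [← inv_of_sq hyy]; exact (inv_eq_of_mul_eq_one_right h).symm)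
    · intro h
      apply b.xzy
      rw [← h, hcomm (V.mul_mem b.hy b.hx) b.hy, ← mul_assoc, hyy, one_mul]
    · intro h
      exact b.y1 (by simpa using h)
    · intro h
      exact b.yz (mul_right_cancel h)
  obtain ⟨g, hg, h1, h2, h3⟩ := c.hyp.trans b hb'
  have hx' : g * (y * x) * g⁻¹ = y := by
    rw [conj_mul', h2, h3, hcomm b.hy b.hx, ← mul_assoc, c.hyp.sq x b.hx, one_mul]
  obtain ⟨d, hd, hd3, hdg⟩ := c.hyp.three hg (by
    intro v hv
    have h5 : ∀ k : G, g * (g * (g * k * g⁻¹) * g⁻¹) * g⁻¹ = (g * g * g) * k * (g * g * g)⁻¹ := by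
      intro k; group
    rw [h5]
    have h6 := c.hyp.conj_ext (g := g * g * g) (k := 1) b (by rw [← h5, h1, h1, h1]; group)
      (by rw [← h5, h2, h3, hx']; group) (by rw [← h5, h3, hx', h2]; group) v hv
    rw [h6]; group)
  exact ⟨d, hd, hd3, by rw [hdg z b.hz, h1], by rw [hdg y b.hy, h2], by rw [hdg x b.hx, h3]⟩

/-- the element of order 3 normalising `⟨z, y⟩` -/
theorem exists_e [Finite G] : ∃ e ∈ normalizer (V : Set G), e ^ 3 = 1 ∧ e * z * e⁻¹ = y ∧
    e * y * e⁻¹ = z * y ∧ e * x * e⁻¹ = x := by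
  have b := c.bas
  have hcomm : ∀ {a b : G}, a ∈ V → b ∈ V → a * b = b * a := fun ha hb => c.hyp.comm ha hb
  have hyy := c.hyp.sq y b.hy
  have hb' : Bas V y (z * y) x := by
    refine ⟨b.hy, V.mul_mem b.hz b.hy, b.hx, b.y1, c.zy_bas.y1, ?_, b.x1, b.xy, b.xzy, ?_⟩
    · intro h
      exact b.z1 (by simpa using h)
    · rw [hcomm b.hz b.hy, ← mul_assoc, hyy, one_mul]
      exact b.xz
  obtain ⟨g, hg, h1, h2, h3⟩ := c.hyp.trans b hb'
  have hx' : g * (z * y) * g⁻¹ = z := by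
    rw [conj_mul', h1, h2, hcomm b.hz b.hy, ← mul_assoc, hyy, one_mul]
  obtain ⟨d, hd, hd3, hdg⟩ := c.hyp.three hg (by
    intro v hv
    have h5 : ∀ k : G, g * (g * (g * k * g⁻¹) * g⁻¹) * g⁻¹ = (g * g * g) * k * (g * g * g)⁻¹ := by
      intro k; group
    rw [h5]
    have h6 := c.hyp.conj_ext (g := g * g * g) (k := 1) b (by rw [← h5, h1, h2, hx']; group)
      (by rw [← h5, h2, hx', h1]; group) (by rw [← h5, h3, h3, h3]; group) v hv
    rw [h6]; group)
  exact ⟨d, hd, hd3, by rw [hdg z b.hz, h1], by rw [hdg y b.hy, h2], by rw [hdg x b.hx, h3]⟩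

/-- the elements of `M` centralising `z` and `y` lie in `T` -/
theorem mem_T [Finite G] {g : G} (hg : g ∈ normalizer (V : Set G)) (h1 : g * z * g⁻¹ = z)
    (h2 : g * y * g⁻¹ = y) : g ∈ T := by
  have : Fact (Nat.Prime 2) := ⟨Nat.prime_two⟩
  set Y : Subgroup G := normalizer (V : Set G) ⊓ centralizer ({z} : Set G) ⊓ centralizer ({y} : Set G)
  have hY : Nat.card Y = 32 := (c.hyp.facts c.bas).2.2.2
  have hmem : ∀ g, g ∈ Y ↔ g ∈ normalizer (V : Set G) ∧ g * z * g⁻¹ = z ∧ g * y * g⁻¹ = y := by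
    intro g
    rw [mem_inf, mem_inf, mem_centralizer_singleton_iff, mem_centralizer_singleton_iff, conj_eq_iff,
      conj_eq_iff, and_assoc]
  have hYT : Y ≤ T := by
    refine le_T c.hyp c.TN c.cardT (fun g hg => ((hmem g).1 hg).1)
      (IsPGroup.of_card (n := 5) (by rw [hY]; norm_num)) ?_
    intro t ht k hk
    obtain ⟨k1, k2, k3⟩ := (hmem k).1 hk
    have hti : t⁻¹ ∈ T := T.inv_mem ht
    have e1 : t⁻¹ * z * t = z := by
      have := c.Tz _ hti
      rwa [inv_inv] at this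
    have e2 : t⁻¹ * y * t = y ∨ t⁻¹ * y * t = z * y := by
      have := c.Ty _ hti
      rwa [inv_inv] at this
    refine (hmem _).2 ⟨mul_mem (mul_mem (c.TN ht) k1) (inv_mem (c.TN ht)), ?_, ?_⟩
    · calc t * k * t⁻¹ * z * (t * k * t⁻¹)⁻¹ = t * (k * (t⁻¹ * z * t) * k⁻¹) * t⁻¹ := by group
        _ = z := by rw [e1, k2, c.Tz t ht]
    · have e3 : t * k * t⁻¹ * y * (t * k * t⁻¹)⁻¹ = t * (k * (t⁻¹ * y * t) * k⁻¹) * t⁻¹ := by group
      have e4 : k * (t⁻¹ * y * t) * k⁻¹ = t⁻¹ * y * t := by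
        rcases e2 with e2 | e2
        · rw [e2, k3]
        · rw [e2, conj_mul', k2, k3]
      rw [e3, e4]; group
  exact hYT ((hmem g).2 ⟨hg, h1, h2⟩)

/-- `x ↦ x y` in `T` -/
theorem exists_g1 [Finite G] : ∃ g ∈ T, g * z * g⁻¹ = z ∧ g * y * g⁻¹ = y ∧ g * x * g⁻¹ = y * x := by
  have b := c.bas
  have hcomm : ∀ {a b : G}, a ∈ V → b ∈ V → a * b = b * a := fun ha hb => c.hyp.comm ha hb
  have hyy := c.hyp.sq y b.hy
  have hb' : Bas V z y (y * x) := by
    refine ⟨b.hz, b.hy, V.mul_mem b.hy b.hx, b.z1, b.y1, b.yz, ?_, ?_, ?_, ?_⟩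
    · intro h
      exact b.xy (by rw [← inv_of_sq hyy]; exact (inv_eq_of_mul_eq_one_right h).symm)
    · intro h
      apply b.xzy
      rw [← h, hcomm (V.mul_mem b.hy b.hx) b.hy, ← mul_assoc, hyy, one_mul]
    · intro h
      exact b.x1 (by simpa using h)
    · intro h
      rw [hcomm b.hz b.hy] at h
      exact b.xz (mul_left_cancel h)
  obtain ⟨g, hg, h1, h2, h3⟩ := c.hyp.trans b hb'
  exact ⟨g, c.mem_T hg h1 h2, h1, h2, h3⟩

end Conf

end Cfsg.Agent.GH.C2GrowL3P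
end

-- part: GH/C2GrowL3X
section
/-!
# GH-C2, growth, `M/V = L₃(2)`: the extraspecial group `P`, lemmas A and B
-/

set_option autoImplicit false

namespace Cfsg.Agent.GH.C2GrowL3X

open Subgroup Cfsg.Agent.GH.C2GrowL3Base Cfsg.Agent.GH.C2GrowL3V Cfsg.Agent.GH.C2GrowL3P

variable {G : Type*} [Group G]

/-- `P` is extraspecial of order 32 with centre `{1, z}` -/
structure Ex (P : Subgroup G) (z : G) : Prop where
  card : Nat.card P = 32
  hz : z ∈ P
  z1 : z ≠ 1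
  zz : z * z = 1
  zc : ∀ p ∈ P, p * z = z * p
  comm : ∀ p ∈ P, ∀ q ∈ P, p * q = q * p ∨ p * q = z * (q * p)
  cen : ∀ p ∈ P, (∀ q ∈ P, p * q = q * p) → p = 1 ∨ p = z

theorem eight_cases {n : ℕ} (h : n ∣ 8) : n = 1 ∨ n = 2 ∨ n = 4 ∨ n = 8 := by
  have h1 : n ∈ Nat.divisors 8 := Nat.mem_divisors.2 ⟨h, by norm_num⟩
  have h2 : Nat.divisors 8 = {1, 2, 4, 8} := by decide
  rw [h2] at h1
  simpa only [Finset.mem_insert, Finset.mem_singleton] using h1

/-- a subgroup of order 8 is determined by three independent elements -/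
theorem eq_of_three [Finite G] {C S : Subgroup G} (hC : Nat.card C = 8) (hS : S ≤ C) {z a b : G}
    (hz : z ∈ S) (ha : a ∈ S) (hb : b ∈ S) (hzz : z * z = 1) (hz1 : z ≠ 1) (ha1 : a ≠ 1) (haz : a ≠ z)
    (hb1 : b ≠ 1) (hbz : b ≠ z) (hba : b ≠ a) (hbaz : b ≠ a * z) : S = C := by
  refine Subgroup.eq_of_le_of_card_ge hS ?_
  rw [hC]
  by_contra hlt
  have hS4 := eight_cases (hC ▸ Subgroup.card_dvd_of_le hS)
  have hzS : zpowers z ≤ S := zpowers_le.2 hz
  have hc := card_zpowers_two hzz hz1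
  have haz' : a ∉ zpowers z := by
    rw [mem_zpowers_two hzz]
    rintro (h | h)
    · exact ha1 h
    · exact haz h
  have hbz' : b ∉ zpowers z := by
    rw [mem_zpowers_two hzz]
    rintro (h | h)
    · exact hb1 h
    · exact hbz h
  have hle : 4 ≤ Nat.card S := by
    by_contra h4
    have h5 : Nat.card S ≤ 2 := by omega
    have h6 : zpowers z = S := Subgroup.eq_of_le_of_card_ge hzS (by rw [hc]; exact h5)
    exact haz' (by rw [h6]; exact ha)
  have h4 : Nat.card S = 2 * Nat.card (zpowers z) := by rw [hc]; omega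
  have h8 := inv_mul_mem_of_card hzS h4 ha hb haz' hbz'
  rw [mem_zpowers_two hzz] at h8
  rcases h8 with h8 | h8
  · rw [inv_mul_eq_one] at h8
    exact hba h8.symm
  · rw [inv_mul_eq_iff_eq_mul] at h8
    exact hbaz h8

theorem exists_pick [Finite G] {C : Subgroup G} (s : Finset G) (hs : s.card < Nat.card C) :
    ∃ c ∈ C, c ∉ s := by
  by_contra hcon
  push Not at hcon
  have h1 : (C : Set G).ncard ≤ (s : Set G).ncard :=
    Set.ncard_le_ncard (fun c hc => hcon c hc) (Set.toFinite _)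
  rw [Set.ncard_coe_finset] at h1
  have h2 : Nat.card C = (C : Set G).ncard := rfl
  omega

theorem exists_pick2 [Finite G] [DecidableEq G] {C : Subgroup G} (hC : 2 < Nat.card C) (a b : G) :
    ∃ c ∈ C, c ≠ a ∧ c ≠ b := by
  obtain ⟨c, hc, hc'⟩ := exists_pick (C := C) {a, b} (lt_of_le_of_lt Finset.card_le_two hC)
  simp only [Finset.mem_insert, Finset.mem_singleton, not_or] at hc'
  exact ⟨c, hc, hc'.1, hc'.2⟩

theorem exists_pick4 [Finite G] [DecidableEq G] {C : Subgroup G} (hC : 4 < Nat.card C) (a b d e : G) :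
    ∃ c ∈ C, c ≠ a ∧ c ≠ b ∧ c ≠ d ∧ c ≠ e := by
  obtain ⟨c, hc, hc'⟩ := exists_pick (C := C) {a, b, d, e} (lt_of_le_of_lt Finset.card_le_four hC)
  simp only [Finset.mem_insert, Finset.mem_singleton, not_or] at hc'
  exact ⟨c, hc, hc'.1, hc'.2.1, hc'.2.2.1, hc'.2.2.2⟩

/-- an elementary abelian subgroup of order 8 of `P` containing `z` -/
structure E8 (P : Subgroup G) (z : G) (A : Subgroup G) : Prop where
  le : A ≤ P
  card : Nat.card A = 8
  hz : z ∈ A
  sq : ∀ a ∈ A, a * a = 1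

theorem E8.comm {P A : Subgroup G} {z : G} (h : E8 P z A) {a b : G} (ha : a ∈ A) (hb : b ∈ A) :
    a * b = b * a := comm_of_sq h.sq ha hb

/-- two involutions with an involution as product commute -/
theorem comm_of_three {a b : G} (ha : a * a = 1) (hb : b * b = 1) (hab : (a * b) * (a * b) = 1) :
    a * b = b * a := by
  have h2 : a * b = (a * b)⁻¹ := eq_inv_of_mul_eq_one_left hab
  rw [mul_inv_rev, inv_of_sq ha, inv_of_sq hb] at h2
  exact h2

namespace Ex

variable {P : Subgroup G} {z : G} (X : Ex P z)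
include X

theorem comm_mul {p q r : G} (hp : p ∈ P) (hq : q ∈ P) (hr : r ∈ P) (h1 : p * q ≠ q * p)
    (h2 : p * r ≠ r * p) : p * (q * r) = (q * r) * p := by
  have e1 := (X.comm p hp q hq).resolve_left h1
  have e2 := (X.comm p hp r hr).resolve_left h2
  have e3 := X.zc q hq
  calc p * (q * r) = (p * q) * r := by group
    _ = z * (q * (p * r)) := by rw [e1]; group
    _ = z * (q * z) * (r * p) := by rw [e2]; group
    _ = (z * z) * (q * (r * p)) := by rw [e3]; group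
    _ = (q * r) * p := by rw [X.zz, one_mul]; group

/-- the centraliser in `K ≤ P` of an element has index at most 2 -/
theorem card_cent [Finite G] {K : Subgroup G} (hK : K ≤ P) {p : G} (hp : p ∈ P) :
    Nat.card K ≤ 2 * Nat.card (K ⊓ centralizer ({p} : Set G) : Subgroup G) := by
  by_cases h : ∀ q ∈ K, p * q = q * p
  · have h1 : K ⊓ centralizer ({p} : Set G) = K := by
      rw [inf_eq_left]
      intro q hq
      rw [mem_centralizer_singleton_iff]
      exact (h q hq).symm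
    rw [h1]
    omega
  · push Not at h
    obtain ⟨q, hq, hpq⟩ := h
    refine (card_eq_two_mul inf_le_left (a := q) hq ?_ ?_).le
    · intro h1
      exact hpq (mem_centralizer_singleton_iff.1 (mem_inf.1 h1).2).symm
    · intro r hr hr'
      have hpr : p * r ≠ r * p := by
        intro h1
        exact hr' (mem_inf.2 ⟨hr, mem_centralizer_singleton_iff.2 h1.symm⟩)
      refine mem_inf.2 ⟨K.mul_mem (K.inv_mem hq) hr, mem_centralizer_singleton_iff.2 ?_⟩
      have h2 : p * q⁻¹ ≠ q⁻¹ * p := by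
        intro h3
        apply hpq
        calc p * q = q * (q⁻¹ * p) * q := by group
          _ = q * (p * q⁻¹) * q := by rw [h3]
          _ = q * p := by group
      exact (X.comm_mul hp (P.inv_mem (hK hq)) (hK hr) h2 hpr).symm

theorem card_cent_eq [Finite G] {p : G} (hp : p ∈ P) (hp1 : p ≠ 1) (hpz : p ≠ z) :
    Nat.card (P ⊓ centralizer ({p} : Set G) : Subgroup G) = 16 := by
  have h1 := X.card_cent le_rfl hp
  rw [X.card] at h1
  have h2 : Nat.card (P ⊓ centralizer ({p} : Set G) : Subgroup G) ∣ 32 :=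
    X.card ▸ Subgroup.card_dvd_of_le inf_le_left
  have h3 : Nat.card (P ⊓ centralizer ({p} : Set G) : Subgroup G) ≠ 32 := by
    intro h4
    have h5 : P ⊓ centralizer ({p} : Set G) = P :=
      Subgroup.eq_of_le_of_card_ge inf_le_left (by rw [h4, X.card])
    rcases X.cen p hp (fun q hq => by
      rw [← h5] at hq
      exact (mem_centralizer_singleton_iff.1 (mem_inf.1 hq).2).symm) with h6 | h6
    · exact hp1 h6
    · exact hpz h6
  obtain ⟨k, hk⟩ := h2
  have hk0 : k ≠ 0 := by rintro rfl; omega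
  have hk1 : k ≠ 1 := by rintro rfl; omega
  have hk2 : k ≤ 2 := by
    by_contra h
    have h4 : 16 * 3 ≤ Nat.card (P ⊓ centralizer ({p} : Set G) : Subgroup G) * k :=
      Nat.mul_le_mul (by omega) (by omega)
    omega
  have hk3 : k = 2 := by omega
  subst hk3
  omega

/-- LEMMA A -/
theorem lemmaA [Finite G] {A B C : Subgroup G} (hA : E8 P z A) (hB : E8 P z B) (hC : E8 P z C)
    (hAB : Nat.card (A ⊓ B : Subgroup G) = 4) (hself : ∀ p ∈ P, (∀ a ∈ A, p * a = a * p) → p ∈ A) :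
    ∃ c ∈ C, c ≠ 1 ∧ c ≠ z ∧ (c ∈ A ∨ c ∈ B) := by
  classical
  obtain ⟨u, hu, hu1, huz⟩ := exists_pick2 (C := A ⊓ B) (by rw [hAB]; norm_num) 1 z
  have huA := (mem_inf.1 hu).1
  have huB := (mem_inf.1 hu).2
  have huP := hA.le huA
  obtain ⟨c1, hc1, hc11, hc1z⟩ := exists_pick2 (C := C) (by rw [hC.card]; norm_num) 1 z
  obtain ⟨c2, hc2, hc21, hc2z, hc2c, hc2cz⟩ := exists_pick4 (C := C) (by rw [hC.card]; norm_num) 1 z c1 (c1 * z)
  -- an element of `C` commuting with `u`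
  obtain ⟨c, hc, hc1', hcz', hcu⟩ : ∃ c ∈ C, c ≠ 1 ∧ c ≠ z ∧ u * c = c * u := by
    by_cases h1 : u * c1 = c1 * u
    · exact ⟨c1, hc1, hc11, hc1z, h1⟩
    by_cases h2 : u * c2 = c2 * u
    · exact ⟨c2, hc2, hc21, hc2z, h2⟩
    refine ⟨c1 * c2, C.mul_mem hc1 hc2, ?_, ?_, X.comm_mul huP (hC.le hc1) (hC.le hc2) h1 h2⟩
    · intro h
      apply hc2c
      rw [← inv_of_sq (hC.sq c1 hc1)]
      exact eq_inv_of_mul_eq_one_right h
    · intro h
      apply hc2cz
      rw [← h, ← mul_assoc, hC.sq c1 hc1, one_mul]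
  set U : Subgroup G := P ⊓ centralizer ({u} : Set G) with hU
  have hUc : Nat.card U = 16 := X.card_cent_eq huP hu1 huz
  have hAU : A ≤ U := fun a ha => mem_inf.2 ⟨hA.le ha, mem_centralizer_singleton_iff.2 (hA.comm ha huA)⟩
  have hBU : B ≤ U := fun a ha => mem_inf.2 ⟨hB.le ha, mem_centralizer_singleton_iff.2 (hB.comm ha huB)⟩
  have hcU : c ∈ U := mem_inf.2 ⟨hC.le hc, mem_centralizer_singleton_iff.2 hcu.symm⟩
  obtain ⟨a, ha, b, hb, hab⟩ := exists_mul_of_card hAU hBU (by rw [hUc, hAB, hA.card, hB.card]) hcU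
  have hcomm : a * b = b * a := comm_of_three (hA.sq a ha) (hB.sq b hb) (by rw [← hab]; exact hC.sq c hc)
  refine ⟨c, hc, hc1', hcz', ?_⟩
  by_cases haB : a ∈ B
  · right; rw [hab]; exact B.mul_mem haB hb
  left
  rw [hab]
  refine A.mul_mem ha (hself b (hB.le hb) fun a' ha' => ?_)
  by_cases haB' : a' ∈ B
  · exact hB.comm hb haB'
  · have h1 := inv_mul_mem_of_card (K := A ⊓ B) (A := A) inf_le_left (by rw [hAB, hA.card]) ha ha'
      (fun h => haB (mem_inf.1 h).2) (fun h => haB' (mem_inf.1 h).2)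
    have h2 := hB.comm hb (mem_inf.1 h1).2
    calc b * a' = (b * a) * (a⁻¹ * a') := by group
      _ = a * (b * (a⁻¹ * a')) := by rw [← hcomm]; group
      _ = a' * b := by rw [h2]; group

/-- LEMMA B -/
theorem lemmaB [Finite G] {A B C1 C2 : Subgroup G} (hA : E8 P z A) (hB : E8 P z B) (hC1 : E8 P z C1)
    (hC2 : E8 P z C2) (hAB : ∀ g ∈ A, g ∈ B → g = 1 ∨ g = z) (hC1A : ∀ g ∈ C1, g ∈ A → g = 1 ∨ g = z)
    (hC1B : ∀ g ∈ C1, g ∈ B → g = 1 ∨ g = z) (hC2A : ∀ g ∈ C2, g ∈ A → g = 1 ∨ g = z)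
    (hC2B : ∀ g ∈ C2, g ∈ B → g = 1 ∨ g = z) : C1 ≤ C2 := by
  intro c1 hc1
  by_cases hcz : c1 = 1 ∨ c1 = z
  · rcases hcz with rfl | rfl
    · exact C2.one_mem
    · exact hC2.hz
  have hinf : ∀ {A B : Subgroup G}, (∀ g ∈ A, g ∈ B → g = 1 ∨ g = z) →
      Nat.card (A ⊓ B : Subgroup G) ≤ 2 := by
    intro A B h
    rw [← card_zpowers_two X.zz X.z1]
    refine Subgroup.card_le_of_le fun g hg => ?_
    rw [mem_zpowers_two X.zz]
    exact h g (mem_inf.1 hg).1 (mem_inf.1 hg).2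
  obtain ⟨a, ha, b, hb, hab⟩ := exists_mul_of_card hA.le hB.le (by
    rw [X.card, hA.card, hB.card]
    calc 32 * Nat.card (A ⊓ B : Subgroup G) ≤ 32 * 2 := Nat.mul_le_mul_left _ (hinf hAB)
      _ = 8 * 8 := by norm_num) (hC1.le hc1)
  obtain ⟨c2, hc2, b', hb', hcb⟩ := exists_mul_of_card hC2.le hB.le (by
    rw [X.card, hC2.card, hB.card]
    calc 32 * Nat.card (C2 ⊓ B : Subgroup G) ≤ 32 * 2 := Nat.mul_le_mul_left _ (hinf hC2B)
      _ = 8 * 8 := by norm_num) (hA.le ha)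
  have haz : ¬ (a = 1 ∨ a = z) := by
    intro h
    refine hcz (hC1B c1 hc1 ?_)
    rw [hab]
    rcases h with rfl | rfl
    · exact B.mul_mem B.one_mem hb
    · exact B.mul_mem hB.hz hb
  have hbz : ¬ (b = 1 ∨ b = z) := by
    intro h
    refine hcz (hC1A c1 hc1 ?_)
    rw [hab]
    rcases h with rfl | rfl
    · exact A.mul_mem ha A.one_mem
    · exact A.mul_mem ha hA.hz
  have hbz' : ¬ (b' = 1 ∨ b' = z) := by
    intro h
    refine haz (hC2A a ?_ ha)
    rw [hcb]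
    rcases h with rfl | rfl
    · exact C2.mul_mem hc2 C2.one_mem
    · exact C2.mul_mem hc2 hC2.hz
  push Not at hbz hbz' haz
  have e1 : a * b = b * a := comm_of_three (hA.sq a ha) (hB.sq b hb) (by rw [← hab]; exact hC1.sq c1 hc1)
  have e2 : c2 = a * b' := by
    rw [hcb, mul_assoc, hB.sq b' hb', mul_one]
  have e3 : a * b' = b' * a := comm_of_three (hA.sq a ha) (hB.sq b' hb') (by rw [← e2]; exact hC2.sq c2 hc2)
  -- `b' ∈ b ⟨z⟩`
  have h1 : b' = b ∨ b' = b * z := by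
    by_contra hcon
    push Not at hcon
    have hS : B ⊓ centralizer ({a} : Set G) = B := by
      refine eq_of_three hB.card inf_le_left (z := z) (a := b) (b := b')
        (mem_inf.2 ⟨hB.hz, mem_centralizer_singleton_iff.2 (X.zc a (hA.le ha)).symm⟩)
        (mem_inf.2 ⟨hb, mem_centralizer_singleton_iff.2 e1.symm⟩)
        (mem_inf.2 ⟨hb', mem_centralizer_singleton_iff.2 e3.symm⟩) X.zz X.z1 hbz.1 hbz.2 hbz'.1 hbz'.2
        hcon.1 hcon.2
    have h2 := X.cen a (hA.le ha) (by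
      intro p hp
      obtain ⟨a1, ha1, b1, hb1, rfl⟩ := exists_mul_of_card hA.le hB.le (by
        rw [X.card, hA.card, hB.card]
        calc 32 * Nat.card (A ⊓ B : Subgroup G) ≤ 32 * 2 := Nat.mul_le_mul_left _ (hinf hAB)
          _ = 8 * 8 := by norm_num) hp
      rw [← hS] at hb1
      have h3 := mem_centralizer_singleton_iff.1 (mem_inf.1 hb1).2
      have h4 := hA.comm ha ha1
      calc a * (a1 * b1) = (a * a1) * b1 := by group
        _ = a1 * (a * b1) := by rw [h4]; group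
        _ = a1 * b1 * a := by rw [← h3]; group)
    rcases h2 with h2 | h2
    · exact haz.1 h2
    · exact haz.2 h2
  rcases h1 with h1 | h1
  · rw [hab, ← h1, ← e2]; exact hc2
  · have h2 : c1 = c2 * z := by
      rw [hab, e2, h1]
      have : a * (b * z) * z = a * b * (z * z) := by group
      rw [this, X.zz, mul_one]
    rw [h2]
    exact C2.mul_mem hc2 hC2.hz

end Ex

end Cfsg.Agent.GH.C2GrowL3X
end

-- part: GH/C2GrowL3C
section
/-!
# GH-C2, growth, `M/V = L₃(2)`: `P` is extraspecial; the subgroup `C`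
-/

set_option autoImplicit false

namespace Cfsg.Agent.GH.C2GrowL3C

open Subgroup Cfsg.Agent.GH.C2GrowL3Base Cfsg.Agent.GH.C2GrowL3V Cfsg.Agent.GH.C2GrowL3P
  Cfsg.Agent.GH.C2GrowL3X

variable {G : Type*} [Group G] {V T : Subgroup G} {z y x : G}

theorem comm_lemma {a b v w k : G} (hav : a * v = v * a) (haw : a * w = w * a)
    (hbw : b * w = w * b) (hvw : v * w = w * v) (hk : k = b * a * b⁻¹ * a⁻¹) (hka : a * k = k * a) :
    (a * b * v) * (a * w) * (a * b * v)⁻¹ * (a * w)⁻¹ = k := by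
  have h1 : (a * b * v) * (a * w) * (a * b * v)⁻¹ * (a * w)⁻¹ =
      (a * b) * (v * (a * w) * v⁻¹) * (a * b)⁻¹ * (a * w)⁻¹ := by group
  have h2 : v * (a * w) * v⁻¹ = a * w := by
    rw [← mul_assoc, ← hav, mul_assoc a v w, hvw]; group
  have h3 : (a * b) * (a * w) * (a * b)⁻¹ = a * b * a * b⁻¹ * a⁻¹ * w := by
    have h4 : w * b⁻¹ = b⁻¹ * w := by
      calc w * b⁻¹ = b⁻¹ * (b * w) * b⁻¹ := by group
        _ = b⁻¹ * w := by rw [hbw]; group
    have h5 : w * a⁻¹ = a⁻¹ * w := by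
      calc w * a⁻¹ = a⁻¹ * (a * w) * a⁻¹ := by group
        _ = a⁻¹ * w := by rw [haw]; group
    calc (a * b) * (a * w) * (a * b)⁻¹ = a * b * a * (w * b⁻¹) * a⁻¹ := by group
      _ = a * b * a * b⁻¹ * (w * a⁻¹) := by rw [h4]; group
      _ = _ := by rw [h5]; group
  rw [h1, h2, h3]
  calc a * b * a * b⁻¹ * a⁻¹ * w * (a * w)⁻¹ = a * (b * a * b⁻¹ * a⁻¹) * a⁻¹ := by group
    _ = k := by rw [← hk, hka]; group

namespace Cnf

variable (c : Conf V T z y x)
include c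

/-- `d` has no fixed points on `V / ⟨z⟩` -/
theorem fpfV [Finite G] {d : G} (hdz : d * z * d⁻¹ = z) (hdy : d * y * d⁻¹ = x)
    (hdx : d * x * d⁻¹ = y * x) {v : G} (hv : v ∈ V) (h : d * v * d⁻¹ = v ∨ d * v * d⁻¹ = z * v) :
    v = 1 ∨ v = z := by
  have b := c.bas
  have hcomm : ∀ {a b : G}, a ∈ V → b ∈ V → a * b = b * a := fun ha hb => c.hyp.comm ha hb
  have zz := c.zz
  have yy := c.hyp.sq y b.hy
  have xx := c.hyp.sq x b.hx
  have zc : ∀ a, z * (z * a) = a := fun a => by rw [← mul_assoc, zz, one_mul]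
  have yc : ∀ a, y * (y * a) = a := fun a => by rw [← mul_assoc, yy, one_mul]
  have xy : x * y = y * x := hcomm b.hx b.hy
  have dyx : d * (y * x) * d⁻¹ = y := by
    rw [conj_mul', hdy, hdx, ← mul_assoc, xy, mul_assoc, xx, mul_one]
  have dzy : d * (z * y) * d⁻¹ = z * x := by rw [conj_mul', hdz, hdy]
  have dzx : d * (z * x) * d⁻¹ = z * (y * x) := by rw [conj_mul', hdz, hdx]
  have dzyx : d * (z * (y * x)) * d⁻¹ = z * y := by rw [conj_mul', hdz, dyx]
  have k1 : x ≠ y := b.xy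
  have k2 : x ≠ z * y := b.xzy
  have k3 : y * x ≠ x := fun h => b.y1 (by simpa using h)
  have k4 : y * x ≠ z * x := fun h => b.yz (mul_right_cancel h)
  rcases c.hyp.mem b hv with h1 | h1 | h1 | h1 | h1 | h1 | h1 | h1
  · exact Or.inl h1
  · exact Or.inr h1
  · exfalso
    subst h1
    rw [hdy] at h
    rcases h with h | h
    · exact k1 h
    · exact k2 h
  · exfalso
    subst h1
    rw [dzy] at h
    rcases h with h | h
    · exact k1 (mul_left_cancel h)
    · rw [zc] at h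
      exact k2 (by rw [← h, zc])
  · exfalso
    subst h1
    rw [hdx] at h
    rcases h with h | h
    · exact k3 h
    · exact k4 h
  · exfalso
    subst h1
    rw [dzx] at h
    rcases h with h | h
    · exact k3 (mul_left_cancel h)
    · rw [zc] at h
      exact k4 (by rw [← zc (y * x), h])
  · exfalso
    subst h1
    rw [dyx] at h
    rcases h with h | h
    · exact b.x1 (by simpa using h)
    · apply b.xz
      have h2 : y * y = y * (z * (y * x)) := congrArg (y * ·) h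
      rw [yy] at h2
      have h3 : y * (z * (y * x)) = z * x := by
        rw [← mul_assoc, hcomm b.hy b.hz, mul_assoc, yc]
      rw [h3] at h2
      rw [← inv_of_sq zz]
      exact eq_inv_of_mul_eq_one_right h2.symm
  · exfalso
    subst h1
    rw [mul_assoc z y x, dzyx] at h
    rcases h with h | h
    · exact b.x1 (by simpa using (mul_left_cancel h : y = y * x))
    · rw [zc] at h
      apply b.xz
      have h2 : y * (z * y) = y * (y * x) := congrArg (y * ·) h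
      rw [yc, ← mul_assoc, hcomm b.hy b.hz, mul_assoc, yy, mul_one] at h2
      exact h2.symm

/-- generation of `P` -/
theorem genP [Finite G] {p1 p2 : G} (hp1 : p1 ∈ c.P) (h11 : p1 * y * p1⁻¹ = z * y) (h12 : p1 * x * p1⁻¹ = x)
    (hp2 : p2 ∈ c.P) (h21 : p2 * y * p2⁻¹ = y) (h22 : p2 * x * p2⁻¹ = z * x) {K : Subgroup G} (hVK : V ≤ K)
    (h1 : p1 ∈ K) (h2 : p2 ∈ K) : c.P ≤ K := by
  intro p hp
  have key : ∀ q ∈ c.P, q * y * q⁻¹ = p * y * p⁻¹ → q * x * q⁻¹ = p * x * p⁻¹ → q ∈ K → p ∈ K := by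
    intro q hq e1 e2 hqK
    have h3 : q⁻¹ * p ∈ V := by
      refine c.hyp.cent _ fun v hv => ?_
      have h4 := c.hyp.conj_ext (g := p) (k := q) c.bas (by rw [hp.2.1, hq.2.1]) e1.symm e2.symm v hv
      calc q⁻¹ * p * v = q⁻¹ * (p * v * p⁻¹) * p := by group
        _ = q⁻¹ * (q * v * q⁻¹) * p := by rw [h4]
        _ = v * (q⁻¹ * p) := by group
    have h5 := K.mul_mem hqK (hVK h3)
    rwa [mul_inv_cancel_left] at h5
  have h12' : p1 * p2 * y * (p1 * p2)⁻¹ = z * y := by rw [conj_conj, h21, h11]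
  have h12'' : p1 * p2 * x * (p1 * p2)⁻¹ = z * x := by
    rw [conj_conj, h22, conj_mul', hp1.2.1, h12]
  rcases hp.2.2 y c.bas.hy with e1 | e1 <;> rcases hp.2.2 x c.bas.hx with e2 | e2
  · exact key 1 (one_mem _) (by rw [e1]; group) (by rw [e2]; group) K.one_mem
  · exact key p2 hp2 (by rw [e1, h21]) (by rw [e2, h22]) h2
  · exact key p1 hp1 (by rw [e1, h11]) (by rw [e2, h12]) h1
  · exact key (p1 * p2) (c.P.mul_mem hp1 hp2) (by rw [e1, h12']) (by rw [e2, h12'']) (K.mul_mem h1 h2)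

/-- `P` is extraspecial. -/
theorem ex [Finite G] : Ex c.P z := by
  obtain ⟨p1, hp1, h11, h12⟩ := c.exists_p1
  obtain ⟨p2, hp2, h21, h22⟩ := c.exists_p2
  obtain ⟨d, hd, hd3, hdz, hdy, hdx⟩ := c.exists_d
  have b := c.bas
  have zz := c.zz
  have zP : z ∈ c.P := c.VP b.hz
  have hzc : ∀ p ∈ c.P, p * z = z * p := fun p hp => (conj_eq_iff _ _ _).1 hp.2.1
  -- the group `X = C(z)`, modulo `z`
  set X : Subgroup G := centralizer ({z} : Set G) with hX
  have hPX : ∀ p ∈ c.P, p ∈ X := fun p hp => mem_centralizer_singleton_iff.2 (hzc p hp)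
  have hzX : z ∈ X := hPX z zP
  set Z : Subgroup X := zpowers (⟨z, hzX⟩ : X) with hZ
  have hZn : Z.Normal := ⟨fun n hn g => by
    obtain ⟨k, rfl⟩ := hn
    have h1 : g * (⟨z, hzX⟩ : X) = ⟨z, hzX⟩ * g := Subtype.ext (mem_centralizer_singleton_iff.1 g.2)
    have h2 : g * (⟨z, hzX⟩ : X) ^ k * g⁻¹ = (⟨z, hzX⟩ : X) ^ k := by
      have := (show Commute g (⟨z, hzX⟩ : X) from h1).zpow_right k
      rw [this.eq]; group
    show g * (⟨z, hzX⟩ : X) ^ k * g⁻¹ ∈ Z
    rw [h2]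
    exact zpow_mem (mem_zpowers _) k⟩
  let π : X →* X ⧸ Z := QuotientGroup.mk' Z
  have hker : ∀ g : X, π g = 1 ↔ ((g : G) = 1 ∨ (g : G) = z) := by
    intro g
    rw [QuotientGroup.mk'_apply, QuotientGroup.eq_one_iff]
    have hzz' : (⟨z, hzX⟩ : X) * ⟨z, hzX⟩ = 1 := Subtype.ext zz
    rw [hZ, mem_zpowers_two hzz']
    constructor
    · rintro (h | h)
      · left; rw [h]; rfl
      · right; rw [h]
    · rintro (h | h)
      · left; exact Subtype.ext h
      · right; exact Subtype.ext h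
  have hpi : ∀ g k : X, π g = π k ↔ ((k : G) = g ∨ (k : G) = z * g) := by
    intro g k
    have h1 : π g = π k ↔ π (k * g⁻¹) = 1 := by
      rw [map_mul, map_inv, mul_inv_eq_one]
      exact eq_comm
    rw [h1, hker]
    push_cast
    rw [mul_inv_eq_one, mul_inv_eq_iff_eq_mul]
  have hcm : ∀ g k : X, Commute (π g) (π k) ↔ ((k : G) * g = g * k ∨ (k : G) * g = z * (g * k)) := by
    intro g k
    have h1 := hpi (g * k) (k * g)
    push_cast at h1
    rw [← h1, map_mul, map_mul]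
    exact Iff.rfl
  -- `V` is central in `P` modulo `z`
  have hVP : ∀ (p v : X), (p : G) ∈ c.P → (v : G) ∈ V → π p * π v = π v * π p := by
    intro p v hp hv
    refine ((hcm v p).2 ?_).eq.symm
    rcases hp.2.2 v hv with h1 | h1
    · left
      rw [conj_eq_iff] at h1; exact h1
    · right
      rw [conj_eq_iff] at h1; rw [h1]; group
  have hdX : d ∈ X := mem_centralizer_singleton_iff.2 ((conj_eq_iff _ _ _).1 hdz)
  let p1' : X := ⟨p1, hPX p1 hp1⟩
  let p2' : X := ⟨p2, hPX p2 hp2⟩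
  let d' : X := ⟨d, hdX⟩
  -- `d p2 d⁻¹ = p1 w`, `d p1 d⁻¹ = p1 p2 v`
  have hdi : ∀ a : G, d * a * d⁻¹ ∈ V → a ∈ V := by
    intro a ha
    have h1 := mem_norm (inv_mem hd) ha
    have h2 : d⁻¹ * (d * a * d⁻¹) * d⁻¹⁻¹ = a := by group
    rwa [h2] at h1
  have hact : ∀ {p q : G}, p ∈ c.P → q ∈ c.P → p * y * p⁻¹ = q * y * q⁻¹ → p * x * p⁻¹ = q * x * q⁻¹ →
      q⁻¹ * p ∈ V := by
    intro p q hp hq e1 e2
    refine c.hyp.cent _ fun v hv => ?_
    have h4 := c.hyp.conj_ext (g := p) (k := q) c.bas (by rw [hp.2.1, hq.2.1]) e1 e2 v hv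
    calc q⁻¹ * p * v = q⁻¹ * (p * v * p⁻¹) * p := by group
      _ = q⁻¹ * (q * v * q⁻¹) * p := by rw [h4]
      _ = v * (q⁻¹ * p) := by group
  have xy : x * y = y * x := c.hyp.comm b.hx b.hy
  have xx := c.hyp.sq x b.hx
  have dyx : d * (y * x) * d⁻¹ = y := by
    rw [conj_mul', hdy, hdx, ← mul_assoc, xy, mul_assoc, xx, mul_one]
  have di_x : d⁻¹ * x * d = y := by rw [← hdy]; group
  have di_y : d⁻¹ * y * d = y * x := by
    have h1 : d⁻¹ * (d * (y * x) * d⁻¹) * d = y * x := by group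
    rwa [dyx] at h1
  have hconjd : ∀ p a : G, d * p * d⁻¹ * a * (d * p * d⁻¹)⁻¹ = d * (p * (d⁻¹ * a * d) * p⁻¹) * d⁻¹ := by
    intro p a; group
  have hw : p1⁻¹ * (d * p2 * d⁻¹) ∈ V := by
    refine hact (c.P_conj hd hdz hp2) hp1 ?_ ?_
    · have f1 : p2 * (y * x) * p2⁻¹ = z * (y * x) := by
        rw [conj_mul', h21, h22, ← mul_assoc, c.hyp.comm b.hy b.hz, mul_assoc]
      rw [hconjd, di_y, h11, f1, conj_mul', hdz, dyx]
    · rw [hconjd, di_x, h21, h12, hdy]
  have hv : (p1 * p2)⁻¹ * (d * p1 * d⁻¹) ∈ V := by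
    refine hact (c.P_conj hd hdz hp1) (c.P.mul_mem hp1 hp2) ?_ ?_
    · have f1 : p1 * (y * x) * p1⁻¹ = z * (y * x) := by
        rw [conj_mul', h11, h12, mul_assoc]
      rw [hconjd, di_y, f1, conj_mul' d, hdz, dyx, conj_conj, h21, h11]
    · rw [hconjd, di_x, h11, conj_mul' d, hdz, hdy, conj_conj, h22, conj_mul', hp1.2.1, h12]
  -- the commutator
  set k0 : G := p2 * p1 * p2⁻¹ * p1⁻¹ with hk0
  have hk0V : k0 ∈ V := by
    have h1 : ((p1 * p2)⁻¹)⁻¹ = p1 * p2 := inv_inv _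
    have h2 : (p1 * p2)⁻¹ * (p2 * p1) ∈ V := by
      refine hact (c.P.mul_mem hp2 hp1) (c.P.mul_mem hp1 hp2) ?_ ?_
      · rw [conj_conj, conj_conj, h11, h21, h11, conj_mul', hp2.2.1, h21]
      · rw [conj_conj, conj_conj, h12, h22, conj_mul', hp1.2.1, h12]
    have h3 : k0 = (p1 * p2) * ((p1 * p2)⁻¹ * (p2 * p1)) * (p1 * p2)⁻¹ := by rw [hk0]; group
    rw [h3]
    exact mem_norm (c.P.mul_mem hp1 hp2).1 h2
  have hk0P : k0 ∈ c.P := c.VP hk0V
  have hdk : d * k0 * d⁻¹ = k0 ∨ d * k0 * d⁻¹ = z * k0 := by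
    have hVX : ∀ v ∈ V, v ∈ X := fun v hv => hPX v (c.VP hv)
    let v' : X := ⟨(p1 * p2)⁻¹ * (d * p1 * d⁻¹), hVX _ hv⟩
    let w' : X := ⟨p1⁻¹ * (d * p2 * d⁻¹), hVX _ hw⟩
    let k' : X := ⟨k0, hVX _ hk0V⟩
    have e1 : d' * p1' * d'⁻¹ = p1' * p2' * v' := Subtype.ext (by
      show d * p1 * d⁻¹ = p1 * p2 * ((p1 * p2)⁻¹ * (d * p1 * d⁻¹))
      group)
    have e2 : d' * p2' * d'⁻¹ = p1' * w' := Subtype.ext (by
      show d * p2 * d⁻¹ = p1 * (p1⁻¹ * (d * p2 * d⁻¹))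
      group)
    have e3 : d' * k' * d'⁻¹ = (d' * p2' * d'⁻¹) * (d' * p1' * d'⁻¹) * (d' * p2' * d'⁻¹)⁻¹ *
        (d' * p1' * d'⁻¹)⁻¹ := Subtype.ext (by
      show d * (p2 * p1 * p2⁻¹ * p1⁻¹) * d⁻¹ = (d * p2 * d⁻¹) * (d * p1 * d⁻¹) * (d * p2 * d⁻¹)⁻¹ *
        (d * p1 * d⁻¹)⁻¹
      group)
    have e4 : (d' * k' * d'⁻¹)⁻¹ = (p1' * p2' * v') * (p1' * w') * (p1' * p2' * v')⁻¹ * (p1' * w')⁻¹ := by
      rw [e3, e1, e2]; group
    have e5 : π (d' * k' * d'⁻¹)⁻¹ = π k' := by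
      rw [e4]
      simp only [map_mul, map_inv]
      refine comm_lemma (hVP p1' v' hp1 hv) (hVP p1' w' hp1 hw) (hVP p2' w' hp2 hw)
        (hVP v' w' (c.VP hv) hw) ?_ (hVP p1' k' hp1 hk0V)
      have : k' = p2' * p1' * p2'⁻¹ * p1'⁻¹ := Subtype.ext rfl
      rw [this]
      simp only [map_mul, map_inv]
    have e6 : π (d' * k' * d'⁻¹) = π k' := by
      have e7 : π k' = (π k')⁻¹ := by
        rw [← map_inv]
        congr 1
        exact Subtype.ext (inv_of_sq (c.hyp.sq k0 hk0V)).symm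
      rw [map_inv] at e5
      rw [← inv_inv (π (d' * k' * d'⁻¹)), e5, ← e7]
    have e8 := (hpi k' (d' * k' * d'⁻¹)).1 e6.symm
    exact e8
  have hk01 : k0 = 1 ∨ k0 = z := fpfV c hdz hdy hdx hk0V hdk
  have h12c : π p1' * π p2' = π p2' * π p1' := by
    refine ((hcm p1' p2').2 ?_).eq
    show p2 * p1 = p1 * p2 ∨ p2 * p1 = z * (p1 * p2)
    have h1 : p2 * p1 = k0 * (p1 * p2) := by rw [hk0]; group
    rcases hk01 with h2 | h2
    · left; rw [h1, h2, one_mul]
    · right; rw [h1, h2]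
  -- centralizers modulo `z`
  have key : ∀ p q : X, (p : G) ∈ c.P → (q : G) ∈ c.P → π p * π q = π q * π p := by
    -- the preimage of a centraliser
    have hsub : ∀ a : X ⧸ Z, (∀ v : X, (v : G) ∈ V → a * π v = π v * a) → a * π p1' = π p1' * a →
        a * π p2' = π p2' * a → ∀ q : X, (q : G) ∈ c.P → a * π q = π q * a := by
      intro a hV1 h1 h2 q hq
      let K : Subgroup G := ((centralizer ({a} : Set (X ⧸ Z))).comap π).map X.subtype
      have hK : ∀ g : X, a * π g = π g * a → (g : G) ∈ K := by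
        intro g hg
        exact ⟨g, mem_centralizer_singleton_iff.2 hg.symm, rfl⟩
      have h3 := genP c hp1 h11 h12 hp2 h21 h22 (K := K) (fun v hv => hK ⟨v, hPX v (c.VP hv)⟩ (hV1 _ hv))
        (hK p1' h1) (hK p2' h2) hq
      obtain ⟨g, hg, hgq⟩ := h3
      have h4 : g = q := Subtype.ext hgq
      rw [← h4]
      exact (mem_centralizer_singleton_iff.1 hg).symm
    have s1 : ∀ q : X, (q : G) ∈ c.P → π p1' * π q = π q * π p1' :=
      hsub _ (fun v hv => hVP p1' v hp1 hv) rfl h12c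
    have s2 : ∀ q : X, (q : G) ∈ c.P → π p2' * π q = π q * π p2' :=
      hsub _ (fun v hv => hVP p2' v hp2 hv) h12c.symm rfl
    intro p q hp hq
    exact (hsub (π q) (fun v hv => hVP q v hq hv) (s1 q hq).symm (s2 q hq).symm p hp).symm
  have hcomm : ∀ p ∈ c.P, ∀ q ∈ c.P, p * q = q * p ∨ p * q = z * (q * p) := by
    intro p hp q hq
    exact (hcm ⟨q, hPX q hq⟩ ⟨p, hPX p hp⟩).1 (key ⟨q, hPX q hq⟩ ⟨p, hPX p hp⟩ hq hp)
  refine ⟨c.cardP, zP, b.z1, zz, hzc, hcomm, fun p hp h => ?_⟩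
  have hpV : p ∈ V := c.hyp.cent p fun v hv => h v (c.VP hv)
  have e1 : p1 * p * p1⁻¹ = p := by rw [conj_eq_iff]; exact (h p1 hp1).symm
  have e2 : p2 * p * p2⁻¹ = p := by rw [conj_eq_iff]; exact (h p2 hp2).symm
  have hz1 : ∀ a : G, z * a = a → False := fun a ha => b.z1 (by simpa using ha)
  have zy : z * y = y * z := c.hyp.comm b.hz b.hy
  rcases c.hyp.mem b hpV with h1 | h1 | h1 | h1 | h1 | h1 | h1 | h1
  · exact Or.inl h1
  · exact Or.inr h1
  · exfalso; rw [h1, h11] at e1; exact hz1 _ e1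
  · exfalso; rw [h1, conj_mul', hp1.2.1, h11] at e1; exact hz1 _ (mul_left_cancel e1)
  · exfalso; rw [h1, h22] at e2; exact hz1 _ e2
  · exfalso; rw [h1, conj_mul', hp2.2.1, h22] at e2; exact hz1 _ (mul_left_cancel e2)
  · exfalso; rw [h1, conj_mul', h11, h12, mul_assoc] at e1; exact hz1 _ e1
  · exfalso
    rw [h1, mul_assoc z y x, conj_mul', conj_mul' p1 y x, hp1.2.1, h11, h12, mul_assoc z y x] at e1
    exact hz1 _ (mul_left_cancel e1)

end Cnf

end Cfsg.Agent.GH.C2GrowL3C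
end

-- part: GH/C2GrowL3D
section
/-!
# GH-C2, growth, `M/V = L₃(2)`: the case `N_W(P) > P`
-/

set_option autoImplicit false

namespace Cfsg.Agent.GH.C2GrowL3D

open Subgroup Cfsg.Agent.GH.C2GrowL3Base Cfsg.Agent.GH.C2GrowL3V Cfsg.Agent.GH.C2GrowL3P
  Cfsg.Agent.GH.C2GrowL3X Cfsg.Agent.GH.C2GrowL3C

variable {G : Type*} [Group G] {V T : Subgroup G} {z y x : G}

/-- the element `d` -/
structure DD (V : Subgroup G) (z y x d : G) : Prop where
  norm : d ∈ normalizer (V : Set G)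
  three : d ^ 3 = 1
  dz : d * z * d⁻¹ = z
  dy : d * y * d⁻¹ = x
  dx : d * x * d⁻¹ = y * x

/-- conjugate subgroup -/
def cj (g : G) (A : Subgroup G) : Subgroup G := A.map (MulAut.conj g).toMonoidHom

theorem mem_cj {g a : G} {A : Subgroup G} : a ∈ cj g A ↔ g⁻¹ * a * g ∈ A := by
  constructor
  · rintro ⟨b, hb, rfl⟩
    have : g⁻¹ * (g * b * g⁻¹) * g = b := by group
    show g⁻¹ * (g * b * g⁻¹) * g ∈ A
    rw [this]; exact hb
  · intro h
    refine ⟨_, h, ?_⟩
    show g * (g⁻¹ * a * g) * g⁻¹ = a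
    group

theorem conj_mem_cj {g a : G} {A : Subgroup G} (ha : a ∈ A) : g * a * g⁻¹ ∈ cj g A := ⟨a, ha, rfl⟩

theorem card_cj (g : G) (A : Subgroup G) : Nat.card (cj g A) = Nat.card A :=
  Nat.card_congr (A.equivMapOfInjective _ (MulAut.conj g).injective).toEquiv.symm

/-- The situation `N_W(P) > P`. -/
structure Big (V T E : Subgroup G) (z y x : G) (c : Conf V T z y x) : Prop where
  PE : c.P ≤ E
  two : IsPGroup 2 E
  normP : ∀ g ∈ E, ∀ p ∈ c.P, g * p * g⁻¹ ∈ c.P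
  zE : ∀ g ∈ E, g * z * g⁻¹ = z
  inf : ∀ g ∈ E, g ∈ normalizer (V : Set G) → g ∈ c.P
  ne : ∃ g ∈ E, g ∉ c.P
  norm : ∀ g ∈ normalizer (V : Set G), g * z * g⁻¹ = z → ∀ k ∈ E, g * k * g⁻¹ ∈ E

/-- The output. -/
structure Conf2 (V T E C : Subgroup G) (z y x t : G) (c : Conf V T z y x) : Prop where
  PE : c.P ≤ E
  zE : ∀ g ∈ E, g * z * g⁻¹ = z
  tE : t ∈ E
  tP : t ∉ c.P
  idx : ∀ g ∈ E, g ∉ c.P → t⁻¹ * g ∈ c.P
  normP : ∀ g ∈ E, ∀ p ∈ c.P, g * p * g⁻¹ ∈ c.P
  inf : ∀ g ∈ E, g ∈ normalizer (V : Set G) → g ∈ c.P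
  TE : ∀ g ∈ T, ∀ k ∈ E, g * k * g⁻¹ ∈ E
  e8 : E8 c.P z C
  CE : ∀ g ∈ E, ∀ a ∈ C, g * a * g⁻¹ = a ∨ g * a * g⁻¹ = z * a
  memC : ∀ a ∈ c.P, (∀ g ∈ E, g * a * g⁻¹ = a ∨ g * a * g⁻¹ = z * a) → a ∈ C
  CV : ∀ a ∈ C, a ∈ V → a = 1 ∨ a = z
  Vt : ∀ v ∈ V, t * v * t⁻¹ ∈ V → v = 1 ∨ v = z

variable {c : Conf V T z y x}

/-- `d` has no fixed points on `P / ⟨z⟩` -/
theorem fpfP [Finite G] {d : G} (hd : DD V z y x d) {a : G} (ha : a ∈ c.P)
    (h : d * a * d⁻¹ = a ∨ d * a * d⁻¹ = z * a) : a = 1 ∨ a = z := by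
  have b := c.bas
  have zz := c.zz
  have h1 : ∀ v ∈ V, d * (a * v * a⁻¹) * d⁻¹ = a * (d * v * d⁻¹) * a⁻¹ := by
    intro v hv
    have h2 : d * (a * v * a⁻¹) * d⁻¹ = (d * a * d⁻¹) * (d * v * d⁻¹) * (d * a * d⁻¹)⁻¹ := by group
    rw [h2]
    rcases h with h | h
    · rw [h]
    · have h3 := (conj_eq_iff _ _ _).1 (show z * (a * (d * v * d⁻¹) * a⁻¹) * z⁻¹ = a * (d * v * d⁻¹) * a⁻¹ by
        rw [conj_eq_iff]
        exact c.hyp.comm b.hz (mem_norm ha.1 (mem_norm hd.norm hv)))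
      rw [h]
      calc z * a * (d * v * d⁻¹) * (z * a)⁻¹ = (z * (a * (d * v * d⁻¹) * a⁻¹)) * z⁻¹ := by group
        _ = a * (d * v * d⁻¹) * a⁻¹ := by rw [h3]; group
  have hay : a * y * a⁻¹ = y := by
    rcases ha.2.2 y b.hy with h2 | h2
    · exact h2
    · exfalso
      have h3 := h1 y b.hy
      rw [h2, conj_mul', hd.dz, hd.dy] at h3
      have h4 := h1 x b.hx
      rw [← h3, conj_mul', hd.dz, hd.dx, conj_mul' a y x, h2, ← h3] at h4
      have h5 : z * y * (z * x) = y * x := by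
        rw [mul_assoc, ← mul_assoc y z x, c.hyp.comm b.hy b.hz, mul_assoc z y x, ← mul_assoc z z, zz, one_mul]
      rw [h5] at h4
      exact b.z1 (by simpa using h4)
  have hax : a * x * a⁻¹ = x := by
    have h3 := h1 y b.hy
    rw [hay, hd.dy] at h3
    exact h3.symm
  exact Cnf.fpfV c hd.dz hd.dy hd.dx (c.hyp.mem_of_conj b ha.2.1 hay hax) h

theorem relIndex_of [Finite G] {d : G} (hd : DD V z y x d) {K : Subgroup G} (hKP : K ≤ c.P) (hz : z ∈ K)
    (hdK : ∀ a ∈ K, d * a * d⁻¹ ∈ K) : ∃ m, Nat.card K = 2 * m ∧ m ≡ 1 [MOD 3] := by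
  have zz := c.zz
  have h1 := mod_three (A := K) (B := zpowers z) hd.three hdK (fun b hb => by
    rw [mem_zpowers_two zz] at hb ⊢
    rcases hb with rfl | rfl
    · left; group
    · right; exact hd.dz) (fun a ha h => by
      rw [mem_zpowers_two zz] at h ⊢
      refine fpfP (c := c) hd (hKP ha) ?_
      rcases h with h | h
      · left
        rw [inv_mul_eq_one] at h
        exact h.symm
      · right
        rw [inv_mul_eq_iff_eq_mul] at h
        rw [h]
        exact (conj_eq_iff _ _ _).1 (hKP ha).2.1)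
  refine ⟨(zpowers z).relIndex K, ?_, h1⟩
  rw [← card_mul_relIndex (zpowers_le.2 hz : zpowers z ≤ K), card_zpowers_two zz c.bas.z1]

/-- squares of elements of `P` -/
theorem sqP [Finite G] {a : G} (ha : a ∈ c.P) : a * a = 1 ∨ a * a = z := by
  have X := Cnf.ex c
  refine X.cen _ (c.P.mul_mem ha ha) fun q hq => ?_
  rcases X.comm a ha q hq with h | h
  · rw [mul_assoc, h, ← mul_assoc, h, mul_assoc]
  · have h1 := X.zc a ha
    calc a * a * q = a * (a * q) := by group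
      _ = (a * z) * (q * a) := by rw [h]; group
      _ = z * (a * q) * a := by rw [h1]; group
      _ = (z * z) * (q * (a * a)) := by rw [h]; group
      _ = q * (a * a) := by rw [X.zz, one_mul]

/-- `C = {p ∈ P | [p, E] ≤ ⟨z⟩}` -/
def Cg (E : Subgroup G) (c : Conf V T z y x) : Subgroup G where
  carrier := {a | a ∈ c.P ∧ ∀ g ∈ E, g * a * g⁻¹ = a ∨ g * a * g⁻¹ = z * a}
  one_mem' := ⟨c.P.one_mem, fun g _ => Or.inl (by group)⟩
  mul_mem' := by
    rintro a b ⟨ha, ha'⟩ ⟨hb, hb'⟩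
    refine ⟨c.P.mul_mem ha hb, fun g hg => ?_⟩
    have h1 := (conj_eq_iff _ _ _).1 ha.2.1
    rw [conj_mul']
    rcases ha' g hg with h2 | h2 <;> rcases hb' g hg with h3 | h3 <;> rw [h2, h3]
    · left; rfl
    · right; rw [← mul_assoc, h1, mul_assoc]
    · right; rw [mul_assoc]
    · left
      rw [mul_assoc, ← mul_assoc a z b, h1, ← mul_assoc, ← mul_assoc, c.zz, one_mul]
  inv_mem' := by
    rintro a ⟨ha, ha'⟩
    refine ⟨c.P.inv_mem ha, fun g hg => ?_⟩
    have h1 := (conj_eq_iff _ _ _).1 ha.2.1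
    have h0 : g * a⁻¹ * g⁻¹ = (g * a * g⁻¹)⁻¹ := by group
    rw [h0]
    rcases ha' g hg with h2 | h2 <;> rw [h2]
    · left; rfl
    · right
      rw [← h1, mul_inv_rev, inv_of_sq c.zz]

theorem conf2 [Finite G] {E : Subgroup G} (B : Big V T E z y x c) : ∃ C t, Conf2 V T E C z y x t c := by
  classical
  obtain ⟨d, hd1, hd2, hd3, hd4, hd5⟩ := c.exists_d
  have hd : DD V z y x d := ⟨hd1, hd2, hd3, hd4, hd5⟩
  have X := Cnf.ex c
  have zz := c.zz
  have b := c.bas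
  have zP : z ∈ c.P := c.VP b.hz
  set C := Cg E c with hC
  have memC : ∀ a, a ∈ C ↔ a ∈ c.P ∧ ∀ g ∈ E, g * a * g⁻¹ = a ∨ g * a * g⁻¹ = z * a := fun a => Iff.rfl
  have hCP : C ≤ c.P := fun a ha => ha.1
  have hzC : z ∈ C := ⟨zP, fun g hg => Or.inl (B.zE g hg)⟩
  have hCE : ∀ g ∈ E, ∀ a ∈ C, g * a * g⁻¹ ∈ C := by
    intro g hg a ha
    rcases ha.2 g hg with h | h
    · rw [h]; exact ha
    · rw [h]; exact C.mul_mem hzC ha
  have hdC : ∀ a ∈ C, d * a * d⁻¹ ∈ C := by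
    intro a ha
    refine ⟨c.P_conj hd.norm hd.dz ha.1, fun g hg => ?_⟩
    have hdi : d⁻¹ * z * d⁻¹⁻¹ = z := by
      have h1 := hd.dz
      have : d⁻¹ * (d * z * d⁻¹) * d⁻¹⁻¹ = z := by group
      rwa [h1] at this
    have h1 := B.norm d⁻¹ (inv_mem hd.norm) hdi g hg
    have h2 : g * (d * a * d⁻¹) * g⁻¹ = d * ((d⁻¹ * g * d⁻¹⁻¹) * a * (d⁻¹ * g * d⁻¹⁻¹)⁻¹) * d⁻¹ := by group
    rw [h2]
    rcases ha.2 _ h1 with h3 | h3
    · left; rw [h3]
    · right; rw [h3, conj_mul', hd.dz]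
  have hzpE : ∀ t ∈ E, ∀ b ∈ zpowers z, t * b * t⁻¹ ∈ zpowers z := by
    intro t ht b hb
    rw [mem_zpowers_two zz] at hb ⊢
    rcases hb with rfl | rfl
    · left; group
    · right; exact B.zE t ht
  have hcz := card_zpowers_two zz b.z1
  -- fixed points modulo `z`
  have hfix : ∀ {A : Subgroup G}, A ≤ c.P → z ∈ A → 2 < Nat.card A → (∀ t ∈ E, ∀ a ∈ A, t * a * t⁻¹ ∈ A) →
      ∃ a ∈ A, a ≠ 1 ∧ a ≠ z ∧ a ∈ C := by
    intro A hAP hzA hA2 hAE
    have hAtwo : IsPGroup 2 A := c.P_two.to_le hAP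
    obtain ⟨a, ha, haz, h⟩ := exists_fix B.two hAtwo (zpowers_le.2 hzA) (by
      intro h; rw [← h, hcz] at hA2; omega) hAE hzpE
    rw [mem_zpowers_two zz] at haz
    push Not at haz
    refine ⟨a, ha, haz.1, haz.2, hAP ha, fun g hg => ?_⟩
    have h1 := h g hg
    rw [mem_zpowers_two zz] at h1
    rcases h1 with h1 | h1
    · left
      rw [inv_mul_eq_one] at h1
      exact h1.symm
    · right
      rw [inv_mul_eq_iff_eq_mul] at h1
      rw [h1]
      exact (conj_eq_iff _ _ _).1 (hAP ha).2.1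
  obtain ⟨g0, hg0E, hg0P⟩ := B.ne
  -- a subgroup of `P` whose elements are fixed mod `z` cannot be `V`
  have hVC : ¬ V ≤ C := by
    intro h
    refine hg0P (B.inf g0 hg0E ?_)
    rw [mem_normalizer_iff]
    have h1 : ∀ g ∈ E, ∀ v ∈ V, g * v * g⁻¹ ∈ V := by
      intro g hg v hv
      rcases (h hv).2 g hg with h2 | h2
      · rw [h2]; exact hv
      · rw [h2]; exact V.mul_mem b.hz hv
    intro v
    refine ⟨h1 g0 hg0E v, fun hv => ?_⟩
    have h2 := h1 g0⁻¹ (E.inv_mem hg0E) _ hv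
    have h3 : g0⁻¹ * (g0 * v * g0⁻¹) * g0⁻¹⁻¹ = v := by group
    rwa [h3] at h2
  -- order of `C`
  have hC8 : Nat.card C = 8 := by
    obtain ⟨m, hm, hm3⟩ := relIndex_of (c := c) hd hCP hzC hdC
    have h1 : Nat.card C ∣ 32 := X.card ▸ Subgroup.card_dvd_of_le hCP
    have h2 : Nat.card C ≠ 32 := by
      intro h2
      have h3 : C = c.P := Subgroup.eq_of_le_of_card_ge hCP (by rw [h2]; exact X.card.le)
      exact hVC (by rw [h3]; exact c.VP)
    have h3 : Nat.card C ≠ 2 := by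
      intro h3
      obtain ⟨a, ha, ha1, haz, haC⟩ := hfix le_rfl zP (by rw [X.card]; norm_num) B.normP
      have h4 : zpowers z = C := Subgroup.eq_of_le_of_card_ge (zpowers_le.2 hzC) (by rw [h3, hcz])
      rw [← h4, mem_zpowers_two zz] at haC
      rcases haC with h | h
      · exact ha1 h
      · exact haz h
    rw [hm] at h1 h2 h3 ⊢
    have h4 : m ∣ 16 := by
      have : 2 * m ∣ 2 * 16 := h1
      exact Nat.dvd_of_mul_dvd_mul_left (by norm_num) this
    have h5 : m ∈ Nat.divisors 16 := Nat.mem_divisors.2 ⟨h4, by norm_num⟩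
    have h6 : Nat.divisors 16 = {1, 2, 4, 8, 16} := by decide
    rw [h6] at h5
    simp only [Finset.mem_insert, Finset.mem_singleton] at h5
    have h7 : m % 3 = 1 := hm3
    omega
  -- an element of `C` outside `⟨z⟩`
  obtain ⟨a, haC, ha1, haz⟩ := exists_pick2 (C := C) (by rw [hC8]; norm_num) 1 z
  have hgen : ∀ {a : G}, a ∈ C → a ≠ 1 → a ≠ z → ∀ {S : Subgroup G}, S ≤ C → z ∈ S → a ∈ S →
      d * a * d⁻¹ ∈ S → S = C := by
    intro a haC ha1 haz S hS hz ha hda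
    have hcz' : a * z = z * a := (conj_eq_iff _ _ _).1 (hCP haC).2.1
    refine eq_of_three hC8 hS hz ha hda zz b.z1 ha1 haz ?_ ?_ ?_ ?_
    · intro h; exact ha1 (conj_inj (g := d) (by rw [h]; group))
    · intro h; exact haz (conj_inj (g := d) (by rw [h, hd.dz]))
    · intro h
      rcases fpfP (c := c) hd (hCP haC) (Or.inl h) with h1 | h1
      · exact ha1 h1
      · exact haz h1
    · intro h
      rcases fpfP (c := c) hd (hCP haC) (Or.inr (by rw [h, hcz'])) with h1 | h1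
      · exact ha1 h1
      · exact haz h1
  -- `C` is abelian
  have hCab : ∀ a ∈ C, ∀ b ∈ C, a * b = b * a := by
    set D : Subgroup G := c.P ⊓ centralizer (C : Set G) with hD
    have hDE : ∀ t ∈ E, ∀ q ∈ D, t * q * t⁻¹ ∈ D := by
      intro t ht q hq
      refine mem_inf.2 ⟨B.normP t ht q (mem_inf.1 hq).1, ?_⟩
      rw [mem_centralizer_iff]
      intro k hk
      have h1 := hCE t⁻¹ (E.inv_mem ht) k hk
      have h2 := mem_centralizer_iff.1 (mem_inf.1 hq).2 _ h1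
      calc k * (t * q * t⁻¹) = t * ((t⁻¹ * k * t⁻¹⁻¹) * q) * t⁻¹ := by group
        _ = t * (q * (t⁻¹ * k * t⁻¹⁻¹)) * t⁻¹ := by rw [h2]
        _ = t * q * t⁻¹ * k := by group
    have hzD : z ∈ D := mem_inf.2 ⟨zP, mem_centralizer_iff.2 fun k hk => (X.zc k (hCP hk))⟩
    -- order of `D`
    have hD8 : 8 ≤ Nat.card D := by
      set a' := d * a * d⁻¹ with ha'
      have ha'C : a' ∈ C := hdC a haC
      have h1 := X.card_cent (K := c.P) le_rfl (hCP haC)
      have h2 := X.card_cent (K := c.P ⊓ centralizer ({a} : Set G)) inf_le_left (hCP ha'C)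
      have h3 : c.P ⊓ centralizer ({a} : Set G) ⊓ centralizer ({a'} : Set G) ≤ D := by
        intro q hq
        have hqP := (mem_inf.1 (mem_inf.1 hq).1).1
        have e1 := mem_centralizer_singleton_iff.1 (mem_inf.1 (mem_inf.1 hq).1).2
        have e2 := mem_centralizer_singleton_iff.1 (mem_inf.1 hq).2
        refine mem_inf.2 ⟨hqP, ?_⟩
        have h4 : C ⊓ centralizer ({q} : Set G) = C := by
          refine hgen haC ha1 haz inf_le_left (mem_inf.2 ⟨hzC, ?_⟩) (mem_inf.2 ⟨haC, ?_⟩)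
            (mem_inf.2 ⟨ha'C, ?_⟩) <;> rw [mem_centralizer_singleton_iff]
          · exact (X.zc q hqP).symm
          · exact e1.symm
          · exact e2.symm
        rw [mem_centralizer_iff]
        intro k hk
        rw [SetLike.mem_coe, ← h4] at hk
        exact mem_centralizer_singleton_iff.1 (mem_inf.1 hk).2
      have h4 := Subgroup.card_le_of_le h3
      rw [X.card] at h1
      omega
    obtain ⟨q, hq, hq1, hqz, hqC⟩ := hfix (A := D) inf_le_left hzD (by omega) hDE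
    -- `Z(C)`
    set Z : Subgroup G := C ⊓ centralizer (C : Set G) with hZ
    have hZd : ∀ a ∈ Z, d * a * d⁻¹ ∈ Z := by
      intro a ha
      refine mem_inf.2 ⟨hdC a (mem_inf.1 ha).1, mem_centralizer_iff.2 fun k hk => ?_⟩
      -- `d⁻¹ k d ∈ C`
      have hdi : d⁻¹ * k * d ∈ C := by
        have h1 := hdC _ (hdC k hk)
        have h2 : d * (d * k * d⁻¹) * d⁻¹ = d⁻¹ * (d ^ 3 * k * (d ^ 3)⁻¹) * d := by
          simp only [pow_succ, pow_zero]; group
        rw [h2, hd.three] at h1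
        simpa only [_root_.one_mul, _root_.inv_one, _root_.mul_one] using h1
      have h2 := mem_centralizer_iff.1 (mem_inf.1 ha).2 _ hdi
      calc k * (d * a * d⁻¹) = d * ((d⁻¹ * k * d) * a) * d⁻¹ := by group
        _ = d * (a * (d⁻¹ * k * d)) * d⁻¹ := by rw [h2]
        _ = d * a * d⁻¹ * k := by group
    have hqZ : q ∈ Z := mem_inf.2 ⟨hqC, (mem_inf.1 hq).2⟩
    have hzZ : z ∈ Z := mem_inf.2 ⟨hzC, (mem_inf.1 hzD).2⟩
    have hZC : Z = C := hgen hqC hq1 hqz inf_le_left hzZ hqZ (hZd q hqZ)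
    intro a ha b' hb
    rw [← hZC] at ha
    exact (mem_centralizer_iff.1 (mem_inf.1 ha).2 b' hb).symm
  -- `C` is elementary abelian
  have hCsq : ∀ a ∈ C, a * a = 1 := by
    obtain ⟨a', ha'C, ha'1, ha'z, ha'sq⟩ : ∃ a' ∈ C, a' ≠ 1 ∧ a' ≠ z ∧ a' * a' = 1 := by
      rcases sqP (c := c) (hCP haC) with h | h
      · exact ⟨a, haC, ha1, haz, h⟩
      have hda := hdC a haC
      have e1 : (d * a * d⁻¹) * (d * a * d⁻¹) = z := by rw [← conj_mul', h, hd.dz]
      have e2 := hCab a haC _ hda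
      refine ⟨a * (d * a * d⁻¹), C.mul_mem haC hda, ?_, ?_, ?_⟩
      · intro h1
        -- `d a d⁻¹ = a⁻¹ = z a`
        have h2 : d * a * d⁻¹ = z * a := by
          have h3 : d * a * d⁻¹ = a⁻¹ := eq_inv_of_mul_eq_one_right h1
          rw [h3, inv_eq_iff_mul_eq_one, ← mul_assoc, (conj_eq_iff _ _ _).1 (hCP haC).2.1, mul_assoc, h, zz]
        rcases fpfP (c := c) hd (hCP haC) (Or.inr h2) with h3 | h3
        · exact ha1 h3
        · exact haz h3
      · intro h1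
        have h2 : d * a * d⁻¹ = a := by
          rw [← h] at h1
          exact mul_left_cancel h1
        rcases fpfP (c := c) hd (hCP haC) (Or.inl h2) with h3 | h3
        · exact ha1 h3
        · exact haz h3
      · calc a * (d * a * d⁻¹) * (a * (d * a * d⁻¹)) = a * ((d * a * d⁻¹) * a) * (d * a * d⁻¹) := by group
          _ = (a * a) * ((d * a * d⁻¹) * (d * a * d⁻¹)) := by rw [← e2]; group
          _ = 1 := by rw [h, e1, zz]
    let S : Subgroup G :=
      { carrier := {a | a ∈ C ∧ a * a = 1}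
        one_mem' := ⟨C.one_mem, one_mul 1⟩
        mul_mem' := by
          rintro a b ⟨ha, ha'⟩ ⟨hb, hb'⟩
          refine ⟨C.mul_mem ha hb, ?_⟩
          have := hCab a ha b hb
          calc a * b * (a * b) = a * (b * a) * b := by group
            _ = (a * a) * (b * b) := by rw [← this]; group
            _ = 1 := by rw [ha', hb', one_mul]
        inv_mem' := by
          rintro a ⟨ha, ha'⟩
          refine ⟨C.inv_mem ha, ?_⟩
          rw [inv_of_sq ha']; exact ha' }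
    have hSC : S = C := by
      refine hgen ha'C ha'1 ha'z (fun a ha => ha.1) ⟨hzC, zz⟩ ⟨ha'C, ha'sq⟩ ⟨hdC a' ha'C, ?_⟩
      rw [← conj_mul', ha'sq]; group
    intro a ha
    rw [← hSC] at ha
    exact ha.2
  have e8C : E8 c.P z C := ⟨hCP, hC8, hzC, hCsq⟩
  have e8V : E8 c.P z V := ⟨c.VP, c.hyp.card, b.hz, c.hyp.sq⟩
  -- `C ∩ V`
  have hCV : ∀ a ∈ C, a ∈ V → a = 1 ∨ a = z := by
    intro a ha haV
    by_contra hcon
    push Not at hcon
    have h1 : C ⊓ V = C := hgen ha hcon.1 hcon.2 inf_le_left (mem_inf.2 ⟨hzC, b.hz⟩) (mem_inf.2 ⟨ha, haV⟩)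
      (mem_inf.2 ⟨hdC a ha, mem_norm hd.norm haV⟩)
    have h2 : C ≤ V := inf_eq_left.1 h1
    have h3 : C = V := Subgroup.eq_of_le_of_card_ge h2 (by rw [hC8, c.hyp.card])
    exact hVC h3.ge
  -- conjugates of `V` under `E - P`
  have hself : ∀ r : G, ∀ p : G, (∀ a ∈ cj r V, p * a = a * p) → p ∈ cj r V := by
    intro r p hp
    rw [mem_cj]
    refine c.hyp.cent _ fun v hv => ?_
    have h1 := hp _ (conj_mem_cj hv)
    calc r⁻¹ * p * r * v = r⁻¹ * (p * (r * v * r⁻¹)) * r := by group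
      _ = r⁻¹ * (r * v * r⁻¹ * p) * r := by rw [h1]
      _ = v * (r⁻¹ * p * r) := by group
  have e8r : ∀ r ∈ E, E8 c.P z (cj r V) := by
    intro r hr
    refine ⟨?_, by rw [card_cj, c.hyp.card], ?_, ?_⟩
    · rintro _ ⟨v, hv, rfl⟩
      exact B.normP r hr v (c.VP hv)
    · rw [mem_cj]
      have h1 := B.zE r⁻¹ (E.inv_mem hr)
      rw [inv_inv] at h1
      rw [h1]; exact b.hz
    · rintro _ ⟨v, hv, rfl⟩
      show (r * v * r⁻¹) * (r * v * r⁻¹) = 1
      rw [← conj_mul', c.hyp.sq v hv]; group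
  have hrC : ∀ r ∈ E, ∀ g ∈ cj r V, g ∈ C → g = 1 ∨ g = z := by
    intro r hr g hg hgC
    rw [mem_cj] at hg
    have h1 := hCE r⁻¹ (E.inv_mem hr) g hgC
    rw [inv_inv] at h1
    rcases hCV _ h1 hg with h2 | h2
    · left
      have : g = r * (r⁻¹ * g * r) * r⁻¹ := by group
      rw [this, h2]; group
    · right
      have : g = r * (r⁻¹ * g * r) * r⁻¹ := by group
      rw [this, h2, B.zE r hr]
  have hnorm : ∀ r : G, cj r V ≤ V → r ∈ normalizer (V : Set G) := by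
    intro r h
    have h1 : cj r V = V := Subgroup.eq_of_le_of_card_ge h (by rw [card_cj])
    rw [mem_normalizer_iff]
    intro v
    constructor
    · intro hv
      exact h (conj_mem_cj hv)
    · intro hv
      rw [← h1, mem_cj] at hv
      have : r⁻¹ * (r * v * r⁻¹) * r = v := by group
      rwa [this] at hv
  have hrV : ∀ r ∈ E, r ∉ c.P → ∀ g ∈ cj r V, g ∈ V → g = 1 ∨ g = z := by
    intro r hr hrP g hg hgV
    by_contra hcon
    push Not at hcon
    have h1 : Nat.card (cj r V ⊓ V : Subgroup G) ∣ 8 := c.hyp.card ▸ Subgroup.card_dvd_of_le inf_le_right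
    have h2 : Nat.card (cj r V ⊓ V : Subgroup G) ≠ 8 := by
      intro h2
      have h3 : cj r V ⊓ V = cj r V := Subgroup.eq_of_le_of_card_ge inf_le_left (by
        rw [h2, card_cj, c.hyp.card])
      exact hrP (B.inf r hr (hnorm r (inf_eq_left.1 h3)))
    have h3 : 2 < Nat.card (cj r V ⊓ V : Subgroup G) := by
      by_contra h3
      have h4 : zpowers z = cj r V ⊓ V := Subgroup.eq_of_le_of_card_ge
        (zpowers_le.2 (mem_inf.2 ⟨(e8r r hr).hz, b.hz⟩)) (by rw [hcz]; omega)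
      have h5 : g ∈ zpowers z := by rw [h4]; exact mem_inf.2 ⟨hg, hgV⟩
      rw [mem_zpowers_two zz] at h5
      rcases h5 with h5 | h5
      · exact hcon.1 h5
      · exact hcon.2 h5
    have h4 : Nat.card (cj r V ⊓ V : Subgroup G) = 4 := by
      rcases eight_cases h1 with h | h | h | h <;> omega
    obtain ⟨k, hk, hk1, hkz, hk'⟩ := X.lemmaA (e8r r hr) e8V e8C h4 (fun p _ h => hself r p h)
    rcases hk' with h5 | h5
    · rcases hrC r hr k h5 hk with h6 | h6
      · exact hk1 h6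
      · exact hkz h6
    · rcases hCV k hk h5 with h6 | h6
      · exact hk1 h6
      · exact hkz h6
  refine ⟨C, g0, B.PE, B.zE, hg0E, hg0P, ?_, B.normP, B.inf,
    fun g hg k hk => B.norm g (c.TN hg) (c.Tz g hg) k hk, e8C, fun g hg a ha => ha.2 g hg,
    fun a ha h => ⟨ha, h⟩, hCV, ?_⟩
  · intro g hg hgP
    have h1 : cj g V ≤ cj g0 V := X.lemmaB e8V e8C (e8r g hg) (e8r g0 hg0E) (fun k h1 h2 => hCV k h2 h1)
      (hrV g hg hgP) (hrC g hg) (hrV g0 hg0E hg0P) (hrC g0 hg0E)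
    refine B.inf _ (E.mul_mem (E.inv_mem hg0E) hg) (hnorm _ ?_)
    rintro _ ⟨v, hv, rfl⟩
    have h2 := h1 (conj_mem_cj hv)
    rw [mem_cj] at h2
    show (g0⁻¹ * g) * v * (g0⁻¹ * g)⁻¹ ∈ V
    have h3 : (g0⁻¹ * g) * v * (g0⁻¹ * g)⁻¹ = g0⁻¹ * (g * v * g⁻¹) * g0 := by group
    rw [h3]; exact h2
  · intro v hv hgv
    rcases hrV g0 hg0E hg0P _ (conj_mem_cj hv) hgv with h1 | h1
    · left
      exact conj_inj (g := g0) (by rw [h1]; group)
    · right
      exact conj_inj (g := g0) (by rw [h1, B.zE g0 hg0E])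

end Cfsg.Agent.GH.C2GrowL3D
end

-- part: GH/C2GrowL3F
section
/-!
# GH-C2, growth, `M/V = L₃(2)`: the elementary abelian group `F` of order 16
-/

set_option autoImplicit false

namespace Cfsg.Agent.GH.C2GrowL3F

open Subgroup Cfsg.Agent.GH.C2GrowL3Base Cfsg.Agent.GH.C2GrowL3V Cfsg.Agent.GH.C2GrowL3P
  Cfsg.Agent.GH.C2GrowL3X Cfsg.Agent.GH.C2GrowL3C Cfsg.Agent.GH.C2GrowL3D

variable {G : Type*} [Group G] {V T E C : Subgroup G} {z y x t : G} {c : Conf V T z y x}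

theorem conj_inv_eq {g a : G} (h : g * a * g⁻¹ = a) : g⁻¹ * a * g⁻¹⁻¹ = a := by
  have : g⁻¹ * (g * a * g⁻¹) * g⁻¹⁻¹ = a := by group
  rwa [h] at this

/-- `T ∪ t T` -/
def ext (T : Subgroup G) (t : G) (h2 : t * t ∈ T) (hn : ∀ g ∈ T, t * g * t⁻¹ ∈ T) : Subgroup G where
  carrier := {g | g ∈ T ∨ t⁻¹ * g ∈ T}
  one_mem' := Or.inl T.one_mem
  mul_mem' := by
    have hb' : ∀ y ∈ T, t⁻¹ * y * t ∈ T := fun y hy => by
      have h1 : t⁻¹ * y * t = (t * t)⁻¹ * (t * y * t⁻¹) * (t * t) := by group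
      rw [h1]
      exact T.mul_mem (T.mul_mem (T.inv_mem h2) (hn y hy)) h2
    rintro g h (hg | hg) (hh | hh)
    · exact Or.inl (T.mul_mem hg hh)
    · right
      have h1 : t⁻¹ * (g * h) = (t⁻¹ * g * t) * (t⁻¹ * h) := by group
      rw [h1]
      exact T.mul_mem (hb' g hg) hh
    · right
      have h1 : t⁻¹ * (g * h) = (t⁻¹ * g) * h := by group
      rw [h1]
      exact T.mul_mem hg hh
    · left
      have h1 : g * h = (t * (t⁻¹ * g) * t⁻¹) * (t * t) * (t⁻¹ * h) := by group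
      rw [h1]
      exact T.mul_mem (T.mul_mem (hn _ hg) h2) hh
  inv_mem' := by
    have hb' : ∀ y ∈ T, t⁻¹ * y * t ∈ T := fun y hy => by
      have h1 : t⁻¹ * y * t = (t * t)⁻¹ * (t * y * t⁻¹) * (t * t) := by group
      rw [h1]
      exact T.mul_mem (T.mul_mem (T.inv_mem h2) (hn y hy)) h2
    rintro g (hg | hg)
    · exact Or.inl (T.inv_mem hg)
    · right
      have h1 : t⁻¹ * g⁻¹ = t⁻¹ * (t⁻¹ * g)⁻¹ * t * (t * t)⁻¹ := by group
      rw [h1]
      exact T.mul_mem (hb' _ (T.inv_mem hg)) (T.inv_mem h2)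

namespace Conf2

variable (h : Conf2 V T E C z y x t c)
include h

theorem tz : t * z * t⁻¹ = z := h.zE t h.tE

theorem tt : t * t ∈ c.P := by
  by_contra h1
  have h2 := h.idx _ (E.mul_mem h.tE h.tE) h1
  rw [inv_mul_cancel_left] at h2
  exact h.tP h2

theorem ET [Finite G] : ∀ g ∈ E, ∀ k ∈ T, g * k * g⁻¹ ∈ T := by
  have key : ∀ k ∈ T, t * k * t⁻¹ ∈ T := by
    intro k hk
    have h1 : k * t * k⁻¹ ∈ E := h.TE k hk t h.tE
    have h2 : k * t * k⁻¹ ∉ c.P := by
      intro h3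
      apply h.tP
      have h4 := c.P_conj (c.TN (T.inv_mem hk)) (c.Tz _ (T.inv_mem hk)) h3
      have h5 : k⁻¹ * (k * t * k⁻¹) * k⁻¹⁻¹ = t := by group
      rwa [h5] at h4
    have h3 := h.normP t h.tE _ (c.P.inv_mem (h.idx _ h1 h2))
    have h4 : t * k * t⁻¹ = (t * (t⁻¹ * (k * t * k⁻¹))⁻¹ * t⁻¹) * k := by group
    rw [h4]
    exact T.mul_mem (c.PT h3) hk
  intro g hg k hk
  by_cases hgP : g ∈ c.P
  · exact T.mul_mem (T.mul_mem (c.PT hgP) hk) (T.inv_mem (c.PT hgP))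
  · have h1 := c.PT (h.idx g hg hgP)
    have h2 : g * k * g⁻¹ = t * ((t⁻¹ * g) * k * (t⁻¹ * g)⁻¹) * t⁻¹ := by group
    rw [h2]
    exact key _ (T.mul_mem (T.mul_mem h1 hk) (T.inv_mem h1))

omit h in
theorem e8V [Finite G] (c : Conf V T z y x) : E8 c.P z V := ⟨c.VP, c.hyp.card, c.bas.hz, c.hyp.sq⟩

theorem e8V' [Finite G] : E8 c.P z (cj t V) := by
  refine ⟨?_, by rw [card_cj, c.hyp.card], ?_, ?_⟩
  · rintro _ ⟨v, hv, rfl⟩
    exact h.normP t h.tE v (c.VP hv)
  · rw [mem_cj]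
    have h1 := conj_inv_eq (tz h)
    rw [inv_inv] at h1
    rw [h1]; exact c.bas.hz
  · rintro _ ⟨v, hv, rfl⟩
    show (t * v * t⁻¹) * (t * v * t⁻¹) = 1
    rw [← conj_mul', c.hyp.sq v hv]; group

theorem VV' [Finite G] : ∀ g ∈ V, g ∈ cj t V → g = 1 ∨ g = z := by
  intro g hg hg'
  obtain ⟨v, hv, rfl⟩ := hg'
  have h1 : t * v * t⁻¹ ∈ V := hg
  show t * v * t⁻¹ = 1 ∨ t * v * t⁻¹ = z
  rcases h.Vt v hv h1 with h2 | h2
  · left; rw [h2]; group
  · right; rw [h2, tz h]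

/-- `P = V V^t` -/
theorem exists_vw [Finite G] {p : G} (hp : p ∈ c.P) : ∃ v ∈ V, ∃ w ∈ V, p = v * (t * w * t⁻¹) := by
  have X := Cnf.ex c
  obtain ⟨a, ha, b, hb, hab⟩ := exists_mul_of_card (e8V c).le (e8V' h).le (by
    rw [X.card, (e8V c).card, (e8V' h).card]
    have : Nat.card (V ⊓ cj t V : Subgroup G) ≤ 2 := by
      rw [← card_zpowers_two X.zz X.z1]
      refine Subgroup.card_le_of_le fun g hg => ?_
      rw [mem_zpowers_two X.zz]
      exact VV' h g (mem_inf.1 hg).1 (mem_inf.1 hg).2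
    omega) hp
  obtain ⟨w, hw, rfl⟩ := hb
  exact ⟨a, ha, w, hw, hab⟩

/-- `v v^t ∈ C` -/
theorem dual [Finite G] {v : G} (hv : v ∈ V) : v * (t * v * t⁻¹) ∈ C := by
  have X := Cnf.ex c
  have hvP := c.VP hv
  have hwP : t * v * t⁻¹ ∈ c.P := h.normP t h.tE v hvP
  have hzV := c.bas.hz
  obtain ⟨v1, hv1, c1, hc1, h1⟩ := exists_mul_of_card (e8V c).le h.e8.le (by
    rw [X.card, (e8V c).card, h.e8.card]
    have : Nat.card (V ⊓ C : Subgroup G) ≤ 2 := by
      rw [← card_zpowers_two X.zz X.z1]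
      refine Subgroup.card_le_of_le fun g hg => ?_
      rw [mem_zpowers_two X.zz]
      exact h.CV g (mem_inf.1 hg).2 (mem_inf.1 hg).1
    omega) hwP
  have hv1P := c.VP hv1
  have haP : t * v1 * t⁻¹ ∈ c.P := h.normP t h.tE v1 hv1P
  -- `v = (t v1 t⁻¹) v1 (t v t⁻¹)` mod `z`
  have hc1' : c1 = v1 * (t * v * t⁻¹) := by
    rw [h1, ← mul_assoc, c.hyp.sq v1 hv1, one_mul]
  have h2 : t * (t * v * t⁻¹) * t⁻¹ = (t * v1 * t⁻¹) * (t * c1 * t⁻¹) := by rw [h1]; group
  have h3 : t * (t * v * t⁻¹) * t⁻¹ ∈ V := by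
    have h4 : t * (t * v * t⁻¹) * t⁻¹ = (t * t) * v * (t * t)⁻¹ := by group
    rw [h4]
    exact mem_norm (tt h).1 hv
  have hz1 : ∀ g : G, z * g ∈ V → g ∈ V := fun g hg => by
    have := V.mul_mem hzV hg
    rwa [← mul_assoc, c.zz, one_mul] at this
  -- `(t v1 t⁻¹) c1 ∈ V`
  have h5 : (t * v1 * t⁻¹) * c1 ∈ V := by
    rw [h2] at h3
    rcases h.CE t h.tE c1 hc1 with h6 | h6
    · rw [h6] at h3; exact h3
    · rw [h6, ← mul_assoc, X.zc _ haP, mul_assoc] at h3
      exact hz1 _ h3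
  have h6 : t * (v1 * v) * t⁻¹ ∈ V := by
    rw [conj_mul']
    rw [hc1', ← mul_assoc] at h5
    have h7 : v1 * ((t * v1 * t⁻¹) * (t * v * t⁻¹)) ∈ V := by
      rcases X.comm _ haP v1 hv1P with h8 | h8
      · rw [h8] at h5
        rwa [← mul_assoc]
      · rw [h8] at h5
        have h9 : z * (v1 * (t * v1 * t⁻¹)) * (t * v * t⁻¹) = z * (v1 * ((t * v1 * t⁻¹) * (t * v * t⁻¹))) := by
          group
        rw [h9] at h5
        exact hz1 _ h5
    have h8 := V.mul_mem hv1 h7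
    rwa [← mul_assoc, c.hyp.sq v1 hv1, one_mul] at h8
  rcases h.Vt _ (V.mul_mem hv1 hv) h6 with h7 | h7
  · have h8 : v1 = v := by
      rw [← inv_of_sq (c.hyp.sq v hv)]
      exact eq_inv_of_mul_eq_one_left h7
    rw [← h8, h8, ← h8]
    rw [h8] at hc1'
    rw [h8, ← hc1']
    exact hc1
  · have h8 : v1 = z * v := by
      rw [← h7, mul_assoc, c.hyp.sq v hv, mul_one]
    have h9 : v * (t * v * t⁻¹) = z * c1 := by
      rw [hc1', h8]
      calc v * (t * v * t⁻¹) = (z * z) * (v * (t * v * t⁻¹)) := by rw [c.zz, one_mul]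
        _ = z * (z * v * (t * v * t⁻¹)) := by group
    rw [h9]
    exact C.mul_mem h.e8.hz hc1

/-- `[v, v^t] = 1` -/
theorem comm_vt [Finite G] {v : G} (hv : v ∈ V) : v * (t * v * t⁻¹) = (t * v * t⁻¹) * v := by
  refine comm_of_three (c.hyp.sq v hv) ?_ (h.e8.sq _ (dual h hv))
  rw [← conj_mul', c.hyp.sq v hv]; group

/-- `[y, x^t] = z` -/
theorem comm_yx' [Finite G] : y * (t * x * t⁻¹) = z * ((t * x * t⁻¹) * y) := by
  have X := Cnf.ex c
  have b := c.bas
  have hyP := c.VP b.hy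
  have hx'P := h.normP t h.tE x (c.VP b.hx)
  refine (X.comm y hyP _ hx'P).resolve_left fun h1 => ?_
  have hall : ∀ p ∈ c.P, y * p = p * y := by
    intro p hp
    obtain ⟨v, hv, w, hw, rfl⟩ := exists_vw h hp
    have h3 : y * (t * w * t⁻¹) = (t * w * t⁻¹) * y := by
      have hyy' := comm_vt h b.hy
      have hyz' : y * (t * z * t⁻¹) = (t * z * t⁻¹) * y := by rw [tz h, c.hyp.comm b.hy b.hz]
      have hmul : ∀ a b : G, y * (t * a * t⁻¹) = (t * a * t⁻¹) * y → y * (t * b * t⁻¹) = (t * b * t⁻¹) * y →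
          y * (t * (a * b) * t⁻¹) = (t * (a * b) * t⁻¹) * y := by
        intro a b h4 h5
        rw [conj_mul']
        calc y * ((t * a * t⁻¹) * (t * b * t⁻¹)) = (y * (t * a * t⁻¹)) * (t * b * t⁻¹) := by group
          _ = (t * a * t⁻¹) * (y * (t * b * t⁻¹)) := by rw [h4]; group
          _ = (t * a * t⁻¹) * (t * b * t⁻¹) * y := by rw [h5]; group
      rcases c.hyp.mem b hw with h4 | h4 | h4 | h4 | h4 | h4 | h4 | h4 <;> subst h4
      · group
      · exact hyz'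
      · exact hyy'
      · exact hmul _ _ hyz' hyy'
      · exact h1
      · exact hmul _ _ hyz' h1
      · exact hmul _ _ hyy' h1
      · exact hmul _ _ (hmul _ _ hyz' hyy') h1
    calc y * (v * (t * w * t⁻¹)) = (y * v) * (t * w * t⁻¹) := by group
      _ = v * (y * (t * w * t⁻¹)) := by rw [c.hyp.comm b.hy hv]; group
      _ = v * (t * w * t⁻¹) * y := by rw [h3]; group
  rcases X.cen y hyP hall with h2 | h2
  · exact b.y1 h2
  · exact b.yz h2

/-- `[x, y^t] = z` -/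
theorem comm_xy' [Finite G] : x * (t * y * t⁻¹) = z * ((t * y * t⁻¹) * x) := by
  have X := Cnf.ex c
  have b := c.bas
  have hxP := c.VP b.hx
  have hy'P := h.normP t h.tE y (c.VP b.hy)
  have hx'P := h.normP t h.tE x (c.VP b.hx)
  have h1 := comm_yx' h
  refine (X.comm x hxP _ hy'P).resolve_left fun h2 => ?_
  -- `[y x, y^t x^t] = 1`
  have h3 := comm_vt h (V.mul_mem b.hy b.hx)
  have hyy' := comm_vt h b.hy
  have hxx' := comm_vt h b.hx
  rw [conj_mul'] at h3
  set y' := t * y * t⁻¹ with hy'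
  set x' := t * x * t⁻¹ with hx'
  have h4 : y * x * (y' * x') = z * (y' * x' * (y * x)) := by
    calc y * x * (y' * x') = y * (x * y') * x' := by group
      _ = (y * y') * (x * x') := by rw [h2]; group
      _ = y' * (y * x') * x := by rw [hyy', hxx']; group
      _ = (y' * z) * (x' * y * x) := by rw [h1]; group
      _ = z * (y' * x' * (y * x)) := by rw [X.zc y' hy'P]; group
  rw [h4] at h3
  exact b.z1 (by simpa using h3)

end Conf2

/-- `F` -/
def Fg (T : Subgroup G) (y t : G) : Subgroup G :=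
  T ⊓ centralizer ({y} : Set G) ⊓ centralizer ({t * y * t⁻¹} : Set G)

theorem mem_Fg {g : G} : g ∈ Fg T y t ↔ g ∈ T ∧ g * y * g⁻¹ = y ∧ g * (t * y * t⁻¹) * g⁻¹ = t * y * t⁻¹ := by
  rw [Fg, mem_inf, mem_inf, mem_centralizer_singleton_iff, mem_centralizer_singleton_iff, conj_eq_iff,
    conj_eq_iff, and_assoc]

namespace Conf2

variable (h : Conf2 V T E C z y x t c)
include h

theorem zy' [Finite G] : z * (t * y * t⁻¹) = (t * y * t⁻¹) * z :=
  ((Cnf.ex c).zc _ (h.normP t h.tE y (c.VP c.bas.hy))).symm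

theorem Ty' [Finite G] {g : G} (hg : g ∈ T) :
    g * (t * y * t⁻¹) * g⁻¹ = t * y * t⁻¹ ∨ g * (t * y * t⁻¹) * g⁻¹ = z * (t * y * t⁻¹) := by
  have h1 := ET h t⁻¹ (E.inv_mem h.tE) g hg
  have h2 : g * (t * y * t⁻¹) * g⁻¹ = t * ((t⁻¹ * g * t⁻¹⁻¹) * y * (t⁻¹ * g * t⁻¹⁻¹)⁻¹) * t⁻¹ := by group
  rw [h2]
  rcases c.Ty _ h1 with h3 | h3
  · left; rw [h3]
  · right; rw [h3, conj_mul', tz h]

theorem normF [Finite G] {g f : G} (hg : g ∈ T) (hf : f ∈ Fg T y t) : g * f * g⁻¹ ∈ Fg T y t := by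
  rw [mem_Fg] at hf ⊢
  obtain ⟨hf1, hf2, hf3⟩ := hf
  have hfz := c.Tz f hf1
  have key : ∀ u : G, (g⁻¹ * u * g⁻¹⁻¹ = u ∨ g⁻¹ * u * g⁻¹⁻¹ = z * u) → f * u * f⁻¹ = u →
      g * f * g⁻¹ * u * (g * f * g⁻¹)⁻¹ = u := by
    intro u h1 h2
    have h3 : g * f * g⁻¹ * u * (g * f * g⁻¹)⁻¹ = g * (f * (g⁻¹ * u * g⁻¹⁻¹) * f⁻¹) * g⁻¹ := by group
    have h4 : f * (g⁻¹ * u * g⁻¹⁻¹) * f⁻¹ = g⁻¹ * u * g⁻¹⁻¹ := by
      rcases h1 with h1 | h1
      · rw [h1, h2]
      · rw [h1, conj_mul', hfz, h2]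
    rw [h3, h4]; group
  exact ⟨T.mul_mem (T.mul_mem hg hf1) (T.inv_mem hg), key y (c.Ty _ (T.inv_mem hg)) hf2,
    key _ (Ty' h (T.inv_mem hg)) hf3⟩

theorem tF [Finite G] {f : G} (hf : f ∈ Fg T y t) : t * f * t⁻¹ ∈ Fg T y t := by
  rw [mem_Fg] at hf ⊢
  obtain ⟨hf1, hf2, hf3⟩ := hf
  have hfz := c.Tz f hf1
  refine ⟨ET h t h.tE f hf1, ?_, ?_⟩
  · -- `t⁻¹ y t` is `t y t⁻¹` or `z (t y t⁻¹)`
    have h1 : t⁻¹ * y * t = t * y * t⁻¹ ∨ t⁻¹ * y * t = z * (t * y * t⁻¹) := by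
      have h2 : t⁻¹ * y * t = t * (((t * t)⁻¹) * y * ((t * t)⁻¹)⁻¹) * t⁻¹ := by group
      rw [h2]
      rcases (c.P.inv_mem (tt h)).2.2 y c.bas.hy with h3 | h3
      · left; rw [h3]
      · right; rw [h3, conj_mul', tz h]
    have h3 : t * f * t⁻¹ * y * (t * f * t⁻¹)⁻¹ = t * (f * (t⁻¹ * y * t) * f⁻¹) * t⁻¹ := by group
    have h4 : f * (t⁻¹ * y * t) * f⁻¹ = t⁻¹ * y * t := by
      rcases h1 with h1 | h1
      · rw [h1, hf3]
      · rw [h1, conj_mul', hfz, hf3]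
    rw [h3, h4]; group
  · have h3 : t * f * t⁻¹ * (t * y * t⁻¹) * (t * f * t⁻¹)⁻¹ = t * (f * y * f⁻¹) * t⁻¹ := by group
    rw [h3, hf2]

theorem cardC2 [Finite G] : Nat.card (T ⊓ centralizer ({y} : Set G) : Subgroup G) = 32 ∧
    Nat.card (Fg T y t) = 16 := by
  have X := Cnf.ex c
  have b := c.bas
  have hz1 : ∀ a : G, z * a = a → False := fun a ha => b.z1 (by simpa using ha)
  -- `x^t` moves `y`, `x` moves `y^t`
  have hx'T : t * x * t⁻¹ ∈ T := c.PT (h.normP t h.tE x (c.VP b.hx))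
  have e1 : Nat.card T = 2 * Nat.card (T ⊓ centralizer ({y} : Set G) : Subgroup G) := by
    refine card_eq_two_mul inf_le_left (a := t * x * t⁻¹) hx'T ?_ ?_
    · intro h1
      have h2 := mem_centralizer_singleton_iff.1 (mem_inf.1 h1).2
      have h3 := comm_yx' h
      rw [h2] at h3
      exact hz1 _ h3.symm
    · intro g hg hgy
      have h1 : g * y * g⁻¹ = z * y := (c.Ty g hg).resolve_left (fun h1 => hgy (mem_inf.2 ⟨hg, by
        rw [mem_centralizer_singleton_iff]; exact (conj_eq_iff _ _ _).1 h1⟩))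
      refine mem_inf.2 ⟨T.mul_mem (T.inv_mem hx'T) hg, ?_⟩
      have h2 : (t * x * t⁻¹) * y * (t * x * t⁻¹)⁻¹ = z * y := by
        refine (c.Ty _ hx'T).resolve_left fun h3 => ?_
        rw [conj_eq_iff] at h3
        have h4 := comm_yx' h
        rw [h3] at h4
        exact hz1 _ h4.symm
      rw [mem_centralizer_singleton_iff]
      calc (t * x * t⁻¹)⁻¹ * g * y = (t * x * t⁻¹)⁻¹ * (g * y * g⁻¹) * g := by group
        _ = (t * x * t⁻¹)⁻¹ * ((t * x * t⁻¹) * y * (t * x * t⁻¹)⁻¹) * g := by rw [h1, h2]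
        _ = y * ((t * x * t⁻¹)⁻¹ * g) := by group
  have e2 : Nat.card (T ⊓ centralizer ({y} : Set G) : Subgroup G) = 2 * Nat.card (Fg T y t) := by
    have hxC : x ∈ T ⊓ centralizer ({y} : Set G) :=
      mem_inf.2 ⟨c.PT (c.VP b.hx), mem_centralizer_singleton_iff.2 (c.hyp.comm b.hx b.hy)⟩
    have h2 : x * (t * y * t⁻¹) * x⁻¹ = z * (t * y * t⁻¹) := by
      rw [comm_xy' h]; group
    refine card_eq_two_mul inf_le_left (a := x) hxC ?_ ?_
    · intro h1
      rw [(mem_Fg.1 h1).2.2] at h2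
      exact hz1 _ h2.symm
    · intro g hg hgy
      have h1 : g * (t * y * t⁻¹) * g⁻¹ = z * (t * y * t⁻¹) :=
        (Ty' h (mem_inf.1 hg).1).resolve_left (fun h1 => hgy (mem_inf.2 ⟨hg, by
          rw [mem_centralizer_singleton_iff]; exact (conj_eq_iff _ _ _).1 h1⟩))
      refine mem_inf.2 ⟨mul_mem (inv_mem hxC) hg, ?_⟩
      rw [mem_centralizer_singleton_iff]
      calc x⁻¹ * g * (t * y * t⁻¹) = x⁻¹ * (g * (t * y * t⁻¹) * g⁻¹) * g := by group
        _ = x⁻¹ * (x * (t * y * t⁻¹) * x⁻¹) * g := by rw [h1, h2]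
        _ = (t * y * t⁻¹) * (x⁻¹ * g) := by group
  rw [c.cardT] at e1
  constructor <;> omega

theorem memF_z [Finite G] : z ∈ Fg T y t := by
  rw [mem_Fg]
  refine ⟨c.PT (c.VP c.bas.hz), ?_, ?_⟩
  · rw [conj_eq_iff, c.hyp.comm c.bas.hz c.bas.hy]
  · rw [conj_eq_iff, zy' h]

theorem memF_y [Finite G] : y ∈ Fg T y t := by
  rw [mem_Fg]
  refine ⟨c.PT (c.VP c.bas.hy), by group, ?_⟩
  rw [conj_eq_iff, comm_vt h c.bas.hy]

theorem memF_y' [Finite G] : t * y * t⁻¹ ∈ Fg T y t := tF h (memF_y h)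

theorem y'_facts [Finite G] : t * y * t⁻¹ ≠ 1 ∧ t * y * t⁻¹ ≠ z ∧ t * y * t⁻¹ ≠ y ∧ t * y * t⁻¹ ≠ y * z := by
  have b := c.bas
  have key : t * y * t⁻¹ ∉ V := by
    intro h1
    rcases h.Vt y b.hy h1 with h2 | h2
    · exact b.y1 h2
    · exact b.yz h2
  refine ⟨fun h1 => key ?_, fun h1 => key ?_, fun h1 => key ?_, fun h1 => key ?_⟩ <;> rw [h1]
  · exact V.one_mem
  · exact b.hz
  · exact b.hy
  · exact V.mul_mem b.hy b.hz

/-- `F ∩ P = ⟨z, y, y^t⟩` is central in `F` -/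
theorem cardFP [Finite G] : Nat.card (Fg T y t ⊓ c.P : Subgroup G) = 8 := by
  have X := Cnf.ex c
  have b := c.bas
  have hz1 : ∀ a : G, z * a = a → False := fun a ha => b.z1 (by simpa using ha)
  have e1 := X.card_cent_eq (c.VP b.hy) b.y1 b.yz
  have hy'P := h.normP t h.tE y (c.VP b.hy)
  have e2 : Nat.card (c.P ⊓ centralizer ({y} : Set G) : Subgroup G) =
      2 * Nat.card (Fg T y t ⊓ c.P : Subgroup G) := by
    have hxC : x ∈ c.P ⊓ centralizer ({y} : Set G) :=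
      mem_inf.2 ⟨c.VP b.hx, mem_centralizer_singleton_iff.2 (c.hyp.comm b.hx b.hy)⟩
    have hle : Fg T y t ⊓ c.P ≤ c.P ⊓ centralizer ({y} : Set G) := fun g hg =>
      mem_inf.2 ⟨(mem_inf.1 hg).2, by
        rw [mem_centralizer_singleton_iff]
        exact (conj_eq_iff _ _ _).1 (mem_Fg.1 (mem_inf.1 hg).1).2.1⟩
    have h2 : x * (t * y * t⁻¹) * x⁻¹ = z * (t * y * t⁻¹) := by
      rw [comm_xy' h]; group
    refine card_eq_two_mul hle (a := x) hxC ?_ ?_
    · intro h1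
      rw [(mem_Fg.1 (mem_inf.1 h1).1).2.2] at h2
      exact hz1 _ h2.symm
    · intro g hg hgy
      have hgP := (mem_inf.1 hg).1
      have hgT := c.PT hgP
      have h0 := mem_centralizer_singleton_iff.1 (mem_inf.1 hg).2
      have h1 : g * (t * y * t⁻¹) * g⁻¹ = z * (t * y * t⁻¹) :=
        (Ty' h hgT).resolve_left (fun h1 => hgy (mem_inf.2 ⟨mem_Fg.2 ⟨hgT, by
          rw [conj_eq_iff]; exact h0, h1⟩, hgP⟩))
      have h3 := mul_mem (inv_mem hxC) hg
      refine mem_inf.2 ⟨mem_Fg.2 ⟨c.PT (mem_inf.1 h3).1, ?_, ?_⟩, (mem_inf.1 h3).1⟩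
      · rw [conj_eq_iff]
        exact mem_centralizer_singleton_iff.1 (mem_inf.1 h3).2
      · rw [conj_eq_iff]
        calc x⁻¹ * g * (t * y * t⁻¹) = x⁻¹ * (g * (t * y * t⁻¹) * g⁻¹) * g := by group
          _ = x⁻¹ * (x * (t * y * t⁻¹) * x⁻¹) * g := by rw [h1, h2]
          _ = (t * y * t⁻¹) * (x⁻¹ * g) := by group
  omega

/-- a subgroup of `F ∩ P` containing `z`, `y`, `y^t` is `F ∩ P` -/
theorem eq_FP [Finite G] {S : Subgroup G} (hS : S ≤ Fg T y t ⊓ c.P) (hz : z ∈ S) (hy : y ∈ S)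
    (hy' : t * y * t⁻¹ ∈ S) : S = Fg T y t ⊓ c.P :=
  eq_of_three (cardFP h) hS hz hy hy' c.zz c.bas.z1 c.bas.y1 c.bas.yz (y'_facts h).1 (y'_facts h).2.1
    (y'_facts h).2.2.1 (y'_facts h).2.2.2

theorem commF [Finite G] {f g : G} (hf : f ∈ Fg T y t) (hg : g ∈ Fg T y t) : f * g = g * f := by
  have b := c.bas
  have hcen : ∀ f ∈ Fg T y t, ∀ k ∈ Fg T y t ⊓ c.P, f * k = k * f := by
    intro f hf k hk
    have h1 : (Fg T y t ⊓ c.P) ⊓ centralizer ({f} : Set G) = Fg T y t ⊓ c.P := by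
      refine eq_FP h inf_le_left (mem_inf.2 ⟨mem_inf.2 ⟨memF_z h, c.VP b.hz⟩, ?_⟩)
        (mem_inf.2 ⟨mem_inf.2 ⟨memF_y h, c.VP b.hy⟩, ?_⟩)
        (mem_inf.2 ⟨mem_inf.2 ⟨memF_y' h, h.normP t h.tE y (c.VP b.hy)⟩, ?_⟩) <;>
        rw [mem_centralizer_singleton_iff]
      · exact ((conj_eq_iff _ _ _).1 (c.Tz f (mem_Fg.1 hf).1)).symm
      · exact ((conj_eq_iff _ _ _).1 (mem_Fg.1 hf).2.1).symm
      · exact ((conj_eq_iff _ _ _).1 (mem_Fg.1 hf).2.2).symm
    rw [← h1] at hk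
    exact (mem_centralizer_singleton_iff.1 (mem_inf.1 hk).2).symm
  by_cases hfP : f ∈ Fg T y t ⊓ c.P
  · exact (hcen g hg f hfP).symm
  by_cases hgP : g ∈ Fg T y t ⊓ c.P
  · exact hcen f hf g hgP
  have h1 := inv_mul_mem_of_card (K := Fg T y t ⊓ c.P) (A := Fg T y t) inf_le_left
    (by rw [cardFP h, (cardC2 h).2]) hf hg hfP hgP
  have h2 := hcen f hf _ h1
  calc f * g = f * (f * (f⁻¹ * g)) := by group
    _ = f * (f⁻¹ * g * f) := by rw [h2]
    _ = g * f := by group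

/-- `C_F(x) = ⟨z, y⟩` -/
theorem cent_x [Finite G] {f : G} (hf : f ∈ Fg T y t) (hfx : f * x = x * f) :
    f ∈ V ∧ (f = 1 ∨ f = z ∨ f = y ∨ f = z * y) := by
  have b := c.bas
  have hf' := mem_Fg.1 hf
  have hfV : f ∈ V := c.hyp.mem_of_conj b (c.Tz f hf'.1) hf'.2.1 (by rw [conj_eq_iff]; exact hfx)
  refine ⟨hfV, ?_⟩
  have hz1 : ∀ a : G, z * a = a → False := fun a ha => b.z1 (by simpa using ha)
  -- `x` moves `y^t`
  have hx : ∀ u : G, u * (t * y * t⁻¹) * u⁻¹ = t * y * t⁻¹ → u * x ∉ Fg T y t := by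
    intro u hu h1
    have h2 := (mem_Fg.1 h1).2.2
    rw [conj_conj, show x * (t * y * t⁻¹) * x⁻¹ = z * (t * y * t⁻¹) by rw [comm_xy' h]; group, conj_mul', hu] at h2
    have h3 : u * z * u⁻¹ = 1 := mul_right_cancel (b := t * y * t⁻¹) (by rw [h2, one_mul])
    apply b.z1
    have : z = u⁻¹ * (u * z * u⁻¹) * u := by group
    rw [this, h3]; group
  have hzy' : z * (t * y * t⁻¹) * z⁻¹ = t * y * t⁻¹ := (mem_Fg.1 (memF_z h)).2.2
  have hyy' : y * (t * y * t⁻¹) * y⁻¹ = t * y * t⁻¹ := (mem_Fg.1 (memF_y h)).2.2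
  rcases c.hyp.mem b hfV with h1 | h1 | h1 | h1 | h1 | h1 | h1 | h1
  · exact Or.inl h1
  · exact Or.inr (Or.inl h1)
  · exact Or.inr (Or.inr (Or.inl h1))
  · exact Or.inr (Or.inr (Or.inr h1))
  · exfalso
    refine hx 1 (by group) ?_
    rw [one_mul, ← h1]; exact hf
  · exfalso
    refine hx z hzy' ?_
    rw [← h1]; exact hf
  · exfalso
    refine hx y hyy' ?_
    rw [← h1]; exact hf
  · exfalso
    refine hx (z * y) ?_ ?_
    · rw [conj_conj, hyy', hzy']
    · rw [← h1]; exact hf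

end Conf2

end Cfsg.Agent.GH.C2GrowL3F
end

-- part: GH/C2Types
section
/-!
# GH-C2: the explicit 2-groups are targets (`SType`)
-/

set_option autoImplicit false

namespace Cfsg.Agent.GH.C2Types

open Cfsg.Agent.GH.PcTypes Cfsg.Agent.GH.Defs

variable {S : Type*} [Group S]

theorem sType_UT34 (h : IsType UT34 S) : SType S :=
  Or.inr (Or.inr (Or.inr (Or.inr (Or.inl (Models.UT34.typeL34 h)))))

theorem sType_W24 (h : IsType W24 S) : SType S :=
  Or.inr (Or.inr (Or.inr (Or.inr (Or.inr (Or.inl (Models.PSp43.typeSp4 h))))))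

theorem sType_W8 (h : IsType W8 S) : SType S :=
  Or.inr (Or.inr (Or.inr (Or.inr (Or.inr (Or.inr (Or.inl (Models.PSL43.typeL4 h)))))))

theorem sType_M22T (h : IsType M22T S) : SType S :=
  Or.inr (Or.inr (Or.inr (Or.inr (Or.inr (Or.inr (Or.inl (Models.PSL45.typeL4 h)))))))

theorem sType_G23 (h : IsType G23 S) : SType S :=
  Or.inr (Or.inr (Or.inr (Or.inr (Or.inr (Or.inr (Or.inr (Or.inr (Models.G23.typeG2 h))))))))

end Cfsg.Agent.GH.C2Types
end

private theorem dce_e4ee844ddf50 : _root_.True := by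
  try have : _root_.True := by simp only [_root_.Cfsg.Agent.GH.C2L3.dot3.eq_1]
  try have : _root_.True := by simp only [_root_.Cfsg.Agent.GH.PcTypes.G23.eq_1]
  try have : _root_.True := by simp only [_root_.Cfsg.Agent.GH.C2L3.pw.eq_1]
  try have : _root_.True := by simp only [_root_.Cfsg.Agent.GH.C2GrowL3F.Fg.eq_1]
  try have : _root_.True := by simp only [_root_.Cfsg.Agent.GH.C2L3.pf.eq_1]
  exact _root_.True.intro
end

-- part: GH/QALemmaQ_mg
section
prune_inst 0x40020040041220000000000142000382290000000000b000141400702020c080000020e20482020101022280020000020020800404000000000000000000000000022100090402000000000003003180c00000000000000000000000000000000000000000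
set_option linter.all false
open scoped Cfsg.Agent.FastGrp

-- part: GH/QALemmaQ
section
/-!
# GH-Q scenario A: two lemmas on 2-groups with a normal generalised quaternion subgroup (helper413)

* `lemmaQ`: `T` a 2-group of sectional rank at most 2 with a normal generalised quaternion subgroup
  `Q`: `T = Q`, or `|T : Q| = 2` and `T` is generalised quaternion or semidihedral.
* `lemmaS`: a 2-group `C` with `Q`, `⟨a⟩` normal, `⟨a, t⟩` quaternion or semidihedral containing `Q`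
  with index 2, `C_C(Q)` centralising `a`: `C = ⟨a, t⟩ C_C(Q)`.
-/

set_option autoImplicit false

namespace Cfsg.Agent.GH.QALemmaQ

open Subgroup Cfsg Cfsg.Agent.Cit Cfsg.Agent.TwoFusion.SectionalRank

variable {G : Type*} [Group G]

/-! ### sections -/

theorem sec_card [Finite G] {T X Y : Subgroup G} {k : ℕ} (hr : SectionalPRankLE 2 k T)
    (h : ElemSection 2 X Y) (hX : X ≤ T) : Nat.card X ≤ 2 ^ k * Nat.card Y := by
  have h1 := sectionalPRankLE_iff.1 hr (X.subgroupOf T) (Y.subgroupOf T) (h.comap T.subtype)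
  rwa [Nat.card_congr (subgroupOfEquivOfLe hX).toEquiv,
    Nat.card_congr (subgroupOfEquivOfLe (h.le.trans hX)).toEquiv] at h1

theorem of_sq {X Y : Subgroup G} (hle : Y ≤ X) (hn : ∀ x ∈ X, ∀ y ∈ Y, x * y * x⁻¹ ∈ Y)
    (hsq : ∀ x ∈ X, x * x ∈ Y) : ElemSection 2 X Y where
  le := hle
  comm a ha b hb := by
    have h1 := hsq _ (X.mul_mem ha hb)
    have h2 := hn _ (X.inv_mem hb) _ (Y.inv_mem (hsq a ha))
    have h3 := Y.inv_mem (hsq b hb)
    have h4 : a * b * a⁻¹ * b⁻¹ = (a * b * (a * b)) * (b⁻¹ * (a * a)⁻¹ * b⁻¹⁻¹) * (b * b)⁻¹ := by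
      group
    rw [h4]
    exact Y.mul_mem (Y.mul_mem h1 h2) h3
  pow a ha := by rw [pow_two]; exact hsq a ha

/-- adjoining an element to an elementary abelian section -/
theorem adjoin [Finite G] {X Y : Subgroup G} (h : ElemSection 2 X Y) {d : G} (hd : d ∉ X)
    (hdd : d * d ∈ Y) (hc : ∀ x ∈ X, d * x * d⁻¹ * x⁻¹ ∈ Y) :
    ∃ X' : Subgroup G, ElemSection 2 X' Y ∧ Nat.card X' = 2 * Nat.card X ∧
      ∀ g, g ∈ X' ↔ g ∈ X ∨ ∃ x ∈ X, g = x * d := by
  have hYX := h.le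
  have hdx : ∀ x ∈ X, d * x * d⁻¹ ∈ X := by
    intro x hx
    have := X.mul_mem (hYX (hc x hx)) hx
    simpa only [_root_.inv_mul_cancel_right] using this
  have hdd' : d * d ∈ X := hYX hdd
  let X' : Subgroup G :=
    { carrier := {g | g ∈ X ∨ ∃ x ∈ X, g = x * d}
      one_mem' := Or.inl X.one_mem
      mul_mem' := by
        rintro a b (ha | ⟨a, ha, rfl⟩) (hb | ⟨b, hb, rfl⟩)
        · exact Or.inl (X.mul_mem ha hb)
        · exact Or.inr ⟨a * b, X.mul_mem ha hb, by group⟩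
        · exact Or.inr ⟨a * (d * b * d⁻¹), X.mul_mem ha (hdx b hb), by group⟩
        · refine Or.inl ?_
          have : a * d * (b * d) = a * (d * b * d⁻¹) * (d * d) := by group
          rw [this]
          exact X.mul_mem (X.mul_mem ha (hdx b hb)) hdd'
      inv_mem' := by
        rintro a (ha | ⟨a, ha, rfl⟩)
        · exact Or.inl (X.inv_mem ha)
        · refine Or.inr ⟨(d * d)⁻¹ * (d * a⁻¹ * d⁻¹), X.mul_mem (X.inv_mem hdd')
            (hdx _ (X.inv_mem ha)), by group⟩ }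
  have hmem : ∀ g, g ∈ X' ↔ g ∈ X ∨ ∃ x ∈ X, g = x * d := fun g => Iff.rfl
  refine ⟨X', ?_, ?_, hmem⟩
  · refine of_sq (fun y hy => Or.inl (hYX hy)) ?_ ?_
    · rintro a (ha | ⟨a, ha, rfl⟩) y hy
      · exact h.conj_mem ha hy
      · have h1 : a * d * y * (a * d)⁻¹ = a * (d * y * d⁻¹ * y⁻¹ * y) * a⁻¹ := by group
        rw [h1]
        exact h.conj_mem ha (Y.mul_mem (hc y (hYX hy)) hy)
    · rintro a (ha | ⟨a, ha, rfl⟩)
      · have := h.pow a ha
        rwa [pow_two] at this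
      · have h1 : a * d * (a * d) = a * (d * a * d⁻¹ * a⁻¹) * a⁻¹ * (a * a) * (d * d) := by group
        rw [h1]
        have h2 := h.pow a ha
        rw [pow_two] at h2
        exact Y.mul_mem (Y.mul_mem (h.conj_mem ha (hc a ha)) h2) hdd
  · have h1 : (X' : Set G) = (X : Set G) ∪ (fun x => x * d) '' (X : Set G) := by
      ext g
      constructor
      · rintro (hg | ⟨x, hx, rfl⟩)
        · exact Or.inl hg
        · exact Or.inr ⟨x, hx, rfl⟩
      · rintro (hg | ⟨x, hx, rfl⟩)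
        · exact Or.inl hg
        · exact Or.inr ⟨x, hx, rfl⟩
    have h2 : Disjoint (X : Set G) ((fun x => x * d) '' (X : Set G)) := by
      rw [Set.disjoint_left]
      rintro _ hg ⟨x, hx, rfl⟩
      apply hd
      have := X.mul_mem (X.inv_mem hx) hg
      simpa using this
    have h3 := Set.ncard_union_eq h2 (Set.toFinite _) (Set.toFinite _)
    rw [← h1, Set.ncard_image_of_injective _ (mul_left_injective d)] at h3
    rw [← Nat.card_coe_set_eq, ← Nat.card_coe_set_eq] at h3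
    change Nat.card X' = Nat.card X + Nat.card X at h3
    rw [h3, two_mul]

/-! ### arithmetic in a cyclic 2-group -/

theorem no_neg {g : G} {m : ℕ} (ho : orderOf g = 2 ^ (m + 2)) {l : ℤ} (h : g ^ (l * l) = g⁻¹) :
    False := by
  have h1 : g ^ (l * l + 1) = 1 := by rw [zpow_add_one, h, inv_mul_cancel]
  have h2 := orderOf_dvd_iff_zpow_eq_one.2 h1
  rw [ho] at h2
  have h3 : (4 : ℤ) ∣ l * l + 1 := by
    refine dvd_trans ?_ h2
    push_cast
    exact ⟨2 ^ m, by ring⟩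
  rcases Int.even_or_odd' l with ⟨k, rfl | rfl⟩
  · obtain ⟨r, hr⟩ := h3
    have : 4 * (k * k - r) = -1 := by linarith only [hr]
    omega
  · obtain ⟨r, hr⟩ := h3
    have : 4 * (k * k + k - r) = -2 := by linarith only [hr]
    omega

theorem z_zpow_even {z : G} (hz : z * z = 1) {s : ℤ} (hs : Even s) : z ^ s = 1 := by
  obtain ⟨r, rfl⟩ := hs
  rw [zpow_add, ← (Commute.refl z).mul_zpow, hz, one_zpow]

theorem z_zpow_odd {z : G} (hz : z * z = 1) {s : ℤ} (hs : Odd s) : z ^ s = z := by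
  obtain ⟨r, rfl⟩ := hs
  rw [zpow_add_one, two_mul, z_zpow_even hz ⟨r, rfl⟩, one_mul]

theorem z_zpow {z : G} (hz : z * z = 1) (s : ℤ) : z ^ s = 1 ∨ z ^ s = z :=
  (Int.even_or_odd s).imp (z_zpow_even hz) (z_zpow_odd hz)

theorem z_mul_of_ord {g z : G} {m : ℕ} (ho : orderOf g = 2 ^ (m + 2)) (hz : g ^ 2 ^ (m + 1) = z) :
    z * z = 1 := by
  rw [← hz, ← pow_two, ← pow_mul, ← pow_succ, ← ho, pow_orderOf_eq_one]

theorem pow_four {g z : G} {m : ℕ} (ho : orderOf g = 2 ^ (m + 2)) (hz : g ^ 2 ^ (m + 1) = z)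
    {l : ℤ} (h : g ^ (l * l) = g) : g ^ l = g ∨ g ^ l = g * z ∨ g ^ l = g⁻¹ ∨ g ^ l = g⁻¹ * z := by
  have hzz := z_mul_of_ord ho hz
  have hgz : g * z = z * g := by rw [← hz, ← pow_succ', ← pow_succ]
  have hz' : g ^ (2 ^ (m + 1) : ℤ) = z := by
    rw [← hz, ← zpow_natCast]; push_cast; rfl
  have h1 : g ^ (l * l - 1) = 1 := by rw [zpow_sub_one, h, mul_inv_cancel]
  have h2 := orderOf_dvd_iff_zpow_eq_one.2 h1
  rw [ho] at h2
  have h3 : (2 ^ m * 4 : ℤ) ∣ l * l - 1 := by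
    refine dvd_trans (dvd_of_eq ?_) h2
    push_cast
    ring
  rcases Int.even_or_odd' l with ⟨k, rfl | rfl⟩
  · exfalso
    obtain ⟨r, hr⟩ := h3
    have : 4 * (k * k - 2 ^ m * r) = 1 := by linarith only [hr]
    omega
  · have h4 : (2 ^ m : ℤ) ∣ k * (k + 1) := by
      obtain ⟨r, hr⟩ := h3
      exact ⟨r, by linarith only [hr]⟩
    rcases Int.even_or_odd' k with ⟨r, hr | hr⟩
    · have hco : IsCoprime (2 : ℤ) (k + 1) := ⟨-r, 1, by rw [hr]; ring⟩
      obtain ⟨s, hs⟩ := (hco.pow_left (m := m)).dvd_of_dvd_mul_right h4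
      have h5 : g ^ (2 * k + 1) = g * z ^ s := by
        rw [zpow_add_one, hs, ← mul_assoc, ← pow_succ', zpow_mul, hz']
        rcases z_zpow hzz s with h6 | h6 <;> rw [h6]
        · rw [one_mul, mul_one]
        · exact hgz.symm
      rw [h5]
      rcases z_zpow hzz s with h6 | h6 <;> rw [h6]
      · left; rw [mul_one]
      · right; left; rfl
    · have hco : IsCoprime (2 : ℤ) k := ⟨-r, 1, by rw [hr]; ring⟩
      obtain ⟨s, hs⟩ := (hco.pow_left (m := m)).dvd_of_dvd_mul_left h4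
      have hgz' : g⁻¹ * z = z * g⁻¹ := by
        rw [inv_mul_eq_iff_eq_mul, ← mul_assoc, hgz, mul_inv_cancel_right]
      have h5 : g ^ (2 * k + 1) = g⁻¹ * z ^ s := by
        have h7 : 2 * k + 1 = 2 ^ (m + 1) * s - 1 := by
          have : k = 2 ^ m * s - 1 := by linarith only [hs]
          rw [this, pow_succ]; ring
        rw [h7, zpow_sub_one, zpow_mul, hz']
        rcases z_zpow hzz s with h6 | h6 <;> rw [h6]
        · rw [one_mul, mul_one]
        · exact hgz'.symm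
      rw [h5]
      rcases z_zpow hzz s with h6 | h6 <;> rw [h6]
      · right; right; left; rw [mul_one]
      · right; right; right; rfl

/-! ### quaternion coordinates -/

section quat

variable {Q : Subgroup G} {c v z : G} {n : ℕ}

theorem c_zpow_mem (h : GQ Q c v z n) (i : ℤ) : c ^ i ∈ Q := Q.zpow_mem h.c_mem i

theorem conj_zpow (h : GQ Q c v z n) (i : ℤ) : v * c ^ i * v⁻¹ = c ^ (-i) := by
  rw [← _root_.conj_zpow, h.conj, inv_zpow, zpow_neg]

theorem v_zpow (h : GQ Q c v z n) (i : ℤ) : v * c ^ i = c ^ (-i) * v := by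
  rw [← conj_zpow h, inv_mul_cancel_right]

theorem cov' (h : GQ Q c v z n) {x : G} (hx : x ∈ Q) : (∃ i : ℤ, x = c ^ i) ∨ ∃ i : ℤ, x = c ^ i * v := by
  rcases h.cov x hx with ⟨i, rfl⟩ | ⟨i, rfl⟩
  · exact Or.inl ⟨i, (zpow_natCast c i).symm⟩
  · refine Or.inr ⟨-i, ?_⟩
    rw [← zpow_natCast, v_zpow h]

theorem z_comm (h : GQ Q c v z n) {x : G} (hx : x ∈ normalizer (Q : Set G)) : x * z = z * x := by
  have h1 : x * z * x⁻¹ ∈ Q := (mem_normalizer_iff.1 hx z).1 h.z_mem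
  have h2 : x * z * x⁻¹ = z := by
    apply h.eq_z h1
    · have : x * z * x⁻¹ * (x * z * x⁻¹) = x * (z * z) * x⁻¹ := by group
      rw [this, h.z_mul]; group
    · intro h3
      apply h.z_ne
      have : z = x⁻¹ * (x * z * x⁻¹) * x := by group
      rw [this, h3]; group
  rw [mul_inv_eq_iff_eq_mul] at h2
  exact h2

theorem z_c (h : GQ Q c v z n) : c * z = z * c := z_comm h (le_normalizer h.c_mem)

theorem z_v (h : GQ Q c v z n) : v * z = z * v := z_comm h (le_normalizer h.v_mem)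

theorem v_not_zpow (h : GQ Q c v z n) (i : ℤ) : v ≠ c ^ i := by
  intro hv
  apply h.not_comm
  rw [hv, ← zpow_add_one, ← zpow_one_add, add_comm]

/-- elements of `Q` commuting with `c` and `v` -/
theorem mem_center (h : GQ Q c v z n) {x : G} (hx : x ∈ Q) (hc : x * c = c * x) (hv : x * v = v * x) :
    x = 1 ∨ x = z := by
  rcases cov' h hx with ⟨i, rfl⟩ | ⟨i, rfl⟩
  · by_cases h1 : c ^ i = 1
    · exact Or.inl h1
    · refine Or.inr (h.eq_z hx ?_ h1)
      have h2 : c ^ (-i) = c ^ i := by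
        apply mul_right_cancel (b := v)
        rw [← v_zpow h, hv]
      have h3 : c ^ i * c ^ i = c ^ i * c ^ (-i) := by rw [h2]
      rw [h3, ← zpow_add, add_neg_cancel, zpow_zero]
  · exfalso
    apply h.not_comm
    have h1 : c ^ i * v * c = c ^ i * (c * v) := by
      rw [hc, ← mul_assoc, ← mul_assoc, ← zpow_add_one, ← zpow_one_add, add_comm]
    rw [mul_assoc] at h1
    exact mul_left_cancel h1

/-- elements commuting with `c` and `v` centralise `Q` -/
theorem comm_of (h : GQ Q c v z n) {x : G} (hc : x * c = c * x) (hv : x * v = v * x) :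
    ∀ q ∈ Q, x * q = q * x := by
  intro q hq
  have hc' : Commute x c := hc
  have hv' : Commute x v := hv
  rcases cov' h hq with ⟨i, rfl⟩ | ⟨i, rfl⟩
  · exact (hc'.zpow_right i).eq
  · exact ((hc'.zpow_right i).mul_right hv').eq

end quat

/-! ### the rank three section -/

theorem orderOf_sq {g : G} {m : ℕ} (ho : orderOf g = 2 ^ (m + 1)) : orderOf (g * g) = 2 ^ m := by
  rw [← pow_two, orderOf_pow' g (by norm_num), ho, Nat.gcd_eq_right (dvd_pow_self 2 (by omega)),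
    pow_succ, Nat.mul_div_cancel _ (by norm_num)]

theorem no_rank_three [Finite G] {T : Subgroup G} (hr : SectionalPRankLE 2 2 T) {g w e : G} {m : ℕ}
    (hg : g ∈ T) (hw : w ∈ T) (he : e ∈ T) (ho : orderOf g = 2 ^ (m + 1))
    (hwg : w * g * w⁻¹ = g⁻¹) (hww : w * w ∈ zpowers (g * g)) (hwn : w ∉ zpowers g)
    (hee : e * e ∈ zpowers (g * g)) (heg : e * g = g * e) (hew : e * w = w * e)
    (hen : e ∉ zpowers g) (hen' : ∀ i : ℤ, e ≠ g ^ i * w) : False := by
  have hsq : ∀ i : ℤ, g ^ i * g ^ i = (g * g) ^ i := fun i => ((Commute.refl g).mul_zpow i).symm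
  have h1 : ElemSection 2 (zpowers g) (zpowers (g * g)) := by
    refine of_sq ?_ ?_ ?_
    · rw [zpowers_le]; exact mul_mem (mem_zpowers g) (mem_zpowers g)
    · rintro _ ⟨i, rfl⟩ _ ⟨j, rfl⟩
      have h2 : Commute (g ^ i) ((g * g) ^ j) :=
        (((Commute.refl g).mul_right (Commute.refl g)).zpow_right j).zpow_left i
      have h3 : g ^ i * (g * g) ^ j * (g ^ i)⁻¹ = (g * g) ^ j := by rw [h2.eq]; group
      exact ⟨j, h3.symm⟩
    · rintro _ ⟨i, rfl⟩
      exact ⟨i, (hsq i).symm⟩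
  have hwgi : ∀ i : ℤ, w * g ^ i * w⁻¹ * (g ^ i)⁻¹ = (g * g) ^ (-i) := by
    intro i
    rw [← _root_.conj_zpow, hwg, inv_zpow, ← zpow_neg, hsq]
  obtain ⟨X, hX, hXc, hXm⟩ := adjoin h1 hwn hww (by
    rintro _ ⟨i, rfl⟩
    exact ⟨-i, (hwgi i).symm⟩)
  have hcomm : ∀ x ∈ X, e * x = x * e := by
    intro x hx
    have heg' : Commute e g := heg
    rcases (hXm x).1 hx with ⟨i, rfl⟩ | ⟨_, ⟨i, rfl⟩, rfl⟩
    · exact (heg'.zpow_right i).eq
    · exact ((heg'.zpow_right i).mul_right hew).eq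
  have hXe : e ∉ X := by
    intro hx
    rcases (hXm e).1 hx with h2 | ⟨_, ⟨i, rfl⟩, h2⟩
    · exact hen h2
    · exact hen' i h2
  obtain ⟨X', hX', hXc', hXm'⟩ := adjoin hX hXe hee (by
    intro x hx
    rw [hcomm x hx]
    have : x * e * e⁻¹ * x⁻¹ = 1 := by group
    rw [this]; exact one_mem _)
  have hXT : X ≤ T := by
    intro x hx
    rcases (hXm x).1 hx with h2 | ⟨y, h2, rfl⟩
    · exact (zpowers_le.2 hg) h2
    · exact T.mul_mem ((zpowers_le.2 hg) h2) hw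
  have hXT' : X' ≤ T := by
    intro x hx
    rcases (hXm' x).1 hx with h2 | ⟨y, h2, rfl⟩
    · exact hXT h2
    · exact T.mul_mem (hXT h2) he
  have h5 := sec_card hr hX' hXT'
  rw [hXc', hXc, Nat.card_zpowers, Nat.card_zpowers, orderOf_sq ho, ho, pow_succ] at h5
  have : 0 < 2 ^ m := by positivity
  omega

/-! ### the core argument -/

section core

variable {T Q : Subgroup G} {c v z : G} {n : ℕ}

theorem exists_j (hQ : GQ Q c v z n) {x : G} (hx : x ∈ normalizer (Q : Set G))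
    (hc : x * c = c * x) : ∃ j : ℤ, x * v * x⁻¹ = c ^ j * v := by
  have h1 : x * v * x⁻¹ ∈ Q := (mem_normalizer_iff.1 hx v).1 hQ.v_mem
  rcases cov' hQ h1 with ⟨i, hi⟩ | ⟨i, hi⟩
  · exfalso
    apply v_not_zpow hQ i
    have hx' : Commute x c := hc
    have h2 : x * v = x * c ^ i := by rw [(hx'.zpow_right i).eq, ← hi]; group
    exact mul_left_cancel h2
  · exact ⟨i, hi⟩

theorem z_mem_sq (hQ : GQ Q c v z n) : z ∈ zpowers (c * c) := by
  refine ⟨2 ^ n, ?_⟩
  have : (c * c) ^ (2 ^ n : ℤ) = (c * c) ^ (2 ^ n : ℕ) := by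
    rw [← zpow_natCast]; push_cast; rfl
  change (c * c) ^ (2 ^ n : ℤ) = z
  rw [this, ← pow_two, ← pow_mul, ← pow_succ', hQ.z_eq]

/-- a power of `d` which is outside a set but with square inside -/
theorem exists_last [Finite G] (hT : IsPGroup 2 T) {d : G} (hd : d ∈ T) (P : G → Prop) (hP1 : P 1)
    (hdP : ¬ P d) : ∃ k : ℕ, ¬ P (d ^ k) ∧ P (d ^ k * d ^ k) := by
  classical
  obtain ⟨m, hm⟩ := hT ⟨d, hd⟩
  have hm' : d ^ 2 ^ m = 1 := congrArg Subtype.val hm
  have hex : ∃ k : ℕ, P (d ^ 2 ^ k) := ⟨m, by rw [hm']; exact hP1⟩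
  have h1 := Nat.find_spec hex
  obtain ⟨j, hj⟩ : ∃ j, Nat.find hex = j + 1 := by
    refine Nat.exists_eq_add_one.2 (Nat.pos_of_ne_zero ?_)
    intro h0
    rw [h0, pow_zero, pow_one] at h1
    exact hdP h1
  refine ⟨2 ^ j, Nat.find_min hex (by omega), ?_⟩
  rw [hj] at h1
  rwa [← pow_add, ← two_mul, ← pow_succ']

/-- `C_T(Q) = Z(Q)` -/
theorem centQ [Finite G] (hT : IsPGroup 2 T) (hQT : Q ≤ T) (hQ : GQ Q c v z n)
    (hr : SectionalPRankLE 2 2 T) : ∀ d ∈ T, (∀ q ∈ Q, d * q = q * d) → d = 1 ∨ d = z := by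
  intro d hd hdQ
  by_contra hcon
  obtain ⟨k, hk1, hk2⟩ := exists_last hT hd (fun x => x = 1 ∨ x = z) (Or.inl rfl) hcon
  set e := d ^ k with he
  have heT : e ∈ T := T.pow_mem hd k
  have heQ : ∀ q ∈ Q, e * q = q * e := fun q hq =>
    ((show Commute d q from hdQ q hq).pow_left k).eq
  have hne : e ∉ Q := by
    intro h1
    exact hk1 (mem_center hQ h1 (heQ c hQ.c_mem) (heQ v hQ.v_mem))
  have hzY := z_mem_sq hQ
  refine no_rank_three (m := n + 1) hr (hQT hQ.c_mem) (hQT hQ.v_mem) heT hQ.ord hQ.conj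
    (by rw [hQ.v_sq]; exact hzY) ?_ ?_ (heQ c hQ.c_mem) (heQ v hQ.v_mem) ?_ ?_
  · rintro ⟨i, hi⟩; exact v_not_zpow hQ i hi.symm
  · rcases hk2 with h1 | h1
    · rw [h1]; exact one_mem _
    · rw [h1]; exact hzY
  · intro h1; exact hne ((zpowers_le.2 hQ.c_mem) h1)
  · intro i h1; apply hne; rw [h1]; exact Q.mul_mem (c_zpow_mem hQ i) hQ.v_mem

/-! ### an invariant cyclic subgroup of index two -/

theorem c_sq (h : GQ Q c v z 0) : c * c = z := by
  have := h.z_eq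
  rwa [zero_add, pow_one, pow_two] at this

theorem list8 (h : GQ Q c v z 0) {x : G} (hx : x ∈ Q) : (x = 1 ∨ x = z ∨ x = c ∨ x = c * z) ∨
    (x = v ∨ x = v * z ∨ x = c * v ∨ x = c * v * z) := by
  have hcc := c_sq h
  have key : ∀ i : ℤ, c ^ i = 1 ∨ c ^ i = z ∨ c ^ i = c ∨ c ^ i = c * z := by
    intro i
    have h1 : ∀ r : ℤ, c ^ (2 * r) = z ^ r := by
      intro r; rw [zpow_mul]; congr 1; rw [zpow_ofNat, pow_two, hcc]
    rcases Int.even_or_odd' i with ⟨r, rfl | rfl⟩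
    · rw [h1]
      rcases z_zpow h.z_mul r with h2 | h2 <;> rw [h2] <;> simp
    · rw [zpow_add_one, h1]
      rcases z_zpow h.z_mul r with h2 | h2 <;> rw [h2]
      · rw [one_mul]; simp
      · rw [← z_c h]; simp
  rcases cov' h hx with ⟨i, rfl⟩ | ⟨i, rfl⟩
  · exact Or.inl (key i)
  · right
    rcases key i with h1 | h1 | h1 | h1 <;> rw [h1]
    · left; rw [one_mul]
    · right; left; exact (z_v h).symm
    · right; right; left; rfl
    · right; right; right
      rw [mul_assoc, mul_assoc, z_v h]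

theorem gq_v (h : GQ Q c v z 0) : GQ Q v c z 0 := by
  have hcc := c_sq h
  have hvz : v * z = z * v := z_v h
  have h3 : v ^ 3 = v * z := by rw [pow_succ', pow_two, h.v_sq]
  refine ⟨h.v_mem, h.c_mem, by rw [h.orderOf_v]; norm_num, by rw [zero_add, pow_one, pow_two, h.v_sq],
    hcc, ?_, ?_⟩
  · have h1 : v * (z * v) = 1 := by rw [← hvz, ← mul_assoc, h.v_sq, h.z_mul]
    have h2 : c * v * c⁻¹ = c * (v * c * v⁻¹)⁻¹ * v := by group
    rw [h2, h.conj, inv_inv, hcc]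
    exact eq_inv_of_mul_eq_one_right h1
  · intro x hx
    rcases list8 h hx with (rfl | rfl | rfl | rfl) | (rfl | rfl | rfl | rfl)
    · left; exact ⟨0, (pow_zero _).symm⟩
    · left; exact ⟨2, by rw [pow_two, h.v_sq]⟩
    · right; exact ⟨0, by rw [pow_zero, mul_one]⟩
    · right; exact ⟨2, by rw [pow_two, h.v_sq]⟩
    · left; exact ⟨1, (pow_one _).symm⟩
    · left; exact ⟨3, h3.symm⟩
    · right; exact ⟨1, by rw [pow_one]⟩
    · right; exact ⟨3, by rw [h3, mul_assoc]⟩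

theorem gq_cv (h : GQ Q c v z 0) : GQ Q (c * v) c z 0 := by
  have hcc := c_sq h
  have hvz : v * z = z * v := z_v h
  have hcz : c * z = z * c := z_c h
  have hvc : v * c = c⁻¹ * v := by rw [← h.conj]; group
  have hci : c⁻¹ = c * z := by rw [inv_eq_iff_mul_eq_one, ← mul_assoc, hcc, h.z_mul]
  have hqq : c * v * (c * v) = z := by
    calc c * v * (c * v) = c * (v * c) * v := by group
      _ = v * v := by rw [hvc]; group
      _ = z := h.v_sq
  have hqz : c * v * z = z * (c * v) := by rw [mul_assoc, hvz, ← mul_assoc, hcz, mul_assoc]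
  have h3 : (c * v) ^ 3 = c * v * z := by rw [pow_succ', pow_two, hqq]
  refine ⟨Q.mul_mem h.c_mem h.v_mem, h.c_mem, by rw [GQ.orderOf_of_sq hqq h.z_mul h.z_ne]; norm_num,
    by rw [zero_add, pow_one, pow_two, hqq], hcc, ?_, ?_⟩
  · have h1 : c * v * (z * (c * v)) = 1 := by rw [← hqz, ← mul_assoc, hqq, h.z_mul]
    have h2 : c * (c * v) * c⁻¹ = c * c * (v * c⁻¹) := by group
    have h4 : v * c⁻¹ = c * v := by
      rw [mul_inv_eq_iff_eq_mul, mul_assoc, hvc]; group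
    rw [h2, h4, hcc]
    exact eq_inv_of_mul_eq_one_right h1
  · intro x hx
    rcases list8 h hx with (rfl | rfl | rfl | rfl) | (rfl | rfl | rfl | rfl)
    · left; exact ⟨0, (pow_zero _).symm⟩
    · left; exact ⟨2, by rw [pow_two, hqq]⟩
    · right; exact ⟨0, by rw [pow_zero, mul_one]⟩
    · right; exact ⟨2, by rw [pow_two, hqq]⟩
    · right; refine ⟨3, ?_⟩
      rw [h3, ← mul_assoc, ← mul_assoc, hcc, ← hvz, mul_assoc, h.z_mul, mul_one]
    · right; refine ⟨1, ?_⟩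
      rw [pow_one, ← mul_assoc, hcc, hvz]
    · left; exact ⟨1, (pow_one _).symm⟩
    · left; exact ⟨3, h3.symm⟩

theorem choose_inv [Finite G] (hT : IsPGroup 2 T) (hQT : Q ≤ T) (hn : T ≤ normalizer (Q : Set G))
    (hQ : GQ Q c v z n) : ∃ c' v', GQ Q c' v' z n ∧ ∀ x ∈ T, ∃ i : ℤ, x * c' * x⁻¹ = c' ^ i := by
  rcases Nat.eq_zero_or_pos n with rfl | hpos
  · -- the quotient by `⟨z⟩`
    have hzT : ∀ x ∈ T, x * z = z * x := fun x hx => z_comm hQ (hn hx)
    have hZmem : ∀ y : G, y ∈ zpowers z ↔ y = 1 ∨ y = z := by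
      intro y
      constructor
      · rintro ⟨k, rfl⟩
        exact z_zpow hQ.z_mul k
      · rintro (rfl | rfl)
        · exact one_mem _
        · exact mem_zpowers _
    have hZn : ((zpowers z).subgroupOf T).Normal := by
      constructor
      rintro ⟨y, hy⟩ hy' ⟨x, hx⟩
      rw [mem_subgroupOf] at hy' ⊢
      change y ∈ zpowers z at hy'
      change x * y * x⁻¹ ∈ zpowers z
      rw [hZmem] at hy' ⊢
      rcases hy' with rfl | rfl
      · left; group
      · right; rw [hzT x hx]; group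
    have hQn : (Q.subgroupOf T).Normal := by
      constructor
      rintro ⟨y, hy⟩ hy' ⟨x, hx⟩
      exact (mem_normalizer_iff.1 (hn hx) y).1 hy'
    let π := QuotientGroup.mk' ((zpowers z).subgroupOf T)
    have hN : ((Q.subgroupOf T).map π).Normal := hQn.map π (QuotientGroup.mk'_surjective _)
    have hnil : Group.IsNilpotent (↥T ⧸ (zpowers z).subgroupOf T) :=
      (hT.to_quotient ((zpowers z).subgroupOf T)).isNilpotent
    have hNne : (Q.subgroupOf T).map π ≠ ⊥ := by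
      intro h0
      have h1 : π ⟨c, hQT hQ.c_mem⟩ ∈ (Q.subgroupOf T).map π :=
        mem_map_of_mem π (by rw [mem_subgroupOf]; exact hQ.c_mem)
      rw [h0, mem_bot] at h1
      have h2 := (QuotientGroup.eq_one_iff _).1 h1
      rw [mem_subgroupOf] at h2
      change c ∈ zpowers z at h2
      rcases (hZmem c).1 h2 with h3 | h3
      · exact hQ.c_sq_ne (by rw [h3, one_mul])
      · exact hQ.c_sq_ne (by rw [h3, hQ.z_mul])
    obtain ⟨⟨y, hy⟩, hy1⟩ := Subgroup.ne_bot_iff_exists_ne_one.1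
      (Lib.NormalAbelian.normal_inf_center_ne_bot ((Q.subgroupOf T).map π) hNne)
    obtain ⟨⟨⟨q, hqT⟩, hqQ, rfl⟩, hyc⟩ := hy
    have hqQ' : q ∈ Q := hqQ
    have hq1 : ¬ (q = 1 ∨ q = z) := by
      intro h1
      apply hy1
      apply Subtype.ext
      change π ⟨q, hqT⟩ = 1
      refine (QuotientGroup.eq_one_iff _).2 ?_
      rw [mem_subgroupOf]
      exact (hZmem q).2 h1
    have hqx : ∀ x ∈ T, x * q * x⁻¹ = q ∨ x * q * x⁻¹ = q * z := by
      intro x hx
      have h1 := mem_center_iff.1 hyc (π ⟨x, hx⟩)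
      have h2 : π (⟨q, hqT⟩⁻¹ * (⟨x, hx⟩ * ⟨q, hqT⟩ * ⟨x, hx⟩⁻¹)) = 1 := by
        rw [map_mul, map_mul, map_mul, map_inv, map_inv, h1]
        group
      have h3 := (QuotientGroup.eq_one_iff _).1 h2
      rw [mem_subgroupOf] at h3
      change q⁻¹ * (x * q * x⁻¹) ∈ zpowers z at h3
      rcases (hZmem _).1 h3 with h4 | h4
      · left; exact (inv_mul_eq_one.1 h4).symm
      · right; exact inv_mul_eq_iff_eq_mul.1 h4
    have hinv : ∀ p : G, p * p = z → (∀ x ∈ T, x * p * x⁻¹ = p ∨ x * p * x⁻¹ = p * z) →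
        ∀ x ∈ T, ∃ i : ℤ, x * p * x⁻¹ = p ^ i := by
      intro p hp h x hx
      rcases h x hx with h1 | h1
      · exact ⟨1, by rw [h1, zpow_one]⟩
      · refine ⟨3, ?_⟩
        rw [h1, show (3 : ℤ) = 1 + 2 by norm_num, zpow_add, zpow_one]
        congr 1
        rw [zpow_ofNat, pow_two, hp]
    have hpz : ∀ p : G, (∀ x ∈ T, x * (p * z) * x⁻¹ = p * z ∨ x * (p * z) * x⁻¹ = p * z * z) →
        ∀ x ∈ T, x * p * x⁻¹ = p ∨ x * p * x⁻¹ = p * z := by
      intro p h x hx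
      have h1 : x * p * x⁻¹ = x * (p * z) * x⁻¹ * z := by
        have h2 : x⁻¹ * z = z * x⁻¹ := hzT _ (T.inv_mem hx)
        calc x * p * x⁻¹ = x * p * (z * z) * x⁻¹ := by rw [hQ.z_mul, mul_one]
          _ = x * (p * z) * (z * x⁻¹) := by group
          _ = x * (p * z) * x⁻¹ * z := by rw [← h2]; simp only [mul_assoc]
      rcases h x hx with h3 | h3
      · left; rw [h1, h3, mul_assoc, hQ.z_mul, mul_one]
      · right; rw [h1, h3, mul_assoc, hQ.z_mul, mul_one]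
    have hvv := hQ.v_sq
    have hqq : c * v * (c * v) = z := by
      have := (gq_cv hQ).z_eq
      rwa [zero_add, pow_one, pow_two] at this
    rcases list8 hQ hqQ' with (rfl | rfl | rfl | rfl) | (rfl | rfl | rfl | rfl)
    · exact absurd (Or.inl rfl) hq1
    · exact absurd (Or.inr rfl) hq1
    · exact ⟨q, v, hQ, hinv q (c_sq hQ) hqx⟩
    · exact ⟨c, v, hQ, hinv c (c_sq hQ) (hpz c hqx)⟩
    · exact ⟨q, c, gq_v hQ, hinv q hvv hqx⟩
    · exact ⟨v, c, gq_v hQ, hinv v hvv (hpz v hqx)⟩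
    · exact ⟨c * v, c, gq_cv hQ, hinv _ hqq hqx⟩
    · exact ⟨c * v, c, gq_cv hQ, hinv _ hqq (hpz _ hqx)⟩
  · refine ⟨c, v, hQ, ?_⟩
    intro x hx
    have h1 : x * c * x⁻¹ ∈ Q := (mem_normalizer_iff.1 (hn hx) c).1 hQ.c_mem
    rcases cov' hQ h1 with h2 | ⟨i, h2⟩
    · exact h2
    · exfalso
      have h3 : orderOf (x * c * x⁻¹) = orderOf c := by
        have := MulEquiv.orderOf_eq (MulAut.conj x) c
        rwa [MulAut.conj_apply] at this
      have h4 : c ^ i * v * (c ^ i * v) = z := by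
        have : c ^ i * v * (c ^ i * v) = c ^ i * (v * c ^ i * v⁻¹) * (v * v) := by group
        rw [this, conj_zpow hQ, ← zpow_add, add_neg_cancel, zpow_zero, one_mul, hQ.v_sq]
      rw [h2, GQ.orderOf_of_sq h4 hQ.z_mul hQ.z_ne, hQ.ord] at h3
      have h5 : 2 ^ 3 ≤ 2 ^ (n + 2) := Nat.pow_le_pow_right (by norm_num) (by omega)
      omega

/-! ### the element `b` -/

/-- `c ∉ {c z}`, and `c⁻¹ = c z` only for `n = 0` -/
theorem c_ne_cz (hQ : GQ Q c v z n) : c * z ≠ c := by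
  intro h
  exact hQ.z_ne (mul_eq_left.1 h)

theorem inv_ne_cz (hQ : GQ Q c v z n) (hn : n ≠ 0) : c * z ≠ c⁻¹ := by
  intro h
  have h1 : c * c = z := by
    have h2 : c * (c * z) = 1 := by rw [h, mul_inv_cancel]
    have h3 : c * c * z = 1 := by rw [mul_assoc, h2]
    rw [mul_eq_one_iff_eq_inv.1 h3, hQ.z_inv]
  have h4 := orderOf_dvd_of_pow_eq_one (show c ^ 4 = 1 by
    rw [show 4 = 2 * 2 by norm_num, pow_mul, pow_two c, h1, pow_two, hQ.z_mul])
  rw [hQ.ord] at h4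
  have h5 := Nat.le_of_dvd (by norm_num) h4
  have h6 : 2 ^ 3 ≤ 2 ^ (n + 2) := Nat.pow_le_pow_right (by norm_num) (by omega)
  omega

/-- reduction to an element with `b c b⁻¹ = c z` -/
theorem reduce_b [Finite G] (hT : IsPGroup 2 T) (hQT : Q ≤ T) (hn : T ≤ normalizer (Q : Set G))
    (hQ : GQ Q c v z n) (hci : ∀ x ∈ T, ∃ i : ℤ, x * c * x⁻¹ = c ^ i)
    (hx : ∃ x ∈ T, ¬ (x * c * x⁻¹ = c ∨ x * c * x⁻¹ = c⁻¹)) :
    n ≠ 0 ∧ ∃ b ∈ T, b * c * b⁻¹ = c * z := by
  obtain ⟨x, hxT, hx⟩ := hx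
  obtain ⟨k, hk1, hk2⟩ := exists_last hT hxT (fun y => y * c * y⁻¹ = c ∨ y * c * y⁻¹ = c⁻¹)
    (Or.inl (by group)) hx
  have hbT : x ^ k ∈ T := T.pow_mem hxT k
  generalize x ^ k = b at hk1 hk2 hbT
  obtain ⟨l, hl⟩ := hci b hbT
  have h1 : b * b * c * (b * b)⁻¹ = c ^ (l * l) := by
    have : b * b * c * (b * b)⁻¹ = b * (b * c * b⁻¹) * b⁻¹ := by group
    rw [this, hl, ← _root_.conj_zpow, hl, zpow_mul]
  have h2 : c ^ (l * l) = c := by
    rw [← h1]
    rcases hk2 with h3 | h3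
    · exact h3
    · exact (no_neg hQ.ord (h1.symm.trans h3)).elim
  have hbz : b * z = z * b := z_comm hQ (hn hbT)
  rcases pow_four hQ.ord hQ.z_eq h2 with h3 | h3 | h3 | h3
  · exact absurd (Or.inl (hl.trans h3)) hk1
  · refine ⟨?_, b, hbT, hl.trans h3⟩
    rintro rfl
    apply hk1
    right
    rw [hl, h3]
    apply eq_inv_of_mul_eq_one_left
    rw [mul_assoc, ← z_c hQ, ← mul_assoc, c_sq hQ, hQ.z_mul]
  · exact absurd (Or.inr (hl.trans h3)) hk1
  · refine ⟨?_, b * v, T.mul_mem hbT (hQT hQ.v_mem), ?_⟩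
    · rintro rfl
      apply hk1
      left
      rw [hl, h3, inv_mul_eq_iff_eq_mul, c_sq hQ]
    · have : b * v * c * (b * v)⁻¹ = b * (v * c * v⁻¹) * b⁻¹ := by group
      rw [this, hQ.conj, ← conj_inv, hl, h3, mul_inv_rev, inv_inv, hQ.z_inv, z_c hQ]

/-- no such element if `C_T(c) = ⟨c⟩` -/
theorem caseOne [Finite G] (hQT : Q ≤ T) (hn : T ≤ normalizer (Q : Set G))
    (hQ : GQ Q c v z n) (hr : SectionalPRankLE 2 2 T) (hn0 : n ≠ 0)
    (hC : ∀ x ∈ T, x * c = c * x → x ∈ zpowers c) {b : G} (hb : b ∈ T)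
    (hbc : b * c * b⁻¹ = c * z) : False := by
  obtain ⟨m, rfl⟩ := Nat.exists_eq_succ_of_ne_zero hn0
  have hbz : b * z = z * b := z_comm hQ (hn hb)
  have hcz := z_c hQ
  have hcz' : Commute c z := hcz
  have hbci : ∀ i : ℤ, b * c ^ i * b⁻¹ = c ^ i * z ^ i := by
    intro i
    rw [← _root_.conj_zpow, hbc, hcz'.mul_zpow]
  -- `b² = c^(2k)`
  have hbb : b * b * c = c * (b * b) := by
    have h1 : b * b * c * (b * b)⁻¹ = c := by
      have : b * b * c * (b * b)⁻¹ = b * (b * c * b⁻¹) * b⁻¹ := by group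
      rw [this, hbc]
      have : b * (c * z) * b⁻¹ = b * c * b⁻¹ * (b * z * b⁻¹) := by group
      rw [this, hbc, hbz, mul_inv_cancel_right, mul_assoc, hQ.z_mul, mul_one]
    exact mul_inv_eq_iff_eq_mul.1 h1
  obtain ⟨i, hi⟩ := hC _ (T.mul_mem hb hb) hbb
  change c ^ i = b * b at hi
  have hi2 : z ^ i = 1 := by
    have h1 := hbci i
    rw [hi] at h1
    have h2 : b * (b * b) * b⁻¹ = b * b := by group
    rw [h2] at h1
    exact (mul_eq_left.1 h1.symm)
  obtain ⟨k, hk⟩ : Even i := by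
    by_contra h1
    rw [Int.not_even_iff_odd] at h1
    rw [z_zpow_odd hQ.z_mul h1] at hi2
    exact hQ.z_ne hi2
  have hzc : c ^ (2 ^ (m + 2) : ℤ) = z := by
    rw [← hQ.z_eq, ← zpow_natCast]; push_cast; rfl
  -- an involution
  obtain ⟨e, heT, hec, hee⟩ : ∃ e ∈ T, e * c * e⁻¹ = c * z ∧ e * e = 1 := by
    have hgen : ∀ j : ℤ, b * c ^ j * (b * c ^ j) = c ^ (j + i + j) * z ^ j := by
      intro j
      have : b * c ^ j * (b * c ^ j) = b * c ^ j * b⁻¹ * (b * b) * c ^ j := by group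
      rw [this, hbci, ← hi, zpow_add, zpow_add]
      have h5 : Commute (z ^ j) (c ^ i * c ^ j) :=
        ((hcz'.symm.zpow_left j).zpow_right i).mul_right ((hcz'.symm.zpow_left j).zpow_right j)
      calc c ^ j * z ^ j * c ^ i * c ^ j = c ^ j * (z ^ j * (c ^ i * c ^ j)) := by group
        _ = c ^ j * c ^ i * c ^ j * z ^ j := by rw [h5.eq]; group
    have hact : ∀ j : ℤ, b * c ^ j * c * (b * c ^ j)⁻¹ = c * z := by
      intro j
      have : b * c ^ j * c * (b * c ^ j)⁻¹ = b * c * b⁻¹ := by group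
      rw [this, hbc]
    have hmem : ∀ j : ℤ, b * c ^ j ∈ T := fun j => T.mul_mem hb (T.zpow_mem (hQT hQ.c_mem) j)
    rcases Int.even_or_odd k with hke | hko
    · refine ⟨b * c ^ (-k), hmem _, hact _, ?_⟩
      rw [hgen, z_zpow_even hQ.z_mul hke.neg, hk, mul_one]
      have : -k + (k + k) + -k = 0 := by ring
      rw [this, zpow_zero]
    · refine ⟨b * c ^ (-k + 2 ^ (m + 1)), hmem _, hact _, ?_⟩
      rw [hgen, z_zpow_odd hQ.z_mul, hk]
      · have : -k + 2 ^ (m + 1) + (k + k) + (-k + 2 ^ (m + 1)) = (2 : ℤ) ^ (m + 2) := by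
          rw [pow_succ (2 : ℤ) (m + 1)]; ring
        rw [this, hzc, hQ.z_mul]
      · refine hko.neg.add_even ?_
        rw [pow_succ]; exact even_two.mul_left _
  have heinv : e⁻¹ = e := inv_eq_of_mul_eq_one_left hee
  have hecz : ∀ i : ℤ, e * c ^ i * e⁻¹ = c ^ i * z ^ i := by
    intro i
    rw [← _root_.conj_zpow, hec, hcz'.mul_zpow]
  have hne : e ∉ Q := by
    intro h1
    rcases cov' hQ h1 with ⟨i, rfl⟩ | ⟨i, rfl⟩
    · apply c_ne_cz hQ
      rw [← hec]; group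
    · apply inv_ne_cz hQ hn0
      rw [← hec]
      have : c ^ i * v * c * (c ^ i * v)⁻¹ = c ^ i * (v * c * v⁻¹) * (c ^ i)⁻¹ := by group
      rw [this, hQ.conj]; group
  -- the action on `v`
  have hev : e * v * e⁻¹ ∈ Q := (mem_normalizer_iff.1 (hn heT) v).1 hQ.v_mem
  obtain ⟨j, hj⟩ : ∃ j : ℤ, e * v * e⁻¹ = c ^ j * v := by
    rcases cov' hQ hev with ⟨j, hj⟩ | ⟨j, hj⟩
    · exfalso
      have h1 : v = e⁻¹ * c ^ j * e := by rw [← hj]; group
      have h2 := hecz j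
      rw [heinv] at h1 h2
      rw [h2] at h1
      rcases z_zpow hQ.z_mul j with h3 | h3 <;> rw [h3] at h1
      · rw [mul_one] at h1; exact v_not_zpow hQ _ h1
      · rw [← hzc, ← zpow_add] at h1; exact v_not_zpow hQ _ h1
    · exact ⟨j, hj⟩
  have hj2 : c ^ (j + j) * z ^ j = 1 := by
    have h1 : v = e * (e * v * e⁻¹) * e⁻¹ := by
      rw [heinv]
      calc v = (e * e) * v * (e * e) := by rw [hee]; group
        _ = _ := by group
    rw [hj] at h1
    have h2 : e * (c ^ j * v) * e⁻¹ = (e * c ^ j * e⁻¹) * (e * v * e⁻¹) := by group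
    rw [h2, hecz, hj] at h1
    have h3 : c ^ j * z ^ j * (c ^ j * v) = c ^ (j + j) * z ^ j * v := by
      have h5 : Commute (z ^ j) (c ^ j) := (hcz'.symm.zpow_left j).zpow_right j
      calc c ^ j * z ^ j * (c ^ j * v) = c ^ j * (z ^ j * c ^ j) * v := by group
        _ = _ := by rw [h5.eq, zpow_add]; group
    rw [h3] at h1
    exact (mul_eq_right.1 h1.symm)
  have hjz : c ^ j = 1 ∨ c ^ j = z := by
    by_cases h0 : c ^ j = 1
    · exact Or.inl h0
    · refine Or.inr (hQ.eq_z (c_zpow_mem hQ j) ?_ h0)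
      rcases Int.even_or_odd j with hje | hjo
      · rwa [z_zpow_even hQ.z_mul hje, mul_one, zpow_add] at hj2
      · exfalso
        rw [z_zpow_odd hQ.z_mul hjo] at hj2
        have h1 : c ^ (j + j) = z := by
          rw [mul_eq_one_iff_eq_inv.1 hj2, hQ.z_inv]
        have h2 : c ^ (4 * j) = 1 := by
          have : 4 * j = (j + j) + (j + j) := by ring
          rw [this, zpow_add, h1, hQ.z_mul]
        have h3 := orderOf_dvd_iff_zpow_eq_one.2 h2
        rw [hQ.ord] at h3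
        have h4 : (8 : ℤ) ∣ 4 * j := by
          refine dvd_trans ?_ h3
          push_cast
          exact ⟨2 ^ m, by rw [show m.succ + 2 = m + 3 from rfl, pow_add]; ring⟩
        obtain ⟨r, hr⟩ := hjo
        obtain ⟨s, hs⟩ := h4
        omega
  -- the commuting complement
  obtain ⟨w, hwQ, hew, hwc, hww, hwn⟩ : ∃ w ∈ Q, e * w = w * e ∧ w * c * w⁻¹ = c⁻¹ ∧ w * w = z ∧
      ∀ i : ℤ, w ≠ c ^ i := by
    rcases hjz with h0 | h0 <;> rw [h0] at hj
    · refine ⟨v, hQ.v_mem, ?_, hQ.conj, hQ.v_sq, v_not_zpow hQ⟩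
      rw [one_mul] at hj
      exact mul_inv_eq_iff_eq_mul.1 hj
    · refine ⟨c * v, Q.mul_mem hQ.c_mem hQ.v_mem, ?_, ?_, ?_, ?_⟩
      · have h1 : e * (c * v) * e⁻¹ = c * v := by
          have : e * (c * v) * e⁻¹ = e * c * e⁻¹ * (e * v * e⁻¹) := by group
          rw [this, hec, hj, mul_assoc, ← mul_assoc z, hQ.z_mul, one_mul]
        exact mul_inv_eq_iff_eq_mul.1 h1
      · have : c * v * c * (c * v)⁻¹ = c * (v * c * v⁻¹) * c⁻¹ := by group
        rw [this, hQ.conj]; group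
      · have : c * v * (c * v) = c * (v * c * v⁻¹) * (v * v) := by group
        rw [this, hQ.conj, hQ.v_sq, mul_inv_cancel, one_mul]
      · intro i h1
        apply v_not_zpow hQ (-1 + i)
        rw [zpow_add, ← h1, zpow_neg_one, inv_mul_cancel_left]
  -- the section
  have hcc2 : e * (c * c) = c * c * e := by
    have h1 : e * (c * c) * e⁻¹ = c * c := by
      have : e * (c * c) * e⁻¹ = e * c * e⁻¹ * (e * c * e⁻¹) := by group
      rw [this, hec]
      calc c * z * (c * z) = c * (z * c) * z := by group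
        _ = c * c * (z * z) := by rw [← hcz]; group
        _ = c * c := by rw [hQ.z_mul, mul_one]
    exact mul_inv_eq_iff_eq_mul.1 h1
  have hzz : z ∈ zpowers (c * c * (c * c)) := by
    refine ⟨2 ^ m, ?_⟩
    change (c * c * (c * c)) ^ (2 ^ m : ℤ) = z
    have h1 : c * c * (c * c) = c ^ (4 : ℤ) := by
      rw [show (4 : ℤ) = 1 + 1 + (1 + 1) by norm_num, zpow_add, zpow_add, zpow_one]
    rw [h1, ← zpow_mul, ← hzc]
    congr 1
    rw [pow_add]; ring
  have hzp : zpowers (c * c) ≤ zpowers c := by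
    rw [zpowers_le]; exact mul_mem (mem_zpowers c) (mem_zpowers c)
  refine no_rank_three (m := m + 1) hr (hQT (Q.mul_mem hQ.c_mem hQ.c_mem)) (hQT hwQ) heT
    (orderOf_sq hQ.ord) ?_ ?_ ?_ ?_ hcc2 hew ?_ ?_
  · have : w * (c * c) * w⁻¹ = w * c * w⁻¹ * (w * c * w⁻¹) := by group
    rw [this, hwc]; group
  · rw [hww]; exact hzz
  · intro h1
    obtain ⟨i, hi⟩ := hzp h1
    exact hwn i hi.symm
  · rw [hee]; exact one_mem _
  · intro h1
    exact hne ((zpowers_le.2 hQ.c_mem) (hzp h1))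
  · intro i h1
    apply hne
    rw [h1]
    exact Q.mul_mem (Q.zpow_mem (Q.mul_mem hQ.c_mem hQ.c_mem) i) hwQ

/-- coordinates with `c z` in place of `c` -/
theorem gq_cz (h : GQ Q c v z n) : GQ Q (c * z) v z n := by
  have hcz' : Commute c z := z_c h
  have hz2 : z ^ 2 ^ (n + 1) = 1 := by
    rw [pow_succ', pow_mul, pow_two, h.z_mul, one_pow]
  have h1 : (c * z) ^ 2 ^ (n + 1) = z := by
    rw [hcz'.mul_pow, h.z_eq, hz2, mul_one]
  have h2 : (c * z) ^ (2 ^ (n + 1) + 1) = c := by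
    rw [pow_succ', h1, mul_assoc, h.z_mul, mul_one]
  refine ⟨Q.mul_mem h.c_mem h.z_mem, h.v_mem, ?_, h1, h.v_sq, ?_, ?_⟩
  · refine orderOf_eq_prime_pow (p := 2) (n := n + 1) ?_ ?_
    · rw [h1]; exact h.z_ne
    · rw [pow_succ 2 (n + 1), pow_mul, h1, pow_two, h.z_mul]
  · have : v * (c * z) * v⁻¹ = v * c * v⁻¹ * (v * z * v⁻¹) := by group
    rw [this, h.conj, z_v h, mul_inv_cancel_right, mul_inv_rev, h.z_inv]
    exact (hcz'.inv_left).eq
  · intro x hx
    rcases h.cov x hx with ⟨i, rfl⟩ | ⟨i, rfl⟩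
    · left; exact ⟨(2 ^ (n + 1) + 1) * i, by rw [pow_mul, h2]⟩
    · right; exact ⟨(2 ^ (n + 1) + 1) * i, by rw [pow_mul, h2]⟩

/-- the data of the element `a` -/
structure AData (T Q : Subgroup G) (c v z a : G) (n : ℕ) : Prop where
  memT : a ∈ T
  comm : a * c = c * a
  conj : a * v * a⁻¹ = c * v
  sq : a * a = c ∨ a * a = c * z
  gq : GQ Q (a * a) v z n
  ord : orderOf a = 2 ^ (n + 3)
  vconj : v * a * v⁻¹ = a⁻¹ ∨ v * a * v⁻¹ = a⁻¹ * z

theorem AData.of [Finite G] (hQ : GQ Q c v z n)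
    (hcen : ∀ d ∈ T, (∀ q ∈ Q, d * q = q * d) → d = 1 ∨ d = z) (hQT : Q ≤ T) {a : G} (ha : a ∈ T)
    (hac : a * c = c * a) (hav : a * v * a⁻¹ = c * v) : AData T Q c v z a n := by
  have hcT := hQT hQ.c_mem
  have haz : a * z = z * a := by
    rw [← hQ.z_eq]; exact ((show Commute a c from hac).pow_right _).eq
  have h1 : (c⁻¹ * (a * a)) * c = c * (c⁻¹ * (a * a)) := by
    have h2 : Commute (a * a) c := (show Commute a c from hac).mul_left hac
    calc (c⁻¹ * (a * a)) * c = c⁻¹ * (a * a * c) := by group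
      _ = c⁻¹ * (c * (a * a)) := by rw [h2.eq]
      _ = _ := by group
  have h2 : (c⁻¹ * (a * a)) * v = v * (c⁻¹ * (a * a)) := by
    have h3 : a * a * v * (a * a)⁻¹ = c * c * v := by
      have : a * a * v * (a * a)⁻¹ = a * (a * v * a⁻¹) * a⁻¹ := by group
      rw [this, hav]
      have : a * (c * v) * a⁻¹ = a * c * a⁻¹ * (a * v * a⁻¹) := by group
      rw [this, hav, hac]; group
    have h4 : a * a * v = c * c * v * (a * a) := mul_inv_eq_iff_eq_mul.1 h3
    have h5 : c * v = v * c⁻¹ := by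
      have := v_zpow hQ (-1)
      rw [neg_neg, zpow_neg_one, zpow_one] at this
      exact this.symm
    calc (c⁻¹ * (a * a)) * v = c⁻¹ * (a * a * v) := by group
      _ = c * v * (a * a) := by rw [h4]; group
      _ = v * (c⁻¹ * (a * a)) := by rw [h5]; group
  have h3 : a * a = c ∨ a * a = c * z := by
    rcases hcen _ (T.mul_mem (T.inv_mem hcT) (T.mul_mem ha ha)) (comm_of hQ h1 h2) with h4 | h4
    · left; exact (inv_mul_eq_one.1 h4).symm
    · right; exact inv_mul_eq_iff_eq_mul.1 h4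
  have hgq : GQ Q (a * a) v z n := by
    rcases h3 with h4 | h4 <;> rw [h4]
    · exact hQ
    · exact gq_cz hQ
  have hp : a ^ 2 ^ (n + 2) = z := by
    rw [pow_succ', pow_mul, pow_two, hgq.z_eq]
  refine ⟨ha, hac, hav, h3, hgq, ?_, ?_⟩
  · refine orderOf_eq_prime_pow (p := 2) (n := n + 2) ?_ ?_
    · rw [hp]; exact hQ.z_ne
    · rw [pow_succ 2 (n + 2), pow_mul, hp, pow_two, hQ.z_mul]
  · have h4 : v * a * v⁻¹ = c⁻¹ * a := by
      have : v * a * v⁻¹ = v * (a * v * a⁻¹)⁻¹ * a := by group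
      rw [this, hav]; group
    rw [h4]
    rcases h3 with h5 | h5
    · left; rw [← h5]; group
    · right
      have h6 : c = a * a * z := by rw [h5, mul_assoc, hQ.z_mul, mul_one]
      rw [h6, mul_inv_rev, hQ.z_inv, mul_inv_rev]
      have h7 : Commute z a⁻¹ := (show Commute a z from haz).symm.inv_right
      calc z * (a⁻¹ * a⁻¹) * a = z * a⁻¹ := by group
        _ = a⁻¹ * z := h7.eq

/-- in case two the centraliser of `c` is `⟨a⟩` -/
theorem AData.cent {a : G} (h : AData T Q c v z a n) (hQ : GQ Q c v z n) (hQT : Q ≤ T)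
    (hn : T ≤ normalizer (Q : Set G))
    (hcen : ∀ d ∈ T, (∀ q ∈ Q, d * q = q * d) → d = 1 ∨ d = z) :
    ∀ x ∈ T, x * c = c * x → x ∈ zpowers a := by
  intro x hx hxc
  have hca : c ∈ zpowers a := by
    rcases h.sq with h1 | h1
    · exact ⟨2, by change a ^ (2 : ℤ) = c; rw [← h1, zpow_ofNat, pow_two]⟩
    · have hza : z ∈ zpowers a := by
        refine ⟨2 ^ (n + 2), ?_⟩
        change a ^ (2 ^ (n + 2) : ℤ) = z
        have h2 : a ^ (2 ^ (n + 2) : ℤ) = a ^ (2 ^ (n + 2) : ℕ) := by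
          rw [← zpow_natCast]; push_cast; rfl
        rw [h2, pow_succ', pow_mul, pow_two, h.gq.z_eq]
      have h3 : c = a * a * z := by rw [h1, mul_assoc, hQ.z_mul, mul_one]
      rw [h3]
      exact mul_mem (mul_mem (mem_zpowers a) (mem_zpowers a)) hza
  have hza : z ∈ zpowers a := by
    rw [← hQ.z_eq]; exact pow_mem hca _
  obtain ⟨j, hj⟩ := exists_j hQ (hn hx) hxc
  have hxc' : Commute x c := hxc
  -- the even case
  have key : ∀ y ∈ T, y * c = c * y → ∀ k : ℤ, y * v * y⁻¹ = c ^ (k + k) * v → y ∈ zpowers a := by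
    intro y hy hyc k hk
    have hyc' : Commute y c := hyc
    have h1 : c ^ (-k) * y = 1 ∨ c ^ (-k) * y = z := by
      refine hcen _ (T.mul_mem (T.zpow_mem (hQT hQ.c_mem) _) hy) (comm_of hQ ?_ ?_)
      · exact ((((Commute.refl c).zpow_left (-k))).mul_left hyc').eq
      · have h2 : y * v = c ^ (k + k) * v * y := mul_inv_eq_iff_eq_mul.1 hk
        have h3 : c ^ (-k) * c ^ (k + k) = c ^ k := by rw [← zpow_add]; congr 1; ring
        calc c ^ (-k) * y * v = c ^ (-k) * (y * v) := by group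
          _ = c ^ (-k) * c ^ (k + k) * v * y := by rw [h2]; group
          _ = c ^ (- -k) * v * y := by rw [h3, neg_neg]
          _ = v * c ^ (-k) * y := by rw [v_zpow hQ]
          _ = v * (c ^ (-k) * y) := by group
    have h2 : y = c ^ k * (c ^ (-k) * y) := by rw [← mul_assoc, ← zpow_add]; simp
    rw [h2]
    rcases h1 with h3 | h3 <;> rw [h3]
    · exact mul_mem (zpow_mem hca k) (one_mem _)
    · exact mul_mem (zpow_mem hca k) hza
  rcases Int.even_or_odd j with ⟨k, rfl⟩ | ⟨k, rfl⟩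
  · exact key x hx hxc k hj
  · have h1 : a⁻¹ * x ∈ zpowers a := by
      have hac' : Commute a c := h.comm
      refine key _ (T.mul_mem (T.inv_mem h.memT) hx) (hac'.inv_left.mul_left hxc').eq k ?_
      have h2 : a⁻¹ * x * v * (a⁻¹ * x)⁻¹ = a⁻¹ * (x * v * x⁻¹) * a := by group
      have h3 : a⁻¹ * v * a = c⁻¹ * v := by
        have h4 : v = a⁻¹ * (c * v) * a := by rw [← h.conj]; group
        have h5 : a⁻¹ * (c * v) * a = c * (a⁻¹ * v * a) := by
          have : a⁻¹ * c = c * a⁻¹ := hac'.inv_left.eq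
          calc a⁻¹ * (c * v) * a = a⁻¹ * c * v * a := by group
            _ = _ := by rw [this]; group
        rw [h5] at h4
        rw [eq_inv_mul_iff_mul_eq]; exact h4.symm
      rw [h2, hj]
      have h6 : a⁻¹ * (c ^ (2 * k + 1) * v) * a = c ^ (2 * k + 1) * (a⁻¹ * v * a) := by
        have : a⁻¹ * c ^ (2 * k + 1) = c ^ (2 * k + 1) * a⁻¹ := (hac'.inv_left.zpow_right _).eq
        calc a⁻¹ * (c ^ (2 * k + 1) * v) * a = a⁻¹ * c ^ (2 * k + 1) * v * a := by group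
          _ = _ := by rw [this]; group
      rw [h6, h3, ← mul_assoc, ← zpow_sub_one]
      congr 2; ring
    have h2 : x = a * (a⁻¹ * x) := by group
    rw [h2]
    exact mul_mem (mem_zpowers a) h1

theorem even_mem (hQ : GQ Q c v z n) (hQT : Q ≤ T)
    (hcen : ∀ d ∈ T, (∀ q ∈ Q, d * q = q * d) → d = 1 ∨ d = z) {y : G} (hy : y ∈ T)
    (hyc : y * c = c * y) {k : ℤ} (hk : y * v * y⁻¹ = c ^ (k + k) * v) : y ∈ zpowers c := by
  have hyc' : Commute y c := hyc
  have h1 : c ^ (-k) * y = 1 ∨ c ^ (-k) * y = z := by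
    refine hcen _ (T.mul_mem (T.zpow_mem (hQT hQ.c_mem) _) hy) (comm_of hQ ?_ ?_)
    · exact ((((Commute.refl c).zpow_left (-k))).mul_left hyc').eq
    · have h2 : y * v = c ^ (k + k) * v * y := mul_inv_eq_iff_eq_mul.1 hk
      have h3 : c ^ (-k) * c ^ (k + k) = c ^ k := by rw [← zpow_add]; congr 1; ring
      calc c ^ (-k) * y * v = c ^ (-k) * (y * v) := by group
        _ = c ^ (-k) * c ^ (k + k) * v * y := by rw [h2]; group
        _ = c ^ (- -k) * v * y := by rw [h3, neg_neg]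
        _ = v * c ^ (-k) * y := by rw [v_zpow hQ]
        _ = v * (c ^ (-k) * y) := by group
  have h2 : y = c ^ k * (c ^ (-k) * y) := by rw [← mul_assoc, ← zpow_add]; simp
  rw [h2]
  rcases h1 with h3 | h3 <;> rw [h3]
  · exact mul_mem (zpow_mem (mem_zpowers c) k) (one_mem _)
  · refine mul_mem (zpow_mem (mem_zpowers c) k) ?_
    rw [← hQ.z_eq]; exact pow_mem (mem_zpowers c) _

theorem caseOne_cent (hQ : GQ Q c v z n) (hQT : Q ≤ T) (hn : T ≤ normalizer (Q : Set G))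
    (hcen : ∀ d ∈ T, (∀ q ∈ Q, d * q = q * d) → d = 1 ∨ d = z)
    (hno : ¬ ∃ a ∈ T, a * c = c * a ∧ a * v * a⁻¹ = c * v) :
    ∀ x ∈ T, x * c = c * x → x ∈ zpowers c := by
  intro x hx hxc
  obtain ⟨j, hj⟩ := exists_j hQ (hn hx) hxc
  have hxc' : Commute x c := hxc
  rcases Int.even_or_odd j with ⟨k, rfl⟩ | ⟨k, rfl⟩
  · exact even_mem hQ hQT hcen hx hxc hj
  · exfalso
    apply hno
    refine ⟨c ^ (-k) * x, T.mul_mem (T.zpow_mem (hQT hQ.c_mem) _) hx,
      (((Commute.refl c).zpow_left (-k)).mul_left hxc').eq, ?_⟩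
    have h1 : c ^ (-k) * x * v * (c ^ (-k) * x)⁻¹ = c ^ (-k) * (x * v * x⁻¹) * (c ^ (-k))⁻¹ := by
      group
    rw [h1, hj, ← zpow_neg, neg_neg, mul_assoc, mul_assoc, v_zpow hQ, ← mul_assoc, ← mul_assoc,
      ← zpow_add, ← zpow_add]
    congr 1
    have : -k + (2 * k + 1) + -k = 1 := by ring
    rw [this, zpow_one]

/-- no `b` in case two -/
theorem caseTwo {a : G} (h : AData T Q c v z a n) (hQ : GQ Q c v z n) (hQT : Q ≤ T)
    (hn : T ≤ normalizer (Q : Set G))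
    (hcen : ∀ d ∈ T, (∀ q ∈ Q, d * q = q * d) → d = 1 ∨ d = z) (hn0 : n ≠ 0) {b : G} (hb : b ∈ T)
    (hbc : b * c * b⁻¹ = c * z) : False := by
  have hbz : b * z = z * b := z_comm hQ (hn hb)
  have haz : a * z = z * a := z_comm hQ (hn h.memT)
  have hbc' : b⁻¹ * c * b = c * z := by
    have h1 : c = b⁻¹ * (b * c * b⁻¹) * b := by group
    rw [hbc] at h1
    have h2 : b⁻¹ * (c * z) * b = b⁻¹ * c * b * z := by
      have : z * b = b * z := hbz.symm
      calc b⁻¹ * (c * z) * b = b⁻¹ * c * (z * b) := by group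
        _ = b⁻¹ * c * b * z := by rw [this]; group
    rw [h2] at h1
    have h3 : c * z = b⁻¹ * c * b * z * z := by rw [← h1]
    rw [h3, mul_assoc (b⁻¹ * c * b), hQ.z_mul, mul_one]
  have h1 : b * a * b⁻¹ * c = c * (b * a * b⁻¹) := by
    have h2 : a * (c * z) = c * z * a := by
      rw [← mul_assoc, h.comm, mul_assoc, haz, mul_assoc]
    have h3 : b * c * z * b⁻¹ = c := by
      have : b * c * z * b⁻¹ = b * c * b⁻¹ * (b * z * b⁻¹) := by group
      rw [this, hbc, hbz, mul_inv_cancel_right, mul_assoc, hQ.z_mul, mul_one]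
    calc b * a * b⁻¹ * c = b * (a * (b⁻¹ * c * b)) * b⁻¹ := by group
      _ = b * (c * z * a) * b⁻¹ := by rw [hbc', h2]
      _ = b * c * z * b⁻¹ * (b * a * b⁻¹) := by group
      _ = c * (b * a * b⁻¹) := by rw [h3]
  obtain ⟨l, hl⟩ := h.cent hQ hQT hn hcen _ (T.mul_mem (T.mul_mem hb h.memT) (T.inv_mem hb)) h1
  change a ^ l = b * a * b⁻¹ at hl
  have hbb : b * b * c = c * (b * b) := by
    have h1 : b * b * c * (b * b)⁻¹ = c := by
      have : b * b * c * (b * b)⁻¹ = b * (b * c * b⁻¹) * b⁻¹ := by group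
      rw [this, hbc]
      have : b * (c * z) * b⁻¹ = b * c * b⁻¹ * (b * z * b⁻¹) := by group
      rw [this, hbc, hbz, mul_inv_cancel_right, mul_assoc, hQ.z_mul, mul_one]
    exact mul_inv_eq_iff_eq_mul.1 h1
  obtain ⟨r, hr⟩ := h.cent hQ hQT hn hcen _ (T.mul_mem hb hb) hbb
  change a ^ r = b * b at hr
  have h2 : a ^ (l * l) = a := by
    have h3 : b * b * a * (b * b)⁻¹ = a ^ (l * l) := by
      have : b * b * a * (b * b)⁻¹ = b * (b * a * b⁻¹) * b⁻¹ := by group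
      rw [this, ← hl, ← _root_.conj_zpow, ← hl, zpow_mul]
    rw [← h3, ← hr]
    have : Commute (a ^ r) a := (Commute.refl a).zpow_left r
    rw [this.eq]; group
  have hap : a ^ 2 ^ (n + 1 + 1) = z := by
    rw [pow_succ', pow_mul, pow_two, h.gq.z_eq]
  have hbaa : b * (a * a) * b⁻¹ = a * a * z := by
    rcases h.sq with h4 | h4 <;> rw [h4]
    · exact hbc
    · have : b * (c * z) * b⁻¹ = b * c * b⁻¹ * (b * z * b⁻¹) := by group
      rw [this, hbc, hbz, mul_inv_cancel_right]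
  have h5 : b * (a * a) * b⁻¹ = a ^ l * a ^ l := by rw [hl]; group
  rw [h5] at hbaa
  have hazi : a⁻¹ * z = z * a⁻¹ := (show Commute a z from haz).inv_left.eq
  rcases pow_four (m := n + 1) h.ord hap h2 with h6 | h6 | h6 | h6 <;> rw [h6] at hbaa
  · exact c_ne_cz h.gq hbaa.symm
  · apply c_ne_cz h.gq
    rw [← hbaa]
    calc a * z * (a * z) = a * (z * a) * z := by group
      _ = a * a * (z * z) := by rw [← haz]; group
      _ = a * a := by rw [hQ.z_mul, mul_one]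
  · apply inv_ne_cz h.gq hn0
    rw [← hbaa, mul_inv_rev]
  · apply inv_ne_cz h.gq hn0
    rw [← hbaa, mul_inv_rev]
    calc a⁻¹ * z * (a⁻¹ * z) = a⁻¹ * (z * a⁻¹) * z := by group
      _ = a⁻¹ * a⁻¹ * (z * z) := by rw [← hazi]; group
      _ = a⁻¹ * a⁻¹ := by rw [hQ.z_mul, mul_one]

end core

/-- **Lemma Q** -/
theorem lemmaQ [Finite G] {T Q : Subgroup G} {c v z : G} {n : ℕ} (hT : IsPGroup 2 T) (hQT : Q ≤ T)
    (hn : T ≤ normalizer (Q : Set G)) (hQ : GQ Q c v z n) (hr : SectionalPRankLE 2 2 T) :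
    T = Q ∨ ∃ a t : G, a ∈ T ∧ t ∈ Q ∧ GQ Q (a * a) t z n ∧ orderOf a = 2 ^ (n + 3) ∧
      (t * a * t⁻¹ = a⁻¹ ∨ t * a * t⁻¹ = a⁻¹ * z) ∧
      ∀ x ∈ T, (∃ i : ℕ, x = a ^ i) ∨ ∃ i : ℕ, x = t * a ^ i := by
  obtain ⟨c, v, hQ, hci⟩ := choose_inv hT hQT hn hQ
  have hcen := centQ hT hQT hQ hr
  by_cases hA : ∃ a ∈ T, a * c = c * a ∧ a * v * a⁻¹ = c * v
  · obtain ⟨a, haT, hac, hav⟩ := hA
    have h := AData.of hQ hcen hQT haT hac hav
    have hb : ∀ x ∈ T, x * c * x⁻¹ = c ∨ x * c * x⁻¹ = c⁻¹ := by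
      by_contra hcon
      push Not at hcon
      obtain ⟨x, hx, h1, h2⟩ := hcon
      obtain ⟨hn0, b, hbT, hbc⟩ := reduce_b hT hQT hn hQ hci ⟨x, hx, not_or.2 ⟨h1, h2⟩⟩
      exact caseTwo h hQ hQT hn hcen hn0 hbT hbc
    have hpow : ∀ x ∈ T, x * c = c * x → ∃ i : ℕ, x = a ^ i := by
      intro x hx hxc
      have h1 := h.cent hQ hQT hn hcen x hx hxc
      rw [← mem_powers_iff_mem_zpowers] at h1
      obtain ⟨i, hi⟩ := h1
      exact ⟨i, hi.symm⟩
    right
    refine ⟨a, v, haT, hQ.v_mem, h.gq, h.ord, h.vconj, ?_⟩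
    intro x hx
    rcases hb x hx with h1 | h1
    · exact Or.inl (hpow x hx (mul_inv_eq_iff_eq_mul.1 h1))
    · right
      have h2 : v⁻¹ * x * c * (v⁻¹ * x)⁻¹ = c := by
        have : v⁻¹ * x * c * (v⁻¹ * x)⁻¹ = v⁻¹ * (x * c * x⁻¹) * v := by group
        rw [this, h1, ← hQ.conj]; group
      obtain ⟨i, hi⟩ := hpow _ (T.mul_mem (T.inv_mem (hQT hQ.v_mem)) hx)
        (mul_inv_eq_iff_eq_mul.1 h2)
      exact ⟨i, by rw [← hi]; group⟩
  · have hC := caseOne_cent hQ hQT hn hcen hA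
    have hb : ∀ x ∈ T, x * c * x⁻¹ = c ∨ x * c * x⁻¹ = c⁻¹ := by
      by_contra hcon
      push Not at hcon
      obtain ⟨x, hx, h1, h2⟩ := hcon
      obtain ⟨hn0, b, hbT, hbc⟩ := reduce_b hT hQT hn hQ hci ⟨x, hx, not_or.2 ⟨h1, h2⟩⟩
      exact caseOne hQT hn hQ hr hn0 hC hbT hbc
    left
    refine le_antisymm ?_ hQT
    intro x hx
    have hcQ : zpowers c ≤ Q := zpowers_le.2 hQ.c_mem
    rcases hb x hx with h1 | h1
    · exact hcQ (hC x hx (mul_inv_eq_iff_eq_mul.1 h1))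
    · have h2 : v⁻¹ * x * c * (v⁻¹ * x)⁻¹ = c := by
        have : v⁻¹ * x * c * (v⁻¹ * x)⁻¹ = v⁻¹ * (x * c * x⁻¹) * v := by group
        rw [this, h1, ← hQ.conj]; group
      have h3 := hcQ (hC _ (T.mul_mem (T.inv_mem (hQT hQ.v_mem)) hx) (mul_inv_eq_iff_eq_mul.1 h2))
      have h4 := Q.mul_mem hQ.v_mem h3
      rwa [← mul_assoc, mul_inv_cancel, one_mul] at h4

end Cfsg.Agent.GH.QALemmaQ
end

-- part: GH/L3/Elem
section
/-!
# GH-L3: elementary abelian subgroups of rank 4 and 5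

`exists_mul`: in a group of 2-rank at most 4, `a, b` and `c, d` pairs of different commuting involutions with
`[⟨a, b⟩, ⟨c, d⟩] = 1`, `⟨a, b⟩ ∩ ⟨c, d⟩ = 1`: an involution `t` commuting with `a, b, c, d` is in `⟨a, b⟩⟨c, d⟩`.
-/

set_option autoImplicit false

open Subgroup Cfsg

namespace Cfsg.Agent.GH.L3.Elem

variable {G : Type*} [Group G]

/-- `{1, a, b, ab}` -/
def four (a b : G) (ha : a * a = 1) (hb : b * b = 1) (hab : a * b = b * a) : Subgroup G where
  carrier := {1, a, b, a * b}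
  one_mem' := by simp
  mul_mem' := by
    have h1 : a * (a * b) = b := by rw [← mul_assoc, ha, one_mul]
    have h2 : b * (a * b) = a := by rw [hab, ← mul_assoc, hb, one_mul]
    have h3 : a * b * a = b := by rw [hab, mul_assoc, ha, mul_one]
    have h4 : a * b * b = a := by rw [mul_assoc, hb, mul_one]
    have h5 : a * b * (a * b) = 1 := by rw [← mul_assoc, h3, hb]
    have h6 : b * a = a * b := hab.symm
    rintro x y (rfl | rfl | rfl | rfl) (rfl | rfl | rfl | rfl) <;>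
      simp only [ha, hb, h1, h2, h3, h4, h5, h6, _root_.mul_one, _root_.Set.mem_insert_iff, _root_.Set.mem_singleton_iff, _root_.true_or, _root_.one_mul, _root_.left_eq_mul, _root_.or_true, _root_.right_eq_mul, _root_.mul_eq_left, _root_.mul_eq_right]
  inv_mem' := by
    have ha' : a⁻¹ = a := inv_eq_of_mul_eq_one_left ha
    have hb' : b⁻¹ = b := inv_eq_of_mul_eq_one_left hb
    rintro x (rfl | rfl | rfl | rfl)
    · simp
    · simp [ha']
    · simp [hb']
    · simp only [ha', hb', hab, _root_.mul_inv_rev, _root_.Set.mem_insert_iff, _root_.mul_eq_right, _root_.mul_eq_left, _root_.Set.mem_singleton_iff, _root_.or_true]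

theorem mem_four {a b : G} {ha : a * a = 1} {hb : b * b = 1} {hab : a * b = b * a} {x : G} :
    x ∈ four a b ha hb hab ↔ x = 1 ∨ x = a ∨ x = b ∨ x = a * b := Iff.rfl

theorem card_four {a b : G} (ha : a * a = 1) (hb : b * b = 1) (hab : a * b = b * a) (h1 : a ≠ 1)
    (h2 : b ≠ 1) (h3 : a ≠ b) : Nat.card (four a b ha hb hab) = 4 := by
  classical
  have hb' : b⁻¹ = b := inv_eq_of_mul_eq_one_left hb
  have h6 : a * b ≠ 1 := fun h => h3 (by rw [mul_eq_one_iff_eq_inv, hb'] at h; exact h)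
  have h7 : a * b ≠ a := fun h => h2 (by simpa using h)
  have h8 : a * b ≠ b := fun h => h1 (by simpa using h)
  have h4 : ((four a b ha hb hab : Subgroup G) : Set G) = (({1, a, b, a * b} : Finset G) : Set G) := by
    ext x
    simp only [mem_four, _root_.SetLike.mem_coe, _root_.Finset.coe_insert, _root_.Finset.coe_singleton, _root_.Set.mem_insert_iff, _root_.Set.mem_singleton_iff]
  have h5 : Nat.card (four a b ha hb hab) = ((four a b ha hb hab : Subgroup G) : Set G).ncard := rfl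
  rw [h5, h4, Set.ncard_coe_finset, Finset.card_insert_of_notMem, Finset.card_insert_of_notMem,
    Finset.card_insert_of_notMem, Finset.card_singleton]
  · simpa using h8.symm
  · simp [h3, h7.symm]
  · simp [h1.symm, h2.symm, h6.symm]

/-- `U V` for commuting subgroups. -/
def prod (U V : Subgroup G) (hc : ∀ u ∈ U, ∀ v ∈ V, u * v = v * u) : Subgroup G where
  carrier := {g | ∃ u ∈ U, ∃ v ∈ V, g = u * v}
  one_mem' := ⟨1, U.one_mem, 1, V.one_mem, (mul_one 1).symm⟩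
  mul_mem' := by
    rintro _ _ ⟨u, hu, v, hv, rfl⟩ ⟨u', hu', v', hv', rfl⟩
    refine ⟨u * u', U.mul_mem hu hu', v * v', V.mul_mem hv hv', ?_⟩
    calc u * v * (u' * v') = u * (v * u') * v' := by group
      _ = u * (u' * v) * v' := by rw [hc u' hu' v hv]
      _ = u * u' * (v * v') := by group
  inv_mem' := by
    rintro _ ⟨u, hu, v, hv, rfl⟩
    refine ⟨u⁻¹, U.inv_mem hu, v⁻¹, V.inv_mem hv, ?_⟩
    rw [mul_inv_rev]
    exact (hc _ (U.inv_mem hu) _ (V.inv_mem hv)).symm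

theorem mem_prod {U V : Subgroup G} {hc : ∀ u ∈ U, ∀ v ∈ V, u * v = v * u} {g : G} :
    g ∈ prod U V hc ↔ ∃ u ∈ U, ∃ v ∈ V, g = u * v := Iff.rfl

theorem card_prod {U V : Subgroup G} (hc : ∀ u ∈ U, ∀ v ∈ V, u * v = v * u) (h : U ⊓ V = ⊥) :
    Nat.card (prod U V hc) = Nat.card U * Nat.card V := by
  rw [← Nat.card_prod]
  symm
  refine Nat.card_eq_of_bijective
    (fun p : U × V => (⟨p.1 * p.2, p.1, p.1.2, p.2, p.2.2, rfl⟩ : prod U V hc)) ⟨?_, ?_⟩
  · rintro ⟨⟨u, hu⟩, ⟨v, hv⟩⟩ ⟨⟨u', hu'⟩, ⟨v', hv'⟩⟩ he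
    have h1 : u * v = u' * v' := congrArg Subtype.val he
    have h2 : u'⁻¹ * u = v' * v⁻¹ := by
      rw [eq_mul_inv_iff_mul_eq, mul_assoc, h1, inv_mul_cancel_left]
    have h3 : u'⁻¹ * u ∈ U ⊓ V := ⟨U.mul_mem (U.inv_mem hu') hu, h2 ▸ V.mul_mem hv' (V.inv_mem hv)⟩
    rw [h, mem_bot] at h3
    have h4 : u = u' := (inv_mul_eq_one.mp h3).symm
    subst h4
    have h5 : v = v' := mul_left_cancel h1
    subst h5
    rfl
  · rintro ⟨g, u, hu, v, hv, rfl⟩
    exact ⟨⟨⟨u, hu⟩, ⟨v, hv⟩⟩, rfl⟩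

variable [Finite G]

/-- an involution centralizing the elementary abelian `E` of order 16 is in `E` -/
theorem mem_of_comm {E : Subgroup G} (hr : PRankLE 2 4 G) (hE : Nat.card E = 16)
    (hc : ∀ a ∈ E, ∀ b ∈ E, a * b = b * a) (hs : ∀ a ∈ E, a * a = 1) {t : G} (ht : t * t = 1)
    (htE : ∀ e ∈ E, t * e = e * t) : t ∈ E := by
  by_contra htn
  have h1 : (four t 1 ht (one_mul 1) (by rw [mul_one, one_mul])) ⊓ E = ⊥ := by
    rw [eq_bot_iff]
    rintro x ⟨hx, hxE⟩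
    rw [mem_bot]
    rcases mem_four.mp hx with h | h | h | h
    · exact h
    · exact absurd (h ▸ hxE) htn
    · exact h
    · rw [mul_one] at h
      exact absurd (h ▸ hxE) htn
  have hc' : ∀ u ∈ four t 1 ht (one_mul 1) (by rw [mul_one, one_mul]), ∀ v ∈ E, u * v = v * u := by
    intro u hu v hv
    rcases mem_four.mp hu with h | h | h | h
    · rw [h, one_mul, mul_one]
    · rw [h]; exact htE v hv
    · rw [h, one_mul, mul_one]
    · rw [h, mul_one]; exact htE v hv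
  have ht1 : t ≠ 1 := fun h => htn (h ▸ E.one_mem)
  have hcomm : ∀ a ∈ prod _ E hc', ∀ b ∈ prod _ E hc', a * b = b * a := by
    rintro _ ⟨u, hu, e, he, rfl⟩ _ ⟨u', hu', e', he', rfl⟩
    have h3 : u * u' = u' * u := by
      rcases mem_four.mp hu with h | h | h | h <;> rcases mem_four.mp hu' with h' | h' | h' | h' <;>
        simp [h, h']
    calc u * e * (u' * e') = u * (e * u') * e' := by group
      _ = u * (u' * e) * e' := by rw [hc' u' hu' e he]
      _ = (u * u') * (e * e') := by group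
      _ = (u' * u) * (e' * e) := by rw [h3, hc e he e' he']
      _ = u' * (u * e') * e := by group
      _ = u' * (e' * u) * e := by rw [hc' u hu e' he']
      _ = u' * e' * (u * e) := by group
  have hsq : ∀ a ∈ prod _ E hc', a ^ 2 = 1 := by
    rintro _ ⟨u, hu, e, he, rfl⟩
    have h3 : u * u = 1 := by
      rcases mem_four.mp hu with h | h | h | h <;> simp [h, ht]
    rw [pow_two]
    calc u * e * (u * e) = u * (e * u) * e := by group
      _ = u * (u * e) * e := by rw [hc' u hu e he]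
      _ = (u * u) * (e * e) := by group
      _ = 1 := by rw [h3, hs e he, mul_one]
  have h4 := hr _ ⟨⟨fun a b => Subtype.ext (hcomm a a.2 b b.2)⟩⟩ hsq
  rw [card_prod hc' h1, hE] at h4
  have h5 : 1 < Nat.card (four t 1 ht (one_mul 1) (by rw [mul_one, one_mul])) := by
    rw [Subgroup.one_lt_card_iff_ne_bot]
    intro h6
    have h7 : t ∈ four t 1 ht (one_mul 1) (by rw [mul_one, one_mul]) := mem_four.mpr (Or.inr (Or.inl rfl))
    rw [h6, mem_bot] at h7
    exact ht1 h7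
  have h6 : (2 : ℕ) ^ 4 = 16 := by norm_num
  rw [h6] at h4
  linarith only [h4, h5]

/-- The form used. -/
theorem exists_mul (hr : PRankLE 2 4 G) {a b c d t : G} (ha : a * a = 1) (hb : b * b = 1)
    (hc : c * c = 1) (hd : d * d = 1) (ht : t * t = 1) (ha1 : a ≠ 1) (hb1 : b ≠ 1) (hc1 : c ≠ 1)
    (hd1 : d ≠ 1) (hab : a * b = b * a) (hcd : c * d = d * c) (hac : a * c = c * a)
    (had : a * d = d * a) (hbc : b * c = c * b) (hbd : b * d = d * b) (hne : a ≠ b) (hne' : c ≠ d)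
    (hdis : ∀ x : G, (x = 1 ∨ x = a ∨ x = b ∨ x = a * b) → (x = 1 ∨ x = c ∨ x = d ∨ x = c * d) →
      x = 1)
    (hta : t * a = a * t) (htb : t * b = b * t) (htc : t * c = c * t) (htd : t * d = d * t) :
    ∃ u v : G, (u = 1 ∨ u = a ∨ u = b ∨ u = a * b) ∧ (v = 1 ∨ v = c ∨ v = d ∨ v = c * d) ∧
      t = u * v := by
  have hUV : ∀ u ∈ four a b ha hb hab, ∀ v ∈ four c d hc hd hcd, u * v = v * u := by
    intro u hu v hv
    have h1 : ∀ w, w = c ∨ w = d → a * w = w * a ∧ b * w = w * b := by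
      rintro w (rfl | rfl)
      · exact ⟨hac, hbc⟩
      · exact ⟨had, hbd⟩
    have h2 : ∀ w, (w = 1 ∨ w = c ∨ w = d ∨ w = c * d) → Commute a w ∧ Commute b w := by
      rintro w (rfl | rfl | rfl | rfl)
      · exact ⟨Commute.one_right _, Commute.one_right _⟩
      · exact h1 _ (Or.inl rfl)
      · exact h1 _ (Or.inr rfl)
      · exact ⟨Commute.mul_right hac had, Commute.mul_right hbc hbd⟩
    obtain ⟨h3, h4⟩ := h2 v hv
    rcases mem_four.mp hu with h | h | h | h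
    · rw [h, one_mul, mul_one]
    · rw [h]; exact h3.eq
    · rw [h]; exact h4.eq
    · rw [h]; exact (h3.mul_left h4).eq
  have hdis' : four a b ha hb hab ⊓ four c d hc hd hcd = ⊥ := by
    rw [eq_bot_iff]
    rintro x ⟨hx, hx'⟩
    exact mem_bot.mpr (hdis x hx hx')
  have hcard : Nat.card (prod _ _ hUV) = 16 := by
    rw [card_prod hUV hdis', card_four ha hb hab ha1 hb1 hne, card_four hc hd hcd hc1 hd1 hne']
  have hcf : ∀ {a b : G} (ha : a * a = 1) (hb : b * b = 1) (hab : a * b = b * a),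
      ∀ u ∈ four a b ha hb hab, ∀ v ∈ four a b ha hb hab, u * v = v * u := by
    intro a b ha hb hab u hu v hv
    have h3 : Commute a (a * b) := Commute.mul_right (Commute.refl a) hab
    have h4 : Commute b (a * b) := Commute.mul_right (Commute.symm hab) (Commute.refl b)
    have hab' : Commute a b := hab
    rcases mem_four.mp hu with h | h | h | h <;> rcases mem_four.mp hv with h' | h' | h' | h' <;>
      rw [h, h'] <;>
      first
      | rfl
      | exact (Commute.one_left _).eq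
      | exact (Commute.one_right _).eq
      | exact hab'.eq
      | exact hab'.symm.eq
      | exact h3.eq
      | exact h3.symm.eq
      | exact h4.eq
      | exact h4.symm.eq
  have hsf : ∀ {a b : G} (ha : a * a = 1) (hb : b * b = 1) (hab : a * b = b * a),
      ∀ u ∈ four a b ha hb hab, u * u = 1 := by
    intro a b ha hb hab u hu
    rcases mem_four.mp hu with h | h | h | h
    · rw [h, mul_one]
    · rw [h, ha]
    · rw [h, hb]
    · rw [h]
      calc a * b * (a * b) = a * (b * a) * b := by group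
        _ = a * (a * b) * b := by rw [hab]
        _ = (a * a) * (b * b) := by group
        _ = 1 := by rw [ha, hb, mul_one]
  have hmem : t ∈ prod _ _ hUV := by
    refine mem_of_comm hr hcard ?_ ?_ ht ?_
    · rintro _ ⟨u, hu, e, he, rfl⟩ _ ⟨u', hu', e', he', rfl⟩
      calc u * e * (u' * e') = u * (e * u') * e' := by group
        _ = u * (u' * e) * e' := by rw [hUV u' hu' e he]
        _ = (u * u') * (e * e') := by group
        _ = (u' * u) * (e' * e) := by rw [hcf ha hb hab u hu u' hu', hcf hc hd hcd e he e' he']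
        _ = u' * (u * e') * e := by group
        _ = u' * (e' * u) * e := by rw [hUV u hu e' he']
        _ = u' * e' * (u * e) := by group
    · rintro _ ⟨u, hu, e, he, rfl⟩
      calc u * e * (u * e) = u * (e * u) * e := by group
        _ = u * (u * e) * e := by rw [hUV u hu e he]
        _ = (u * u) * (e * e) := by group
        _ = 1 := by rw [hsf ha hb hab u hu, hsf hc hd hcd e he, mul_one]
    · have h1 : Commute t a := hta
      have h2 : Commute t b := htb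
      have h3 : Commute t c := htc
      have h4 : Commute t d := htd
      rintro _ ⟨u, hu, e, he, rfl⟩
      have h5 : Commute t u := by
        rcases mem_four.mp hu with h | h | h | h <;> rw [h]
        · exact Commute.one_right _
        · exact h1
        · exact h2
        · exact h1.mul_right h2
      have h6 : Commute t e := by
        rcases mem_four.mp he with h | h | h | h <;> rw [h]
        · exact Commute.one_right _
        · exact h3
        · exact h4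
        · exact h3.mul_right h4
      exact (h5.mul_right h6).eq
  obtain ⟨u, hu, v, hv, e⟩ := mem_prod.mp hmem
  exact ⟨u, v, hu, hv, e⟩

end Cfsg.Agent.GH.L3.Elem
end

-- part: GH/L3/Pair
section
/-!
# GH-L3 SD: LEMMA P and the trichotomy (helper242 bb GH #6844)

`x, u ∈ X` commuting, not the same, `T` Sylow in `C(x) ∩ C(u)`, `z, z'` the central involutions of `T ⊓ KK x`,
`T ⊓ KK u`.

* `lemmaP`: `z = z'` or `(u = z and x = z')`.
* `exists_pair`: some `y ∈ X` and involution `v ∈ KK y` with `v ∈ X` or `y v ∈ X`.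
* `trichotomy`.
* `caseA_symm`: `x ∈ X`, `z ∈ KK x`, `z ∈ X` imply `x ∈ KK z`.
-/

set_option autoImplicit false

open Cfsg Subgroup
open Cfsg.Agent.SignalizersComponents Cfsg.Agent.Lib
open Cfsg.Agent.SignalizersComponents.IntrinsicBasic
open Cfsg.Agent.Intrinsic.Basic Cfsg.Agent.Intrinsic.Cen
open Cfsg.Agent.GH.Defs Cfsg.Agent.GH.XSet
open Cfsg.Agent.Walter.SylowIn
open scoped commutatorElement

namespace Cfsg.Agent.GH.L3.TFrame

variable {G : Type*} [Group G] {X : Set G} {N : ℕ} {x u y z z' : G} {T : Subgroup G}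

/-- The alternative of `Frame.pair`. -/
def Alt (y u : G) (T : Subgroup G) (z : G) : Prop :=
  (Full y T z ∧ Fixes (u * z) (KK y)) ∨ Outer y u T z

theorem Alt.ctr (h : Alt y u T z) : Ctr y T z := by
  rcases h with h | h
  · exact h.1.toCtr
  · exact h.toCtr

variable [Finite G]

/-- `T ≤ C(y)` normalises `T ⊓ KK y`. -/
theorem Frame.conj_mem (h : Frame X N) (hy : y ∈ X) (hT : T ≤ C y) {t a : G} (ht : t ∈ T)
    (ha : a ∈ T ⊓ KK y) : t * a * t⁻¹ ∈ T ⊓ KK y :=
  ⟨T.mul_mem (T.mul_mem ht ha.1) (T.inv_mem ht),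
    (mem_normalizer_iff.mp (h.toXBase.mem_normalizer hy (mem_C.mp (hT ht))) a).mp ha.2⟩

/-- conjugation preserves `Fixes _ (KK y)` -/
theorem Frame.conj_fixes (h : Frame X N) (hy : y ∈ X) {t a : G} (ht : Commute t y)
    (ha : Fixes a (KK y)) : Fixes (t * a * t⁻¹) (KK y) := by
  have h1 := ha.cj t
  have h2 : cj t (KK y) = KK y := mem_normalizer_iff_cj.mp (h.toXBase.mem_normalizer hy ht)
  rwa [h2] at h1

omit [Finite G] in
theorem mem_normalizer_of {R : Subgroup G} (h : ∀ t ∈ T, ∀ a ∈ R, t * a * t⁻¹ ∈ R) :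
    T ≤ normalizer (R : Set G) := by
  intro t ht
  rw [mem_normalizer_iff]
  intro a
  refine ⟨fun ha => h t ht a ha, fun ha => ?_⟩
  have h1 := h t⁻¹ (T.inv_mem ht) _ ha
  have e : t⁻¹ * (t * a * t⁻¹) * t⁻¹⁻¹ = a := by group
  rwa [e] at h1

/-- A nontrivial subgroup of `T ⊓ KK y` normalised by `T` contains `z`. -/
theorem Ctr.mem_of_normal (hz : Ctr y T z) (hT : IsPGroup 2 T) {R : Subgroup G}
    (hR : R ≤ T ⊓ KK y) (hN : ∀ t ∈ T, ∀ a ∈ R, t * a * t⁻¹ ∈ R) (hne : ∃ a ∈ R, a ≠ 1) : z ∈ R := by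
  obtain ⟨a, ha, ha1⟩ := hne
  obtain ⟨w, hw, hw2, hwc⟩ := L2Q.exists_central hT (hR.trans inf_le_left) (mem_normalizer_of hN)
    (fun h => ha1 (by rw [h, mem_bot] at ha; exact ha))
  rcases hz.uniq w (hR hw) (fun p hp => (hwc p hp.1).symm) with h1 | h1
  · rw [h1] at hw2
    simp at hw2
  · exact h1 ▸ hw

omit [Finite G] in
theorem comm_central {a b s r : G} (h1 : Commute s b) (h2 : Commute r a)
    (h4 : Commute s r) : a * s * (b * r) * (a * s)⁻¹ * (b * r)⁻¹ = a * b * a⁻¹ * b⁻¹ := by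
  have e1 : a * s * (b * r) = a * b * (s * r) := by
    calc a * s * (b * r) = a * (s * b) * r := by group
      _ = a * (b * s) * r := by rw [h1.eq]
      _ = a * b * (s * r) := by group
  have e2 : b * r * (a * s) = b * a * (s * r) := by
    calc b * r * (a * s) = b * (r * a) * s := by group
      _ = b * (a * r) * s := by rw [h2.eq]
      _ = b * a * (r * s) := by group
      _ = b * a * (s * r) := by rw [h4.eq]
  have e3 : a * s * (b * r) * (a * s)⁻¹ * (b * r)⁻¹ = a * s * (b * r) * (b * r * (a * s))⁻¹ := by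
    group
  rw [e3, e1, e2]
  group

/-- Case (a): `P = T ⊓ KK x` is semidihedral and `P ∩ P' = 1`. -/
theorem Frame.inner_case (h : Frame X N) (hx : x ∈ X) (hu : u ∈ X) (hT : IsPGroup 2 T)
    (hTx : T ≤ C x) (hTu : T ≤ C u) (hz : Full x T z) (hz' : Ctr u T z')
    (hdis : ∀ a ∈ T ⊓ KK x, a ∈ KK u → a = 1) : x = z' := by
  have hxz := hz.toCtr
  -- `[P, P'] = 1`
  have hcomm : ∀ a ∈ T ⊓ KK x, ∀ b ∈ T ⊓ KK u, Commute a b := by
    intro a ha b hb
    have h1 : a * b * a⁻¹ * b⁻¹ ∈ T ⊓ KK x := by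
      have h2 := h.conj_mem hx hTx hb.1 ((T ⊓ KK x).inv_mem ha)
      have e : a * b * a⁻¹ * b⁻¹ = a * (b * a⁻¹ * b⁻¹) := by group
      rw [e]
      exact (T ⊓ KK x).mul_mem ha h2
    have h3 : a * b * a⁻¹ * b⁻¹ ∈ T ⊓ KK u :=
      (T ⊓ KK u).mul_mem (h.conj_mem hu hTu ha.1 hb) ((T ⊓ KK u).inv_mem hb)
    have h4 := hdis _ h1 h3.2
    rw [mul_inv_eq_one, mul_inv_eq_iff_eq_mul] at h4
    exact h4
  have hfix : ∀ b ∈ T ⊓ KK u, Fixes b (KK x) ∨ Fixes (b * z) (KK x) := fun b hb =>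
    hz.cent b hb.1 fun p hp => (hcomm p hp b hb).symm
  -- `z'` fixes `KK x`
  have hz'f : Fixes z' (KK x) := by
    have h1 : z' ∈ (T ⊓ KK u) ⊓ fixer (KK x) := by
      refine hz'.mem_of_normal hT inf_le_left ?_ ?_
      · rintro t ht a ⟨ha, ha'⟩
        exact ⟨h.conj_mem hu hTu ht ha, h.conj_fixes hx (mem_C.mp (hTx ht)) ha'⟩
      · obtain ⟨a, ha, b, hb, hab⟩ := hz'.nonab
        refine ⟨a * b * a⁻¹ * b⁻¹, ⟨?_, ?_⟩, ?_⟩
        · exact (T ⊓ KK u).mul_mem ((T ⊓ KK u).mul_mem ((T ⊓ KK u).mul_mem ha hb)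
            ((T ⊓ KK u).inv_mem ha)) ((T ⊓ KK u).inv_mem hb)
        · have hspl : ∀ a ∈ T ⊓ KK u, ∃ a' s, Fixes a' (KK x) ∧ a = a' * s ∧ a' ∈ T ∧ s ∈ T ∧
              ∀ t ∈ T, Commute s t := by
            intro a ha
            rcases hfix a ha with h1 | h1
            · exact ⟨a, 1, h1, (mul_one a).symm, ha.1, T.one_mem, fun t _ => Commute.one_left t⟩
            · exact ⟨a * z, z, h1, by rw [mul_assoc, hxz.sq, mul_one], T.mul_mem ha.1 hxz.mem.1,
                hxz.mem.1, fun t ht => (hxz.comm t ht).symm⟩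
          obtain ⟨a', s, ha', ea, ha'T, hsT, hs⟩ := hspl a ha
          obtain ⟨b', r, hb', eb, hb'T, hrT, hr⟩ := hspl b hb
          rw [ea, eb, comm_central (hs b' hb'T) (hr a' ha'T) (hs r hrT)]
          exact fixes_mul (fixes_mul (fixes_mul ha' hb') (fixes_inv ha')) (fixes_inv hb')
        · intro h1
          rw [mul_inv_eq_one, mul_inv_eq_iff_eq_mul] at h1
          exact hab h1
    exact h1.2
  obtain ⟨b, hb, hb2, hbz⟩ := hxz.four
  obtain ⟨b', hb', hb'2, hb'z⟩ := hz'.four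
  have hbsq : b * b = 1 := mul_self_of_orderOf hb2
  have hb'sq : b' * b' = 1 := mul_self_of_orderOf hb'2
  have hb1 : b ≠ 1 := by rintro rfl; simp at hb2
  have hb'1 : b' ≠ 1 := by rintro rfl; simp at hb'2
  have hxc : ∀ t ∈ T, Commute t x := fun t ht => mem_C.mp (hTx ht)
  have hxsq := h.toXBase.sq hx
  -- the projection of `b'`
  obtain ⟨c, hc, hcf, hcT⟩ : ∃ c, (c = b' ∨ c = b' * z) ∧ Fixes c (KK x) ∧ c ∈ T := by
    rcases hfix b' hb' with h1 | h1
    · exact ⟨b', Or.inl rfl, h1, hb'.1⟩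
    · exact ⟨b' * z, Or.inr rfl, h1, T.mul_mem hb'.1 hxz.mem.1⟩
  have hb'zc : Commute b' z := hxz.comm b' hb'.1
  have hcsq : c * c = 1 := by
    rcases hc with rfl | rfl
    · exact hb'sq
    · calc b' * z * (b' * z) = b' * (z * b') * z := by group
        _ = b' * (b' * z) * z := by rw [hb'zc.eq]
        _ = (b' * b') * (z * z) := by group
        _ = 1 := by rw [hb'sq, hxz.sq, mul_one]
  have hz1 := hxz.ne
  have hzu : z ∉ KK u := fun h1 => hz1 (hdis z hxz.mem h1)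
  have hc1 : c ≠ 1 := by
    rcases hc with rfl | rfl
    · exact hb'1
    · intro h1
      apply hzu
      have h2 : z = b' := by
        have h3 : b' * (b' * z) = b' := by rw [h1, mul_one]
        rwa [← mul_assoc, hb'sq, one_mul] at h3
      rw [h2]
      exact hb'.2
  have hz'c : z' ≠ c := by
    rcases hc with rfl | rfl
    · exact hb'z.symm
    · intro h1
      apply hzu
      have h2 : z = b' * z' := by rw [h1, ← mul_assoc, hb'sq, one_mul]
      rw [h2]
      exact (KK u).mul_mem hb'.2 hz'.mem.2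
  -- no element of `T ⊓ KK x` fixes `KK x`
  have hno : ∀ a ∈ T ⊓ KK x, Fixes a (KK x) → a = 1 := by
    intro a ha hf
    obtain ⟨n, hn⟩ := exists_pow hT ha.1
    exact h.eq_one hx ha.2 hf hn
  have hab : z * b = b * z := (hxz.comm b hb.1).symm.eq
  have hcd : z' * c = c * z' := (hz'.comm c hcT).symm.eq
  have hfour : ∀ w : G, (w = 1 ∨ w = z ∨ w = b ∨ w = z * b) → w ∈ T ⊓ KK x := by
    rintro w (rfl | rfl | rfl | rfl)
    · exact one_mem _
    · exact hxz.mem
    · exact hb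
    · exact (T ⊓ KK x).mul_mem hxz.mem hb
  have hfour' : ∀ w : G, (w = 1 ∨ w = z' ∨ w = c ∨ w = z' * c) → Fixes w (KK x) := by
    rintro w (rfl | rfl | rfl | rfl)
    · exact fixes_one _
    · exact hz'f
    · exact hcf
    · exact fixes_mul hz'f hcf
  have hzb : z ≠ b := hbz.symm
  have hbc : b * c = c * b := by
    have h1 : Commute b b' := hcomm b hb b' hb'
    rcases hc with rfl | rfl
    · exact h1.eq
    · exact (h1.mul_right (hxz.comm b hb.1)).eq
  obtain ⟨p, q, hp, hq, hpq⟩ := Elem.exists_mul (t := x) (Rank.pRankLE h.rank) hxz.sq hbsq hz'.sq hcsq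
    hxsq hz1 hb1 hz'.ne hc1 hab hcd (hz'.comm z hxz.mem.1).eq (hxz.comm c hcT).symm.eq
    (hz'.comm b hb.1).eq hbc hzb hz'c (fun w hw hw' => hno w (hfour w hw) (hfour' w hw'))
    (hxc z hxz.mem.1).symm.eq (hxc b hb.1).symm.eq (hxc z' hz'.mem.1).symm.eq (hxc c hcT).symm.eq
  have hp1 : p = 1 := by
    apply hno p (hfour p hp)
    have h1 : p = x * q⁻¹ := by rw [hpq, mul_inv_cancel_right]
    rw [h1]
    exact fixes_mul (h.toXBase.fixes_self hx) (fixes_inv (hfour' q hq))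
  rw [hp1, one_mul] at hpq
  -- `c` is not central in `T`
  have hcc : ¬ ∀ t ∈ T, Commute t c := by
    intro h1
    have h2 : ∀ t ∈ T, Commute t b' := by
      rcases hc with rfl | rfl
      · exact h1
      · intro t ht
        have h3 := (h1 t ht).mul_right (hxz.comm t ht)
        rwa [mul_assoc, hxz.sq, mul_one] at h3
    rcases hz'.uniq b' hb' (fun p hp => (h2 p hp.1).symm) with h3 | h3
    · exact hb'1 h3
    · exact hb'z h3
  rcases hq with h1 | h1 | h1 | h1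
  · exact absurd (hpq.trans h1) (h.toXBase.ne_one hx)
  · exact hpq.trans h1
  · exact absurd (fun t ht => (hpq.trans h1) ▸ hxc t ht) hcc
  · exfalso
    apply hcc
    intro t ht
    have h2 : c = z' * x := by rw [hpq, h1, ← mul_assoc, hz'.sq, one_mul]
    rw [h2]
    exact (hz'.comm t ht).mul_right (hxc t ht)

/-- LEMMA P. -/
theorem Frame.lemmaP (h : Frame X N) (hx : x ∈ X) (hu : u ∈ X) (hxu : Commute x u)
    (hn : ¬ Fixes u (KK x)) (hT : SylIn 2 T (C x ⊓ C u)) (hz : Alt x u T z) (hz' : Alt u x T z') :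
    z = z' ∨ (u = z ∧ x = z') := by
  have hTx : T ≤ C x := hT.le.trans inf_le_left
  have hTu : T ≤ C u := hT.le.trans inf_le_right
  have hT2 := hT.isPGroup
  have hn' : ¬ Fixes x (KK u) := fun h1 => hn (h.toXSet.fixes_symm hu hx hxu.symm h1)
  by_cases hdis : ∀ a ∈ T ⊓ KK x, a ∈ KK u → a = 1
  · right
    have hdis' : ∀ a ∈ T ⊓ KK u, a ∈ KK x → a = 1 := fun a ha ha' => hdis a ⟨ha.1, ha'⟩ ha.2
    -- one of the two is inner
    have key : ∀ {x u z z' : G}, x ∈ X → u ∈ X → T ≤ C x → T ≤ C u → Full x T z → Alt u x T z' →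
        (∀ a ∈ T ⊓ KK x, a ∈ KK u → a = 1) → (∀ a ∈ T ⊓ KK u, a ∈ KK x → a = 1) →
        u = z ∧ x = z' := by
      intro x u z z' hx hu hTx hTu hz hz' hdis hdis'
      have h1 := h.inner_case hx hu hT2 hTx hTu hz hz'.ctr hdis
      rcases hz' with hz' | hz'
      · exact ⟨h.inner_case hu hx hT2 hTu hTx hz'.1 hz.toCtr hdis', h1⟩
      · exfalso
        apply hz'.outer z' hz'.mem.2
        rw [h1, hz'.sq]
        exact fixes_one _
    rcases hz with hz | hz
    · exact key hx hu hTx hTu hz.1 hz' hdis hdis'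
    · rcases hz' with hz' | hz'
      · have h1 := key hu hx hTu hTx hz'.1 (Or.inr hz) hdis' hdis
        exact ⟨h1.2, h1.1⟩
      · -- both outer
        exfalso
        have hcomm : ∀ a ∈ T ⊓ KK x, ∀ b ∈ T ⊓ KK u, Commute a b := by
          intro a ha b hb
          have h1 : a * b * a⁻¹ * b⁻¹ ∈ T ⊓ KK x := by
            have h2 := h.conj_mem hx hTx hb.1 ((T ⊓ KK x).inv_mem ha)
            have e : a * b * a⁻¹ * b⁻¹ = a * (b * a⁻¹ * b⁻¹) := by group
            rw [e]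
            exact (T ⊓ KK x).mul_mem ha h2
          have h3 : a * b * a⁻¹ * b⁻¹ ∈ T ⊓ KK u :=
            (T ⊓ KK u).mul_mem (h.conj_mem hu hTu ha.1 hb) ((T ⊓ KK u).inv_mem hb)
          have h4 := hdis _ h1 h3.2
          rw [mul_inv_eq_one, mul_inv_eq_iff_eq_mul] at h4
          exact h4
        obtain ⟨b, hb, hb2, hbz⟩ := hz.four
        obtain ⟨c, hc, hc2, hcz⟩ := hz'.four
        have hbsq : b * b = 1 := mul_self_of_orderOf hb2
        have hcsq : c * c = 1 := mul_self_of_orderOf hc2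
        have hb1 : b ≠ 1 := by rintro rfl; simp at hb2
        have hc1 : c ≠ 1 := by rintro rfl; simp at hc2
        have hfour : ∀ w : G, (w = 1 ∨ w = z ∨ w = b ∨ w = z * b) → w ∈ T ⊓ KK x := by
          rintro w (rfl | rfl | rfl | rfl)
          · exact one_mem _
          · exact hz.mem
          · exact hb
          · exact (T ⊓ KK x).mul_mem hz.mem hb
        have hfour' : ∀ w : G, (w = 1 ∨ w = z' ∨ w = c ∨ w = z' * c) → w ∈ T ⊓ KK u := by
          rintro w (rfl | rfl | rfl | rfl)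
          · exact one_mem _
          · exact hz'.mem
          · exact hc
          · exact (T ⊓ KK u).mul_mem hz'.mem hc
        -- central involutions of `T` are in `{z, z', z z'}`
        have hcen : ∀ t : G, t * t = 1 → (∀ s ∈ T, Commute s t) →
            t = 1 ∨ t = z ∨ t = z' ∨ t = z * z' := by
          intro t ht htc
          obtain ⟨p, q, hp, hq, hpq⟩ := Elem.exists_mul (t := t) (Rank.pRankLE h.rank) hz.sq hbsq
            hz'.sq hcsq ht hz.ne hb1 hz'.ne hc1 (hz.comm b hb.1).symm.eq (hz'.comm c hc.1).symm.eq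
            (hz'.comm z hz.mem.1).eq (hcomm z hz.mem c hc).eq (hz'.comm b hb.1).eq
            (hcomm b hb c hc).eq hbz.symm hcz.symm
            (fun w hw hw' => hdis w (hfour w hw) (hfour' w hw').2)
            (htc z hz.mem.1).symm.eq (htc b hb.1).symm.eq (htc z' hz'.mem.1).symm.eq
            (htc c hc.1).symm.eq
          have hpT := hfour p hp
          have hqT := hfour' q hq
          have hp' : p = 1 ∨ p = z := by
            apply hz.uniq p hpT
            intro r hr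
            have h1 : p = t * q⁻¹ := by rw [hpq, mul_inv_cancel_right]
            rw [h1]
            exact (htc r hr.1).symm.mul_left (hcomm r hr q hqT).symm.inv_left
          have hq' : q = 1 ∨ q = z' := by
            apply hz'.uniq q hqT
            intro r hr
            have h1 : q = p⁻¹ * t := by rw [hpq, inv_mul_cancel_left]
            rw [h1]
            exact (hcomm p hpT r hr).inv_left.mul_left (htc r hr.1).symm
          rcases hp' with h1 | h1 <;> rcases hq' with h2 | h2 <;> rw [h1, h2] at hpq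
          · left; rw [hpq, one_mul]
          · right; right; left; rw [hpq, one_mul]
          · right; left; rw [hpq, mul_one]
          · right; right; right; exact hpq
        have hxx : x = z * z' := by
          rcases hcen x (h.toXBase.sq hx) (fun t ht => mem_C.mp (hTx ht)) with h1 | h1 | h1 | h1
          · exact absurd h1 (h.toXBase.ne_one hx)
          · exfalso
            apply hz.ne
            apply h.eq_one hx hz.mem.2 (n := 1)
            · rw [← h1]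
              exact h.toXBase.fixes_self hx
            · rw [pow_one, pow_two, hz.sq]
          · exfalso
            apply hz'.outer z' hz'.mem.2
            rw [h1, hz'.sq]
            exact fixes_one _
          · exact h1
        have huu : u = z * z' := by
          rcases hcen u (h.toXBase.sq hu) (fun t ht => mem_C.mp (hTu ht)) with h1 | h1 | h1 | h1
          · exact absurd h1 (h.toXBase.ne_one hu)
          · exfalso
            apply hz.outer z hz.mem.2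
            rw [h1, hz.sq]
            exact fixes_one _
          · exfalso
            apply hz'.ne
            apply h.eq_one hu hz'.mem.2 (n := 1)
            · rw [← h1]
              exact h.toXBase.fixes_self hu
            · rw [pow_one, pow_two, hz'.sq]
          · exact h1
        apply hn
        rw [huu, ← hxx]
        exact h.toXBase.fixes_self hx
  · left
    push Not at hdis
    obtain ⟨a, ha, ha', ha1⟩ := hdis
    have h1 : z' ∈ (T ⊓ KK x) ⊓ (T ⊓ KK u) := by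
      refine hz'.ctr.mem_of_normal hT2 inf_le_right ?_ ⟨a, ⟨ha, ha.1, ha'⟩, ha1⟩
      rintro t ht b ⟨hb, hb'⟩
      exact ⟨h.conj_mem hx hTx ht hb, h.conj_mem hu hTu ht hb'⟩
    rcases hz.ctr.uniq z' h1.1 (fun p hp => (hz'.ctr.comm p hp.1).symm) with h2 | h2
    · exact absurd h2 hz'.ctr.ne
    · exact h2.symm

/-- `x, u` commuting and not the same: some `y ∈ X` and some involution `v ∈ KK y` with `v ∈ X` or
`y v ∈ X`. -/
theorem Frame.exists_pair (h : Frame X N) (hx : x ∈ X) (hu : u ∈ X) (hxu : Commute x u)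
    (hn : ¬ Fixes u (KK x)) :
    ∃ y ∈ X, ∃ v ∈ KK y, orderOf v = 2 ∧ (v ∈ X ∨ y * v ∈ X) := by
  obtain ⟨T, hT⟩ := exists_sylIn 2 (C x ⊓ C u)
  obtain ⟨z, hz⟩ := h.pair x hx u hu hxu hn T hT
  have hT' : SylIn 2 T (C u ⊓ C x) := by rw [inf_comm]; exact hT
  have hn' : ¬ Fixes x (KK u) := fun h1 => hn (h.toXSet.fixes_symm hu hx hxu.symm h1)
  obtain ⟨z', hz'⟩ := h.pair u hu x hx hxu.symm hn' T hT'
  rcases h.lemmaP hx hu hxu hn hT hz hz' with h1 | ⟨h1, -⟩
  · subst h1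
    refine ⟨u, hu, z, (Alt.ctr hz').mem.2, (Alt.ctr hz').ord, Or.inr ?_⟩
    rcases hz with hz | hz
    · -- inner
      have hc : Commute (u * z) x :=
        hxu.symm.mul_left (mem_C.mp (hT.le hz.1.mem.1).1)
      have huz : Commute u z := (mem_C.mp (hT.le hz.1.mem.1).2).symm
      have hsq : (u * z) * (u * z) = 1 := by
        calc (u * z) * (u * z) = u * (z * u) * z := by group
          _ = u * (u * z) * z := by rw [huz.eq]
          _ = (u * u) * (z * z) := by group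
          _ = 1 := by rw [h.toXBase.sq hu, hz.1.sq, mul_one]
      refine h.mem_X hx (orderOf_eq_two hsq ?_) hc hz.2
      intro h1
      have h2 : u = z := by
        calc u = u * (z * z) := by rw [hz.1.sq, mul_one]
          _ = (u * z) * z := by group
          _ = z := by rw [h1, one_mul]
      apply hz.1.ne
      apply h.eq_one hu (Alt.ctr hz').mem.2 (n := 1)
      · rw [← h2]
        exact h.toXBase.fixes_self hu
      · rw [pow_one, pow_two, hz.1.sq]
    · -- outer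
      obtain ⟨c, -, hc⟩ := hz.fus
      rw [← hc]
      exact h.conj u hu c
  · exact ⟨x, hx, z, (Alt.ctr hz).mem.2, (Alt.ctr hz).ord, Or.inl (h1 ▸ hu)⟩

/-- CASE A: `z ∈ KK x ∩ X` implies `x ∈ KK z`. -/
theorem Frame.caseA_symm (h : Frame X N) (hx : x ∈ X) (hz : z ∈ X) (hzx : z ∈ KK x) : x ∈ KK z := by
  have hxz : Commute x z := (h.toXBase.comm_of_mem hx hzx).symm
  have hn : ¬ Fixes z (KK x) := by
    intro h1
    apply h.toXBase.ne_one hz
    apply h.eq_one hx hzx h1 (n := 1)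
    rw [pow_one, pow_two, h.toXBase.sq hz]
  obtain ⟨T, hT⟩ := exists_sylIn 2 (C x ⊓ C z)
  obtain ⟨v, hv⟩ := h.pair x hx z hz hxz hn T hT
  have hT' : SylIn 2 T (C z ⊓ C x) := by rw [inf_comm]; exact hT
  have hn' : ¬ Fixes x (KK z) := fun h1 => hn (h.toXSet.fixes_symm hz hx hxz.symm h1)
  obtain ⟨v', hv'⟩ := h.pair z hz x hx hxz.symm hn' T hT'
  rcases h.lemmaP hx hz hxz hn hT hv hv' with h1 | ⟨-, h1⟩
  · exfalso
    subst h1
    rcases hv with hv | hv
    · have h2 : Commute z v := (mem_C.mp (hT.le hv.1.mem.1).2).symm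
      have hsq : (z * v) * (z * v) = 1 := by
        calc (z * v) * (z * v) = z * (v * z) * v := by group
          _ = z * (z * v) * v := by rw [h2.eq]
          _ = (z * z) * (v * v) := by group
          _ = 1 := by rw [h.toXBase.sq hz, hv.1.sq, mul_one]
      have h3 : z * v = 1 := by
        apply h.eq_one hx ((KK x).mul_mem hzx hv.1.mem.2) hv.2 (n := 1)
        rw [pow_one, pow_two, hsq]
      have h4 : z = v := by
        calc z = z * (v * v) := by rw [hv.1.sq, mul_one]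
          _ = (z * v) * v := by group
          _ = v := by rw [h3, one_mul]
      apply hv.1.ne
      apply h.eq_one hz (Alt.ctr hv').mem.2 (n := 1)
      · rw [← h4]
        exact h.toXBase.fixes_self hz
      · rw [pow_one, pow_two, hv.1.sq]
    · apply hv.outer z hzx
      rw [h.toXBase.sq hz]
      exact fixes_one _
  · rw [h1]
    exact (Alt.ctr hv').mem.2

/-- The trichotomy: CASE A, CASE B, CASE C. -/
theorem Frame.trichotomy (h : Frame X N) :
    (∃ x ∈ X, ∃ z ∈ KK x, z ∈ X ∧ x ∈ KK z) ∨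
    ((∀ y ∈ X, ∀ v ∈ KK y, orderOf v = 2 → v ∉ X) ∧
      ∃ x ∈ X, ∃ z ∈ KK x, orderOf z = 2 ∧ x * z ∈ X) ∨
    (∀ x ∈ X, ∀ u ∈ X, Commute x u → Fixes u (KK x)) := by
  by_cases hA : ∃ x ∈ X, ∃ z ∈ KK x, z ∈ X
  · obtain ⟨x, hx, z, hzx, hz⟩ := hA
    exact Or.inl ⟨x, hx, z, hzx, hz, h.caseA_symm hx hz hzx⟩
  · right
    by_cases hC : ∀ x ∈ X, ∀ u ∈ X, Commute x u → Fixes u (KK x)
    · exact Or.inr hC
    · left
      refine ⟨fun y hy v hv _ hvX => hA ⟨y, hy, v, hv, hvX⟩, ?_⟩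
      push Not at hC
      obtain ⟨x, hx, u, hu, hxu, hn⟩ := hC
      obtain ⟨y, hy, v, hv, hv2, h1⟩ := h.exists_pair hx hu hxu hn
      refine ⟨y, hy, v, hv, hv2, h1.resolve_left fun h2 => hA ⟨y, hy, v, hv, h2⟩⟩

end Cfsg.Agent.GH.L3.TFrame
end

private theorem dce_13b477a9934c : _root_.True := by
  try have : _root_.True := by simp only [_root_.Cfsg.Agent.GH.L3.Elem.four.congr_simp]
  exact _root_.True.intro
end
end
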